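import Groth.Prelude.Def_MoreMor
import Mathlib.AlgebraicGeometry.Morphisms.Proper
import Mathlib.AlgebraicGeometry.Morphisms.UniversallyInjective
import Mathlib.AlgebraicGeometry.Morphisms.UniversallyOpen
import Mathlib.AlgebraicGeometry.Morphisms.QuasiSeparated

/-!
# Basic facts on thickenings (helper6)
-/

set_option autoImplicit false
universe u

namespace Groth.Agent.Lib.Helper6

open AlgebraicGeometry CategoryTheory Limits

variable {X X' S S' : Scheme.{u}}

lemma thick_isClosedImmersion {i : X ⟶ X'} (h : MoreMor.IsThickening i) : IsClosedImmersion i := h.1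

lemma thick_surjective {i : X ⟶ X'} (h : MoreMor.IsThickening i) : Surjective i := h.2

lemma thick_isHomeomorph {i : X ⟶ X'} (h : MoreMor.IsThickening i) : IsHomeomorph i := by
  have := h.1
  have := h.2
  rw [isHomeomorph_iff_isEmbedding_surjective]
  exact ⟨i.isClosedEmbedding.isEmbedding, i.surjective⟩

/-- The homeomorphism underlying a thickening. -/
noncomputable def thickHomeo {i : X ⟶ X'} (h : MoreMor.IsThickening i) : X ≃ₜ X' :=
  (thick_isHomeomorph h).homeomorph

@[simp] lemma thickHomeo_apply {i : X ⟶ X'} (h : MoreMor.IsThickening i) (x : X) :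
    thickHomeo h x = i x := rfl

end Groth.Agent.Lib.Helper6

namespace Groth.Agent.Lib.Helper6

open AlgebraicGeometry CategoryTheory Limits MorphismProperty

lemma universallyInjective_of_comp_surjective {X Y Z : Scheme.{u}} (f : X ⟶ Y) (g : Y ⟶ Z)
    [UniversallyInjective (f ≫ g)] [Surjective f] : UniversallyInjective g := by
  constructor
  intro X' Y' i₁ i₂ f' H
  have := UniversallyInjective.universally_injective _ _ _
    ((IsPullback.of_hasPullback i₁ f).paste_horiz H)
  have hs : Function.Surjective (pullback.fst i₁ f) :=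
    (MorphismProperty.pullback_fst (P := @Surjective) _ _ ‹_›).1
  intro a b hab
  obtain ⟨a', rfl⟩ := hs a
  obtain ⟨b', rfl⟩ := hs b
  have : a' = b' := this (by simpa using hab)
  rw [this]

lemma universallyInjective_of_comp {X Y Z : Scheme.{u}} (f : X ⟶ Y) (g : Y ⟶ Z)
    [UniversallyInjective (f ≫ g)] : UniversallyInjective f := by
  have h := ((tfae_universallyInjective (f ≫ g)).out 0 1).mp ‹_›
  refine ((tfae_universallyInjective f).out 0 1).mpr ?_
  intro K _ g₁ g₂ e
  apply h K
  simp only [← Category.assoc]
  exact congr($e ≫ g)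

end Groth.Agent.Lib.Helper6

namespace Groth.Agent.Lib.Helper6

open AlgebraicGeometry CategoryTheory Limits MorphismProperty

/-- A thickening is universally open (it is a universal homeomorphism). -/
lemma thick_universallyOpen {X X' : Scheme.{u}} {i : X ⟶ X'} (h : MoreMor.IsThickening i) :
    UniversallyOpen i := by
  have := h.1
  have := h.2
  constructor
  intro A B i₁ i₂ f' H
  have h1 : IsClosedImmersion f' := MorphismProperty.of_isPullback H.flip inferInstance
  have h2 : Surjective f' := MorphismProperty.of_isPullback H.flip inferInstance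
  have : IsHomeomorph f' := thick_isHomeomorph ⟨h1, h2⟩
  exact this.isOpenMap

lemma universallyOpen_of_comp_surjective {X Y Z : Scheme.{u}} (f : X ⟶ Y) (g : Y ⟶ Z)
    [UniversallyOpen (f ≫ g)] [Surjective f] : UniversallyOpen g := by
  constructor
  intro X' Y' i₁ i₂ f' H
  have := UniversallyOpen.universally_isOpenMap _ _ _
    ((IsPullback.of_hasPullback i₁ f).paste_horiz H)
  have hs : Function.Surjective (pullback.fst i₁ f) :=
    (MorphismProperty.pullback_fst (P := @Surjective) _ _ ‹_›).1
  exact IsOpenMap.of_comp (f := pullback.fst i₁ f) (g := f') (Scheme.Hom.continuous _) hs this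

lemma universallyOpen_of_comp_mono {X Y Z : Scheme.{u}} (f : X ⟶ Y) (g : Y ⟶ Z)
    [UniversallyOpen (f ≫ g)] [Mono g] : UniversallyOpen f := by
  constructor
  intro X' Y' i₁ i₂ f' H
  have hb : IsPullback (𝟙 Y') i₂ (i₂ ≫ g) g := IsPullback.of_horiz_isIso_mono ⟨by simp⟩
  have := UniversallyOpen.universally_isOpenMap _ _ _ (H.paste_horiz hb)
  simpa using this

end Groth.Agent.Lib.Helper6
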