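import Mathlib

set_option autoImplicit false

universe v u
open CategoryTheory CategoryTheory.Limits

namespace Groth.Agent.Lib.Helper6
namespace DerivedAdj

section Complexes

variable {V W : Type*} [Category* V] [Category* W] [Preadditive V] [Preadditive W]
  {L : V ⥤ W} {R : W ⥤ V} (adj : L ⊣ R) [L.Additive] [R.Additive]
  {ι : Type*} (c : ComplexShape ι)

/-- unit on complexes -/
@[simps]
def unitC : 𝟭 (HomologicalComplex V c) ⟶ L.mapHomologicalComplex c ⋙ R.mapHomologicalComplex c where
  app K := { f := fun i => adj.unit.app (K.X i)
             comm' := fun i j _ => (adj.unit.naturality (K.d i j)).symm }
  naturality K K' f := by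
    ext i
    exact adj.unit.naturality (f.f i)

/-- counit on complexes -/
@[simps]
def counitC : R.mapHomologicalComplex c ⋙ L.mapHomologicalComplex c ⟶ 𝟭 (HomologicalComplex W c) where
  app K := { f := fun i => adj.counit.app (K.X i)
             comm' := fun i j _ => (adj.counit.naturality (K.d i j)).symm }
  naturality K K' f := by
    ext i
    exact adj.counit.naturality (f.f i)

set_option backward.isDefEq.respectTransparency false in
/-- The adjunction on homotopy categories induced by an adjunction of additive functors. -/
def adjHomotopyCategory : L.mapHomotopyCategory c ⊣ R.mapHomotopyCategory c :=
  Adjunction.mkOfUnitCounit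
    { unit :=
        { app := fun C => (HomotopyCategory.quotient V c).map ((unitC adj c).app C.as)
          naturality := by
            rintro ⟨C⟩ ⟨D⟩ ⟨f : C ⟶ D⟩
            have h := congrArg (fun t => (HomotopyCategory.quotient V c).map t)
              ((unitC adj c).naturality f)
            simp only [Functor.map_comp] at h
            exact h }
      counit :=
        { app := fun C => (HomotopyCategory.quotient W c).map ((counitC adj c).app C.as)
          naturality := by
            rintro ⟨C⟩ ⟨D⟩ ⟨f : C ⟶ D⟩
            have h := congrArg (fun t => (HomotopyCategory.quotient W c).map t)
              ((counitC adj c).naturality f)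
            simp only [Functor.map_comp] at h
            exact h }
      left_triangle := by
        ext K
        obtain ⟨K, rfl⟩ := HomotopyCategory.quotient_obj_surjective K
        dsimp only [NatTrans.comp_app, Functor.whiskerRight_app, Functor.associator_hom_app,
          Functor.whiskerLeft_app, NatTrans.id_app']
        rw [Category.id_comp]
        change (HomotopyCategory.quotient W c).map
            ((L.mapHomologicalComplex c).map ((unitC adj c).app K)) ≫
          (HomotopyCategory.quotient W c).map
            ((counitC adj c).app ((L.mapHomologicalComplex c).obj K)) = 𝟙 _
        rw [← Functor.map_comp]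
        have : (L.mapHomologicalComplex c).map ((unitC adj c).app K) ≫
            (counitC adj c).app ((L.mapHomologicalComplex c).obj K) = 𝟙 _ := by
          ext i
          exact adj.left_triangle_components (K.X i)
        rw [this]
        exact CategoryTheory.Functor.map_id _ _
      right_triangle := by
        ext K
        obtain ⟨K, rfl⟩ := HomotopyCategory.quotient_obj_surjective K
        dsimp only [NatTrans.comp_app, Functor.whiskerRight_app, Functor.associator_inv_app,
          Functor.whiskerLeft_app, NatTrans.id_app']
        rw [Category.id_comp]
        change (HomotopyCategory.quotient V c).map
            ((unitC adj c).app ((R.mapHomologicalComplex c).obj K)) ≫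
          (HomotopyCategory.quotient V c).map
            ((R.mapHomologicalComplex c).map ((counitC adj c).app K)) = 𝟙 _
        rw [← Functor.map_comp]
        have : (unitC adj c).app ((R.mapHomologicalComplex c).obj K) ≫
            (R.mapHomologicalComplex c).map ((counitC adj c).app K) = 𝟙 _ := by
          ext i
          exact adj.right_triangle_components (K.X i)
        rw [this]
        exact CategoryTheory.Functor.map_id _ _ }

end Complexes

end DerivedAdj
end Groth.Agent.Lib.Helper6
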