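import Mathlib

/-! Exact functors between abelian categories and the homology of their derived functors
(helper6, generalizing helper35's `FlatBC`). -/

set_option autoImplicit false
universe w₁ w₂ v₁ v₂ u₁ u₂

open CategoryTheory Category Limits

namespace Groth.Agent.Lib.Helper6
namespace ExactDC

variable {C₁ : Type u₁} [Category.{v₁} C₁] [Abelian C₁] [HasDerivedCategory.{w₁} C₁]
  {C₂ : Type u₂} [Category.{v₂} C₂] [Abelian C₂] [HasDerivedCategory.{w₂} C₂]
  (F : C₁ ⥤ C₂) [F.Additive] [PreservesFiniteLimits F] [PreservesFiniteColimits F]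

/-- complex-level comparison of homology -/
noncomputable def homologyIsoCx (i : ℤ) :
    F.mapHomologicalComplex (ComplexShape.up ℤ) ⋙
        HomologicalComplex.homologyFunctor C₂ (ComplexShape.up ℤ) i ≅
      HomologicalComplex.homologyFunctor C₁ (ComplexShape.up ℤ) i ⋙ F :=
  NatIso.ofComponents (fun K => (K.sc i).mapHomologyIso F)
    (fun f => ShortComplex.mapHomologyIso_hom_naturality
      ((HomologicalComplex.shortComplexFunctor _ _ i).map f) F)

/-- derived-level comparison of homology: `H^i (F K) ≅ F (H^i K)`. -/
noncomputable def homologyIso (i : ℤ) :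
    F.mapDerivedCategory ⋙ DerivedCategory.homologyFunctor C₂ i ≅
      DerivedCategory.homologyFunctor C₁ i ⋙ F :=
  let _ : Localization.Lifting DerivedCategory.Q
      (HomologicalComplex.quasiIso C₁ (ComplexShape.up ℤ))
      (F.mapHomologicalComplex (ComplexShape.up ℤ) ⋙
        HomologicalComplex.homologyFunctor C₂ (ComplexShape.up ℤ) i)
      (F.mapDerivedCategory ⋙ DerivedCategory.homologyFunctor C₂ i) :=
    ⟨(Functor.associator _ _ _).symm ≪≫
      Functor.isoWhiskerRight F.mapDerivedCategoryFactors _ ≪≫
      Functor.associator _ _ _ ≪≫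
      Functor.isoWhiskerLeft _ (DerivedCategory.homologyFunctorFactors C₂ i)⟩
  let _ : Localization.Lifting DerivedCategory.Q
      (HomologicalComplex.quasiIso C₁ (ComplexShape.up ℤ))
      (HomologicalComplex.homologyFunctor C₁ (ComplexShape.up ℤ) i ⋙ F)
      (DerivedCategory.homologyFunctor C₁ i ⋙ F) :=
    ⟨(Functor.associator _ _ _).symm ≪≫
      Functor.isoWhiskerRight (DerivedCategory.homologyFunctorFactors C₁ i) _⟩
  Localization.liftNatIso DerivedCategory.Q
    (HomologicalComplex.quasiIso C₁ (ComplexShape.up ℤ)) _ _ _ _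
    (homologyIsoCx F i)

variable {F}

lemma homology_map_eq {X Y : DerivedCategory C₁} (α : X ⟶ Y) (i : ℤ) :
    (DerivedCategory.homologyFunctor C₂ i).map (F.mapDerivedCategory.map α) =
      (homologyIso F i).hom.app X ≫ F.map ((DerivedCategory.homologyFunctor C₁ i).map α) ≫
        (homologyIso F i).inv.app Y := by
  have := (homologyIso F i).hom.naturality α
  simp only [Functor.comp_map] at this
  rw [← reassoc_of% this, Iso.hom_inv_id_app]
  exact (Category.comp_id _).symm

theorem isIso_homology_map {X Y : DerivedCategory C₁} (α : X ⟶ Y) (i : ℤ)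
    (h : IsIso ((DerivedCategory.homologyFunctor C₁ i).map α)) :
    IsIso ((DerivedCategory.homologyFunctor C₂ i).map (F.mapDerivedCategory.map α)) := by
  rw [homology_map_eq]
  infer_instance

theorem epi_homology_map {X Y : DerivedCategory C₁} (α : X ⟶ Y) (i : ℤ)
    (h : Epi ((DerivedCategory.homologyFunctor C₁ i).map α)) :
    Epi ((DerivedCategory.homologyFunctor C₂ i).map (F.mapDerivedCategory.map α)) := by
  rw [homology_map_eq]
  infer_instance

theorem isIso_homology_map_iff [F.ReflectsIsomorphisms] {X Y : DerivedCategory C₁} (α : X ⟶ Y)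
    (i : ℤ) :
    IsIso ((DerivedCategory.homologyFunctor C₂ i).map (F.mapDerivedCategory.map α)) ↔
      IsIso ((DerivedCategory.homologyFunctor C₁ i).map α) := by
  refine ⟨fun h => ?_, isIso_homology_map α i⟩
  rw [homology_map_eq] at h
  have h1 : IsIso (F.map ((DerivedCategory.homologyFunctor C₁ i).map α) ≫
      (homologyIso F i).inv.app Y) := IsIso.of_isIso_comp_left ((homologyIso F i).hom.app X) _
  have h2 : IsIso (F.map ((DerivedCategory.homologyFunctor C₁ i).map α)) :=
    IsIso.of_isIso_comp_right _ ((homologyIso F i).inv.app Y)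
  exact isIso_of_reflects_iso _ F

theorem epi_homology_map_iff [F.Faithful] {X Y : DerivedCategory C₁} (α : X ⟶ Y) (i : ℤ) :
    Epi ((DerivedCategory.homologyFunctor C₂ i).map (F.mapDerivedCategory.map α)) ↔
      Epi ((DerivedCategory.homologyFunctor C₁ i).map α) := by
  refine ⟨fun h => ?_, epi_homology_map α i⟩
  rw [homology_map_eq] at h
  have h1 : Epi (F.map ((DerivedCategory.homologyFunctor C₁ i).map α)) := by
    have h3 : Epi (F.map ((DerivedCategory.homologyFunctor C₁ i).map α) ≫
        (homologyIso F i).inv.app Y) := by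
      have h5 : F.map ((DerivedCategory.homologyFunctor C₁ i).map α) ≫
          (homologyIso F i).inv.app Y = (homologyIso F i).inv.app X ≫
          ((homologyIso F i).hom.app X ≫ F.map ((DerivedCategory.homologyFunctor C₁ i).map α) ≫
            (homologyIso F i).inv.app Y) := by simp
      rw [h5]
      infer_instance
    have h4 : F.map ((DerivedCategory.homologyFunctor C₁ i).map α) =
        (F.map ((DerivedCategory.homologyFunctor C₁ i).map α) ≫
          (homologyIso F i).inv.app Y) ≫ (homologyIso F i).hom.app Y := by simp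
    rw [h4]
    infer_instance
  exact F.epi_of_epi_map h1

theorem isZero_homology_obj (K : DerivedCategory C₁) (i : ℤ)
    (h : IsZero ((DerivedCategory.homologyFunctor C₁ i).obj K)) :
    IsZero ((DerivedCategory.homologyFunctor C₂ i).obj (F.mapDerivedCategory.obj K)) :=
  (F.map_isZero h).of_iso ((homologyIso F i).app K)

theorem isLE_obj (K : DerivedCategory C₁) (t : ℤ) [K.IsLE t] :
    (F.mapDerivedCategory.obj K).IsLE t := by
  rw [DerivedCategory.isLE_iff]
  intro i hi
  exact isZero_homology_obj K i (DerivedCategory.isZero_of_isLE K t i hi)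

theorem isGE_obj (K : DerivedCategory C₁) (t : ℤ) [K.IsGE t] :
    (F.mapDerivedCategory.obj K).IsGE t := by
  rw [DerivedCategory.isGE_iff]
  intro i hi
  exact isZero_homology_obj K i (DerivedCategory.isZero_of_isGE K t i hi)

end ExactDC
end Groth.Agent.Lib.Helper6
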