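import Mathlib

/-! Homotopy extension along the inclusion into a mapping cone (helper6). -/

set_option autoImplicit false
universe v u

open CategoryTheory Limits CochainComplex HomComplex

namespace Groth.Agent.Lib.Helper6
namespace HtpyExt

variable {C : Type u} [Category.{v} C] [Preadditive C] [HasBinaryBiproducts C]
  {G E K : CochainComplex C ℤ} (φ : G ⟶ E)

/-- If `inr φ ≫ a₀` is homotopic to `a`, then `a₀` can be replaced by a homotopic map `a'` with
`inr φ ≫ a' = a` on the nose. -/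
theorem exists_strict_extension (a : E ⟶ K) (a₀ : mappingCone φ ⟶ K)
    (h : Homotopy (mappingCone.inr φ ≫ a₀) a) :
    ∃ a' : mappingCone φ ⟶ K, mappingCone.inr φ ≫ a' = a ∧ Nonempty (Homotopy a' a₀) := by
  obtain ⟨z, hz⟩ := Cochain.equivHomotopy _ _ h
  let z' : Cochain (mappingCone φ) K (-1) := (mappingCone.snd φ).comp z (zero_add (-1))
  let c : Cocycle (mappingCone φ) K 0 :=
    Cocycle.mk (Cochain.ofHom a₀ - δ (-1) 0 z') 1 (zero_add 1) (by
      rw [δ_sub, δ_ofHom, δ_δ, sub_zero])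
  have hc : Cochain.ofHom (Cocycle.homOf c) = Cochain.ofHom a₀ - δ (-1) 0 z' :=
    Cocycle.cochain_ofHom_homOf_eq_coe c
  have hz' : (Cochain.ofHom (mappingCone.inr φ)).comp z' (zero_add (-1)) = z := by
    dsimp only [z']
    rw [← Cochain.comp_assoc_of_first_is_zero_cochain, mappingCone.inr_snd,
      Cochain.id_comp]
  refine ⟨Cocycle.homOf c, ?_, ⟨(Cochain.equivHomotopy _ _).symm ⟨-z', ?_⟩⟩⟩
  · apply Cochain.ofHom_injective
    rw [Cochain.ofHom_comp, hc, Cochain.comp_sub, ← δ_ofHom_comp, hz', ← Cochain.ofHom_comp, hz]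
    abel
  · rw [hc, δ_neg]
    abel

end HtpyExt
end Groth.Agent.Lib.Helper6
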