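import Mathlib

/-! Four/five lemmas for the long exact sequences of a morphism of distinguished triangles
(helper6). -/

set_option autoImplicit false
universe u

open CategoryTheory Limits Pretriangulated ComposableArrows Abelian

namespace Groth.Agent.Lib.Helper6
namespace TriLadder

variable {C A : Type*} [Category C] [Category A] [HasShift C ℤ]
  [HasZeroObject C] [Preadditive C] [∀ (n : ℤ), (CategoryTheory.shiftFunctor C n).Additive]
  [Pretriangulated C] [Abelian A] (F : C ⥤ A) [F.IsHomological] [F.ShiftSequence ℤ]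
  {T T' : Triangle C} (hT : T ∈ distTriang C) (hT' : T' ∈ distTriang C) (φ : T ⟶ T')
  (n₀ n₁ : ℤ) (h : n₀ + 1 = n₁)

/-- The map of six-term exact sequences induced by a morphism of triangles. -/
noncomputable def mapCA₅ :
    F.homologySequenceComposableArrows₅ T n₀ n₁ h ⟶
      F.homologySequenceComposableArrows₅ T' n₀ n₁ h :=
  homMk₅ ((F.shift n₀).map φ.hom₁) ((F.shift n₀).map φ.hom₂) ((F.shift n₀).map φ.hom₃)
    ((F.shift n₁).map φ.hom₁) ((F.shift n₁).map φ.hom₂) ((F.shift n₁).map φ.hom₃)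
    (by
      change (F.shift n₀).map T.mor₁ ≫ (F.shift n₀).map φ.hom₂ =
        (F.shift n₀).map φ.hom₁ ≫ (F.shift n₀).map T'.mor₁
      rw [← Functor.map_comp, ← Functor.map_comp, φ.comm₁])
    (by
      change (F.shift n₀).map T.mor₂ ≫ (F.shift n₀).map φ.hom₃ =
        (F.shift n₀).map φ.hom₂ ≫ (F.shift n₀).map T'.mor₂
      rw [← Functor.map_comp, ← Functor.map_comp, φ.comm₂])
    (by
      change F.homologySequenceδ T n₀ n₁ h ≫ (F.shift n₁).map φ.hom₁ =
        (F.shift n₀).map φ.hom₃ ≫ F.homologySequenceδ T' n₀ n₁ h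
      exact (F.homologySequenceδ_naturality T T' φ n₀ n₁ h).symm)
    (by
      change (F.shift n₁).map T.mor₁ ≫ (F.shift n₁).map φ.hom₂ =
        (F.shift n₁).map φ.hom₁ ≫ (F.shift n₁).map T'.mor₁
      rw [← Functor.map_comp, ← Functor.map_comp, φ.comm₁])
    (by
      change (F.shift n₁).map T.mor₂ ≫ (F.shift n₁).map φ.hom₃ =
        (F.shift n₁).map φ.hom₂ ≫ (F.shift n₁).map T'.mor₂
      rw [← Functor.map_comp, ← Functor.map_comp, φ.comm₂])

include hT hT' h in
lemma epi_hom₃ (h₂ : Epi ((F.shift n₀).map φ.hom₂)) (h₁ : Epi ((F.shift n₁).map φ.hom₁))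
    (h₂' : Mono ((F.shift n₁).map φ.hom₂)) : Epi ((F.shift n₀).map φ.hom₃) := by
  apply epi_of_epi_of_epi_of_mono
    ((δ₀Functor ⋙ δlastFunctor).map (mapCA₅ F φ n₀ n₁ h))
  · exact (F.homologySequenceComposableArrows₅_exact T hT n₀ n₁ h).δ₀.δlast
  · exact (F.homologySequenceComposableArrows₅_exact T' hT' n₀ n₁ h).δ₀.δlast
  · exact h₂
  · exact h₁
  · exact h₂'

include hT hT' h in
lemma mono_hom₃ (h₁ : Epi ((F.shift n₀).map φ.hom₁)) (h₂ : Mono ((F.shift n₀).map φ.hom₂))
    (h₁' : Mono ((F.shift n₁).map φ.hom₁)) : Mono ((F.shift n₀).map φ.hom₃) := by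
  apply mono_of_epi_of_mono_of_mono
    ((δlastFunctor ⋙ δlastFunctor).map (mapCA₅ F φ n₀ n₁ h))
  · exact (F.homologySequenceComposableArrows₅_exact T hT n₀ n₁ h).δlast.δlast
  · exact (F.homologySequenceComposableArrows₅_exact T' hT' n₀ n₁ h).δlast.δlast
  · exact h₁
  · exact h₂
  · exact h₁'

include hT hT' h in
lemma isIso_hom₃ (h₁ : Epi ((F.shift n₀).map φ.hom₁)) (h₂ : IsIso ((F.shift n₀).map φ.hom₂))
    (h₁' : IsIso ((F.shift n₁).map φ.hom₁)) (h₂' : Mono ((F.shift n₁).map φ.hom₂)) :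
    IsIso ((F.shift n₀).map φ.hom₃) := by
  have := mono_hom₃ F hT hT' φ n₀ n₁ h h₁ inferInstance inferInstance
  have := epi_hom₃ F hT hT' φ n₀ n₁ h inferInstance inferInstance h₂'
  apply isIso_of_mono_of_epi

end TriLadder
end Groth.Agent.Lib.Helper6
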