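import Mathlib
import Groth.Prelude.Def_DRing2
import Groth.Agent.Lib.Helper35.ProjAmp
import Groth.Agent.Lib.Helper35.IndRep
import Groth.Agent.Lib.Helper6.TriLadder

/-! The calculus of `m`-pseudo-coherent objects of `D(R)` (helper6). -/

set_option autoImplicit false
universe u

open CategoryTheory Limits Pretriangulated DerivedCategory ZeroObject

namespace Groth.Agent.Lib.Helper6
namespace MPC

attribute [local instance] HasDerivedCategory.standard

variable {R : Type u} [CommRing R]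

/-- `f` induces isomorphisms on `H^i` for `i > m` and an epimorphism on `H^m`. -/
def Cond (m : ℤ) {X Y : Dual.D R} (f : X ⟶ Y) : Prop :=
  (∀ i : ℤ, m < i → IsIso ((homologyFunctor (ModuleCat.{u} R) i).map f)) ∧
    Epi ((homologyFunctor (ModuleCat.{u} R) m).map f)

section Cond

variable {X Y Z : Dual.D R}

lemma Cond.epi {m : ℤ} {f : X ⟶ Y} (hf : Cond m f) (i : ℤ) (hi : m ≤ i) :
    Epi ((homologyFunctor (ModuleCat.{u} R) i).map f) := by
  by_cases h : i = m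
  · subst h; exact hf.2
  · have := hf.1 i (by omega); infer_instance

lemma Cond.of_le {m m' : ℤ} (h : m ≤ m') {f : X ⟶ Y} (hf : Cond m f) : Cond m' f :=
  ⟨fun i hi => hf.1 i (by omega), hf.epi m' h⟩

lemma cond_of_isIso (m : ℤ) (f : X ⟶ Y) [IsIso f] : Cond m f :=
  ⟨fun _ _ => inferInstance, inferInstance⟩

lemma Cond.comp {m : ℤ} {f : X ⟶ Y} {g : Y ⟶ Z} (hf : Cond m f) (hg : Cond m g) :
    Cond m (f ≫ g) := by
  constructor
  · intro i hi
    have := hf.1 i hi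
    have := hg.1 i hi
    rw [Functor.map_comp]
    infer_instance
  · have := hf.2
    have := hg.2
    rw [Functor.map_comp]
    infer_instance

lemma cond_of_isZero (m : ℤ) (f : X ⟶ Y) (hX : IsZero X) [Y.IsLE (m - 1)] : Cond m f := by
  have hY : ∀ i : ℤ, m ≤ i → IsZero ((homologyFunctor (ModuleCat.{u} R) i).obj Y) := fun i hi =>
    DerivedCategory.isZero_of_isLE Y (m - 1) i (by omega)
  have hX' : ∀ i : ℤ, IsZero ((homologyFunctor (ModuleCat.{u} R) i).obj X) := fun i =>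
    (homologyFunctor (ModuleCat.{u} R) i).map_isZero hX
  constructor
  · intro i hi
    exact ⟨⟨0, (hX' i).eq_of_src _ _, (hY i hi.le).eq_of_src _ _⟩⟩
  · exact ⟨fun _ _ _ => (hY m le_rfl).eq_of_src _ _⟩

/-- Cone criterion. -/
lemma cond_iff_isLE (T : Triangle (Dual.D R)) (hT : T ∈ distTriang _) (m : ℤ) :
    Cond m T.mor₁ ↔ T.obj₃.IsLE (m - 1) := by
  constructor
  · rintro ⟨hiso, hepi⟩
    rw [DerivedCategory.isLE_iff]
    intro i hi
    have hepi' : Epi ((homologyFunctor (ModuleCat.{u} R) i).map T.mor₁) :=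
      Cond.epi ⟨hiso, hepi⟩ i (by omega)
    have hmono : Mono ((homologyFunctor (ModuleCat.{u} R) (i + 1)).map T.mor₁) := by
      have := hiso (i + 1) (by omega); infer_instance
    have h2 : (homologyFunctor (ModuleCat.{u} R) i).map T.mor₂ = 0 :=
      (HomologySequence.epi_homologyMap_mor₁_iff _ hT i).1 hepi'
    have h3 : HomologySequence.δ T i (i + 1) rfl = 0 :=
      (HomologySequence.mono_homologyMap_mor₁_iff _ hT i (i + 1) rfl).1 hmono
    have hex := HomologySequence.exact₃ _ hT i (i + 1) rfl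
    exact hex.isZero_of_both_zeros h2 h3
  · intro hC
    have hz : ∀ i : ℤ, m ≤ i → IsZero ((homologyFunctor (ModuleCat.{u} R) i).obj T.obj₃) :=
      fun i hi => DerivedCategory.isZero_of_isLE T.obj₃ (m - 1) i (by omega)
    have hepi : ∀ i : ℤ, m ≤ i → Epi ((homologyFunctor (ModuleCat.{u} R) i).map T.mor₁) :=
      fun i hi => (HomologySequence.epi_homologyMap_mor₁_iff _ hT i).2 ((hz i hi).eq_of_tgt _ _)
    have hmono : ∀ i : ℤ, m < i → Mono ((homologyFunctor (ModuleCat.{u} R) i).map T.mor₁) :=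
      fun i hi => (HomologySequence.mono_homologyMap_mor₁_iff _ hT (i - 1) i (by omega)).2
        ((hz (i - 1) (by omega)).eq_of_src _ _)
    refine ⟨fun i hi => ?_, hepi m le_rfl⟩
    have := hepi i hi.le
    have := hmono i hi
    exact isIso_of_mono_of_epi _

lemma Cond.shift {m : ℤ} {f : X ⟶ Y} (hf : Cond m f) (n m' : ℤ) (h : m' + n = m) :
    Cond m' (f⟦n⟧') := by
  have key : ∀ i i' : ℤ, n + i = i' →
      (Arrow.mk ((homologyFunctor (ModuleCat.{u} R) i).map (f⟦n⟧')) ≅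
        Arrow.mk ((homologyFunctor (ModuleCat.{u} R) i').map f)) := fun i i' hi =>
    Arrow.isoMk (((homologyFunctor (ModuleCat.{u} R) 0).shiftIso n i i' hi).app X)
      (((homologyFunctor (ModuleCat.{u} R) 0).shiftIso n i i' hi).app Y)
      (((homologyFunctor (ModuleCat.{u} R) 0).shiftIso n i i' hi).hom.naturality f).symm
  constructor
  · intro i hi
    have := hf.1 (n + i) (by omega)
    exact ((MorphismProperty.isomorphisms _).arrow_iso_iff (key i (n + i) rfl)).2 this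
  · have := hf.2
    exact ((MorphismProperty.epimorphisms _).arrow_iso_iff (key m' m (by omega))).2 this

/-- The ladder lemma: in a morphism of distinguished triangles. -/
lemma Cond.hom₃ {T T' : Triangle (Dual.D R)} (hT : T ∈ distTriang _) (hT' : T' ∈ distTriang _)
    (φ : T ⟶ T') (m : ℤ) (h₁ : Cond (m + 1) φ.hom₁) (h₂ : Cond m φ.hom₂) : Cond m φ.hom₃ := by
  constructor
  · intro i hi
    have e1 : Epi ((homologyFunctor (ModuleCat.{u} R) i).map φ.hom₁) := h₁.epi i (by omega)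
    have e2 : IsIso ((homologyFunctor (ModuleCat.{u} R) i).map φ.hom₂) := h₂.1 i hi
    have e3 : IsIso ((homologyFunctor (ModuleCat.{u} R) (i + 1)).map φ.hom₁) :=
      h₁.1 (i + 1) (by omega)
    have e4 : Mono ((homologyFunctor (ModuleCat.{u} R) (i + 1)).map φ.hom₂) := by
      have := h₂.1 (i + 1) (by omega); infer_instance
    exact TriLadder.isIso_hom₃ (homologyFunctor (ModuleCat.{u} R) 0) hT hT' φ i (i + 1) rfl
      e1 e2 e3 e4
  · have e2 : Epi ((homologyFunctor (ModuleCat.{u} R) m).map φ.hom₂) := h₂.2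
    have e3 : Epi ((homologyFunctor (ModuleCat.{u} R) (m + 1)).map φ.hom₁) := h₁.2
    have e4 : Mono ((homologyFunctor (ModuleCat.{u} R) (m + 1)).map φ.hom₂) := by
      have := h₂.1 (m + 1) (by omega); infer_instance
    exact TriLadder.epi_hom₃ (homologyFunctor (ModuleCat.{u} R) 0) hT hT' φ m (m + 1) rfl
      e2 e3 e4

end Cond

section FF

open Groth.Agent.Lib.Helper35.KL CochainComplex

/-- `K` is represented by a complex of finite free modules vanishing outside `[a, b]`. -/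
def FF (a b : ℤ) (K : Dual.D R) : Prop :=
  ∃ E : DRing.Cx R, DRing.VanishesOutside E a b ∧ DRing.TermwiseFiniteFree E ∧
    Nonempty (DRing.toD E ≅ K)

variable {K K' : Dual.D R} {a b : ℤ}

lemma FF.of_iso (e : K ≅ K') (h : FF a b K) : FF a b K' := by
  obtain ⟨E, hv, hE, ⟨e'⟩⟩ := h
  exact ⟨E, hv, hE, ⟨e' ≪≫ e⟩⟩

lemma FF.mono {a' b' : ℤ} (ha : a' ≤ a) (hb : b ≤ b') (h : FF a b K) : FF a' b' K := by
  obtain ⟨E, hv, hE, he⟩ := h
  exact ⟨E, fun i hi => hv i (by omega), hE, he⟩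

lemma FF.shift (h : FF a b K) (n a' b' : ℤ) (ha : a' + n = a) (hb : b' + n = b) :
    FF a' b' (K⟦n⟧) := by
  obtain ⟨E, hv, hE, ⟨e⟩⟩ := h
  refine ⟨E⟦n⟧, ?_, ?_, ⟨(Q.commShiftIso n).app E ≪≫
    (CategoryTheory.shiftFunctor (DerivedCategory (ModuleCat.{u} R)) n).mapIso e⟩⟩
  · intro i hi
    exact hv (i + n) (by omega)
  · intro i
    exact hE (i + n)

lemma FF_of_isZero (hK : IsZero K) (a b : ℤ) : FF a b K := by
  refine ⟨0, ?_, ?_, ⟨(Q.map_isZero (isZero_zero _)).iso hK⟩⟩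
  · intro i _
    exact (HomologicalComplex.eval _ _ i).map_isZero (isZero_zero _)
  · intro i
    have hz : IsZero ((0 : DRing.Cx R).X i) :=
      (HomologicalComplex.eval _ _ i).map_isZero (isZero_zero _)
    have : Subsingleton ((0 : DRing.Cx R).X i) := ModuleCat.subsingleton_of_isZero hz
    exact ⟨inferInstance, inferInstance⟩

lemma FF_single (N : ModuleCat.{u} R) [Module.Finite R N] [Module.Free R N] :
    FF 0 0 ((DerivedCategory.singleFunctor (ModuleCat.{u} R) 0).obj N) := by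
  refine ⟨(HomologicalComplex.single (ModuleCat.{u} R) (ComplexShape.up ℤ) 0).obj N, ?_, ?_,
    ⟨((DerivedCategory.singleFunctorIsoCompQ (ModuleCat.{u} R) 0).app N).symm⟩⟩
  · intro i hi
    exact HomologicalComplex.isZero_single_obj_X _ _ _ _ (by omega)
  · intro i
    by_cases hi : i = 0
    · subst hi
      have e := (HomologicalComplex.singleObjXSelf (ComplexShape.up ℤ) 0 N).toLinearEquiv
      exact ⟨Module.Finite.equiv e.symm, Module.Free.of_equiv e.symm⟩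
    · have hz : IsZero (((HomologicalComplex.single (ModuleCat.{u} R)
          (ComplexShape.up ℤ) 0).obj N).X i) :=
        HomologicalComplex.isZero_single_obj_X _ _ _ _ hi
      have := ModuleCat.subsingleton_of_isZero hz
      exact ⟨inferInstance, inferInstance⟩

lemma FF.obj₃ (T : Triangle (Dual.D R)) (hT : T ∈ distTriang _) {a₁ b₁ a₂ b₂ : ℤ}
    (h₁ : FF a₁ b₁ T.obj₁) (h₂ : FF a₂ b₂ T.obj₂) :
    FF (min (a₁ - 1) a₂) (max (b₁ - 1) b₂) T.obj₃ := by
  obtain ⟨E₁, hv₁, hE₁, ⟨e₁⟩⟩ := h₁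
  obtain ⟨E₂, hv₂, hE₂, ⟨e₂⟩⟩ := h₂
  have hKP : E₁.IsKProjective := isKProjective_of_vanishesAbove E₁ b₁
    (fun i hi => hv₁ i (Or.inr hi)) (fun i => by
      have := (hE₁ i).2
      infer_instance)
  obtain ⟨f, ⟨e⟩⟩ := nonempty_iso_mappingCone_of_isKProjective T hT e₁ e₂
  refine ⟨mappingCone f, ?_, ?_, ⟨e⟩⟩
  · intro i hi
    rw [mappingCone.isZero_X_iff]
    exact ⟨hv₁ (i + 1) (by omega), hv₂ i (by omega)⟩
  · intro i
    have := (hE₁ (i + 1)).1
    have := (hE₁ (i + 1)).2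
    have := (hE₂ i).1
    have := (hE₂ i).2
    exact ⟨Module.Finite.equiv (mappingConeXLinearEquiv f i).symm,
      Module.Free.of_equiv (mappingConeXLinearEquiv f i).symm⟩

lemma FF.hom_eq_zero (h : FF a b K) (L : Dual.D R) [L.IsLE (a - 1)] (ξ : K ⟶ L) : ξ = 0 := by
  obtain ⟨E, hv, hE, he⟩ := h
  exact hom_eq_zero_of_projAmp a b K ⟨E, hv, fun i => by
    have := (hE i).2
    infer_instance, he⟩ L ξ

end FF

section PC

/-- The working form of `m`-pseudo-coherence: the approximating complex sits in degrees `≥ m`. -/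
def PC (m : ℤ) (K : Dual.D R) : Prop :=
  ∃ (P : Dual.D R) (b : ℤ) (α : P ⟶ K), FF m b P ∧ Cond m α

variable {K K' : Dual.D R} {m : ℤ}

lemma PC.of_iso (e : K ≅ K') (h : PC m K) : PC m K' := by
  obtain ⟨P, b, α, hP, hα⟩ := h
  exact ⟨P, b, α ≫ e.hom, hP, hα.comp (cond_of_isIso m e.hom)⟩

lemma PC.shift (h : PC m K) (n m' : ℤ) (hm : m' + n = m) : PC m' (K⟦n⟧) := by
  obtain ⟨P, b, α, hP, hα⟩ := h
  exact ⟨P⟦n⟧, b - n, α⟦n⟧', hP.shift n m' (b - n) hm (by omega), hα.shift n m' hm⟩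

lemma PC.of_shift (n m' : ℤ) (hm : m' + n = m) (h : PC m' (K⟦n⟧)) : PC m K :=
  (h.shift (-n) m (by omega)).of_iso (shiftShiftNeg K n)

lemma PC_of_isLE (m : ℤ) (K : Dual.D R) [K.IsLE (m - 1)] : PC m K :=
  ⟨0, m, 0, FF_of_isZero (isZero_zero _) _ _, cond_of_isZero m _ (isZero_zero _)⟩

lemma PC.obj₃ (T : Triangle (Dual.D R)) (hT : T ∈ distTriang _) (m : ℤ)
    (h₁ : PC (m + 1) T.obj₁) (h₂ : PC m T.obj₂) : PC m T.obj₃ := by
  obtain ⟨P, b₁, α, hP, hα⟩ := h₁
  obtain ⟨Q', b₂, β, hQ, hβ⟩ := h₂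
  -- the cone of β is ≤ m - 1
  obtain ⟨C, g, δ, hTβ⟩ := distinguished_cocone_triangle β
  have hC : C.IsLE (m - 1) := (cond_iff_isLE _ hTβ m).1 hβ
  have hC' : C.IsLE (m + 1 - 1) := TStructure.t.isLE_of_le C (m - 1) (m + 1 - 1) (by omega)
  -- lift `α ≫ T.mor₁` through β
  have h0 : (α ≫ T.mor₁) ≫ g = 0 := hP.hom_eq_zero C _
  have hex : ∃ φ : P ⟶ Q', α ≫ T.mor₁ = φ ≫ β :=
    Triangle.coyoneda_exact₂ _ hTβ (α ≫ T.mor₁) h0
  obtain ⟨φ, hφ⟩ := hex
  obtain ⟨N, ι, π, hTφ⟩ := distinguished_cocone_triangle φ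
  have hN : FF m (max (b₁ - 1) b₂) N := by
    have := FF.obj₃ _ hTφ hP hQ
    exact this.mono (by simp) le_rfl
  obtain ⟨γ, hγ₁, hγ₂⟩ := complete_distinguished_triangle_morphism _ _ hTφ hT α β hφ.symm
  let Φ : Triangle.mk φ ι π ⟶ T := Triangle.homMk _ _ α β γ hφ.symm hγ₁ hγ₂
  exact ⟨N, _, γ, hN, Cond.hom₃ hTφ hT Φ m hα hβ⟩

lemma PC.obj₂ (T : Triangle (Dual.D R)) (hT : T ∈ distTriang _) (m : ℤ)
    (h₁ : PC m T.obj₁) (h₃ : PC m T.obj₃) : PC m T.obj₂ :=
  PC.obj₃ T.invRotate (inv_rot_of_distTriang _ hT) m (h₃.shift (-1) (m + 1) (by omega)) h₁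

lemma PC.obj₁ (T : Triangle (Dual.D R)) (hT : T ∈ distTriang _) (m : ℤ)
    (h₂ : PC (m + 1) T.obj₂) (h₃ : PC m T.obj₃) : PC (m + 1) T.obj₁ :=
  PC.of_shift 1 m rfl (PC.obj₃ T.rotate (rot_of_distTriang _ hT) m h₂ h₃)

open Groth.Agent.Lib.Helper35.KL in
lemma devissage_PCAll : Devissage (R := R) (fun K : Dual.D R => ∀ m : ℤ, PC m K) where
  iso e h m := (h m).of_iso e
  shift K n h m := (h (m + n)).shift n m rfl
  mid T hT h₁ h₃ m := PC.obj₂ T hT m (h₁ m) (h₃ m)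
  zero K hK m := by
    have : K.IsLE (m - 1) := TStructure.t.isLE_of_isZero hK _
    exact PC_of_isLE m K

lemma PC_single (N : ModuleCat.{u} R) [Module.Finite R N] [Module.Free R N] (m : ℤ) :
    PC m ((DerivedCategory.singleFunctor (ModuleCat.{u} R) 0).obj N) := by
  by_cases hm : m ≤ 0
  · exact ⟨_, 0, 𝟙 _, (FF_single N).mono hm le_rfl, cond_of_isIso m _⟩
  · have : ((DerivedCategory.singleFunctor (ModuleCat.{u} R) 0).obj N).IsLE (m - 1) :=
      TStructure.t.isLE_of_le _ 0 (m - 1) (by omega)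
    exact PC_of_isLE m _

open Groth.Agent.Lib.Helper35.KL in
lemma PC_of_FF {a b : ℤ} (h : FF a b K) (m : ℤ) : PC m K := by
  obtain ⟨E, hv, hE, ⟨e⟩⟩ := h
  refine PC.of_iso e ?_
  refine (devissage_PCAll (R := R)).of_bounded_termwise E a b hv (fun i => ?_) m
  have := (hE i).1
  have := (hE i).2
  intro m
  exact PC_single (E.X i) m

/-- The two forms of `m`-pseudo-coherence agree. -/
theorem pc_iff (m : ℤ) (K : Dual.D R) : DRing.IsPseudoCoherent R m K ↔ PC m K := by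
  constructor
  · rintro ⟨E, a, b, α, hv, hE, hiso, hepi⟩
    obtain ⟨P, b', β, hP, hβ⟩ := PC_of_FF (K := DRing.toD E) ⟨E, hv, hE, ⟨Iso.refl _⟩⟩ m
    exact ⟨P, b', β ≫ α, hP, hβ.comp ⟨hiso, hepi⟩⟩
  · rintro ⟨P, b, α, ⟨E, hv, hE, ⟨e⟩⟩, hα⟩
    have h := (cond_of_isIso m e.hom).comp hα
    exact ⟨E, m, b, e.hom ≫ α, hv, hE, h.1, h.2⟩

end PC

section API

variable {K K' : Dual.D R} {m : ℤ}

theorem isPC_of_iso (e : K ≅ K') (h : DRing.IsPseudoCoherent R m K) :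
    DRing.IsPseudoCoherent R m K' :=
  (pc_iff m K').2 (((pc_iff m K).1 h).of_iso e)

theorem isPC_shift (h : DRing.IsPseudoCoherent R m K) (n m' : ℤ) (hm : m' + n = m) :
    DRing.IsPseudoCoherent R m' (K⟦n⟧) :=
  (pc_iff _ _).2 (((pc_iff m K).1 h).shift n m' hm)

theorem isPC_of_shift (n m' : ℤ) (hm : m' + n = m) (h : DRing.IsPseudoCoherent R m' (K⟦n⟧)) :
    DRing.IsPseudoCoherent R m K :=
  (pc_iff _ _).2 (PC.of_shift n m' hm ((pc_iff _ _).1 h))

theorem isPC_of_le {m' : ℤ} (hm : m ≤ m') (h : DRing.IsPseudoCoherent R m K) :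
    DRing.IsPseudoCoherent R m' K := by
  obtain ⟨E, a, b, α, hv, hE, hiso, hepi⟩ := h
  have h' : Cond m' α := Cond.of_le hm ⟨hiso, hepi⟩
  exact ⟨E, a, b, α, hv, hE, h'.1, h'.2⟩

theorem isPC_of_isLE (m : ℤ) (K : Dual.D R) [K.IsLE (m - 1)] : DRing.IsPseudoCoherent R m K :=
  (pc_iff _ _).2 (PC_of_isLE m K)

theorem isPC_of_FF {a b : ℤ} (h : FF a b K) (m : ℤ) : DRing.IsPseudoCoherent R m K :=
  (pc_iff _ _).2 (PC_of_FF h m)

theorem isPC_of_cond {f : K ⟶ K'} (hf : Cond m f) (h : DRing.IsPseudoCoherent R m K) :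
    DRing.IsPseudoCoherent R m K' := by
  obtain ⟨E, a, b, α, hv, hE, hiso, hepi⟩ := h
  have h' : Cond m (α ≫ f) := Cond.comp ⟨hiso, hepi⟩ hf
  exact ⟨E, a, b, α ≫ f, hv, hE, h'.1, h'.2⟩

/-- The triangle lemma for `m`-pseudo-coherence. -/
theorem isPC_triangle (T : Triangle (Dual.D R)) (hT : T ∈ distTriang _) (m : ℤ) :
    (DRing.IsPseudoCoherent R (m + 1) T.obj₁ → DRing.IsPseudoCoherent R m T.obj₂ →
        DRing.IsPseudoCoherent R m T.obj₃) ∧
      (DRing.IsPseudoCoherent R m T.obj₁ → DRing.IsPseudoCoherent R m T.obj₃ →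
        DRing.IsPseudoCoherent R m T.obj₂) ∧
      (DRing.IsPseudoCoherent R (m + 1) T.obj₂ → DRing.IsPseudoCoherent R m T.obj₃ →
        DRing.IsPseudoCoherent R (m + 1) T.obj₁) :=
  ⟨fun h₁ h₂ => (pc_iff _ _).2 (PC.obj₃ T hT m ((pc_iff _ _).1 h₁) ((pc_iff _ _).1 h₂)),
    fun h₁ h₃ => (pc_iff _ _).2 (PC.obj₂ T hT m ((pc_iff _ _).1 h₁) ((pc_iff _ _).1 h₃)),
    fun h₂ h₃ => (pc_iff _ _).2 (PC.obj₁ T hT m ((pc_iff _ _).1 h₂) ((pc_iff _ _).1 h₃))⟩

end API

end MPC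
end Groth.Agent.Lib.Helper6
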