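import Mathlib

set_option autoImplicit false
universe w v u
open CategoryTheory CategoryTheory.Limits Opposite ZeroObject
open CategoryTheory.Pretriangulated

namespace Groth.Agent.Lib.Helper6
namespace FiltHom

section Defs
variable {D : Type u} [Category.{v} D] {J : Type w} [Category J] {G : J ⥤ D}

/-- The cocone injections, with a clean type. -/
abbrev inj (c : Cocone G) (j : J) : G.obj j ⟶ c.pt := c.ι.app j

lemma inj_w (c : Cocone G) {j j' : J} (f : j ⟶ j') : G.map f ≫ inj c j' = inj c j := c.w f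

/-- "Surjectivity" of `colim_j Hom(X, G j) → Hom(X, c.pt)`. -/
def A (c : Cocone G) (X : D) : Prop :=
  ∀ x : X ⟶ c.pt, ∃ (j : J) (y : X ⟶ G.obj j), y ≫ inj c j = x

/-- "Injectivity" of `colim_j Hom(X, G j) → Hom(X, c.pt)`. -/
def B [HasZeroMorphisms D] (c : Cocone G) (X : D) : Prop :=
  ∀ (j : J) (y : X ⟶ G.obj j), y ≫ inj c j = 0 → ∃ (j' : J) (f : j ⟶ j'), y ≫ G.map f = 0

lemma A_of_iso {c : Cocone G} {X X' : D} (e : X ≅ X') (h : A c X) : A c X' := by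
  intro x
  obtain ⟨j, y, hy⟩ := h (e.hom ≫ x)
  exact ⟨j, e.inv ≫ y, by rw [Category.assoc, hy, Iso.inv_hom_id_assoc]⟩

lemma B_of_iso [HasZeroMorphisms D] {c : Cocone G} {X X' : D} (e : X ≅ X') (h : B c X) :
    B c X' := by
  intro j y hy
  obtain ⟨j', f, hf⟩ := h j (e.hom ≫ y) (by rw [Category.assoc, hy, comp_zero])
  refine ⟨j', f, ?_⟩
  rw [← cancel_epi e.hom, ← Category.assoc, hf, comp_zero]

lemma A_of_isZero [HasZeroMorphisms D] [Nonempty J] {c : Cocone G} {X : D} (hX : IsZero X) :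
    A c X := by
  intro x
  obtain ⟨j⟩ := ‹Nonempty J›
  exact ⟨j, 0, hX.eq_of_src _ _⟩

lemma B_of_isZero [HasZeroMorphisms D] {c : Cocone G} {X : D} (hX : IsZero X) : B c X := by
  intro j y _
  exact ⟨j, 𝟙 j, hX.eq_of_src _ _⟩

end Defs

section Chase
variable {D : Type u} [Category.{v} D] [Preadditive D] [HasZeroObject D] [HasShift D ℤ]
  [∀ n : ℤ, (shiftFunctor D n).Additive] [Pretriangulated D]
  {J : Type w} [Category J] [IsFiltered J] {G : J ⥤ D} (c : Cocone G)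

theorem A_mid (T : Triangle D) (hT : T ∈ distTriang D) (hA₁ : A c T.obj₁) (hA₃ : A c T.obj₃)
    (hB₃ : B c (T.obj₃⟦(-1 : ℤ)⟧)) : A c T.obj₂ := by
  intro x
  have hT' := inv_rot_of_distTriang _ hT
  obtain ⟨j, y', hy'⟩ := hA₁ (T.mor₁ ≫ x)
  let ρ : T.obj₃⟦(-1 : ℤ)⟧ ⟶ T.obj₁ := T.invRotate.mor₁
  have hz : ρ ≫ T.mor₁ = 0 := comp_distTriang_mor_zero₁₂ _ hT'
  have h0 : (ρ ≫ y') ≫ inj c j = 0 := by
    rw [Category.assoc, hy', ← Category.assoc, hz, zero_comp]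
  obtain ⟨j₁, f₁, h₁⟩ := hB₃ j (ρ ≫ y') h0
  have h₁' : ρ ≫ (y' ≫ G.map f₁) = 0 := by rw [← Category.assoc]; exact h₁
  have hex : ∃ yt : T.obj₂ ⟶ G.obj j₁, y' ≫ G.map f₁ = T.mor₁ ≫ yt :=
    Triangle.yoneda_exact₂ _ hT' (y' ≫ G.map f₁) h₁'
  obtain ⟨yt, hyt⟩ := hex
  have h2 : T.mor₁ ≫ (yt ≫ inj c j₁ - x) = 0 := by
    rw [Preadditive.comp_sub, ← Category.assoc, ← hyt, Category.assoc, inj_w c f₁, hy', sub_self]
  have hex' : ∃ w : T.obj₃ ⟶ c.pt, yt ≫ inj c j₁ - x = T.mor₂ ≫ w :=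
    Triangle.yoneda_exact₂ _ hT _ h2
  obtain ⟨w, hw⟩ := hex'
  obtain ⟨j₂, w', hw'⟩ := hA₃ w
  refine ⟨IsFiltered.max j₁ j₂, yt ≫ G.map (IsFiltered.leftToMax j₁ j₂) -
    T.mor₂ ≫ w' ≫ G.map (IsFiltered.rightToMax j₁ j₂), ?_⟩
  rw [Preadditive.sub_comp, Category.assoc, Category.assoc, Category.assoc, inj_w, inj_w, hw', ← hw]
  abel

theorem B_mid (T : Triangle D) (hT : T ∈ distTriang D) (hB₁ : B c T.obj₁) (hB₃ : B c T.obj₃)
    (hA₁ : A c (T.obj₁⟦(1 : ℤ)⟧)) : B c T.obj₂ := by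
  intro j z hz
  obtain ⟨j₁, f₁, h₁⟩ := hB₁ j (T.mor₁ ≫ z) (by rw [Category.assoc, hz, comp_zero])
  have hex : ∃ w : T.obj₃ ⟶ G.obj j₁, z ≫ G.map f₁ = T.mor₂ ≫ w :=
    Triangle.yoneda_exact₂ _ hT (z ≫ G.map f₁) (by rw [← Category.assoc]; exact h₁)
  obtain ⟨w, hw⟩ := hex
  have h2 : T.mor₂ ≫ (w ≫ inj c j₁) = 0 := by
    rw [← Category.assoc, ← hw, Category.assoc, inj_w, hz]
  have hex' : ∃ v : T.obj₁⟦(1 : ℤ)⟧ ⟶ c.pt, w ≫ inj c j₁ = T.mor₃ ≫ v :=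
    Triangle.yoneda_exact₃ _ hT _ h2
  obtain ⟨v, hv⟩ := hex'
  obtain ⟨j₂, v', hv'⟩ := hA₁ v
  let j₃ := IsFiltered.max j₁ j₂
  let l : j₁ ⟶ j₃ := IsFiltered.leftToMax j₁ j₂
  let r : j₂ ⟶ j₃ := IsFiltered.rightToMax j₁ j₂
  have h3 : (w ≫ G.map l - T.mor₃ ≫ v' ≫ G.map r) ≫ inj c j₃ = 0 := by
    rw [Preadditive.sub_comp, Category.assoc, Category.assoc, Category.assoc, inj_w, inj_w, hv', hv,
      sub_self]
  obtain ⟨j₄, f₄, h₄⟩ := hB₃ j₃ _ h3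
  refine ⟨j₄, f₁ ≫ l ≫ f₄, ?_⟩
  have h23 : T.mor₂ ≫ T.mor₃ = 0 := comp_distTriang_mor_zero₂₃ _ hT
  rw [Preadditive.sub_comp, sub_eq_zero] at h₄
  rw [G.map_comp, G.map_comp, ← Category.assoc, hw, Category.assoc, ← Category.assoc w, h₄]
  simp only [Category.assoc]
  rw [reassoc_of% h23, zero_comp]

/-- `Hom(X⟦k⟧, -)` commutes with the filtered colimit for every shift `k`. -/
def Φ (X : D) : Prop := ∀ k : ℤ, A c (X⟦k⟧) ∧ B c (X⟦k⟧)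

variable {c}

lemma Φ_of_iso {X X' : D} (e : X ≅ X') (h : Φ c X) : Φ c X' := fun k =>
  ⟨A_of_iso ((shiftFunctor D k).mapIso e) (h k).1, B_of_iso ((shiftFunctor D k).mapIso e) (h k).2⟩

lemma Φ_shift {X : D} (h : Φ c X) (n : ℤ) : Φ c (X⟦n⟧) := fun k =>
  ⟨A_of_iso ((shiftFunctorAdd' D n k (n + k) rfl).app X) (h (n + k)).1,
    B_of_iso ((shiftFunctorAdd' D n k (n + k) rfl).app X) (h (n + k)).2⟩

lemma Φ_of_isZero {X : D} (hX : IsZero X) : Φ c X := fun k =>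
  have hk : IsZero (X⟦k⟧) := (shiftFunctor D k).map_isZero hX
  have : Nonempty J := IsFiltered.nonempty
  ⟨A_of_isZero hk, B_of_isZero hk⟩

theorem Φ_mid (T : Triangle D) (hT : T ∈ distTriang D) (h₁ : Φ c T.obj₁) (h₃ : Φ c T.obj₃) :
    Φ c T.obj₂ := by
  intro k
  have hTk := Triangle.shift_distinguished T hT k
  constructor
  · refine A_mid c _ hTk (h₁ k).1 (h₃ k).1 ?_
    exact B_of_iso ((shiftFunctorAdd' D k (-1) (k - 1) (by omega)).app T.obj₃) (h₃ (k - 1)).2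
  · refine B_mid c _ hTk (h₁ k).2 (h₃ k).2 ?_
    exact A_of_iso ((shiftFunctorAdd' D k 1 (k + 1) rfl).app T.obj₁) (h₁ (k + 1)).1

end Chase

end FiltHom
end Groth.Agent.Lib.Helper6
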