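import Mathlib
import Groth.Prelude.Def_DRing2
import Groth.Agent.Lib.Helper35.IndRep

set_option autoImplicit false
universe u
open CategoryTheory CategoryTheory.Limits Opposite ZeroObject
open CategoryTheory.Pretriangulated

namespace Groth.Agent.Lib.Helper6
namespace PerfGen

attribute [local instance] HasDerivedCategory.standard

variable {R : Type u} [CommRing R]

open DerivedCategory Groth.Agent.Lib.Helper35.KL

section
variable (P : ObjectProperty (Dual.D R)) [P.IsClosedUnderIsomorphisms]
    (hshift : ∀ (K : Dual.D R) (n : ℤ), P K → P ((shiftFunctor (Dual.D R) n).obj K))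
    (hext : ∀ T : Triangle (Dual.D R), T ∈ distinguishedTriangles → P T.obj₁ → P T.obj₃ → P T.obj₂)

include hshift hext in
lemma prop_of_isZero {X : Dual.D R} (hX : P X) {K : Dual.D R} (hK : IsZero K) : P K := by
  have hT := rot_of_distTriang _ (contractible_distinguished X)
  have h0 : P (0 : Dual.D R) := hext _ hT hX (hshift X 1 hX)
  exact P.prop_of_iso ((isZero_zero _).iso hK) h0

include hshift hext in
lemma devissage {X : Dual.D R} (hX : P X) : Devissage (R := R) P where
  iso e h := P.prop_of_iso e h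
  shift K n h := hshift K n h
  mid T hT h₁ h₃ := hext T hT h₁ h₃
  zero K hK := prop_of_isZero P hshift hext hX hK

include hext in
lemma prop_of_shortExact {S : ShortComplex (ModuleCat.{u} R)} (hS : S.ShortExact)
    (h₁ : P ((singleFunctor (ModuleCat.{u} R) 0).obj S.X₁))
    (h₃ : P ((singleFunctor (ModuleCat.{u} R) 0).obj S.X₃)) :
    P ((singleFunctor (ModuleCat.{u} R) 0).obj S.X₂) :=
  hext _ hS.singleTriangle_distinguished h₁ h₃

/-- The short exact sequence `0 → R^n → R^(n+1) → R → 0`. -/
lemma shortExact_fin (n : ℕ) :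
    ∃ (f : ModuleCat.of R (Fin n → R) ⟶ ModuleCat.of R (Fin (n + 1) → R))
      (g : ModuleCat.of R (Fin (n + 1) → R) ⟶ ModuleCat.of R R) (w : f ≫ g = 0),
      (ShortComplex.mk f g w).ShortExact := by
  let f' : (Fin n → R) →ₗ[R] (Fin (n + 1) → R) :=
    LinearMap.pi (fun i => Fin.cases (0 : (Fin n → R) →ₗ[R] R) (fun j => LinearMap.proj j) i)
  let g' : (Fin (n + 1) → R) →ₗ[R] R := LinearMap.proj 0
  have hf' : ∀ v : Fin n → R, f' v = Fin.cons 0 v := by
    intro v
    ext i
    refine Fin.cases ?_ (fun j => ?_) i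
    · simp [f']
    · simp [f']
  have w : ModuleCat.ofHom f' ≫ ModuleCat.ofHom g' = 0 := by
    ext v
    simp [hf', g']
  refine ⟨ModuleCat.ofHom f', ModuleCat.ofHom g', w, ?_⟩
  have hmono : Mono (ModuleCat.ofHom f') := by
    rw [ModuleCat.mono_iff_injective]
    intro v v' h
    change f' v = f' v' at h
    rw [hf', hf'] at h
    exact (Fin.cons_injective2 h).2
  have hepi : Epi (ModuleCat.ofHom g') := by
    rw [ModuleCat.epi_iff_surjective]
    intro r
    exact ⟨fun _ => r, rfl⟩
  refine ShortComplex.ShortExact.mk' ?_ hmono hepi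
  rw [ShortComplex.moduleCat_exact_iff]
  intro x hx
  change g' x = 0 at hx
  refine ⟨Fin.tail x, ?_⟩
  change f' (Fin.tail x) = x
  rw [hf']
  have hx0 : x 0 = 0 := hx
  rw [← hx0]
  exact Fin.cons_self_tail x

include hshift hext in
lemma prop_free (hR : P (Dual.inD R R)) (n : ℕ) :
    P ((singleFunctor (ModuleCat.{u} R) 0).obj (ModuleCat.of R (Fin n → R))) := by
  induction n with
  | zero =>
    apply prop_of_isZero P hshift hext hR
    apply Functor.map_isZero
    rw [ModuleCat.isZero_iff_subsingleton]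
    infer_instance
  | succ n ih =>
    obtain ⟨f, g, w, hS⟩ := shortExact_fin (R := R) n
    exact prop_of_shortExact P hext hS ih hR

include hshift hext in
lemma prop_finite_projective (hR : P (Dual.inD R R))
    (hsum : ∀ (X Y : Dual.D R) [HasBinaryBiproduct X Y], P (X ⊞ Y) → P X)
    (E : ModuleCat.{u} R) [Module.Finite R E] [Module.Projective R E] :
    P ((singleFunctor (ModuleCat.{u} R) 0).obj E) := by
  obtain ⟨n, f, g, -, -, hfg⟩ := Module.Finite.exists_comp_eq_id_of_projective R E
  let F : ModuleCat.{u} R := ModuleCat.of R (Fin n → R)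
  let π : F ⟶ E := ModuleCat.ofHom f
  let s : E ⟶ F := ModuleCat.ofHom g
  have hs : s ≫ π = 𝟙 E := by
    ext x
    exact LinearMap.congr_fun hfg x
  let S : ShortComplex (ModuleCat.{u} R) := ShortComplex.mk (kernel.ι π) π (kernel.condition π)
  have hSex : S.Exact := ShortComplex.exact_kernel π
  have : Mono S.f := by dsimp [S]; infer_instance
  let spl : S.Splitting := ShortComplex.Splitting.ofExactOfSection S hSex s hs inferInstance
  let e₁ : F ≅ kernel π ⊞ E := spl.isoBinaryBiproduct
  let e₂ : F ≅ E ⊞ kernel π := e₁ ≪≫ biprod.braiding _ _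
  let S₀ := singleFunctor (ModuleCat.{u} R) 0
  have : PreservesBinaryBiproducts S₀ := preservesBinaryBiproducts_of_preservesBiproducts S₀
  have e₃ : S₀.obj F ≅ S₀.obj E ⊞ S₀.obj (kernel π) :=
    S₀.mapIso e₂ ≪≫ S₀.mapBiprod E (kernel π)
  exact hsum _ _ (P.prop_of_iso e₃ (prop_free P hshift hext hR n))

end

theorem prop_of_isPerfect (P : ObjectProperty (Dual.D R)) [P.IsClosedUnderIsomorphisms]
    (hR : P (Dual.inD R R))
    (hshift : ∀ (K : Dual.D R) (n : ℤ), P K → P ((shiftFunctor (Dual.D R) n).obj K))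
    (hext : ∀ T : Triangle (Dual.D R), T ∈ distinguishedTriangles → P T.obj₁ → P T.obj₃ → P T.obj₂)
    (hsum : ∀ (X Y : Dual.D R) [HasBinaryBiproduct X Y], P (X ⊞ Y) → P X)
    (K : Dual.D R) (hK : DRing.IsPerfect R K) : P K := by
  obtain ⟨E, a, b, hv, hE, ⟨e⟩⟩ := hK
  refine P.prop_of_iso e ?_
  refine (devissage P hshift hext hR).of_bounded_termwise E a b hv (fun i => ?_)
  have := (hE i).1
  have := (hE i).2
  exact prop_finite_projective P hshift hext hR hsum (E.X i)

end PerfGen
end Groth.Agent.Lib.Helper6
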