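import Mathlib
import Groth.Prelude.Def_DRing2
import Groth.Agent.Lib.Helper35.IndRep
import Groth.Agent.Lib.Helper35.KLHeart
import Groth.Agent.Lib.Helper75.HomologyFilteredColim
import Groth.Agent.Lib.Helper6.FiltHom
import Groth.Agent.Lib.Helper6.PerfGen

set_option autoImplicit false
universe u
open CategoryTheory CategoryTheory.Limits Opposite ZeroObject
open CategoryTheory.Pretriangulated

namespace Groth.Agent.Lib.Helper6
namespace PCFilt

attribute [local instance] HasDerivedCategory.standard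

variable {R : Type u} [CommRing R]

open DerivedCategory Groth.Agent.Lib.Helper35.KL FiltHom

variable {J : Type u} [SmallCategory J] [IsFiltered J] (F : J ⥤ ModuleCat.{u} R) (c : Cocone F)

/-- The cocone of shifted single complexes. -/
noncomputable abbrev cn (n : ℤ) :
    Cocone (F ⋙ singleFunctor (ModuleCat.{u} R) 0 ⋙ shiftFunctor (Dual.D R) n) :=
  (singleFunctor (ModuleCat.{u} R) 0 ⋙ shiftFunctor (Dual.D R) n).mapCocone c

lemma devissage_Φ (n : ℤ) : Devissage (R := R) (Φ (cn F c n)) where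
  iso e h := Φ_of_iso e h
  shift K k h := Φ_shift h k
  mid T hT h₁ h₃ := Φ_mid T hT h₁ h₃
  zero K hK := Φ_of_isZero hK

/-- vanishing of `Hom((S_0 P)⟦k⟧, (S_0 M)⟦n⟧)` for `P` projective and `k ≠ n`. -/
lemma hom_eq_zero_of_ne (P M : ModuleCat.{u} R) [Projective P] (k n : ℤ) (hkn : k ≠ n)
    (φ : ((singleFunctor (ModuleCat.{u} R) 0).obj P)⟦k⟧ ⟶
      ((singleFunctor (ModuleCat.{u} R) 0).obj M)⟦n⟧) : φ = 0 := by
  let e₁ : ((singleFunctor (ModuleCat.{u} R) 0).obj P)⟦k⟧ ≅
      (singleFunctor (ModuleCat.{u} R) (-k)).obj P :=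
    ((singleFunctors (ModuleCat.{u} R)).shiftIso k (-k) 0 (by omega)).app P
  let e₂ : ((singleFunctor (ModuleCat.{u} R) 0).obj M)⟦n⟧ ≅
      (singleFunctor (ModuleCat.{u} R) (-n)).obj M :=
    ((singleFunctors (ModuleCat.{u} R)).shiftIso n (-n) 0 (by omega)).app M
  have h : e₁.inv ≫ φ ≫ e₂.hom = 0 := by
    rcases lt_or_gt_of_ne hkn with h | h
    · exact hom_single_projective_eq_zero _ (-n) (-k) (by omega) _
    · exact TStructure.t.zero _ (-k) (-n) (by omega)
  have : φ = e₁.hom ≫ (e₁.inv ≫ φ ≫ e₂.hom) ≫ e₂.inv := by simp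
  rw [this, h, zero_comp, comp_zero]

variable {F c}

/-- Base case: `R` in degree 0. -/
theorem Φ_single_self (hc : IsColimit c) (n : ℤ) :
    Φ (cn F c n) ((singleFunctor (ModuleCat.{u} R) 0).obj (ModuleCat.of R R)) := by
  have hproj : Projective (ModuleCat.of R R) :=
    (IsProjective.iff_projective (R := R) (P := R)).mp inferInstance
  have hne : Nonempty J := IsFiltered.nonempty
  let SS := singleFunctor (ModuleCat.{u} R) 0 ⋙ shiftFunctor (Dual.D R) n
  intro k
  by_cases hkn : k = n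
  · subst hkn
    constructor
    · intro x
      obtain ⟨φ, hφ⟩ := SS.map_surjective x
      obtain ⟨j, mj, hmj⟩ := Groth.Agent.Lib.Helper75.mc_exists_rep hc (φ.hom (1 : R))
      let ψ : ModuleCat.of R R ⟶ F.obj j := ModuleCat.ofHom (LinearMap.toSpanSingleton R _ mj)
      have hψ : ψ ≫ c.ι.app j = φ := by
        ext
        change (c.ι.app j).hom (LinearMap.toSpanSingleton R _ mj 1) = φ.hom 1
        rw [LinearMap.toSpanSingleton_apply, one_smul, hmj]
      refine ⟨j, SS.map ψ, ?_⟩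
      change SS.map ψ ≫ SS.map (c.ι.app j) = x
      rw [← SS.map_comp, hψ, hφ]
    · intro j y hy
      obtain ⟨ψ, hψ⟩ := SS.map_surjective y
      have h1 : SS.map (ψ ≫ c.ι.app j) = 0 := by
        rw [SS.map_comp, hψ]
        exact hy
      have h2 : ψ ≫ c.ι.app j = 0 := SS.map_injective (by rw [h1, Functor.map_zero])
      have h3 : (c.ι.app j).hom (ψ.hom 1) = 0 := by
        have := congrArg (fun g : ModuleCat.of R R ⟶ c.pt => g.hom (1 : R)) h2
        exact this
      obtain ⟨j', f, hf⟩ := Groth.Agent.Lib.Helper75.mc_eq_zero_stage hc _ h3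
      refine ⟨j', f, ?_⟩
      have h4 : ψ ≫ F.map f = 0 := by
        ext
        exact hf
      change y ≫ SS.map (F.map f) = 0
      rw [← hψ, ← SS.map_comp, h4, Functor.map_zero]
  · constructor
    · intro x
      obtain ⟨j⟩ := hne
      refine ⟨j, 0, ?_⟩
      rw [zero_comp]
      exact (hom_eq_zero_of_ne _ _ k n hkn x).symm
    · intro j y _
      refine ⟨j, 𝟙 j, ?_⟩
      rw [hom_eq_zero_of_ne _ _ k n hkn y, zero_comp]

/-- Finite free modules. -/
theorem Φ_single_finite_free (hc : IsColimit c) (n : ℤ) (N : ModuleCat.{u} R) [Module.Finite R N]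
    [Module.Free R N] : Φ (cn F c n) ((singleFunctor (ModuleCat.{u} R) 0).obj N) := by
  let P : ObjectProperty (Dual.D R) := Φ (cn F c n)
  have : P.IsClosedUnderIsomorphisms := ⟨fun e h => Φ_of_iso e h⟩
  have hfree : ∀ r : ℕ, P ((singleFunctor (ModuleCat.{u} R) 0).obj (ModuleCat.of R (Fin r → R))) :=
    PerfGen.prop_free P (fun K k h => Φ_shift h k) (fun T hT h₁ h₃ => Φ_mid T hT h₁ h₃)
      (Φ_single_self hc n)
  let b := Module.Free.chooseBasis R N
  let e : N ≃ₗ[R] (Fin (Fintype.card (Module.Free.ChooseBasisIndex R N)) → R) :=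
    b.equivFun ≪≫ₗ LinearEquiv.funCongrLeft R R (Fintype.equivFin _).symm
  exact Φ_of_iso ((singleFunctor (ModuleCat.{u} R) 0).mapIso e.toModuleIso.symm) (hfree _)

/-- Bounded complexes of finite free modules. -/
theorem Φ_of_bounded_finite_free (hc : IsColimit c) (n : ℤ) (E : DRing.Cx R) (a b : ℤ)
    (hv : DRing.VanishesOutside E a b) (hE : DRing.TermwiseFiniteFree E) :
    Φ (cn F c n) (DRing.toD E) := by
  refine (devissage_Φ F c n).of_bounded_termwise E a b hv (fun i => ?_)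
  have := (hE i).1
  have := (hE i).2
  exact Φ_single_finite_free hc n (E.X i)

section Cone

/-- If `α` is an isomorphism on `H^i` for `i > m` and an epimorphism on `H^m`, its cone is `≤ m - 1`. -/
lemma isLE_cone (T : Triangle (Dual.D R)) (hT : T ∈ distTriang _) (m : ℤ)
    (hiso : ∀ i : ℤ, m < i → IsIso ((homologyFunctor (ModuleCat.{u} R) i).map T.mor₁))
    (hepi : Epi ((homologyFunctor (ModuleCat.{u} R) m).map T.mor₁)) : T.obj₃.IsLE (m - 1) := by
  rw [DerivedCategory.isLE_iff]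
  intro i hi
  have hepi' : Epi ((homologyFunctor (ModuleCat.{u} R) i).map T.mor₁) := by
    by_cases h : i = m
    · subst h; exact hepi
    · have := hiso i (by omega); infer_instance
  have hmono : Mono ((homologyFunctor (ModuleCat.{u} R) (i + 1)).map T.mor₁) := by
    have := hiso (i + 1) (by omega); infer_instance
  have h2 : (homologyFunctor (ModuleCat.{u} R) i).map T.mor₂ = 0 :=
    (HomologySequence.epi_homologyMap_mor₁_iff _ hT i).1 hepi'
  have h3 : HomologySequence.δ T i (i + 1) rfl = 0 :=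
    (HomologySequence.mono_homologyMap_mor₁_iff _ hT i (i + 1) rfl).1 hmono
  have hex := HomologySequence.exact₃ _ hT i (i + 1) rfl
  exact hex.isZero_of_both_zeros h2 h3

variable (T : Triangle (Dual.D R)) (hT : T ∈ distTriang _) (m : ℤ) (hC : T.obj₃.IsLE (m - 1))

include hT hC in
lemma precomp_injective (W : Dual.D R) (n : ℤ) (hn : n ≤ -m) [W.IsGE (-n)]
    (z : T.obj₂ ⟶ W) (hz : T.mor₁ ≫ z = 0) : z = 0 := by
  have hex : ∃ w : T.obj₃ ⟶ W, z = T.mor₂ ≫ w := Triangle.yoneda_exact₂ _ hT z hz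
  obtain ⟨w, rfl⟩ := hex
  rw [TStructure.t.zero w (m - 1) (-n) (by omega), comp_zero]

include hT hC in
lemma precomp_surjective (W : Dual.D R) (n : ℤ) (hn : n < -m) [W.IsGE (-n)]
    (z' : T.obj₁ ⟶ W) : ∃ z : T.obj₂ ⟶ W, T.mor₁ ≫ z = z' := by
  have hT' := inv_rot_of_distTriang _ hT
  let ρ : T.obj₃⟦(-1 : ℤ)⟧ ⟶ T.obj₁ := T.invRotate.mor₁
  have : (T.obj₃⟦(-1 : ℤ)⟧).IsLE m := TStructure.t.isLE_shift _ (m - 1) (-1) m
  have h0 : ρ ≫ z' = 0 := TStructure.t.zero _ m (-n) (by omega)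
  have hex : ∃ z : T.obj₂ ⟶ W, z' = T.mor₁ ≫ z := Triangle.yoneda_exact₂ _ hT' z' h0
  obtain ⟨z, hz⟩ := hex
  exact ⟨z, hz.symm⟩

include hT hC in
lemma precomp_cancel (W : Dual.D R) (n : ℤ) (hn : n ≤ -m) [W.IsGE (-n)]
    (z₁ z₂ : T.obj₂ ⟶ W) (h : T.mor₁ ≫ z₁ = T.mor₁ ≫ z₂) : z₁ = z₂ := by
  rw [← sub_eq_zero]
  apply precomp_injective T hT m hC W n hn
  rw [Preadditive.comp_sub, h, sub_self]

end Cone

theorem main (m : ℤ) (K : Dual.D R) (hK : DRing.IsPseudoCoherent R m K) (hc : IsColimit c) :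
    (∀ n : ℤ, n < -m → ∀ x : K ⟶ (shiftFunctor (Dual.D R) n).obj (Dual.inD R c.pt),
      ∃ (j : J) (y : K ⟶ (shiftFunctor (Dual.D R) n).obj (Dual.inD R (F.obj j))),
        y ≫ (shiftFunctor (Dual.D R) n).map
          ((DerivedCategory.singleFunctor (ModuleCat.{u} R) 0).map (c.ι.app j)) = x) ∧
    (∀ n : ℤ, n ≤ -m → ∀ (j : J) (y : K ⟶ (shiftFunctor (Dual.D R) n).obj (Dual.inD R (F.obj j))),
      y ≫ (shiftFunctor (Dual.D R) n).map
          ((DerivedCategory.singleFunctor (ModuleCat.{u} R) 0).map (c.ι.app j)) = 0 →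
      ∃ (j' : J) (f : j ⟶ j'), y ≫ (shiftFunctor (Dual.D R) n).map
          ((DerivedCategory.singleFunctor (ModuleCat.{u} R) 0).map (F.map f)) = 0) := by
  obtain ⟨E, a, b, α, hv, hE, hiso, hepi⟩ := hK
  obtain ⟨C, β, γ, hT⟩ := distinguished_cocone_triangle α
  have hC : C.IsLE (m - 1) := isLE_cone _ hT m hiso hepi
  have hGE : ∀ (M : ModuleCat.{u} R) (n : ℤ),
      (((singleFunctor (ModuleCat.{u} R) 0).obj M)⟦n⟧).IsGE (-n) := fun M n =>
    TStructure.t.isGE_shift _ 0 n (-n)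
  have key := fun n => (Φ_of_bounded_finite_free (F := F) (c := c) hc n E a b hv hE) 0
  have hA : ∀ n, A (cn F c n) (DRing.toD E) := fun n =>
    A_of_iso ((shiftFunctorZero (Dual.D R) ℤ).app _) (key n).1
  have hB : ∀ n, B (cn F c n) (DRing.toD E) := fun n =>
    B_of_iso ((shiftFunctorZero (Dual.D R) ℤ).app _) (key n).2
  constructor
  · intro n hn x
    have := hGE c.pt n
    obtain ⟨j, y', hy'⟩ := hA n (α ≫ x)
    have := hGE (F.obj j) n
    obtain ⟨y, hy⟩ := precomp_surjective _ hT m hC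
      (((singleFunctor (ModuleCat.{u} R) 0).obj (F.obj j))⟦n⟧) n hn y'
    refine ⟨j, y, ?_⟩
    apply precomp_cancel _ hT m hC
      (((singleFunctor (ModuleCat.{u} R) 0).obj c.pt)⟦n⟧) n hn.le
    change α ≫ y ≫ inj (cn F c n) j = α ≫ x
    change α ≫ y = y' at hy
    exact (Category.assoc α y (inj (cn F c n) j)).symm.trans
      ((congrArg (fun t => t ≫ inj (cn F c n) j) hy).trans hy')
  · intro n hn j y hy
    have := hGE c.pt n
    have h0 : (α ≫ y) ≫ inj (cn F c n) j = 0 := by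
      rw [Category.assoc]
      change α ≫ (y ≫ (shiftFunctor (Dual.D R) n).map
          ((DerivedCategory.singleFunctor (ModuleCat.{u} R) 0).map (c.ι.app j))) = 0
      rw [hy, comp_zero]
    obtain ⟨j', f, hf⟩ := hB n j (α ≫ y) h0
    refine ⟨j', f, ?_⟩
    have := hGE (F.obj j') n
    apply precomp_injective _ hT m hC
      (((singleFunctor (ModuleCat.{u} R) 0).obj (F.obj j'))⟦n⟧) n hn
    change α ≫ y ≫ (F ⋙ singleFunctor (ModuleCat.{u} R) 0 ⋙ shiftFunctor (Dual.D R) n).map f = 0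
    rw [← Category.assoc]
    exact hf

end PCFilt
end Groth.Agent.Lib.Helper6
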