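import Mathlib
import Groth.Prelude.Def_DRing2
import Groth.Agent.Lib.Helper6.MPC
import Groth.Agent.Lib.Helper6.PCFilt
import Groth.Agent.Lib.Helper31.FPColimit
import Groth.Agent.Lib.Helper35.TwoTerm

/-! Finiteness of the top cohomology of an `m`-pseudo-coherent object (helper6). -/

set_option autoImplicit false
universe u

open CategoryTheory Limits Pretriangulated DerivedCategory ZeroObject

namespace Groth.Agent.Lib.Helper6
namespace MPC

attribute [local instance] HasDerivedCategory.standard

variable {R : Type u} [CommRing R]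

/-- `H^t((S_0 N)[n]) ≅ N` naturally in `N` when `n + t = 0`. -/
noncomputable def topIso (t n : ℤ) (h : n + t = 0) :
    (singleFunctor (ModuleCat.{u} R) 0 ⋙ shiftFunctor (Dual.D R) n) ⋙
      homologyFunctor (ModuleCat.{u} R) t ≅ 𝟭 (ModuleCat.{u} R) :=
  Functor.associator _ _ _ ≪≫
    Functor.isoWhiskerLeft (singleFunctor (ModuleCat.{u} R) 0)
      ((homologyFunctor (ModuleCat.{u} R) 0).shiftIso n t 0 h) ≪≫
    singleFunctorCompHomologyFunctorIso (ModuleCat.{u} R) 0

lemma topIso_naturality (t n : ℤ) (h : n + t = 0) {M N : ModuleCat.{u} R} (f : M ⟶ N) :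
    (homologyFunctor (ModuleCat.{u} R) t).map (((singleFunctor (ModuleCat.{u} R) 0).map f)⟦n⟧') ≫
      (topIso t n h).hom.app N = (topIso t n h).hom.app M ≫ f :=
  (topIso (R := R) t n h).hom.naturality f

open Groth.Agent.Lib.Helper35.KL in
/-- For `K ≤ t`, a map from `K` to a module placed in degree `t` inducing an isomorphism on `H^t`. -/
lemma exists_top_map (K : Dual.D R) (t n : ℤ) (h : n + t = 0) [K.IsLE t] :
    ∃ (N : ModuleCat.{u} R) (π : K ⟶ ((singleFunctor (ModuleCat.{u} R) 0).obj N)⟦n⟧),
      IsIso ((homologyFunctor (ModuleCat.{u} R) t).map π) := by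
  have h1 : ((TStructure.t.truncGE t).obj K).IsGE t := inferInstance
  have h2 : ((TStructure.t.truncGE t).obj K).IsLE t := inferInstance
  obtain ⟨N, ⟨e⟩⟩ := exists_iso_singleFunctor_obj_of_isGE_of_isLE ((TStructure.t.truncGE t).obj K) t
  let e' : (singleFunctor (ModuleCat.{u} R) t).obj N ≅
      ((singleFunctor (ModuleCat.{u} R) 0).obj N)⟦n⟧ :=
    (((singleFunctors (ModuleCat.{u} R)).shiftIso n t 0 h).app N).symm
  refine ⟨N, (TStructure.t.truncGEπ t).app K ≫ e.hom ≫ e'.hom, ?_⟩
  have := isIso_homology_map_truncGEπ' K t t le_rfl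
  rw [Functor.map_comp]
  infer_instance

section FG

variable (N : ModuleCat.{u} R)

/-- finitely generated submodules. -/
abbrev FGSub : Type u := {S : Submodule R N // S.FG}

instance : IsDirected (FGSub N) (· ≤ ·) :=
  ⟨fun a b => ⟨⟨a.1 ⊔ b.1, a.2.sup b.2⟩, le_sup_left, le_sup_right⟩⟩

instance : Nonempty (FGSub N) := ⟨⟨⊥, Submodule.fg_bot⟩⟩

/-- the quotients by finitely generated submodules. -/
abbrev QG (S : FGSub N) : Type u := N ⧸ S.1

/-- transition maps. -/
def qtr (S S' : FGSub N) (h : S ≤ S') : QG N S →ₗ[R] QG N S' :=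
  Submodule.mapQ S.1 S'.1 LinearMap.id (by simpa using h)

instance : DirectedSystem (QG N) (fun S S' h => qtr N S S' h) where
  map_self S x := by
    obtain ⟨a, rfl⟩ := Submodule.Quotient.mk_surjective _ x
    rfl
  map_map _ _ _ hij hjk x := by
    obtain ⟨a, rfl⟩ := Submodule.Quotient.mk_surjective _ x
    rfl

open Classical in
lemma subsingleton_directLimit :
    Subsingleton (Module.DirectLimit (QG N) (fun S S' h => qtr N S S' h)) := by
  refine ⟨fun z w => ?_⟩
  have key : ∀ z : Module.DirectLimit (QG N) (fun S S' h => qtr N S S' h), z = 0 := by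
    intro z
    obtain ⟨S, x, rfl⟩ := Module.DirectLimit.exists_of z
    obtain ⟨a, rfl⟩ := Submodule.Quotient.mk_surjective _ x
    let S' : FGSub N := ⟨S.1 ⊔ Submodule.span R {a}, S.2.sup (Submodule.fg_span_singleton a)⟩
    have hSS' : S ≤ S' := le_sup_left (a := S.1)
    rw [← Module.DirectLimit.of_f (hij := hSS')]
    have h0 : qtr N S S' hSS' (Submodule.Quotient.mk a) = 0 := by
      change (Submodule.Quotient.mk a : N ⧸ S'.1) = 0
      rw [Submodule.Quotient.mk_eq_zero]
      exact Submodule.mem_sup_right (Submodule.mem_span_singleton_self a)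
    rw [h0, map_zero]
  rw [key z, key w]

end FG

open Classical in
/-- Top cohomology of an `m`-pseudo-coherent object is finitely generated. -/
theorem finite_top (K : Dual.D R) (m : ℤ) (hK : DRing.IsPseudoCoherent R m K) [K.IsLE m] :
    Module.Finite R ((homologyFunctor (ModuleCat.{u} R) m).obj K) := by
  obtain ⟨N, π, hπ⟩ := exists_top_map K m (-m) (by omega)
  let F := ModuleCat.directLimitDiagram (R := R) (QG N) (fun S S' h => qtr N S S' h)
  let c := ModuleCat.directLimitCocone (R := R) (QG N) (fun S S' h => qtr N S S' h)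
  have hc : IsColimit c := ModuleCat.directLimitIsColimit (R := R) (QG N) (fun S S' h => qtr N S S' h)
  have hsub : Subsingleton c.pt := subsingleton_directLimit N
  have hzero : IsZero c.pt := ModuleCat.isZero_of_subsingleton _
  have hB := (PCFilt.main (F := F) (c := c) m K hK hc).2 (-m) le_rfl
  let j₀ : FGSub N := ⟨⊥, Submodule.fg_bot⟩
  let q₀ : N ⟶ F.obj j₀ := ModuleCat.ofHom (Submodule.mkQ _)
  obtain ⟨j', f, hf⟩ := hB j₀ (π ≫ ((singleFunctor (ModuleCat.{u} R) 0).map q₀)⟦-m⟧') (by
    have : c.ι.app j₀ = 0 := hzero.eq_of_tgt _ _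
    rw [this, Functor.map_zero, Functor.map_zero, comp_zero])
  -- the quotient map `N → N / j'` is zero
  have hq : q₀ ≫ F.map f = 0 := by
    rw [Category.assoc, ← Functor.map_comp, ← Functor.map_comp] at hf
    have h1 := congrArg (fun g => (homologyFunctor (ModuleCat.{u} R) m).map g) hf
    simp only [Functor.map_comp, Functor.map_zero] at h1
    have h2 : (homologyFunctor (ModuleCat.{u} R) m).map
        (((singleFunctor (ModuleCat.{u} R) 0).map (q₀ ≫ F.map f))⟦-m⟧') = 0 := by
      rw [← cancel_epi ((homologyFunctor (ModuleCat.{u} R) m).map π), comp_zero]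
      simpa using h1
    have h3 := topIso_naturality (R := R) m (-m) (by omega) (q₀ ≫ F.map f)
    rw [h2, zero_comp] at h3
    rw [← cancel_epi ((topIso (R := R) m (-m) (by omega)).hom.app N), ← h3, comp_zero]
  -- hence `N = j'` is finitely generated
  have hN : Module.Finite R N := by
    rw [Module.finite_def]
    have htop : j'.1 = ⊤ := by
      rw [eq_top_iff]
      intro x _
      have hx := congrArg (fun g => (ModuleCat.Hom.hom g) x) hq
      change (Submodule.Quotient.mk x : N ⧸ j'.1) = 0 at hx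
      rwa [Submodule.Quotient.mk_eq_zero] at hx
    rw [← htop]
    exact j'.2
  let e : (homologyFunctor (ModuleCat.{u} R) m).obj K ≅ N :=
    asIso ((homologyFunctor (ModuleCat.{u} R) m).map π) ≪≫
      (topIso (R := R) m (-m) (by omega)).app N
  exact Module.Finite.equiv e.toLinearEquiv.symm

lemma finitePresentation_of_retract {M N : Type u} [AddCommGroup M] [Module R M]
    [AddCommGroup N] [Module R N] [Module.FinitePresentation R M] (u : N →ₗ[R] M)
    (v : M →ₗ[R] N) (h : v ∘ₗ u = LinearMap.id) : Module.FinitePresentation R N := by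
  have hvu : ∀ x, v (u x) = x := fun x => LinearMap.congr_fun h x
  have hsurj : Function.Surjective v := fun x => ⟨u x, hvu x⟩
  refine Module.finitePresentation_of_surjective v hsurj ?_
  have hker : LinearMap.ker v = LinearMap.range (LinearMap.id - u ∘ₗ v) := by
    ext x
    simp only [LinearMap.mem_ker, LinearMap.mem_range, LinearMap.sub_apply, LinearMap.id_coe,
      id_eq, LinearMap.coe_comp, Function.comp_apply]
    constructor
    · intro hx
      exact ⟨x, by rw [hx, map_zero, sub_zero]⟩
    · rintro ⟨y, rfl⟩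
      rw [map_sub, hvu, sub_self]
  rw [hker]
  exact Submodule.fg_range _

open Classical in
/-- Cohomology in degree `m + 1` of an `m`-pseudo-coherent object which is `≤ m + 1` is finitely
presented. -/
theorem finitePresentation_top (K : Dual.D R) (m : ℤ) (hK : DRing.IsPseudoCoherent R m K)
    [K.IsLE (m + 1)] :
    Module.FinitePresentation R ((homologyFunctor (ModuleCat.{u} R) (m + 1)).obj K) := by
  obtain ⟨N, π, hπ⟩ := exists_top_map K (m + 1) (-(m + 1)) (by omega)
  let G := Groth.Agent.Lib.Helper31.FPColimit.G (R := R) (M := N)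
  let F := ModuleCat.directLimitDiagram (R := R) G
    (fun p q h => Groth.Agent.Lib.Helper31.FPColimit.tr p q h)
  let c := ModuleCat.directLimitCocone (R := R) G
    (fun p q h => Groth.Agent.Lib.Helper31.FPColimit.tr p q h)
  have hc : IsColimit c := ModuleCat.directLimitIsColimit (R := R) G
    (fun p q h => Groth.Agent.Lib.Helper31.FPColimit.tr p q h)
  let e : c.pt ≅ N := (LinearEquiv.ofBijective (Groth.Agent.Lib.Helper31.FPColimit.Φ (R := R) (M := N))
    Groth.Agent.Lib.Helper31.FPColimit.Φ_bijective).toModuleIso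
  have hA := (PCFilt.main (F := F) (c := c) m K hK hc).1 (-(m + 1)) (by omega)
  obtain ⟨j, y, hy⟩ := hA (π ≫ ((singleFunctor (ModuleCat.{u} R) 0).map e.inv)⟦-(m + 1)⟧')
  let θ := topIso (R := R) (m + 1) (-(m + 1)) (by omega)
  let Hm := homologyFunctor (ModuleCat.{u} R) (m + 1)
  let u : Hm.obj K ⟶ F.obj j := Hm.map y ≫ θ.hom.app (F.obj j)
  let v : F.obj j ⟶ Hm.obj K := c.ι.app j ≫ e.hom ≫ θ.inv.app N ≫ inv (Hm.map π)
  have huv : u ≫ v = 𝟙 _ := by
    have h1 : θ.hom.app (F.obj j) ≫ c.ι.app j =
        Hm.map (((singleFunctor (ModuleCat.{u} R) 0).map (c.ι.app j))⟦-(m + 1)⟧') ≫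
          θ.hom.app c.pt :=
      (topIso_naturality (R := R) (m + 1) (-(m + 1)) (by omega) (c.ι.app j)).symm
    have h2 : Hm.map (((singleFunctor (ModuleCat.{u} R) 0).map e.inv)⟦-(m + 1)⟧') ≫
        θ.hom.app c.pt = θ.hom.app N ≫ e.inv :=
      topIso_naturality (R := R) (m + 1) (-(m + 1)) (by omega) e.inv
    have h3 : Hm.map y ≫
        Hm.map (((singleFunctor (ModuleCat.{u} R) 0).map (c.ι.app j))⟦-(m + 1)⟧') =
        Hm.map π ≫ Hm.map (((singleFunctor (ModuleCat.{u} R) 0).map e.inv)⟦-(m + 1)⟧') := by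
      rw [← Functor.map_comp, ← Functor.map_comp]
      exact congrArg (fun g => Hm.map g) hy
    calc u ≫ v = Hm.map y ≫ (θ.hom.app (F.obj j) ≫ c.ι.app j) ≫ e.hom ≫ θ.inv.app N ≫
          inv (Hm.map π) := by simp only [u, v, Category.assoc]
      _ = (Hm.map y ≫ Hm.map (((singleFunctor (ModuleCat.{u} R) 0).map
            (c.ι.app j))⟦-(m + 1)⟧')) ≫ θ.hom.app c.pt ≫ e.hom ≫ θ.inv.app N ≫
          inv (Hm.map π) := by rw [h1]; simp only [Category.assoc]
      _ = Hm.map π ≫ (Hm.map (((singleFunctor (ModuleCat.{u} R) 0).map e.inv)⟦-(m + 1)⟧') ≫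
            θ.hom.app c.pt) ≫ e.hom ≫ θ.inv.app N ≫ inv (Hm.map π) := by
          rw [h3]; simp only [Category.assoc]
      _ = 𝟙 _ := by
          rw [h2]
          simp
  have : Module.FinitePresentation R (F.obj j) :=
    inferInstanceAs (Module.FinitePresentation R (G j))
  refine finitePresentation_of_retract (R := R) u.hom v.hom ?_
  have := congrArg ModuleCat.Hom.hom huv
  simpa using this

end MPC
end Groth.Agent.Lib.Helper6
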