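import Mathlib
import Groth.Prelude.Def_DRing2
import Groth.Agent.Lib.Helper6.MPC2

/-! `m`-pseudo-coherence for modules in low degrees (helper6). -/

set_option autoImplicit false
universe u

open CategoryTheory Limits Pretriangulated DerivedCategory ZeroObject

namespace Groth.Agent.Lib.Helper6
namespace MPC

attribute [local instance] HasDerivedCategory.standard

variable {R : Type u} [CommRing R]

lemma cond_zero_single_map {N M : ModuleCat.{u} R} (f : N ⟶ M) (hf : Function.Surjective f) :
    Cond 0 ((singleFunctor (ModuleCat.{u} R) 0).map f) := by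
  constructor
  · intro i hi
    have hN : IsZero ((homologyFunctor (ModuleCat.{u} R) i).obj
        ((singleFunctor (ModuleCat.{u} R) 0).obj N)) :=
      DerivedCategory.isZero_of_isLE _ 0 i hi
    have hM : IsZero ((homologyFunctor (ModuleCat.{u} R) i).obj
        ((singleFunctor (ModuleCat.{u} R) 0).obj M)) :=
      DerivedCategory.isZero_of_isLE _ 0 i hi
    exact ⟨⟨0, hN.eq_of_src _ _, hM.eq_of_src _ _⟩⟩
  · have hepi : Epi f := (ModuleCat.epi_iff_surjective f).2 hf
    let e := singleFunctorCompHomologyFunctorIso (ModuleCat.{u} R) 0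
    have h1 : (homologyFunctor (ModuleCat.{u} R) 0).map ((singleFunctor (ModuleCat.{u} R) 0).map f) =
        e.hom.app N ≫ f ≫ e.inv.app M := by
      have := e.hom.naturality f
      simp only [Functor.comp_map, Functor.id_map] at this
      rw [← Category.assoc, ← this, Category.assoc, Iso.hom_inv_id_app, Category.comp_id]
    rw [h1]
    infer_instance

theorem isPC_zero_single_of_finite (M : ModuleCat.{u} R) [Module.Finite R M] :
    DRing.IsPseudoCoherent R 0 ((singleFunctor (ModuleCat.{u} R) 0).obj M) := by
  obtain ⟨n, f, hf⟩ := Module.Finite.exists_fin' R M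
  let F : ModuleCat.{u} R := ModuleCat.of R (Fin n → R)
  have h1 : DRing.IsPseudoCoherent R 0 ((singleFunctor (ModuleCat.{u} R) 0).obj F) :=
    isPC_of_FF (FF_single F) 0
  exact isPC_of_cond (cond_zero_single_map (ModuleCat.ofHom f) hf) h1

theorem isPC_neg_one_single_of_fp (M : ModuleCat.{u} R) [Module.FinitePresentation R M] :
    DRing.IsPseudoCoherent R (-1) ((singleFunctor (ModuleCat.{u} R) 0).obj M) := by
  obtain ⟨n, f, hf⟩ := Module.Finite.exists_fin' R M
  have hker : (LinearMap.ker f).FG := Module.FinitePresentation.fg_ker f hf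
  have : Module.Finite R (LinearMap.ker f) := Module.Finite.iff_fg.2 hker
  have hS := LinearMap.shortExact_shortComplexKer hf
  have hT := hS.singleTriangle_distinguished
  have h1 : DRing.IsPseudoCoherent R (-1 + 1)
      ((singleFunctor (ModuleCat.{u} R) 0).obj (ModuleCat.of R (LinearMap.ker f))) := by
    have := isPC_zero_single_of_finite (ModuleCat.of R (LinearMap.ker f))
    simpa using this
  have h2 : DRing.IsPseudoCoherent R (-1)
      ((singleFunctor (ModuleCat.{u} R) 0).obj (ModuleCat.of R (Fin n → R))) :=
    isPC_of_FF (FF_single (ModuleCat.of R (Fin n → R))) (-1)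
  exact (isPC_triangle _ hT (-1)).1 h1 h2

theorem isPC_single_of_pos (M : ModuleCat.{u} R) (m : ℤ) (hm : 0 < m) :
    DRing.IsPseudoCoherent R m ((singleFunctor (ModuleCat.{u} R) 0).obj M) := by
  have : ((singleFunctor (ModuleCat.{u} R) 0).obj M).IsLE (m - 1) :=
    TStructure.t.isLE_of_le _ 0 (m - 1) (by omega)
  exact isPC_of_isLE m _

theorem finite_of_isPC_zero_single (M : ModuleCat.{u} R)
    (h : DRing.IsPseudoCoherent R 0 ((singleFunctor (ModuleCat.{u} R) 0).obj M)) :
    Module.Finite R M := by
  have : Module.Finite R ((singleFunctor (ModuleCat.{u} R) 0 ⋙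
      homologyFunctor (ModuleCat.{u} R) 0).obj M) := finite_top _ 0 h
  exact Module.Finite.equiv
    ((singleFunctorCompHomologyFunctorIso (ModuleCat.{u} R) 0).app M).toLinearEquiv

theorem finitePresentation_top' (K : Dual.D R) (m t : ℤ) (ht : m + 1 = t)
    (hK : DRing.IsPseudoCoherent R m K) [K.IsLE t] :
    Module.FinitePresentation R ((homologyFunctor (ModuleCat.{u} R) t).obj K) := by
  subst ht
  exact finitePresentation_top K m hK

theorem fp_of_isPC_neg_one_single (M : ModuleCat.{u} R)
    (h : DRing.IsPseudoCoherent R (-1) ((singleFunctor (ModuleCat.{u} R) 0).obj M)) :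
    Module.FinitePresentation R M := by
  have : Module.FinitePresentation R ((singleFunctor (ModuleCat.{u} R) 0 ⋙
      homologyFunctor (ModuleCat.{u} R) 0).obj M) :=
    finitePresentation_top' _ (-1) 0 (by norm_num) h
  exact Module.FinitePresentation.of_equiv
    ((singleFunctorCompHomologyFunctorIso (ModuleCat.{u} R) 0).app M).toLinearEquiv

end MPC
end Groth.Agent.Lib.Helper6
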