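import Mathlib
import Groth.Prelude.Def_DRing2
import Groth.Agent.Lib.Helper6.MPC3

/-! `m`-pseudo-coherence from the terms / the cohomology of a bounded above complex (helper6). -/

set_option autoImplicit false
universe u

open CategoryTheory Limits Pretriangulated DerivedCategory ZeroObject CochainComplex
  HomologicalComplex

namespace Groth.Agent.Lib.Helper6
namespace MPC

attribute [local instance] HasDerivedCategory.standard

variable {R : Type u} [CommRing R]

open Groth.Agent.Lib.Helper35.KL

theorem isPC_of_isZero {K : Dual.D R} (hK : IsZero K) (m : ℤ) : DRing.IsPseudoCoherent R m K := by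
  have : K.IsLE (m - 1) := TStructure.t.isLE_of_isZero hK _
  exact isPC_of_isLE m K

/-- `m`-pseudo-coherence of a module placed in degree `b`. -/
theorem isPC_single_degree (X : ModuleCat.{u} R) (b m : ℤ)
    (h : DRing.IsPseudoCoherent R (m - b) ((DerivedCategory.singleFunctor (ModuleCat.{u} R) 0).obj X)) :
    DRing.IsPseudoCoherent R m ((DerivedCategory.singleFunctor (ModuleCat.{u} R) b).obj X) :=
  isPC_of_iso (((DerivedCategory.singleFunctors (ModuleCat.{u} R)).shiftIso (-b) b 0 (by omega)).app X)
    (isPC_shift h (-b) m (by omega))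

theorem isPC_of_termwise_aux (n : ℕ) :
    ∀ (K : DRing.Cx R) (b m : ℤ), b - m + 1 ≤ n → DRing.VanishesAbove K b →
      (∀ i : ℤ, DRing.IsPseudoCoherent R (m - i)
        ((DerivedCategory.singleFunctor (ModuleCat.{u} R) 0).obj (K.X i))) →
      DRing.IsPseudoCoherent R m (Q.obj K) := by
  induction n with
  | zero =>
    intro K b m hbm hK _
    have h1 : K.IsStrictlyLE (m - 1) := by
      rw [isStrictlyLE_iff]
      intro i hi
      exact hK i (by omega)
    have : (Q.obj K).IsLE (m - 1) := inferInstance
    exact isPC_of_isLE m _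
  | succ n ih =>
    intro K b m hbm hK hP
    let ι : (HomologicalComplex.single (ModuleCat.{u} R) (ComplexShape.up ℤ) b).obj (K.X b) ⟶ K :=
      mkHomFromSingle (𝟙 (K.X b)) (fun k hk => by
        have hk' : b + 1 = k := hk
        exact (hK k (by omega)).eq_of_tgt _ _)
    have hιb : ι.f b = (singleObjXSelf (ComplexShape.up ℤ) b (K.X b)).hom ≫ 𝟙 (K.X b) :=
      mkHomFromSingle_f _ _
    have hιiso : IsIso (ι.f b) := by
      rw [hιb]
      infer_instance
    have hmono : Mono ι := mono_of_mono_f ι (fun i => by
      by_cases hi : i = b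
      · subst hi
        infer_instance
      · exact (isZero_single_obj_X (ComplexShape.up ℤ) b (K.X b) i hi).mono _)
    let S : ShortComplex (DRing.Cx R) := ShortComplex.mk ι (cokernel.π ι) (cokernel.condition ι)
    have hS : S.ShortExact := { exact := ShortComplex.exact_cokernel ι }
    have hSi := (shortExact_iff_degreewise_shortExact S).mp hS
    have hCb : IsZero ((cokernel ι).X b) := ((hSi b).isIso_f_iff).mp hιiso
    have hCi : ∀ i : ℤ, i ≠ b → IsIso ((cokernel.π ι).f i) := fun i hi =>
      ((hSi i).isIso_g_iff).mpr (isZero_single_obj_X (ComplexShape.up ℤ) b (K.X b) i hi)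
    have hC : DRing.VanishesAbove (cokernel ι) (b - 1) := by
      intro i hi
      by_cases hib : i = b
      · subst hib
        exact hCb
      · have := hCi i hib
        exact (hK i (by omega)).of_iso (asIso ((cokernel.π ι).f i)).symm
    have hPC : ∀ i : ℤ, DRing.IsPseudoCoherent R (m - i)
        ((DerivedCategory.singleFunctor (ModuleCat.{u} R) 0).obj ((cokernel ι).X i)) := by
      intro i
      by_cases hib : i = b
      · subst hib
        exact isPC_of_isZero ((DerivedCategory.singleFunctor (ModuleCat.{u} R) 0).map_isZero hCb) _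
      · have := hCi i hib
        exact isPC_of_iso ((DerivedCategory.singleFunctor (ModuleCat.{u} R) 0).mapIso
          (asIso ((cokernel.π ι).f i))) (hP i)
    have h3 : DRing.IsPseudoCoherent R m (Q.obj (cokernel ι)) :=
      ih _ (b - 1) m (by omega) hC hPC
    have h1 : DRing.IsPseudoCoherent R m
        (Q.obj ((HomologicalComplex.single (ModuleCat.{u} R) (ComplexShape.up ℤ) b).obj (K.X b))) :=
      isPC_of_iso ((DerivedCategory.singleFunctorIsoCompQ (ModuleCat.{u} R) b).app (K.X b))
        (isPC_single_degree (K.X b) b m (hP b))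
    exact (isPC_triangle _ (triangleOfSES_distinguished hS) m).2.1 h1 h3

/-- A bounded above complex whose terms `K^i` are `(m - i)`-pseudo-coherent is
`m`-pseudo-coherent. -/
theorem isPC_of_termwise (K : DRing.Cx R) (b m : ℤ) (hK : DRing.VanishesAbove K b)
    (hP : ∀ i : ℤ, DRing.IsPseudoCoherent R (m - i)
      ((DerivedCategory.singleFunctor (ModuleCat.{u} R) 0).obj (K.X i))) :
    DRing.IsPseudoCoherent R m (Q.obj K) :=
  isPC_of_termwise_aux (b - m + 1).toNat K b m (by omega) hK hP

/-- Pseudo-coherent objects are `m`-pseudo-coherent for all `m`. -/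
theorem isPC_of_isPC' {K : Dual.D R} (h : DRing.IsPseudoCoherent' R K) (m : ℤ) :
    DRing.IsPseudoCoherent R m K := by
  obtain ⟨E, b, hb, hE, ⟨e⟩⟩ := h
  refine isPC_of_iso e (isPC_of_termwise E b m hb (fun i => ?_))
  have := (hE i).1
  have := (hE i).2
  exact isPC_of_FF (FF_single (E.X i)) (m - i)

theorem isPC_of_homology_aux (n : ℕ) :
    ∀ (K : Dual.D R) (b m : ℤ), b - m + 1 ≤ n → K.IsLE b →
      (∀ i : ℤ, DRing.IsPseudoCoherent R (m - i) ((DerivedCategory.singleFunctor (ModuleCat.{u} R) 0).obj
        ((homologyFunctor (ModuleCat.{u} R) i).obj K))) →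
      DRing.IsPseudoCoherent R m K := by
  induction n with
  | zero =>
    intro K b m hbm hL _
    have : K.IsLE (m - 1) := TStructure.t.isLE_of_le K b (m - 1) (by omega)
    exact isPC_of_isLE m K
  | succ n ih =>
    intro K b m hbm hL hK
    have hT := TStructure.t.triangleLTGE_distinguished b K
    have hZG : TStructure.t.IsGE ((TStructure.t.truncGE b).obj K) b := inferInstance
    have hZL : TStructure.t.IsLE ((TStructure.t.truncGE b).obj K) b := inferInstance
    obtain ⟨H, ⟨e0⟩⟩ := exists_iso_singleFunctor_obj_of_isGE_of_isLE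
      ((TStructure.t.truncGE b).obj K) b
    have hiso0 := isIso_homology_map_truncGEπ' K b b le_rfl
    let i0 : (homologyFunctor (ModuleCat.{u} R) b).obj K ≅ H :=
      asIso ((homologyFunctor (ModuleCat.{u} R) b).map ((TStructure.t.truncGEπ b).app K)) ≪≫
        (homologyFunctor (ModuleCat.{u} R) b).mapIso e0 ≪≫
        (DerivedCategory.singleFunctorCompHomologyFunctorIso (ModuleCat.{u} R) b).app H
    have h3 : DRing.IsPseudoCoherent R m ((TStructure.t.truncGE b).obj K) :=
      isPC_of_iso e0.symm (isPC_single_degree H b m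
        (isPC_of_iso ((DerivedCategory.singleFunctor (ModuleCat.{u} R) 0).mapIso i0) (hK b)))
    have hXL : TStructure.t.IsLE ((TStructure.t.truncLT b).obj K) (b - 1) :=
      TStructure.t.isLE_truncLT_obj K b (b - 1)
    have h1 : DRing.IsPseudoCoherent R m ((TStructure.t.truncLT b).obj K) := by
      refine ih _ (b - 1) m (by omega) hXL (fun i => ?_)
      by_cases hi : i < b
      · have := isIso_homology_map_truncLTι' K b i hi
        exact isPC_of_iso ((DerivedCategory.singleFunctor (ModuleCat.{u} R) 0).mapIso
          (asIso ((homologyFunctor (ModuleCat.{u} R) i).map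
            ((TStructure.t.truncLTι b).app K))).symm) (hK i)
      · exact isPC_of_isZero ((DerivedCategory.singleFunctor (ModuleCat.{u} R) 0).map_isZero
          (isZero_of_isLE ((TStructure.t.truncLT b).obj K) (b - 1) i (by omega))) _
    exact (isPC_triangle _ hT m).2.1 h1 h3

/-- A bounded above object whose cohomology modules `H^i` are `(m - i)`-pseudo-coherent is
`m`-pseudo-coherent. -/
theorem isPC_of_homology (K : Dual.D R) (b m : ℤ) [K.IsLE b]
    (hK : ∀ i : ℤ, DRing.IsPseudoCoherent R (m - i) ((DerivedCategory.singleFunctor (ModuleCat.{u} R) 0).obj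
        ((homologyFunctor (ModuleCat.{u} R) i).obj K))) :
    DRing.IsPseudoCoherent R m K :=
  isPC_of_homology_aux (b - m + 1).toNat K b m (by omega) inferInstance hK

end MPC
end Groth.Agent.Lib.Helper6
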