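import Mathlib
import Groth.Prelude.Def_DRing2
import Groth.Agent.Lib.Helper6.MPC4
import Groth.Agent.Lib.Helper6.HtpyExt

/-! One step of the construction of bounded above resolutions (helper6). -/

set_option autoImplicit false
universe w' v' u' u

open CategoryTheory Limits Pretriangulated DerivedCategory ZeroObject CochainComplex

namespace Groth.Agent.Lib.Helper6
namespace Resol

attribute [local instance] HasDerivedCategory.standard

variable {R : Type u} [CommRing R]

open Groth.Agent.Lib.Helper35.KL MPC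

/-- In a morphism of distinguished triangles, the middle map inherits `Cond m` from the outer
ones. -/
lemma Cond.hom₂ {T T' : Triangle (Dual.D R)} (hT : T ∈ distTriang _) (hT' : T' ∈ distTriang _)
    (Φ : T ⟶ T') (m : ℤ) (h₁ : Cond m Φ.hom₁) (h₃ : Cond m Φ.hom₃) : Cond m Φ.hom₂ :=
  MPC.Cond.hom₃ (inv_rot_of_distTriang _ hT) (inv_rot_of_distTriang _ hT')
    ((invRotate (Dual.D R)).map Φ) m (h₃.shift (-1) (m + 1) (by omega)) h₁

section General

variable {C : Type u'} [Category.{v'} C] [Abelian C] [HasDerivedCategory.{w'} C]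

theorem nonempty_homotopy_of_Q_map_eq {E₁ E₂ : CochainComplex C ℤ} [E₁.IsKProjective]
    (f g : E₁ ⟶ E₂) (h : (Q.map f : Q.obj E₁ ⟶ Q.obj E₂) = Q.map g) : Nonempty (Homotopy f g) := by
  have h1 := quotientCompQhIso_hom_naturality f
  have h2 := quotientCompQhIso_hom_naturality g
  rw [h] at h1
  have h3 : Qh.map ((HomotopyCategory.quotient C (ComplexShape.up ℤ)).map f) =
      Qh.map ((HomotopyCategory.quotient C (ComplexShape.up ℤ)).map g) := by
    rw [← cancel_mono ((quotientCompQhIso C).hom.app E₂)]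
    exact h1.trans h2.symm
  have h4 := (IsKProjective.Qh_map_bijective E₁
    ((HomotopyCategory.quotient C (ComplexShape.up ℤ)).obj E₂)).1 h3
  exact ⟨HomotopyCategory.homotopyOfEq _ _ h4⟩

theorem Q_map_eq_of_homotopy {E₁ E₂ : CochainComplex C ℤ} (f g : E₁ ⟶ E₂) (h : Homotopy f g) :
    (Q.map f : Q.obj E₁ ⟶ Q.obj E₂) = Q.map g := by
  have h1 := quotientCompQhIso_hom_naturality f
  have h2 := quotientCompQhIso_hom_naturality g
  rw [HomotopyCategory.eq_of_homotopy f g h] at h1
  rw [← cancel_epi ((quotientCompQhIso C).hom.app E₁)]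
  exact h1.symm.trans h2

end General

/-- A projective cover of the top cohomology lifts to a map from the module placed in the top
degree, and the cone of this map is one degree lower. -/
theorem exists_cond_map_of_epi (C : Dual.D R) (t : ℤ) [C.IsLE t] (F : ModuleCat.{u} R)
    [Projective F] (f : F ⟶ (homologyFunctor (ModuleCat.{u} R) t).obj C) [Epi f] :
    ∃ ψ : (DerivedCategory.singleFunctor (ModuleCat.{u} R) t).obj F ⟶ C, Cond t ψ := by
  have hT := TStructure.t.triangleLTGE_distinguished t C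
  have hZG : TStructure.t.IsGE ((TStructure.t.truncGE t).obj C) t := inferInstance
  have hZL : TStructure.t.IsLE ((TStructure.t.truncGE t).obj C) t := inferInstance
  obtain ⟨H, ⟨e0⟩⟩ := exists_iso_singleFunctor_obj_of_isGE_of_isLE
    ((TStructure.t.truncGE t).obj C) t
  have hiso0 := isIso_homology_map_truncGEπ' C t t le_rfl
  let i0 : (homologyFunctor (ModuleCat.{u} R) t).obj C ≅ H :=
    asIso ((homologyFunctor (ModuleCat.{u} R) t).map ((TStructure.t.truncGEπ t).app C)) ≪≫
      (homologyFunctor (ModuleCat.{u} R) t).mapIso e0 ≪≫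
      (DerivedCategory.singleFunctorCompHomologyFunctorIso (ModuleCat.{u} R) t).app H
  let S := (DerivedCategory.singleFunctor (ModuleCat.{u} R) t).obj F
  have h1 : TStructure.t.IsLE ((TStructure.t.triangleLTGE t).obj C).obj₁ (t - 1) :=
    TStructure.t.isLE_truncLT_obj C t (t - 1)
  have h2 : TStructure.t.IsLE (((TStructure.t.triangleLTGE t).obj C).obj₁⟦(1 : ℤ)⟧) (t - 2) :=
    TStructure.t.isLE_shift _ (t - 1) 1 (t - 2)
  have hbij := postcomp_mor₂_bijective _ hT S
    (fun φ => hom_single_projective_eq_zero _ (t - 1) t (by omega) φ)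
    (fun φ => hom_single_projective_eq_zero _ (t - 2) t (by omega) φ)
  let ψ₀ : S ⟶ (TStructure.t.truncGE t).obj C :=
    (DerivedCategory.singleFunctor (ModuleCat.{u} R) t).map (f ≫ i0.hom) ≫ e0.inv
  obtain ⟨ψ, hψ⟩ : ∃ ψ : S ⟶ C, ψ ≫ (TStructure.t.truncGEπ t).app C = ψ₀ := hbij.2 ψ₀
  refine ⟨ψ, fun i hi => ?_, ?_⟩
  · have hS : IsZero ((homologyFunctor (ModuleCat.{u} R) i).obj S) :=
      DerivedCategory.isZero_of_isLE S t i hi
    have hC : IsZero ((homologyFunctor (ModuleCat.{u} R) i).obj C) :=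
      DerivedCategory.isZero_of_isLE C t i hi
    exact ⟨⟨0, hS.eq_of_src _ _, hC.eq_of_src _ _⟩⟩
  · have hepi0 : Epi ((homologyFunctor (ModuleCat.{u} R) t).map ψ₀) := by
      let e := DerivedCategory.singleFunctorCompHomologyFunctorIso (ModuleCat.{u} R) t
      have h3 : (homologyFunctor (ModuleCat.{u} R) t).map
          ((DerivedCategory.singleFunctor (ModuleCat.{u} R) t).map (f ≫ i0.hom)) =
          e.hom.app F ≫ (f ≫ i0.hom) ≫ e.inv.app H := by
        have := e.hom.naturality (f ≫ i0.hom)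
        simp only [Functor.comp_map, Functor.id_map] at this
        rw [← Category.assoc, ← this, Category.assoc, Iso.hom_inv_id_app, Category.comp_id]
      dsimp only [ψ₀]
      rw [Functor.map_comp, h3]
      infer_instance
    have h4 : (homologyFunctor (ModuleCat.{u} R) t).map ψ =
        (homologyFunctor (ModuleCat.{u} R) t).map ψ₀ ≫
          inv ((homologyFunctor (ModuleCat.{u} R) t).map ((TStructure.t.truncGEπ t).app C)) := by
      rw [← hψ, Functor.map_comp]
      simp
    rw [h4]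
    infer_instance

/-- One step of the construction: add a projective module in degree `t`. -/
theorem step (K₀ E : DRing.Cx R) (a : E ⟶ K₀) (t b : ℤ)
    (hv : ∀ i : ℤ, (i ≤ t ∨ b < i) → IsZero (E.X i))
    (hproj : ∀ i : ℤ, Module.Projective R (E.X i))
    (F : ModuleCat.{u} R) [Module.Projective R F]
    (C : Dual.D R) (p : Q.obj K₀ ⟶ C) (q : C ⟶ (Q.obj E)⟦(1 : ℤ)⟧)
    (hT : Triangle.mk (Q.map a) p q ∈ distTriang _) [C.IsLE t]
    (f : F ⟶ (homologyFunctor (ModuleCat.{u} R) t).obj C) [Epi f] :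
    ∃ (φ : (HomologicalComplex.single (ModuleCat.{u} R) (ComplexShape.up ℤ) (t + 1)).obj F ⟶ E)
      (a' : mappingCone φ ⟶ K₀), mappingCone.inr φ ≫ a' = a ∧ Cond t (Q.map a') := by
  have hF : Projective F := (IsProjective.iff_projective (R := R) (P := F)).mp inferInstance
  obtain ⟨ψ, hψ⟩ := exists_cond_map_of_epi C t F f
  let G : DRing.Cx R :=
    (HomologicalComplex.single (ModuleCat.{u} R) (ComplexShape.up ℤ) (t + 1)).obj F
  let eZ : (Q.obj G)⟦(1 : ℤ)⟧ ≅ (DerivedCategory.singleFunctor (ModuleCat.{u} R) t).obj F :=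
    (CategoryTheory.shiftFunctor (Dual.D R) (1 : ℤ)).mapIso
        ((DerivedCategory.singleFunctorIsoCompQ (ModuleCat.{u} R) (t + 1)).app F).symm ≪≫
      ((DerivedCategory.singleFunctors (ModuleCat.{u} R)).shiftIso 1 t (t + 1) (by omega)).app F
  let ψ' : (Q.obj G)⟦(1 : ℤ)⟧ ⟶ C := eZ.hom ≫ ψ
  have hψ' : Cond t ψ' := (cond_of_isIso t eZ.hom).comp hψ
  obtain ⟨g, hg⟩ : ∃ g : Q.obj G ⟶ Q.obj E, g⟦(1 : ℤ)⟧' = -(ψ' ≫ q) :=
    ⟨(CategoryTheory.shiftFunctor (Dual.D R) (1 : ℤ)).preimage (-(ψ' ≫ q)), Functor.map_preimage _ _⟩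
  have hGK : G.IsKProjective := isKProjective_of_vanishesAbove G (t + 1)
    (fun i hi => HomologicalComplex.isZero_single_obj_X _ _ _ _ (by omega)) (fun i => by
      by_cases hi : i = t + 1
      · subst hi
        exact Module.Projective.of_equiv
          (HomologicalComplex.singleObjXSelf (ComplexShape.up ℤ) (t + 1) F).toLinearEquiv.symm
      · have hz : IsZero (G.X i) := HomologicalComplex.isZero_single_obj_X _ _ _ _ hi
        have := ModuleCat.subsingleton_of_isZero hz
        infer_instance)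
  obtain ⟨φ, hφ⟩ := exists_Q_map_eq_of_isKProjective G E g
  have hT₁ : (Q.mapTriangle.obj (mappingCone.triangle φ)).rotate ∈ distTriang _ :=
    rot_of_distTriang _ (mappingCone_triangle_distinguished φ)
  have comm : (Q.mapTriangle.obj (mappingCone.triangle φ)).rotate.mor₃ ≫
      (𝟙 (Q.obj E))⟦(1 : ℤ)⟧' = ψ' ≫ (Triangle.mk (Q.map a) p q).mor₃ := by
    change (-((Q.map φ)⟦(1 : ℤ)⟧')) ≫ (𝟙 (Q.obj E))⟦(1 : ℤ)⟧' = ψ' ≫ q
    rw [CategoryTheory.Functor.map_id, Category.comp_id, hφ, hg, neg_neg]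
  obtain ⟨α', hα'₁, hα'₂⟩ := complete_distinguished_triangle_morphism₂ _ _ hT₁ hT
    (𝟙 (Q.obj E)) ψ' comm
  let Φ : (Q.mapTriangle.obj (mappingCone.triangle φ)).rotate ⟶ Triangle.mk (Q.map a) p q :=
    Triangle.homMk _ _ (𝟙 (Q.obj E)) α' ψ' hα'₁ hα'₂ comm
  have hα' : Cond t α' := Cond.hom₂ hT₁ hT Φ t (cond_of_isIso t (𝟙 (Q.obj E))) hψ'
  have hEK : E.IsKProjective := isKProjective_of_vanishesAbove E b
    (fun i hi => hv i (Or.inr hi)) hproj
  have hE'K : (mappingCone φ).IsKProjective := by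
    refine isKProjective_of_vanishesAbove _ (max b t) (fun i hi => ?_) (fun i => ?_)
    · rw [mappingCone.isZero_X_iff]
      exact ⟨HomologicalComplex.isZero_single_obj_X _ _ _ _ (by omega), hv i (Or.inr (by omega))⟩
    · have h1 : Module.Projective R (G.X (i + 1)) := by
        by_cases hi : i + 1 = t + 1
        · rw [hi]
          exact Module.Projective.of_equiv
            (HomologicalComplex.singleObjXSelf (ComplexShape.up ℤ) (t + 1) F).toLinearEquiv.symm
        · have hz : IsZero (G.X (i + 1)) := HomologicalComplex.isZero_single_obj_X _ _ _ _ hi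
          have := ModuleCat.subsingleton_of_isZero hz
          infer_instance
      have h2 := hproj i
      exact Module.Projective.of_equiv (mappingConeXLinearEquiv φ i).symm
  obtain ⟨a₀, ha₀⟩ := exists_Q_map_eq_of_isKProjective (mappingCone φ) K₀ α'
  have hQ : (Q.map (mappingCone.inr φ ≫ a₀) : Q.obj E ⟶ Q.obj K₀) = Q.map a := by
    rw [Functor.map_comp, ha₀]
    exact hα'₁.trans (Category.id_comp _)
  obtain ⟨h⟩ := nonempty_homotopy_of_Q_map_eq (mappingCone.inr φ ≫ a₀) a hQ
  obtain ⟨a', ha', ⟨h'⟩⟩ := HtpyExt.exists_strict_extension φ a a₀ h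
  refine ⟨φ, a', ha', ?_⟩
  rw [Q_map_eq_of_homotopy a' a₀ h', ha₀]
  exact hα'

end Resol
end Groth.Agent.Lib.Helper6
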