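import Mathlib

/-! Sequential colimits of degreewise eventually constant systems of complexes (helper6). -/

set_option autoImplicit false

open CategoryTheory Category Limits

namespace Groth.Agent.Lib.Helper6
namespace SeqColim

section Nat

variable {C : Type*} [Category C] (G : ℕ ⥤ C)

lemma isEventuallyConstantFrom_of_isIso_succ (N : ℕ)
    (h : ∀ n : ℕ, N ≤ n → IsIso (G.map (homOfLE (Nat.le_add_right n 1)))) :
    G.IsEventuallyConstantFrom N := by
  intro j φ
  obtain ⟨k, rfl⟩ := Nat.exists_eq_add_of_le (leOfHom φ)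
  obtain rfl := Subsingleton.elim φ (homOfLE (by omega))
  induction k with
  | zero =>
    have : homOfLE (show N ≤ N + 0 by omega) = 𝟙 N := Subsingleton.elim _ _
    rw [this, G.map_id]
    infer_instance
  | succ k ih =>
    have h1 := ih
    have h2 := h (N + k) (by omega)
    have : homOfLE (show N ≤ N + (k + 1) by omega) =
        homOfLE (show N ≤ N + k by omega) ≫ homOfLE (Nat.le_add_right (N + k) 1) :=
      Subsingleton.elim _ _
    rw [this, G.map_comp]
    infer_instance

end Nat

section Complexes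

variable {C J ι : Type*} [Category C] [Category J] {c : ComplexShape ι} [IsFiltered J]
  [HasZeroMorphisms C] (F : J ⥤ HomologicalComplex C c)
  [∀ (j : ι), HasColimit (F ⋙ HomologicalComplex.eval C c j)]
  {cF : Cocone F} (hcF : IsColimit cF)

include hcF

lemma isIso_ι_f_of_isColimit_of_isEventuallyConstantFrom
    (q : ι) (j : J) (hq : (F ⋙ HomologicalComplex.eval C c q).IsEventuallyConstantFrom j) :
    IsIso ((cF.ι.app j).f q) :=
  hq.isIso_ι_of_isColimit (isColimitOfPreserves (HomologicalComplex.eval C c q) hcF)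

lemma quasiIsoAt_ι_of_isColimit_of_isEventuallyConstantFrom
    [CategoryWithHomology C] (q₀ q₁ q₂ : ι)
    (h₀ : c.prev q₁ = q₀) (h₂ : c.next q₁ = q₂) (j : J)
    (hq₀ : (F ⋙ HomologicalComplex.eval C c q₀).IsEventuallyConstantFrom j)
    (hq₁ : (F ⋙ HomologicalComplex.eval C c q₁).IsEventuallyConstantFrom j)
    (hq₂ : (F ⋙ HomologicalComplex.eval C c q₂).IsEventuallyConstantFrom j) :
    QuasiIsoAt (cF.ι.app j) q₁ := by
  rw [quasiIsoAt_iff' _ q₀ q₁ q₂ h₀ h₂]
  let φ := (HomologicalComplex.shortComplexFunctor' C c q₀ q₁ q₂).map (cF.ι.app j)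
  have : IsIso φ.τ₁ := isIso_ι_f_of_isColimit_of_isEventuallyConstantFrom F hcF _ _ hq₀
  have : IsIso φ.τ₂ := isIso_ι_f_of_isColimit_of_isEventuallyConstantFrom F hcF _ _ hq₁
  have : IsIso φ.τ₃ := isIso_ι_f_of_isColimit_of_isEventuallyConstantFrom F hcF _ _ hq₂
  apply ShortComplex.quasiIso_of_epi_of_isIso_of_mono

end Complexes

end SeqColim
end Groth.Agent.Lib.Helper6
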