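import Mathlib
import Groth.Prelude.Def_DRing2
import Groth.Agent.Lib.Helper6.Resol1
import Groth.Agent.Lib.Helper6.SeqColim

/-! Construction of bounded above resolutions with terms in a class of projective modules
(helper6). -/

set_option autoImplicit false
universe u

open CategoryTheory Limits Pretriangulated DerivedCategory ZeroObject CochainComplex

namespace Groth.Agent.Lib.Helper6
namespace Resol

attribute [local instance] HasDerivedCategory.standard

variable {R : Type u} [CommRing R]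

open Groth.Agent.Lib.Helper35.KL MPC

/-- Hypotheses on the class of modules allowed as terms. -/
structure ClassHyp (Pc : ModuleCat.{u} R → Prop) : Prop where
  proj : ∀ M, Pc M → Module.Projective R M
  zero : ∀ M, IsZero M → Pc M
  iso : ∀ {M N : ModuleCat.{u} R}, (M ≅ N) → Pc M → Pc N
  prod : ∀ M N : ModuleCat.{u} R, Pc M → Pc N → Pc (ModuleCat.of R (M × N))

variable (Pc : ModuleCat.{u} R → Prop) (K₀ : DRing.Cx R) (b : ℤ)

/-- The covering hypothesis: top cohomology of the cone of a partial resolution is covered by a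
module of the class. -/
def CoverHyp : Prop :=
  ∀ (E : DRing.Cx R) (a' b' : ℤ), DRing.VanishesOutside E a' b' → (∀ i, Pc (E.X i)) →
    ∀ (a : E ⟶ K₀) (C : Dual.D R) (p : Q.obj K₀ ⟶ C) (q : C ⟶ (Q.obj E)⟦(1 : ℤ)⟧),
      Triangle.mk (Q.map a) p q ∈ distTriang _ → ∀ t : ℤ, C.IsLE t →
      ∃ F : ModuleCat.{u} R, Pc F ∧
        ∃ f : F ⟶ (homologyFunctor (ModuleCat.{u} R) t).obj C, Epi f

/-- The `n`-th stage of the construction. -/
structure Stage (n : ℕ) where
  E : DRing.Cx R
  a : E ⟶ K₀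
  hv : ∀ i : ℤ, (i ≤ b - n ∨ b < i) → IsZero (E.X i)
  hPc : ∀ i : ℤ, Pc (E.X i)
  hcond : Cond (b - n + 1) (Q.map a)

lemma isIso_inr_f {G E : DRing.Cx R} (φ : G ⟶ E) (i : ℤ) (hz : IsZero (G.X (i + 1))) :
    IsIso ((mappingCone.inr φ).f i) := by
  refine ⟨⟨(mappingCone.snd φ).v i i (add_zero i), by simp, ?_⟩⟩
  have := mappingCone.id_X φ i (i + 1) rfl
  rw [hz.eq_of_tgt ((mappingCone.fst φ).1.v i (i + 1) rfl) 0, zero_comp, zero_add] at this
  exact this

variable {Pc K₀ b}

theorem exists_next (hPc : ClassHyp Pc) (hcov : CoverHyp Pc K₀) {n : ℕ} (s : Stage Pc K₀ b n) :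
    ∃ (s' : Stage Pc K₀ b (n + 1)) (j : s.E ⟶ s'.E), j ≫ s'.a = s.a ∧
      ∀ i : ℤ, i ≠ b - n → IsIso (j.f i) := by
  obtain ⟨C, p, q, hT⟩ := distinguished_cocone_triangle (Q.map s.a)
  have hC : C.IsLE (b - n) := by
    have h := (cond_iff_isLE _ hT (b - n + 1)).1 s.hcond
    have h' : C.IsLE (b - n + 1 - 1) := h
    exact TStructure.t.isLE_of_le C (b - n + 1 - 1) (b - n) (by omega)
  obtain ⟨F, hF, f, hf⟩ := hcov s.E (b - n + 1) b (fun i hi => s.hv i (by omega)) s.hPc s.a C p q hT
    (b - n) hC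
  have hFp : Module.Projective R F := hPc.proj F hF
  obtain ⟨φ, a', ha', hcond'⟩ := step K₀ s.E s.a (b - n) b s.hv
    (fun i => hPc.proj _ (s.hPc i)) F C p q hT f
  have hG : ∀ i : ℤ, i ≠ b - n + 1 → IsZero
      (((HomologicalComplex.single (ModuleCat.{u} R) (ComplexShape.up ℤ) (b - n + 1)).obj F).X i) :=
    fun i hi => HomologicalComplex.isZero_single_obj_X _ _ _ _ hi
  refine ⟨⟨mappingCone φ, a', ?_, ?_, ?_⟩, mappingCone.inr φ, ha', ?_⟩
  · intro i hi
    rw [mappingCone.isZero_X_iff]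
    push_cast at hi
    exact ⟨hG (i + 1) (by omega), s.hv i (by omega)⟩
  · intro i
    have h1 : Pc (((HomologicalComplex.single (ModuleCat.{u} R) (ComplexShape.up ℤ)
        (b - n + 1)).obj F).X (i + 1)) := by
      by_cases hi : i + 1 = b - n + 1
      · rw [hi]
        exact hPc.iso (HomologicalComplex.singleObjXSelf (ComplexShape.up ℤ) (b - n + 1) F).symm hF
      · exact hPc.zero _ (hG _ hi)
    exact hPc.iso (mappingConeXLinearEquiv φ i).symm.toModuleIso (hPc.prod _ _ h1 (s.hPc i))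
  · have e : b - ((n + 1 : ℕ) : ℤ) + 1 = b - n := by push_cast; ring
    rw [e]
    exact hcond'
  · intro i hi
    exact isIso_inr_f φ i (hG (i + 1) (by omega))

variable (hPc : ClassHyp Pc) (hcov : CoverHyp Pc K₀)

/-- the next stage. -/
noncomputable def next {n : ℕ} (s : Stage Pc K₀ b n) : Stage Pc K₀ b (n + 1) :=
  (exists_next hPc hcov s).choose

/-- the transition map. -/
noncomputable def link {n : ℕ} (s : Stage Pc K₀ b n) : s.E ⟶ (next hPc hcov s).E :=
  (exists_next hPc hcov s).choose_spec.choose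

lemma link_comp {n : ℕ} (s : Stage Pc K₀ b n) : link hPc hcov s ≫ (next hPc hcov s).a = s.a :=
  (exists_next hPc hcov s).choose_spec.choose_spec.1

lemma isIso_link_f {n : ℕ} (s : Stage Pc K₀ b n) (i : ℤ) (hi : i ≠ b - n) :
    IsIso ((link hPc hcov s).f i) :=
  (exists_next hPc hcov s).choose_spec.choose_spec.2 i hi

include hPc in
/-- the initial stage. -/
noncomputable def stage0 [(Q.obj K₀).IsLE b] : Stage Pc K₀ b 0 where
  E := 0
  a := 0
  hv i _ := (HomologicalComplex.eval _ _ i).map_isZero (isZero_zero _)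
  hPc i := hPc.zero _ ((HomologicalComplex.eval _ _ i).map_isZero (isZero_zero _))
  hcond := by
    have : (Q.obj K₀).IsLE (b - (0 : ℕ) + 1 - 1) :=
      TStructure.t.isLE_of_le _ b _ (by push_cast; omega)
    exact cond_of_isZero _ _ (Q.map_isZero (isZero_zero _))

/-- the sequence of stages. -/
noncomputable def seq [(Q.obj K₀).IsLE b] : ∀ n : ℕ, Stage Pc K₀ b n
  | 0 => stage0 hPc
  | n + 1 => next hPc hcov (seq n)

/-- the transition maps of the sequence. -/
noncomputable def seqLink [(Q.obj K₀).IsLE b] (n : ℕ) :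
    (seq (b := b) hPc hcov n).E ⟶ (seq (b := b) hPc hcov (n + 1)).E :=
  link hPc hcov (seq hPc hcov n)

lemma seqLink_comp [(Q.obj K₀).IsLE b] (n : ℕ) :
    seqLink (b := b) hPc hcov n ≫ (seq (b := b) hPc hcov (n + 1)).a = (seq hPc hcov n).a :=
  link_comp hPc hcov (seq hPc hcov n)

lemma isIso_seqLink_f [(Q.obj K₀).IsLE b] (n : ℕ) (i : ℤ) (hi : i ≠ b - n) :
    IsIso ((seqLink (b := b) hPc hcov n).f i) :=
  isIso_link_f hPc hcov (seq hPc hcov n) i hi

/-- the sequence of complexes. -/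
noncomputable def seqF [(Q.obj K₀).IsLE b] : ℕ ⥤ DRing.Cx R :=
  Functor.ofSequence (X := fun n => (seq (b := b) hPc hcov n).E) (seqLink hPc hcov)

/-- the cocone of approximations. -/
noncomputable def seqCocone [(Q.obj K₀).IsLE b] : Cocone (seqF (b := b) hPc hcov) where
  pt := K₀
  ι := NatTrans.ofSequence (fun n => (seq (b := b) hPc hcov n).a) (fun n => by
    dsimp only [seqF]
    rw [Functor.ofSequence_map_homOfLE_succ]
    exact (seqLink_comp hPc hcov n).trans (Category.comp_id _).symm)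

section Final

variable [(Q.obj K₀).IsLE b]

lemma seqF_isEventuallyConstantFrom (q : ℤ) (N : ℕ) (hN : b - q < N) :
    (seqF (b := b) hPc hcov ⋙
      HomologicalComplex.eval (ModuleCat.{u} R) (ComplexShape.up ℤ) q).IsEventuallyConstantFrom N := by
  apply SeqColim.isEventuallyConstantFrom_of_isIso_succ
  intro n hn
  change IsIso (((seqF (b := b) hPc hcov).map (homOfLE (Nat.le_add_right n 1))).f q)
  dsimp only [seqF]
  rw [Functor.ofSequence_map_homOfLE_succ]
  exact isIso_seqLink_f hPc hcov n q (by omega)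

lemma quasiIsoAt_iff_isIso_homology_Q_map {E₁ E₂ : DRing.Cx R} (f : E₁ ⟶ E₂) (q : ℤ) :
    QuasiIsoAt f q ↔ IsIso ((homologyFunctor (ModuleCat.{u} R) q).map (Q.map f)) := by
  rw [quasiIsoAt_iff_isIso_homologyMap]
  exact (NatIso.isIso_map_iff (homologyFunctorFactors (ModuleCat.{u} R) q) f).symm

include hPc hcov in
/-- **Existence of resolutions**: a bounded above complex with terms in the class `Pc`. -/
theorem exists_resolution_cx :
    ∃ (E : DRing.Cx R) (a : E ⟶ K₀), DRing.VanishesAbove E b ∧ (∀ i, Pc (E.X i)) ∧ QuasiIso a := by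
  let F := seqF (b := b) hPc hcov
  let c := colimit.cocone F
  have hc : IsColimit c := colimit.isColimit F
  let aInf : c.pt ⟶ K₀ := hc.desc (seqCocone hPc hcov)
  have hfac : ∀ n : ℕ, c.ι.app n ≫ aInf = (seq (b := b) hPc hcov n).a := fun n =>
    hc.fac (seqCocone hPc hcov) n
  have key : ∀ q : ℤ, ∃ N : ℕ, IsIso ((c.ι.app N).f q) ∧ QuasiIsoAt (c.ι.app N) q ∧
      b - N + 1 < q := by
    intro q
    refine ⟨(b - q + 3).toNat, ?_, ?_, by omega⟩
    · exact SeqColim.isIso_ι_f_of_isColimit_of_isEventuallyConstantFrom F hc q _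
        (seqF_isEventuallyConstantFrom hPc hcov q _ (by omega))
    · exact SeqColim.quasiIsoAt_ι_of_isColimit_of_isEventuallyConstantFrom F hc (q - 1) q (q + 1)
        (by simp) (by simp) _
        (seqF_isEventuallyConstantFrom hPc hcov (q - 1) _ (by omega))
        (seqF_isEventuallyConstantFrom hPc hcov q _ (by omega))
        (seqF_isEventuallyConstantFrom hPc hcov (q + 1) _ (by omega))
  refine ⟨c.pt, aInf, ?_, ?_, ?_⟩
  · intro q hq
    obtain ⟨N, h1, -, -⟩ := key q
    exact ((seq (b := b) hPc hcov N).hv q (Or.inr hq)).of_iso (asIso ((c.ι.app N).f q)).symm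
  · intro q
    obtain ⟨N, h1, -, -⟩ := key q
    exact hPc.iso (asIso ((c.ι.app N).f q)) ((seq (b := b) hPc hcov N).hPc q)
  · rw [quasiIso_iff]
    intro q
    obtain ⟨N, -, h2, h3⟩ := key q
    have h4 : QuasiIsoAt (seq (b := b) hPc hcov N).a q := by
      rw [quasiIsoAt_iff_isIso_homology_Q_map]
      exact (seq (b := b) hPc hcov N).hcond.1 q h3
    rw [← hfac N] at h4
    exact (quasiIsoAt_iff_comp_left (c.ι.app N) aInf q).1 h4

end Final

end Resol
end Groth.Agent.Lib.Helper6
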