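import Mathlib
import Groth.Prelude.Def_DRing2
import Groth.Agent.Lib.Helper6.Resol2

/-! Pseudo-coherent = `m`-pseudo-coherent for all `m` (helper6). -/

set_option autoImplicit false
universe u

open CategoryTheory Limits Pretriangulated DerivedCategory ZeroObject CochainComplex

namespace Groth.Agent.Lib.Helper6
namespace Resol

attribute [local instance] HasDerivedCategory.standard

variable {R : Type u} [CommRing R]

open Groth.Agent.Lib.Helper35.KL MPC

/-- finite free modules. -/
def FinFree (M : ModuleCat.{u} R) : Prop := Module.Finite R M ∧ Module.Free R M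

lemma classHyp_finFree : ClassHyp (FinFree (R := R)) where
  proj M h := by
    have := h.2
    infer_instance
  zero M h := by
    have := ModuleCat.subsingleton_of_isZero h
    exact ⟨inferInstance, inferInstance⟩
  iso e h := by
    have := h.1
    have := h.2
    exact ⟨Module.Finite.equiv e.toLinearEquiv, Module.Free.of_equiv e.toLinearEquiv⟩
  prod M N hM hN := by
    have := hM.1
    have := hM.2
    have := hN.1
    have := hN.2
    exact ⟨inferInstanceAs (Module.Finite R (M × N)), inferInstanceAs (Module.Free R (M × N))⟩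

lemma exists_isLE_of_isPC {K : Dual.D R} {m : ℤ} (h : DRing.IsPseudoCoherent R m K) :
    ∃ b : ℤ, K.IsLE b := by
  obtain ⟨E, a, b, α, hv, hE, hiso, hepi⟩ := h
  refine ⟨max b m, ?_⟩
  have hEle : DerivedCategory.IsLE (DRing.toD E) b := by
    have : E.IsStrictlyLE b := by
      rw [CochainComplex.isStrictlyLE_iff]
      intro i hi
      exact hv i (Or.inr hi)
    infer_instance
  rw [DerivedCategory.isLE_iff]
  intro i hi
  have h1 := hiso i (by omega)
  have hz : IsZero ((homologyFunctor (ModuleCat.{u} R) i).obj (DRing.toD E)) :=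
    DerivedCategory.isZero_of_isLE _ b i (by omega)
  exact hz.of_iso (asIso ((homologyFunctor (ModuleCat.{u} R) i).map α)).symm

lemma coverHyp_finFree (K₀ : DRing.Cx R)
    (hK : ∀ m : ℤ, DRing.IsPseudoCoherent R m (Q.obj K₀)) : CoverHyp (FinFree (R := R)) K₀ := by
  intro E a' b' hv hE a C p q hT t hC
  have h1 : DRing.IsPseudoCoherent R (t + 1) (Q.obj E) :=
    isPC_of_FF ⟨E, hv, hE, ⟨Iso.refl _⟩⟩ (t + 1)
  have h2 : DRing.IsPseudoCoherent R t C := (isPC_triangle _ hT t).1 h1 (hK t)
  have h3 : Module.Finite R ((homologyFunctor (ModuleCat.{u} R) t).obj C) := finite_top C t h2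
  obtain ⟨n, f, hf⟩ := Module.Finite.exists_fin' R ((homologyFunctor (ModuleCat.{u} R) t).obj C)
  exact ⟨ModuleCat.of R (Fin n → R), ⟨inferInstanceAs (Module.Finite R (Fin n → R)),
    inferInstanceAs (Module.Free R (Fin n → R))⟩, ModuleCat.ofHom f,
    (ModuleCat.epi_iff_surjective _).2 hf⟩

/-- An object which is `m`-pseudo-coherent for all `m` and `≤ b` is represented by a complex of
finite free modules vanishing above `b`. -/
theorem exists_finFree_of_forall_isPC (K : Dual.D R) (b : ℤ) [K.IsLE b]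
    (hK : ∀ m : ℤ, DRing.IsPseudoCoherent R m K) :
    ∃ E : DRing.Cx R, DRing.VanishesAbove E b ∧ DRing.TermwiseFiniteFree E ∧
      Nonempty (DRing.toD E ≅ K) := by
  let K₀ := Q.objPreimage K
  let e : Q.obj K₀ ≅ K := Q.objObjPreimageIso K
  have hLE : (Q.obj K₀).IsLE b := TStructure.t.isLE_of_iso e.symm b
  have hK' : ∀ m : ℤ, DRing.IsPseudoCoherent R m (Q.obj K₀) := fun m => isPC_of_iso e.symm (hK m)
  obtain ⟨E, a, hv, hE, ha⟩ := exists_resolution_cx (b := b) classHyp_finFree
    (coverHyp_finFree K₀ hK')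
  exact ⟨E, hv, hE, ⟨asIso (Q.map a) ≪≫ e⟩⟩

theorem isPC'_of_forall_isPC (K : Dual.D R) (hK : ∀ m : ℤ, DRing.IsPseudoCoherent R m K) :
    DRing.IsPseudoCoherent' R K := by
  obtain ⟨b, hb⟩ := exists_isLE_of_isPC (hK 0)
  obtain ⟨E, hv, hE, he⟩ := exists_finFree_of_forall_isPC K b hK
  exact ⟨E, b, hv, hE, he⟩

theorem isPC'_iff (K : Dual.D R) :
    DRing.IsPseudoCoherent' R K ↔ ∀ m : ℤ, DRing.IsPseudoCoherent R m K :=
  ⟨fun h m => isPC_of_isPC' h m, isPC'_of_forall_isPC K⟩

end Resol
end Groth.Agent.Lib.Helper6
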