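import Mathlib
import Groth.Prelude.Def_DRing2
import Groth.Agent.Lib.Helper6.Resol3

/-! Direct summands of (`m`-)pseudo-coherent objects (helper6). -/

set_option autoImplicit false
universe u

open CategoryTheory Limits Pretriangulated DerivedCategory ZeroObject

namespace Groth.Agent.Lib.Helper6
namespace MPC

attribute [local instance] HasDerivedCategory.standard

variable {R : Type u} [CommRing R]

lemma isLE_of_retract {K X : Dual.D R} (i : K ⟶ X) (r : X ⟶ K) (h : i ≫ r = 𝟙 K) (t : ℤ)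
    [X.IsLE t] : K.IsLE t := by
  rw [DerivedCategory.isLE_iff]
  intro j hj
  have hz : IsZero ((homologyFunctor (ModuleCat.{u} R) j).obj X) :=
    DerivedCategory.isZero_of_isLE X t j hj
  rw [IsZero.iff_id_eq_zero, ← CategoryTheory.Functor.map_id, ← h, Functor.map_comp,
    hz.eq_of_tgt ((homologyFunctor (ModuleCat.{u} R) j).map i) 0, zero_comp]

lemma isPC_snd_of_biprod (K L : Dual.D R) (m : ℤ) (h1 : DRing.IsPseudoCoherent R (m + 1) K)
    (h2 : DRing.IsPseudoCoherent R m (K ⊞ L)) : DRing.IsPseudoCoherent R m L :=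
  (isPC_triangle _ (binaryBiproductTriangle_distinguished K L) m).1 h1 h2

theorem isPC_of_biprod_aux (n : ℕ) :
    ∀ (K L : Dual.D R) (t m : ℤ), t - m + 1 ≤ n → (K ⊞ L).IsLE t →
      DRing.IsPseudoCoherent R m (K ⊞ L) →
      DRing.IsPseudoCoherent R m K ∧ DRing.IsPseudoCoherent R m L := by
  induction n with
  | zero =>
    intro K L t m htm hLE _
    have hK : K.IsLE t := isLE_of_retract (biprod.inl : K ⟶ K ⊞ L) biprod.fst (by simp) t
    have hL : L.IsLE t := isLE_of_retract (biprod.inr : L ⟶ K ⊞ L) biprod.snd (by simp) t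
    have hK' : K.IsLE (m - 1) := TStructure.t.isLE_of_le K t (m - 1) (by omega)
    have hL' : L.IsLE (m - 1) := TStructure.t.isLE_of_le L t (m - 1) (by omega)
    exact ⟨isPC_of_isLE m K, isPC_of_isLE m L⟩
  | succ n ih =>
    intro K L t m htm hLE h
    obtain ⟨hK, hL⟩ := ih K L t (m + 1) (by omega) hLE (isPC_of_le (by omega) h)
    refine ⟨?_, isPC_snd_of_biprod K L m hK h⟩
    exact isPC_snd_of_biprod L K m hL (isPC_of_iso (biprod.braiding K L) h)

/-- Direct summands of `m`-pseudo-coherent objects are `m`-pseudo-coherent. -/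
theorem isPC_of_biprod (K L : Dual.D R) (m : ℤ) (h : DRing.IsPseudoCoherent R m (K ⊞ L)) :
    DRing.IsPseudoCoherent R m K ∧ DRing.IsPseudoCoherent R m L := by
  obtain ⟨t, ht⟩ := Resol.exists_isLE_of_isPC h
  exact isPC_of_biprod_aux (t - m + 1).toNat K L t m (by omega) ht h

/-- Direct summands of pseudo-coherent objects are pseudo-coherent. -/
theorem isPC'_of_biprod (K L : Dual.D R) (h : DRing.IsPseudoCoherent' R (K ⊞ L)) :
    DRing.IsPseudoCoherent' R K ∧ DRing.IsPseudoCoherent' R L := by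
  rw [Resol.isPC'_iff] at h
  exact ⟨Resol.isPC'_of_forall_isPC K (fun m => (isPC_of_biprod K L m (h m)).1),
    Resol.isPC'_of_forall_isPC L (fun m => (isPC_of_biprod K L m (h m)).2)⟩

/-- Retracts of (`m`-)pseudo-coherent objects. -/
theorem isPC_of_retract {K X : Dual.D R} (i : K ⟶ X) (r : X ⟶ K) (h : i ≫ r = 𝟙 K) (m : ℤ)
    (hX : DRing.IsPseudoCoherent R m X) : DRing.IsPseudoCoherent R m K := by
  -- `X ≅ K ⊞ L` with `L` the cone of `i`
  obtain ⟨L, g, δ, hT⟩ := distinguished_cocone_triangle i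
  have hδ : δ = 0 := by
    have h1 : g ≫ δ = 0 := comp_distTriang_mor_zero₂₃ _ hT
    have hepi : Epi g := by
      -- `g` is a split epi since `i` is a split mono
      have hex : ∃ s : L ⟶ X, 𝟙 L = s ≫ g := by
        have h0 : (𝟙 L) ≫ δ = 0 := by
          rw [Category.id_comp]
          have h2 : δ ≫ i⟦(1 : ℤ)⟧' = 0 := comp_distTriang_mor_zero₃₁ _ hT
          have h3 : δ = δ ≫ i⟦(1 : ℤ)⟧' ≫ r⟦(1 : ℤ)⟧' := by
            rw [← Functor.map_comp, h, CategoryTheory.Functor.map_id, Category.comp_id]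
          rw [h3, ← Category.assoc, h2, zero_comp]
        exact Triangle.coyoneda_exact₃ _ hT (𝟙 L) h0
      obtain ⟨s, hs⟩ := hex
      exact ⟨fun a b hab => by
        have := congrArg (fun x => s ≫ x) hab
        simpa [← Category.assoc, ← hs] using this⟩
    rw [← cancel_epi g, h1, comp_zero]
  obtain ⟨e, -, -⟩ := exists_iso_binaryBiproduct_of_distTriang _ hT hδ
  exact (isPC_of_biprod K L m (isPC_of_iso e hX)).1

end MPC
end Groth.Agent.Lib.Helper6
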