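import Mathlib
import Groth.Prelude.Def_DRing2
import Groth.Prelude.Def_DDual2
import Groth.Agent.Lib.Helper6.MPC5
import Groth.Agent.Lib.Helper6.ExactDC
import Groth.Agent.Lib.Helper6.Resol3

/-! Pseudo-coherence and restriction of scalars along `A → B` with `B` pseudo-coherent over `A`
(helper6). -/

set_option autoImplicit false
universe u

open CategoryTheory Limits Pretriangulated DerivedCategory ZeroObject

namespace Groth.Agent.Lib.Helper6
namespace RestrPC

attribute [local instance] HasDerivedCategory.standard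

open MPC

section AllPC

variable {A : Type u} [CommRing A]

/-- The module `M` is `m`-pseudo-coherent for all `m`. -/
def AllPC (M : ModuleCat.{u} A) : Prop :=
  ∀ m : ℤ, DRing.IsPseudoCoherent A m ((DerivedCategory.singleFunctor (ModuleCat.{u} A) 0).obj M)

lemma allPC_of_iso {M N : ModuleCat.{u} A} (e : M ≅ N) (h : AllPC M) : AllPC N := fun m =>
  isPC_of_iso ((DerivedCategory.singleFunctor (ModuleCat.{u} A) 0).mapIso e) (h m)

lemma allPC_of_isZero {M : ModuleCat.{u} A} (h : IsZero M) : AllPC M := fun m =>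
  isPC_of_isZero ((DerivedCategory.singleFunctor (ModuleCat.{u} A) 0).map_isZero h) m

lemma allPC_of_shortExact {S : ShortComplex (ModuleCat.{u} A)} (hS : S.ShortExact)
    (h₁ : AllPC S.X₁) (h₃ : AllPC S.X₃) : AllPC S.X₂ := fun m =>
  (isPC_triangle _ hS.singleTriangle_distinguished m).2.1 (h₁ m) (h₃ m)

lemma allPC_prod (M N : ModuleCat.{u} A) (hM : AllPC M) (hN : AllPC N) :
    AllPC (ModuleCat.of A (M × N)) := by
  let S : ShortComplex (ModuleCat.{u} A) :=
    ShortComplex.mk (ModuleCat.ofHom (LinearMap.inl A M N)) (ModuleCat.ofHom (LinearMap.snd A M N))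
      (by ext x; simp)
  have hS : S.ShortExact := by
    refine ModuleCat.shortComplex_shortExact S ?_ LinearMap.inl_injective LinearMap.snd_surjective
    intro x
    constructor
    · intro hx
      have hx' : (x : M × N).2 = 0 := hx
      refine ⟨(x : M × N).1, ?_⟩
      show ((x : M × N).1, (0 : N)) = x
      exact Prod.ext rfl hx'.symm
    · rintro ⟨y, rfl⟩
      rfl
  exact allPC_of_shortExact hS hM hN

lemma allPC_pi (M : ModuleCat.{u} A) (hM : AllPC M) (n : ℕ) :
    AllPC (ModuleCat.of A (Fin n → M)) := by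
  induction n with
  | zero => exact allPC_of_isZero (ModuleCat.isZero_of_subsingleton _)
  | succ n ih =>
    exact allPC_of_iso (Fin.consLinearEquiv A (fun _ : Fin (n + 1) => (M : Type u))).toModuleIso
      (allPC_prod M _ hM ih)

end AllPC

variable {A B : Type u} [CommRing A] [CommRing B] (φ : A →+* B)

/-- restriction of scalars on modules. -/
noncomputable abbrev Φ : ModuleCat.{u} B ⥤ ModuleCat.{u} A := ModuleCat.restrictScalars.{u} φ

lemma cond_rD_iff {X Y : Dual.D B} (α : X ⟶ Y) (m : ℤ) :
    Cond m ((DRing.restrictD φ).map α) ↔ Cond m α := by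
  constructor
  · intro h
    exact ⟨fun i hi => (ExactDC.isIso_homology_map_iff (F := Φ φ) α i).1 (h.1 i hi),
      (ExactDC.epi_homology_map_iff (F := Φ φ) α m).1 h.2⟩
  · intro h
    exact ⟨fun i hi => ExactDC.isIso_homology_map (F := Φ φ) α i (h.1 i hi),
      ExactDC.epi_homology_map (F := Φ φ) α m h.2⟩

lemma isLE_rD (K : Dual.D B) (t : ℤ) [K.IsLE t] : ((DRing.restrictD φ).obj K).IsLE t :=
  ExactDC.isLE_obj (F := Φ φ) K t

lemma isLE_of_isLE_rD (K : Dual.D B) (t : ℤ) [((DRing.restrictD φ).obj K).IsLE t] : K.IsLE t := by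
  rw [DerivedCategory.isLE_iff]
  intro i hi
  have h1 : IsZero ((homologyFunctor (ModuleCat.{u} A) i).obj ((DRing.restrictD φ).obj K)) :=
    DerivedCategory.isZero_of_isLE _ t i hi
  have h2 : IsZero ((Φ φ).obj ((homologyFunctor (ModuleCat.{u} B) i).obj K)) :=
    h1.of_iso ((ExactDC.homologyIso (Φ φ) i).app K).symm
  have : Subsingleton ((Φ φ).obj ((homologyFunctor (ModuleCat.{u} B) i).obj K)) :=
    ModuleCat.subsingleton_of_isZero h2
  have : Subsingleton ((homologyFunctor (ModuleCat.{u} B) i).obj K) := this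
  exact ModuleCat.isZero_of_subsingleton _


/-- the restriction of `Fin n → B` is `Fin n →` the restriction of `B`. -/
noncomputable def piRestrIso (n : ℕ) :
    (Φ φ).obj (ModuleCat.of B (Fin n → B)) ≅
      ModuleCat.of A (Fin n → ((Φ φ).obj (ModuleCat.of B B))) :=
  LinearEquiv.toModuleIso
    ({ toFun := fun f => f
       invFun := fun f => f
       map_add' := fun _ _ => rfl
       map_smul' := fun _ _ => rfl
       left_inv := fun _ => rfl
       right_inv := fun _ => rfl } :
      ((Φ φ).obj (ModuleCat.of B (Fin n → B))) ≃ₗ[A] (Fin n → ((Φ φ).obj (ModuleCat.of B B))))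

/-- restriction of finite free modules is all-pc if the restriction of `B` is. -/
lemma allPC_restr_of_finite_free (hB : AllPC ((Φ φ).obj (ModuleCat.of B B)))
    (F : ModuleCat.{u} B) [Module.Finite B F] [Module.Free B F] : AllPC ((Φ φ).obj F) := by
  let ι := Module.Free.ChooseBasisIndex B F
  let n := Fintype.card ι
  have e : F ≃ₗ[B] (Fin n → B) :=
    ((Module.Free.chooseBasis B F).reindex (Fintype.equivFin ι)).equivFun
  have e' : F ≅ ModuleCat.of B (Fin n → B) := e.toModuleIso
  exact allPC_of_iso ((piRestrIso φ n).symm ≪≫ ((Φ φ).mapIso e').symm)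
    (allPC_pi _ hB n)


/-- the restriction of a bounded above complex of finite free `B`-modules is all-pc over `A`. -/
lemma isPC_rD_Q (hB : AllPC ((Φ φ).obj (ModuleCat.of B B))) (E : DRing.Cx B) (b : ℤ)
    (hb : DRing.VanishesAbove E b) (hE : DRing.TermwiseFiniteFree E) (m : ℤ) :
    DRing.IsPseudoCoherent A m ((DRing.restrictD φ).obj (Q.obj E)) := by
  refine isPC_of_iso ((Φ φ).mapDerivedCategoryFactors.app E).symm ?_
  refine isPC_of_termwise _ b m ?_ ?_
  · intro i hi
    exact (Φ φ).map_isZero (hb i hi)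
  · intro i
    have := (hE i).1
    have := (hE i).2
    exact allPC_restr_of_finite_free φ hB (E.X i) (m - i)

/-- forward direction for `m`-pseudo-coherence. -/
theorem isPC_rD (hB : AllPC ((Φ φ).obj (ModuleCat.of B B))) {K : Dual.D B} {m : ℤ}
    (h : DRing.IsPseudoCoherent B m K) :
    DRing.IsPseudoCoherent A m ((DRing.restrictD φ).obj K) := by
  obtain ⟨E, a, b, α, hE, hF, h1, h2⟩ := h
  have hc : Cond m ((DRing.restrictD φ).map α) := (cond_rD_iff φ α m).2 ⟨h1, h2⟩
  refine isPC_of_cond hc (isPC_rD_Q φ hB E b (fun i hi => hE i (Or.inr hi)) hF m)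


lemma finite_of_finite_restr (M : ModuleCat.{u} B) (h : Module.Finite A ((Φ φ).obj M)) :
    Module.Finite B M := by
  let _ : Algebra A B := φ.toAlgebra
  let _ : Module A M := Module.compHom M φ
  have : IsScalarTower A B M := IsScalarTower.of_algebraMap_smul (fun r x => rfl)
  have h' : Module.Finite A M := h
  exact Module.Finite.of_restrictScalars_finite A B M

theorem isPC_of_isPC_rD_aux (hB : AllPC ((Φ φ).obj (ModuleCat.of B B))) (n : ℕ) :
    ∀ (K : Dual.D B) (t m : ℤ), t - m + 1 ≤ n → K.IsLE t →
      DRing.IsPseudoCoherent A m ((DRing.restrictD φ).obj K) → DRing.IsPseudoCoherent B m K := by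
  induction n with
  | zero =>
    intro K t m hn hK _
    have : K.IsLE (m - 1) := TStructure.t.isLE_of_le K t (m - 1) (by omega)
    exact isPC_of_isLE m K
  | succ n ih =>
    intro K t m hn hK h
    by_cases htm : t < m
    · have : K.IsLE (m - 1) := TStructure.t.isLE_of_le K t (m - 1) (by omega)
      exact isPC_of_isLE m K
    · have htm' : m ≤ t := by omega
      have h1 : DRing.IsPseudoCoherent A t ((DRing.restrictD φ).obj K) := isPC_of_le htm' h
      have : ((DRing.restrictD φ).obj K).IsLE t := isLE_rD φ K t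
      have hfin : Module.Finite A
          ((homologyFunctor (ModuleCat.{u} A) t).obj ((DRing.restrictD φ).obj K)) :=
        finite_top _ t h1
      have hfin2 : Module.Finite A ((Φ φ).obj ((homologyFunctor (ModuleCat.{u} B) t).obj K)) :=
        @Module.Finite.equiv _ _ _ _ _ _ _ _ hfin ((ExactDC.homologyIso (Φ φ) t).app K).toLinearEquiv
      have hfinB : Module.Finite B ((homologyFunctor (ModuleCat.{u} B) t).obj K) :=
        finite_of_finite_restr φ _ hfin2
      obtain ⟨r, f, hf⟩ := Module.Finite.exists_fin' B ((homologyFunctor (ModuleCat.{u} B) t).obj K)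
      let F : ModuleCat.{u} B := ModuleCat.of B (Fin r → B)
      have hF1 : Module.Finite B F := inferInstanceAs (Module.Finite B (Fin r → B))
      have hF2 : Module.Free B F := inferInstanceAs (Module.Free B (Fin r → B))
      have hF3 : Projective F := (IsProjective.iff_projective (R := B) (P := F)).mp inferInstance
      have hepi : Epi (ModuleCat.ofHom f) := (ModuleCat.epi_iff_surjective _).2 hf
      obtain ⟨ψ, hψ⟩ := Resol.exists_cond_map_of_epi K t F (ModuleCat.ofHom f)
      obtain ⟨K', p, q, hT⟩ := distinguished_cocone_triangle ψ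
      have hK' : K'.IsLE (t - 1) := (cond_iff_isLE _ hT t).1 hψ
      have hT' := (DRing.restrictD φ).map_distinguished _ hT
      have hFA : ∀ m' : ℤ, DRing.IsPseudoCoherent A m' ((DRing.restrictD φ).obj
          ((DerivedCategory.singleFunctor (ModuleCat.{u} B) t).obj F)) := fun m' =>
        isPC_of_iso (((Φ φ).mapDerivedCategorySingleFunctor t).app F).symm
          (isPC_single_degree _ t m' (allPC_restr_of_finite_free φ hB F (m' - t)))
      have h2 : DRing.IsPseudoCoherent A m ((DRing.restrictD φ).obj K') :=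
        (isPC_triangle _ hT' m).1 (hFA (m + 1)) h
      have h3 : DRing.IsPseudoCoherent B m K' := ih K' (t - 1) m (by omega) hK' h2
      have hFB : DRing.IsPseudoCoherent B m
          ((DerivedCategory.singleFunctor (ModuleCat.{u} B) t).obj F) :=
        isPC_single_degree F t m (isPC_of_FF (FF_single F) (m - t))
      exact (isPC_triangle _ hT m).2.1 hFB h3

theorem isPC_of_isPC_rD (hB : AllPC ((Φ φ).obj (ModuleCat.of B B))) {K : Dual.D B} {m : ℤ}
    (h : DRing.IsPseudoCoherent A m ((DRing.restrictD φ).obj K)) :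
    DRing.IsPseudoCoherent B m K := by
  obtain ⟨t, ht⟩ := Resol.exists_isLE_of_isPC h
  have : K.IsLE t := isLE_of_isLE_rD φ K t
  exact isPC_of_isPC_rD_aux φ hB (t - m + 1).toNat K t m (by omega) this h

theorem isPC_rD_iff (hB : AllPC ((Φ φ).obj (ModuleCat.of B B))) (K : Dual.D B) (m : ℤ) :
    DRing.IsPseudoCoherent B m K ↔ DRing.IsPseudoCoherent A m ((DRing.restrictD φ).obj K) :=
  ⟨isPC_rD φ hB, isPC_of_isPC_rD φ hB⟩

theorem isPC'_rD_iff (hB : AllPC ((Φ φ).obj (ModuleCat.of B B))) (K : Dual.D B) :
    DRing.IsPseudoCoherent' B K ↔ DRing.IsPseudoCoherent' A ((DRing.restrictD φ).obj K) := by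
  rw [Resol.isPC'_iff, Resol.isPC'_iff]
  exact forall_congr' (fun m => isPC_rD_iff φ hB K m)


section Alg

variable (A B : Type u) [CommRing A] [CommRing B] [Algebra A B]

/-- `B` as an `A`-module is the restriction of `B` as a `B`-module. -/
noncomputable def restrSelfIso :
    ModuleCat.of A B ≅ (Φ (algebraMap A B)).obj (ModuleCat.of B B) :=
  LinearEquiv.toModuleIso
    ({ toFun := fun b => b
       invFun := fun b => b
       map_add' := fun _ _ => rfl
       map_smul' := fun a b => Algebra.smul_def a b
       left_inv := fun _ => rfl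
       right_inv := fun _ => rfl } :
      B ≃ₗ[A] ((Φ (algebraMap A B)).obj (ModuleCat.of B B)))

variable {A B}

lemma allPC_of_isPCModule' (hB : DRing.IsPseudoCoherentModule' A B) :
    AllPC ((Φ (algebraMap A B)).obj (ModuleCat.of B B)) :=
  allPC_of_iso (restrSelfIso A B) (fun m => isPC_of_isPC' hB m)

end Alg

end RestrPC
end Groth.Agent.Lib.Helper6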