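import Mathlib
import Groth.Prelude.Def_DRing2
import Groth.Prelude.Def_DDual2
import Groth.Agent.Lib.Helper6.RestrPC

/-! Abstract descent of `m`-pseudo-coherence along a finite family of triangulated functors
(helper6). -/

set_option autoImplicit false
universe u

open CategoryTheory Limits Pretriangulated DerivedCategory ZeroObject

namespace Groth.Agent.Lib.Helper6
namespace PCDescent

attribute [local instance] HasDerivedCategory.standard

open MPC

variable {R : Type u} [CommRing R] {ι : Type} (R' : ι → Type u) [∀ i, CommRing (R' i)]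
  (F : ∀ i, Dual.D R ⥤ Dual.D (R' i)) [∀ i, (F i).CommShift ℤ] [∀ i, (F i).IsTriangulated]

/-- hypotheses for descent of pseudo-coherence. -/
structure Hyp : Prop where
  isLE : ∀ (K : Dual.D R) (t : ℤ) (i : ι), K.IsLE t → ((F i).obj K).IsLE t
  isLE_of : ∀ (K : Dual.D R) (t : ℤ), (∀ i, ((F i).obj K).IsLE t) → K.IsLE t
  finite : ∀ (K : Dual.D R) (t : ℤ),
    (∀ i, Module.Finite (R' i) ((homologyFunctor (ModuleCat.{u} (R' i)) t).obj ((F i).obj K))) →
      Module.Finite R ((homologyFunctor (ModuleCat.{u} R) t).obj K)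
  free : ∀ (i : ι) (t : ℤ) (r : ℕ) (m : ℤ), DRing.IsPseudoCoherent (R' i) m
    ((F i).obj ((DerivedCategory.singleFunctor (ModuleCat.{u} R) t).obj
      (ModuleCat.of R (Fin r → R))))

variable {R' F}

theorem descent_aux (H : Hyp R' F) (n : ℕ) :
    ∀ (K : Dual.D R) (t m : ℤ), t - m + 1 ≤ n → K.IsLE t →
      (∀ i, DRing.IsPseudoCoherent (R' i) m ((F i).obj K)) → DRing.IsPseudoCoherent R m K := by
  induction n with
  | zero =>
    intro K t m hn hK _
    have : K.IsLE (m - 1) := TStructure.t.isLE_of_le K t (m - 1) (by omega)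
    exact isPC_of_isLE m K
  | succ n ih =>
    intro K t m hn hK h
    by_cases htm : t < m
    · have : K.IsLE (m - 1) := TStructure.t.isLE_of_le K t (m - 1) (by omega)
      exact isPC_of_isLE m K
    · have htm' : m ≤ t := by omega
      have hfin : Module.Finite R ((homologyFunctor (ModuleCat.{u} R) t).obj K) := by
        refine H.finite K t (fun i => ?_)
        have := H.isLE K t i hK
        exact finite_top _ t (isPC_of_le htm' (h i))
      obtain ⟨r, f, hf⟩ := Module.Finite.exists_fin' R ((homologyFunctor (ModuleCat.{u} R) t).obj K)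
      let P : ModuleCat.{u} R := ModuleCat.of R (Fin r → R)
      have hF1 : Module.Finite R P := inferInstanceAs (Module.Finite R (Fin r → R))
      have hF2 : Module.Free R P := inferInstanceAs (Module.Free R (Fin r → R))
      have hF3 : Projective P := (IsProjective.iff_projective (R := R) (P := P)).mp inferInstance
      have hepi : Epi (ModuleCat.ofHom f) := (ModuleCat.epi_iff_surjective _).2 hf
      obtain ⟨ψ, hψ⟩ := Resol.exists_cond_map_of_epi K t P (ModuleCat.ofHom f)
      obtain ⟨K', p, q, hT⟩ := distinguished_cocone_triangle ψ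
      have hK' : K'.IsLE (t - 1) := (cond_iff_isLE _ hT t).1 hψ
      have h2 : ∀ i, DRing.IsPseudoCoherent (R' i) m ((F i).obj K') := fun i =>
        (isPC_triangle _ ((F i).map_distinguished _ hT) m).1 (H.free i t r (m + 1)) (h i)
      have h3 : DRing.IsPseudoCoherent R m K' := ih K' (t - 1) m (by omega) hK' h2
      have hFB : DRing.IsPseudoCoherent R m
          ((DerivedCategory.singleFunctor (ModuleCat.{u} R) t).obj P) :=
        isPC_single_degree P t m (isPC_of_FF (FF_single P) (m - t))
      exact (isPC_triangle _ hT m).2.1 hFB h3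

theorem descent [Finite ι] (H : Hyp R' F) (K : Dual.D R) (m : ℤ)
    (h : ∀ i, DRing.IsPseudoCoherent (R' i) m ((F i).obj K)) : DRing.IsPseudoCoherent R m K := by
  choose t₀ ht₀ using fun i => Resol.exists_isLE_of_isPC (h i)
  obtain ⟨t, ht⟩ := (Set.finite_range t₀).bddAbove
  have hK : K.IsLE t := by
    refine H.isLE_of K t (fun i => ?_)
    have := ht₀ i
    exact TStructure.t.isLE_of_le _ (t₀ i) t (ht ⟨i, rfl⟩)
  exact descent_aux H (t - m + 1).toNat K t m (by omega) hK h

theorem descent' [Finite ι] (H : Hyp R' F) (K : Dual.D R)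
    (h : ∀ i, DRing.IsPseudoCoherent' (R' i) ((F i).obj K)) : DRing.IsPseudoCoherent' R K := by
  rw [Resol.isPC'_iff]
  intro m
  exact descent H K m (fun i => isPC_of_isPC' (h i) m)

end PCDescent
end Groth.Agent.Lib.Helper6
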