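import Mathlib
import Groth.Prelude.Def_DRing2
import Groth.Prelude.Def_DDual2
import Groth.Agent.Lib.Helper35.FlatBC
import Groth.Agent.Lib.Helper6.Descent

/-! Descent of pseudo-coherence along (jointly) faithfully flat families (helper6). -/

set_option autoImplicit false
universe u

open CategoryTheory Limits Pretriangulated DerivedCategory ZeroObject

namespace Groth.Agent.Lib.Helper6
namespace PCDescent

attribute [local instance] HasDerivedCategory.standard

open MPC Groth.Agent.Lib.Helper35.FlatBC

variable {R : Type u} [CommRing R] {ι : Type} (R' : ι → Type u) [∀ i, CommRing (R' i)]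
  [∀ i, Algebra R (R' i)] [∀ i, Module.Flat R (R' i)]

/-- `H^j` of the flat base change, as a linear equivalence. -/
noncomputable def hEquiv (i : ι) (K : Dual.D R) (j : ℤ) :
    ((homologyFunctor (ModuleCat.{u} (R' i)) j).obj ((G R (R' i)).obj K)) ≃ₗ[R' i]
      TensorProduct R (R' i) ((homologyFunctor (ModuleCat.{u} R) j).obj K) :=
  ((ExactDC.homologyIso (ext R (R' i)) j).app K).toLinearEquiv ≪≫ₗ
    extLinearEquiv (R' i) ((homologyFunctor (ModuleCat.{u} R) j).obj K)

theorem hyp_of_flat
    (hsub : ∀ M : ModuleCat.{u} R, (∀ i, Subsingleton (TensorProduct R (R' i) M)) → Subsingleton M)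
    (hfin : ∀ M : ModuleCat.{u} R, (∀ i, Module.Finite (R' i) (TensorProduct R (R' i) M)) →
      Module.Finite R M) :
    Hyp R' (fun i => G R (R' i)) where
  isLE K t i _ := ExactDC.isLE_obj (F := ext R (R' i)) K t
  isLE_of K t h := by
    rw [DerivedCategory.isLE_iff]
    intro j hj
    have := hsub ((homologyFunctor (ModuleCat.{u} R) j).obj K) (fun i => by
      have := h i
      have hz : IsZero ((homologyFunctor (ModuleCat.{u} (R' i)) j).obj ((G R (R' i)).obj K)) :=
        DerivedCategory.isZero_of_isLE _ t j hj
      have := ModuleCat.subsingleton_of_isZero hz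
      exact (hEquiv R' i K j).symm.toEquiv.subsingleton)
    exact ModuleCat.isZero_of_subsingleton _
  finite K t h := by
    refine hfin _ (fun i => ?_)
    have := h i
    exact Module.Finite.equiv (hEquiv R' i K t)
  free i t r m := by
    let P : ModuleCat.{u} R := ModuleCat.of R (Fin r → R)
    have hF1 : Module.Finite R P := inferInstanceAs (Module.Finite R (Fin r → R))
    have hF2 : Module.Free R P := inferInstanceAs (Module.Free R (Fin r → R))
    have h1 := finite_ext_obj (R' i) P
    have h2 := free_ext_obj (R' i) P
    exact isPC_of_iso (((ext R (R' i)).mapDerivedCategorySingleFunctor t).app P).symm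
      (isPC_single_degree _ t m (isPC_of_FF (FF_single _) _))

end PCDescent
end Groth.Agent.Lib.Helper6
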