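import Mathlib

/-!
# Left Kan extension along a flat functor is exact (general universes)

Mathlib's `lan_preservesFiniteLimits_of_flat` requires the source category to be small relative to the
target.  Here we give a version with arbitrary universes, under explicit hypotheses that the relevant
colimits exist and are exact.  As a consequence, `Functor.sheafPullback` along a representably flat
continuous functor preserves finite limits.
-/

universe v₁ v₂ v₃ u₁ u₂ u₃
open CategoryTheory CategoryTheory.Limits Opposite

namespace Groth.Agent.Lib.Helper6
namespace LanFlat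

variable {C : Type u₁} [Category.{v₁} C] {D : Type u₂} [Category.{v₂} D]
  (E : Type u₃) [Category.{v₃} E]

set_option backward.defeqAttrib.useBackward true in
set_option backward.isDefEq.respectTransparency false in
/-- The evaluation of `F.lan` at `X` is the colimit over the costructured arrows over `X`
(general universes). -/
noncomputable def lanEvaluationIsoColim (F : C ⥤ D) (X : D)
    [∀ X : D, HasColimitsOfShape (CostructuredArrow F X) E] :
    F.lan ⋙ (evaluation D E).obj X ≅
      (Functor.whiskeringLeft _ _ E).obj (CostructuredArrow.proj F X) ⋙ colim :=
  NatIso.ofComponents (fun G =>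
    IsColimit.coconePointUniqueUpToIso
    (Functor.isPointwiseLeftKanExtensionLeftKanExtensionUnit F G X)
    (colimit.isColimit _)) (fun {G₁ G₂} φ => by
      apply (Functor.isPointwiseLeftKanExtensionLeftKanExtensionUnit F G₁ X).hom_ext
      intro T
      have h₁ := fun (G : C ⥤ E) => IsColimit.comp_coconePointUniqueUpToIso_hom
        (Functor.isPointwiseLeftKanExtensionLeftKanExtensionUnit F G X) (colimit.isColimit _) T
      have h₂ := congr_app (F.lanUnit.naturality φ) T.left
      dsimp at h₁ h₂ ⊢
      simp only [Category.assoc] at h₁ ⊢
      simp only [Functor.lan, Functor.lanUnit] at h₂ ⊢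
      rw [reassoc_of% h₁, NatTrans.naturality_assoc, ← reassoc_of% h₂, h₁,
        ι_colimMap, Functor.whiskerLeft_app]
      rfl)

/-- Left Kan extension along (the opposite of) a representably flat functor preserves finite
limits, when filtered colimits of the relevant shapes are exact in the target (general universes). -/
theorem lan_preservesFiniteLimits_of_flat (F : C ⥤ D) [RepresentablyFlat F] [HasFiniteLimits E]
    [∀ K : Dᵒᵖ, HasColimitsOfShape (CostructuredArrow F.op K) E]
    [∀ K : Dᵒᵖ, HasExactColimitsOfShape (CostructuredArrow F.op K) E] :
    PreservesFiniteLimits (F.op.lan : (Cᵒᵖ ⥤ E) ⥤ Dᵒᵖ ⥤ E) := by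
  apply preservesFiniteLimits_of_preservesFiniteLimitsOfSize.{0}
  intro J _ _
  apply preservesLimitsOfShape_of_evaluation (F.op.lan : (Cᵒᵖ ⥤ E) ⥤ Dᵒᵖ ⥤ E) J
  intro K
  exact preservesLimitsOfShape_of_natIso (lanEvaluationIsoColim E F.op K).symm

/-- The pullback of sheaves along a representably flat continuous functor preserves finite limits
(general universes). -/
theorem sheafPullback_preservesFiniteLimits (G : C ⥤ D) (A : Type u₃) [Category.{v₃} A]
    (J : GrothendieckTopology C) (K : GrothendieckTopology D) [G.IsContinuous J K]
    [RepresentablyFlat G] [HasSheafify K A] [HasSheafify J A] [HasFiniteLimits A]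
    [∀ U : Dᵒᵖ, HasColimitsOfShape (CostructuredArrow G.op U) A]
    [∀ U : Dᵒᵖ, HasExactColimitsOfShape (CostructuredArrow G.op U) A] :
    PreservesFiniteLimits (G.sheafPullback A J K) := by
  have := lan_preservesFiniteLimits_of_flat A G
  exact Functor.sheafPullbackConstruction.preservesFiniteLimits G A J K

/-- filteredness of the costructured arrow categories of the opposite of a flat functor -/
lemma isFiltered_costructuredArrow_op (F : C ⥤ D) [RepresentablyFlat F] (K : Dᵒᵖ) :
    IsFiltered (CostructuredArrow F.op K) :=
  IsFiltered.of_equivalence (structuredArrowOpEquivalence F (unop K))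

end LanFlat
end Groth.Agent.Lib.Helper6
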