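import Mathlib
import Groth.Prelude.Def_EtBase
import Groth.Prelude.Def_EtMod2
import Groth.Agent.Lib.Helper6.LanFlat

/-!
# Exactness of the inverse image functor on the small étale site

`EtCoh.pull f` (abelian sheaves) and `EtModW.pull Λ f` (sheaves of `Λ`-modules) preserve finite limits
(and, being left adjoints, all colimits).
-/

universe u
open CategoryTheory CategoryTheory.Limits Opposite AlgebraicGeometry

namespace Groth.Agent.Lib.Helper6
namespace EtPullExact

variable {X Y : Scheme.{u}} (f : X ⟶ Y)

instance hasExactColimitsOfShape_ab (U : (X.Etale)ᵒᵖ) :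
    HasExactColimitsOfShape (CostructuredArrow (EtCoh.bc f).op U) AddCommGrpCat.{u + 1} := by
  have := LanFlat.isFiltered_costructuredArrow_op (EtCoh.bc f) U
  have : IsFiltered (ULiftHom.{u+1} (CostructuredArrow (EtCoh.bc f).op U)) :=
    IsFiltered.of_equivalence ULiftHom.equiv
  exact HasExactColimitsOfShape.of_domain_equivalence _
    (ULiftHom.equiv (C := CostructuredArrow (EtCoh.bc f).op U)).symm

/-- The inverse image functor for abelian étale sheaves is left exact. -/
theorem preservesFiniteLimits_pull [EtCoh.BCCont f] : PreservesFiniteLimits (EtCoh.pull f) :=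
  LanFlat.sheafPullback_preservesFiniteLimits (EtCoh.bc f) AddCommGrpCat.{u + 1} _ _

variable (Λ : Type (u + 1)) [CommRing Λ]

instance hasExactColimitsOfShape_mod (U : (X.Etale)ᵒᵖ) :
    HasExactColimitsOfShape (CostructuredArrow (EtCoh.bc f).op U) (ModuleCat.{u + 1} Λ) := by
  have := LanFlat.isFiltered_costructuredArrow_op (EtCoh.bc f) U
  have : IsFiltered (ULiftHom.{u+1} (CostructuredArrow (EtCoh.bc f).op U)) :=
    IsFiltered.of_equivalence ULiftHom.equiv
  exact HasExactColimitsOfShape.of_domain_equivalence _
    (ULiftHom.equiv (C := CostructuredArrow (EtCoh.bc f).op U)).symm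

/-- The inverse image functor for étale sheaves of `Λ`-modules is left exact. -/
theorem preservesFiniteLimits_pullMod : PreservesFiniteLimits (EtModW.pull Λ f) :=
  LanFlat.sheafPullback_preservesFiniteLimits (EtCoh.bc f) (ModuleCat.{u + 1} Λ) _ _

end EtPullExact
end Groth.Agent.Lib.Helper6
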