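import Mathlib
import Groth.Prelude.Def_Pi1X

/-!
# Helper lemmas on Galois categories (helper6)

* `smul_eq_of_iso_sigma_terminal`: `Aut F` acts trivially on the fibre of a finite coproduct of
  terminal objects.
* `exists_iso_sigma_terminal_of_smul_eq`: conversely, if `Aut F` acts trivially on the fibre of `Y`
  then `Y` is a finite coproduct of terminal objects.
* `autWhisker_comp_eq_one_iff`: whiskered automorphism is trivial iff it acts trivially on fibres.
-/

set_option autoImplicit false
universe u v w
open CategoryTheory PreGaloisCategory Limits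

namespace Groth.Agent.Lib.Helper6

section

variable {D : Type u} [Category.{v} D] [GaloisCategory D] (F : D ⥤ FintypeCat.{w}) [FiberFunctor F]

lemma subsingleton_fiber_terminal : Subsingleton (F.obj (⊤_ D)) := by
  have ht : IsTerminal (F.obj (⊤_ D)) := IsTerminal.isTerminalObj F _ terminalIsTerminal
  constructor
  intro p q
  have := ht.hom_ext (FintypeCat.homMk (X := FintypeCat.of PUnit) (fun _ => p))
    (FintypeCat.homMk (X := FintypeCat.of PUnit) (fun _ => q))
  exact congrArg (fun f => f PUnit.unit) this

omit [GaloisCategory D] [FiberFunctor F] in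
lemma map_iso_injective {X Y : D} (e : X ≅ Y) : Function.Injective (F.map e.hom) := by
  intro a b h
  have := congrArg (F.map e.inv) h
  rw [← FintypeCat.comp_apply, ← FintypeCat.comp_apply, ← F.map_comp] at this
  simpa using this

/-- `Aut F` acts trivially on the fibre of a finite coproduct of terminal objects. -/
lemma smul_eq_of_iso_sigma_terminal (Y : D) (n : ℕ) (e : Y ≅ ∐ fun _ : Fin n => ⊤_ D)
    (σ : Aut F) (x : F.obj Y) : σ • x = x := by
  apply map_iso_injective F e
  rw [← mulAction_naturality]
  generalize F.map e.hom x = y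
  obtain ⟨⟨j⟩, a, ha : F.map _ a = y⟩ := Limits.FintypeCat.jointly_surjective
    (Discrete.functor (fun _ : Fin n => ⊤_ D) ⋙ F) _
    (Limits.isColimitOfPreserves F (coproductIsCoproduct (fun _ : Fin n => ⊤_ D))) y
  rw [← ha, mulAction_naturality]
  congr 1
  have := subsingleton_fiber_terminal F
  exact Subsingleton.elim (α := F.obj (⊤_ D)) _ _

/-- If `Aut F` acts trivially on the fibre of `Y`, then `Y` is a finite coproduct of terminal
objects. -/
lemma exists_iso_sigma_terminal_of_smul_eq (Y : D)
    (h : ∀ (σ : Aut F) (x : F.obj Y), σ • x = x) :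
    ∃ n : ℕ, Nonempty (Y ≅ ∐ fun _ : Fin n => ⊤_ D) := by
  obtain ⟨ι, hfin, f, e, hc⟩ := has_decomp_connected_components' Y
  have hsub : ∀ i, Subsingleton (F.obj (f i)) := by
    intro i
    have := hc i
    constructor
    intro x y
    obtain ⟨σ, hσ⟩ := MulAction.exists_smul_eq (Aut F) x y
    have hmono : Mono (Sigma.ι f i ≫ e.hom) := inferInstance
    have hinj : Function.Injective (F.map (Sigma.ι f i ≫ e.hom)) :=
      (ConcreteCategory.mono_iff_injective_of_preservesPullback _).mp inferInstance
    apply hinj
    rw [← hσ, ← mulAction_naturality, h]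
  have hiso : ∀ i, IsIso (terminal.from (f i)) := by
    intro i
    have := hc i
    have := hsub i
    have := subsingleton_fiber_terminal F
    have : IsIso (F.map (terminal.from (f i))) := by
      apply (ConcreteCategory.isIso_iff_bijective _).mpr
      refine ⟨fun a b _ => Subsingleton.elim _ _, fun b => ?_⟩
      obtain ⟨a⟩ := nonempty_fiber_of_isConnected F (f i)
      exact ⟨a, Subsingleton.elim _ _⟩
    exact isIso_of_reflects_iso _ F
  refine ⟨Nat.card ι, ⟨e.symm ≪≫ Sigma.whiskerEquiv (Finite.equivFin ι)
    (fun i => (asIso (terminal.from (f i))).symm)⟩⟩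

end

/-- The whiskering of `σ : Aut F''` along `H ⋙ H'` is trivial iff `σ` acts trivially on all the
fibres `F''(H'(H X))`. -/
lemma autWhisker_comp_eq_one_iff {C C' C'' : Type u} [Category.{v} C] [Category.{v} C']
    [Category.{v} C''] (H : C ⥤ C') (H' : C' ⥤ C'') (F'' : C'' ⥤ FintypeCat.{w}) (σ : Aut F'') :
    Pi1X.autWhisker H (H' ⋙ F'') (Pi1X.autWhisker H' F'' σ) = 1 ↔
      ∀ (X : C) (x : F''.obj (H'.obj (H.obj X))), σ • x = x := by
  constructor
  · intro h X x
    have h1 := congrArg (fun τ : Aut (H ⋙ (H' ⋙ F'')) => τ.hom.app X) h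
    exact congrArg (fun g => g x) h1
  · intro h
    apply Iso.ext
    ext X x
    exact h X x

end Groth.Agent.Lib.Helper6
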