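import Mathlib
import Groth.Prelude.Def_Pi1X
import Groth.Agent.Lib.Helper6.Galois

set_option autoImplicit false
universe u v w
open CategoryTheory PreGaloisCategory Limits

namespace Groth.Agent.Lib.Helper6

section
variable {D : Type u} [Category.{v} D] [GaloisCategory D] (F : D ⥤ FintypeCat.{w}) [FiberFunctor F]

lemma nonempty_fiber_terminal : Nonempty (F.obj (⊤_ D)) := by
  have ht : IsTerminal (F.obj (⊤_ D)) := IsTerminal.isTerminalObj F _ terminalIsTerminal
  exact ⟨ht.from (FintypeCat.of PUnit) PUnit.unit⟩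

lemma smul_map_terminal {Y : D} (f : ⊤_ D ⟶ Y) (σ : Aut F) (a : F.obj (⊤_ D)) :
    σ • F.map f a = F.map f a := by
  have := subsingleton_fiber_terminal F
  rw [mulAction_naturality]
  congr 1
  exact Subsingleton.elim (α := F.obj (⊤_ D)) _ _

lemma smul_eq_of_coprod_terminal (σ : Aut F) (x : F.obj ((⊤_ D) ⨿ (⊤_ D))) : σ • x = x := by
  obtain ⟨⟨j⟩, a, ha⟩ := Limits.FintypeCat.jointly_surjective (pair (⊤_ D) (⊤_ D) ⋙ F) _
    (isColimitOfPreserves F (coprodIsCoprod (⊤_ D) (⊤_ D))) x
  cases j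
  · exact ha ▸ smul_map_terminal F coprod.inl σ a
  · exact ha ▸ smul_map_terminal F coprod.inr σ a

lemma exists_ne_fiber_coprod_terminal : ∃ ta tb : F.obj ((⊤_ D) ⨿ (⊤_ D)), ta ≠ tb := by
  have h1 : Nat.card (F.obj (⊤_ D)) = 1 := by
    have := subsingleton_fiber_terminal F
    have := nonempty_fiber_terminal F
    exact Nat.card_unique
  have h2 : Nat.card (F.obj ((⊤_ D) ⨿ (⊤_ D))) = 2 := by
    rw [card_fiber_coprod_eq_sum, h1]
  have : Nontrivial (F.obj ((⊤_ D) ⨿ (⊤_ D))) := by
    rw [← Finite.one_lt_card_iff_nontrivial, h2]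
    norm_num
  exact exists_pair_ne _

end

section
variable {C C' : Type u} [Category.{v} C] [Category.{v} C'] [GaloisCategory C] [GaloisCategory C']
    (H : C ⥤ C') (F' : C' ⥤ FintypeCat.{w}) [FiberFunctor F'] [FiberFunctor (H ⋙ F')]

lemma full_of_autWhisker_surjective (hs : Function.Surjective (Pi1X.autWhisker H F')) :
    H.Full where
  map_surjective {X Y} g := by
    let φ : (functorToAction (H ⋙ F')).obj X ⟶ (functorToAction (H ⋙ F')).obj Y :=
      { hom := F'.map g
        comm := fun τ => by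
          obtain ⟨σ, rfl⟩ := hs τ
          exact (σ.hom.naturality g).symm }
    obtain ⟨f, hf⟩ := (functorToAction (H ⋙ F')).map_surjective φ
    refine ⟨f, F'.map_injective ?_⟩
    exact congrArg (fun ψ => ψ.hom) hf

lemma isPretransitive_of_full [H.Full] (X : C) [IsConnected X] :
    MulAction.IsPretransitive (Aut F') (F'.obj (H.obj X)) := by
  classical
  obtain ⟨ta, tb, hab⟩ := exists_ne_fiber_coprod_terminal (H ⋙ F')
  refine ⟨fun x y => ?_⟩
  by_contra hy
  let O : Set (F'.obj (H.obj X)) := MulAction.orbit (Aut F') x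
  let χ : F'.obj (H.obj X) → F'.obj (H.obj ((⊤_ C) ⨿ (⊤_ C))) := fun z => if z ∈ O then ta else tb
  have hT : ∀ (σ : Aut F') (t : F'.obj (H.obj ((⊤_ C) ⨿ (⊤_ C)))), σ • t = t := fun σ t =>
    smul_eq_of_coprod_terminal (H ⋙ F') (Pi1X.autWhisker H F' σ) t
  have hχe : ∀ (σ : Aut F') (z : F'.obj (H.obj X)), χ (σ • z) = σ • χ z := by
    intro σ z
    rw [hT]
    have : σ • z ∈ O ↔ z ∈ O := by
      simp only [O]
      rw [← MulAction.orbit_eq_iff, ← MulAction.orbit_eq_iff, MulAction.orbit_smul]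
    simp only [χ]
    rw [if_congr this rfl rfl]
  let φ : (functorToAction F').obj (H.obj X) ⟶ (functorToAction F').obj (H.obj ((⊤_ C) ⨿ (⊤_ C))) :=
    { hom := FintypeCat.homMk χ
      comm := fun σ => by
        ext z
        exact hχe σ z }
  obtain ⟨g, hg⟩ := (functorToAction F').map_surjective φ
  obtain ⟨f, rfl⟩ := H.map_surjective g
  have hχ : ∀ z, (H ⋙ F').map f z = χ z := fun z => congrArg (fun ψ => ψ.hom z) hg
  obtain ⟨τ, hτ⟩ := MulAction.exists_smul_eq (α := (H ⋙ F').obj X) (Aut (H ⋙ F')) x y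
  have h1 : χ y = χ x := by
    rw [← hχ, ← hχ, ← hτ, ← mulAction_naturality, smul_eq_of_coprod_terminal]
  have hx : χ x = ta := if_pos (MulAction.mem_orbit_self x)
  have hy' : χ y = tb := if_neg (fun hmem => hy hmem)
  exact hab (hx.symm.trans (h1.symm.trans hy'))

lemma autWhisker_surjective_of_full [H.Full] : Function.Surjective (Pi1X.autWhisker H F') := by
  let inst : ∀ X : C, MulAction (Aut F') ((H ⋙ F').obj X) := fun X =>
    inferInstanceAs (MulAction (Aut F') (F'.obj (H.obj X)))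
  have : IsNaturalSMul (H ⋙ F') (Aut F') :=
    ⟨fun σ X Y f x => (mulAction_naturality F' σ (H.map f) x).symm⟩
  have : ∀ X : C, ContinuousSMul (Aut F') ((H ⋙ F').obj X) := fun X =>
    continuousSMul_aut_fiber F' (H.obj X)
  have htr : ∀ (X : C) [IsGalois X], MulAction.IsPretransitive (Aut F') ((H ⋙ F').obj X) :=
    fun X _ => isPretransitive_of_full H F' X
  have := toAut_surjective_of_isPretransitive (H ⋙ F') (Aut F') htr
  have heq : (toAut (H ⋙ F') (Aut F') : Aut F' → Aut (H ⋙ F')) = Pi1X.autWhisker H F' := by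
    funext σ
    apply Iso.ext
    ext X x
    rfl
  rwa [heq] at this

end

end Groth.Agent.Lib.Helper6
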