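import Mathlib
import Groth.Prelude.Def_Pi1X
import Groth.Agent.Lib.Helper6.GaloisFunctor

set_option autoImplicit false
universe u v w
open CategoryTheory PreGaloisCategory Limits

namespace Groth.Agent.Lib.Helper6

section
variable {D : Type u} [Category.{v} D] [GaloisCategory D] (F : D ⥤ FintypeCat.{w}) [FiberFunctor F]

/-- If `Y` is connected and the stabiliser of `y ∈ F Y` is contained in the stabiliser of
`x ∈ F X`, there is a morphism `Y ⟶ X` sending `y` to `x`. -/
lemma exists_hom_of_stabilizer_le (Y X : D) [IsConnected Y] (y : F.obj Y) (x : F.obj X)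
    (hst : ∀ σ : Aut F, σ • y = y → σ • x = x) : ∃ p : Y ⟶ X, F.map p y = x := by
  have htr : ∀ z : F.obj Y, ∃ g : Aut F, g • y = z := fun z => MulAction.exists_smul_eq (Aut F) y z
  choose g hg using htr
  let ψ : F.obj Y → F.obj X := fun z => g z • x
  have hψ : ∀ (σ : Aut F) (z : F.obj Y), ψ (σ • z) = σ • ψ z := by
    intro σ z
    simp only [ψ]
    rw [← mul_smul]
    have h1 : ((σ * g z)⁻¹ * g (σ • z)) • y = y := by
      rw [mul_smul, hg, inv_smul_eq_iff, mul_smul, hg]
    have h2 := hst _ h1
    rw [mul_smul, inv_smul_eq_iff] at h2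
    exact h2
  let φ : (functorToAction F).obj Y ⟶ (functorToAction F).obj X :=
    { hom := FintypeCat.homMk ψ
      comm := fun σ => by
        ext z
        exact hψ σ z }
  obtain ⟨p, hp⟩ := (functorToAction F).map_surjective φ
  refine ⟨p, ?_⟩
  have : F.map p y = ψ y := congrArg (fun χ => χ.hom y) hp
  rw [this]
  exact hst _ (hg y)

end

section
variable {C C' : Type u} [Category.{v} C] [Category.{v} C'] [GaloisCategory C] [GaloisCategory C']
    (H : C ⥤ C') (F' : C' ⥤ FintypeCat.{w}) [FiberFunctor F'] [FiberFunctor (H ⋙ F')]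

omit [GaloisCategory C] [GaloisCategory C'] [FiberFunctor F'] [FiberFunctor (H ⋙ F')] in
lemma autWhisker_eq_one_iff (σ : Aut F') :
    Pi1X.autWhisker H F' σ = 1 ↔ ∀ (X : C) (x : F'.obj (H.obj X)), σ • x = x := by
  constructor
  · intro h X x
    have h1 := congrArg (fun τ : Aut (H ⋙ F') => τ.hom.app X) h
    exact congrArg (fun g => g x) h1
  · intro h
    apply Iso.ext
    ext X x
    exact h X x

omit [GaloisCategory C'] [FiberFunctor F'] in
lemma autWhisker_continuous : Continuous (Pi1X.autWhisker H F') := by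
  let inst : ∀ X : C, MulAction (Aut F') ((H ⋙ F').obj X) := fun X =>
    inferInstanceAs (MulAction (Aut F') (F'.obj (H.obj X)))
  have : IsNaturalSMul (H ⋙ F') (Aut F') :=
    ⟨fun σ X Y f x => (mulAction_naturality F' σ (H.map f) x).symm⟩
  have : ∀ X : C, ContinuousSMul (Aut F') ((H ⋙ F').obj X) := fun X =>
    continuousSMul_aut_fiber F' (H.obj X)
  have := toAut_continuous (H ⋙ F') (Aut F')
  have heq : (toAut (H ⋙ F') (Aut F') : Aut F' → Aut (H ⋙ F')) = Pi1X.autWhisker H F' := by
    funext σ
    apply Iso.ext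
    ext X x
    rfl
  rwa [heq] at this

omit [GaloisCategory C] [FiberFunctor (H ⋙ F')] in
lemma autWhisker_injective_of_dominated
    (hc : ∀ X' : C', IsConnected X' → ∃ (X : C) (Y' : C') (p : Y' ⟶ X') (q : Y' ⟶ H.obj X),
      Epi p ∧ Mono q) : Function.Injective (Pi1X.autWhisker H F') := by
  rw [injective_iff_map_eq_one]
  intro σ hσ
  rw [autWhisker_eq_one_iff] at hσ
  apply Iso.ext
  apply natTrans_ext_of_isGalois F'
  intro X' hX'
  obtain ⟨X, Y', p, q, hp, hq⟩ := hc X' inferInstance
  ext z
  obtain ⟨w, rfl⟩ := surjective_on_fiber_of_epi F' p z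
  have hinj : Function.Injective (F'.map q) :=
    (ConcreteCategory.mono_iff_injective_of_preservesPullback _).mp inferInstance
  have hw : σ • w = w := by
    apply hinj
    rw [← mulAction_naturality, hσ]
  change σ • (F'.map p w) = F'.map p w
  rw [mulAction_naturality, hw]

lemma dominated_of_autWhisker_injective (hinj : Function.Injective (Pi1X.autWhisker H F'))
    (X' : C') [IsConnected X'] : ∃ (X : C) (Y' : C') (p : Y' ⟶ X') (q : Y' ⟶ H.obj X),
      Epi p ∧ Mono q := by
  obtain ⟨x'⟩ := nonempty_fiber_of_isConnected F' X'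
  have hU : (MulAction.stabilizer (Aut F') x' : Set (Aut F')) ∈ nhds (1 : Aut F') :=
    (stabilizer_isOpen (Aut F') x').mem_nhds (one_mem _)
  have hemb := (autWhisker_continuous H F').isClosedEmbedding hinj
  rw [hemb.isInducing.nhds_eq_comap, map_one] at hU
  obtain ⟨V, hV, hVU⟩ := hU
  obtain ⟨A, -, hA⟩ := (nhds_one_has_basis_stabilizers (H ⋙ F')).mem_iff.mp hV
  have := A.isGalois
  let x : F'.obj (H.obj A.obj) := A.pt
  obtain ⟨Y', q, y, hy, hconn, hmono⟩ := fiber_in_connected_component F' (H.obj A.obj) x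
  have hqinj : Function.Injective (F'.map q) :=
    (ConcreteCategory.mono_iff_injective_of_preservesPullback _).mp inferInstance
  have hst : ∀ σ : Aut F', σ • y = y → σ • x' = x' := by
    intro σ hσ
    have h1 : σ • x = x := by
      rw [← hy, mulAction_naturality, hσ]
    have h2 : Pi1X.autWhisker H F' σ ∈ MulAction.stabilizer (Aut (H ⋙ F')) A.pt := h1
    exact hVU (hA h2)
  obtain ⟨p, hp⟩ := exists_hom_of_stabilizer_le F' Y' X' y x' hst
  have : Nonempty (F'.obj Y') := ⟨y⟩
  exact ⟨A.obj, Y', p, q, epi_of_nonempty_of_isConnected F' p, hmono⟩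

end

end Groth.Agent.Lib.Helper6
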