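import Mathlib
import Groth.Prelude.Def_Pi1X
import Groth.Agent.Lib.Helper6.GaloisInj

set_option autoImplicit false
set_option linter.unusedSectionVars false
universe u v w
open CategoryTheory PreGaloisCategory Limits

namespace Groth.Agent.Lib.Helper6

section
variable {D : Type u} [Category.{v} D] [GaloisCategory D] (F : D ⥤ FintypeCat.{w}) [FiberFunctor F]

open scoped FintypeCatDiscrete

/-- Essential surjectivity of the fibre functor on finite `Aut F`-sets with open stabilisers,
in elementary terms. -/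
lemma exists_obj_of_mulAction (Z : Type w) [Finite Z] [MulAction (Aut F) Z]
    (hZ : ∀ z : Z, IsOpen (MulAction.stabilizer (Aut F) z : Set (Aut F))) :
    ∃ (X : D) (e : F.obj X ≃ Z), ∀ (τ : Aut F) (x : F.obj X), e (τ • x) = τ • e x := by
  have : Fintype Z := Fintype.ofFinite Z
  let Y : Action FintypeCat.{w} (Aut F) := Action.FintypeCat.ofMulAction (Aut F) (FintypeCat.of Z)
  have hY : Y.IsContinuous := by
    rw [Action.IsContinuous]
    have key : ∀ (W : FintypeCat.{w}), DiscreteTopology W := fun W => inferInstance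
    have : DiscreteTopology ((forget₂ (Action FintypeCat (Aut F)) TopCat).obj Y) :=
      key (FintypeCat.of Z)
    rw [continuousSMul_iff_stabilizer_isOpen]
    intro z
    exact hZ z
  let X := (functorToContAction F).objPreimage ⟨Y, hY⟩
  let i : (functorToContAction F).obj X ≅ ⟨Y, hY⟩ := (functorToContAction F).objObjPreimageIso ⟨Y, hY⟩
  let j : (functorToAction F).obj X ≅ Y := (ObjectProperty.ι _).mapIso i
  refine ⟨X, FintypeCat.equivEquivIso.symm ((Action.forget _ _).mapIso j), ?_⟩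
  intro τ x
  have := congrArg (fun f => f x) (j.hom.comm τ)
  exact this

/-- An `Aut F`-equivariant bijection of fibres comes from an isomorphism. -/
lemma nonempty_iso_of_equivariant_equiv {X Y : D} (e : F.obj X ≃ F.obj Y)
    (he : ∀ (τ : Aut F) (x : F.obj X), e (τ • x) = τ • e x) : Nonempty (X ≅ Y) := by
  let j : (functorToAction F).obj X ≅ (functorToAction F).obj Y :=
    Action.mkIso (FintypeCat.equivEquivIso e) (fun τ => by
      ext x
      exact he τ x)
  exact ⟨(functorToAction F).preimageIso j⟩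

/-- If `σ` acts trivially on the fibre of `X`, it acts trivially on the fibre of any isomorphic
object. -/
lemma smul_eq_of_iso {X Y : D} (i : X ≅ Y) (σ : Aut F) (h : ∀ x : F.obj X, σ • x = x)
    (y : F.obj Y) : σ • y = y := by
  have hy : F.map i.hom (F.map i.inv y) = y := by
    rw [← FintypeCat.comp_apply, ← F.map_comp]
    simp
  rw [← hy, mulAction_naturality, h]

/-- The kernel of the action of `Aut F` on a fibre contains every closed normal subgroup containing
a set of elements acting trivially. -/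
lemma closure_normalClosure_smul_eq (X : D) (S : Set (Aut F))
    (hS : ∀ τ ∈ S, ∀ x : F.obj X, τ • x = x) :
    ∀ τ ∈ (Subgroup.normalClosure S).topologicalClosure, ∀ x : F.obj X, τ • x = x := by
  let K : Subgroup (Aut F) := (MulAction.toPermHom (Aut F) (F.obj X)).ker
  have memK : ∀ τ : Aut F, τ ∈ K ↔ ∀ x : F.obj X, τ • x = x := by
    intro τ
    simp only [K, MonoidHom.mem_ker, Equiv.Perm.ext_iff, MulAction.toPermHom_apply,
      MulAction.toPerm_apply, Equiv.Perm.coe_one, id_eq]
  have hclosed : IsClosed (K : Set (Aut F)) := by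
    have : (K : Set (Aut F)) = ⋂ x : F.obj X, (MulAction.stabilizer (Aut F) x : Set (Aut F)) := by
      ext τ
      simp only [SetLike.mem_coe, memK, Set.mem_iInter, MulAction.mem_stabilizer_iff]
    rw [this]
    exact isClosed_iInter fun x => Subgroup.isClosed_of_isOpen _ (stabilizer_isOpen (Aut F) x)
  have hle : (Subgroup.normalClosure S).topologicalClosure ≤ K :=
    Subgroup.topologicalClosure_minimal _
      (Subgroup.normalClosure_le_normal (fun τ hτ => (memK τ).mpr (hS τ hτ))) hclosed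
  intro τ hτ
  exact (memK τ).mp (hle hτ)

end


section
variable {C C' C'' : Type u} [Category.{v} C] [Category.{v} C'] [Category.{v} C'']
    [GaloisCategory C] [GaloisCategory C'] [GaloisCategory C'']
    (H : C ⥤ C') (H' : C' ⥤ C'')
    (F'' : C'' ⥤ FintypeCat.{w}) [FiberFunctor F''] [FiberFunctor (H' ⋙ F'')]
    [FiberFunctor (H ⋙ (H' ⋙ F''))]

/-- The closed normal subgroup generated by the image of `h'`. -/
abbrev clNormal : Subgroup (Aut (H' ⋙ F'')) :=
  (Subgroup.normalClosure (Set.range (Pi1X.autWhisker H' F''))).topologicalClosure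

lemma autWhisker_mem_clNormal (σ : Aut F'') : Pi1X.autWhisker H' F'' σ ∈ clNormal H' F'' :=
  Subgroup.le_topologicalClosure _ (Subgroup.subset_normalClosure ⟨σ, rfl⟩)

lemma clNormal_normal : (clNormal H' F'').Normal :=
  Subgroup.is_normal_topologicalClosure _

/-- `H' X'` is totally split iff the closed normal subgroup generated by the image of `h'` acts
trivially on the fibre of `X'`. -/
lemma split_iff_clNormal_smul_eq (X' : C') :
    (∃ n : ℕ, Nonempty (H'.obj X' ≅ ∐ fun _ : Fin n => ⊤_ C'')) ↔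
      ∀ τ ∈ clNormal H' F'', ∀ x : (H' ⋙ F'').obj X', τ • x = x := by
  constructor
  · rintro ⟨n, ⟨e⟩⟩
    apply closure_normalClosure_smul_eq (H' ⋙ F'') X'
    rintro τ ⟨σ, rfl⟩ x
    exact smul_eq_of_iso_sigma_terminal F'' _ n e σ x
  · intro h
    apply exists_iso_sigma_terminal_of_smul_eq F'' (H'.obj X')
    intro σ x
    exact h _ (autWhisker_mem_clNormal H' F'' σ) x

lemma isClosed_ker_autWhisker :
    IsClosed ((Pi1X.autWhisker H (H' ⋙ F'')).ker : Set (Aut (H' ⋙ F''))) := by
  have : ((Pi1X.autWhisker H (H' ⋙ F'')).ker : Set (Aut (H' ⋙ F''))) =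
      (Pi1X.autWhisker H (H' ⋙ F'')) ⁻¹' {1} := by
    ext τ
    simp [MonoidHom.mem_ker]
  rw [this]
  exact isClosed_singleton.preimage (autWhisker_continuous H (H' ⋙ F''))


/-- If `h` is surjective with kernel `clNormal`, any `X'` with `H' X'` totally split is in the
essential image of `H`. -/
lemma exists_iso_of_split (hs : Function.Surjective (Pi1X.autWhisker H (H' ⋙ F'')))
    (hker : (Pi1X.autWhisker H (H' ⋙ F'')).ker = clNormal H' F'') (X' : C')
    (hX' : ∃ n : ℕ, Nonempty (H'.obj X' ≅ ∐ fun _ : Fin n => ⊤_ C'')) :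
    ∃ X : C, Nonempty (H.obj X ≅ X') := by
  have htriv := (split_iff_clNormal_smul_eq H' F'' X').mp hX'
  let a : Aut (H' ⋙ F'') →* Equiv.Perm ((H' ⋙ F'').obj X') :=
    MulAction.toPermHom (Aut (H' ⋙ F'')) ((H' ⋙ F'').obj X')
  have hle : (Pi1X.autWhisker H (H' ⋙ F'')).ker ≤ a.ker := by
    intro τ hτ
    rw [hker] at hτ
    rw [MonoidHom.mem_ker]
    ext x
    exact htriv τ hτ x
  let ρ : Aut (H ⋙ (H' ⋙ F'')) →* Equiv.Perm ((H' ⋙ F'').obj X') :=
    (Pi1X.autWhisker H (H' ⋙ F'')).liftOfRightInverse (Function.surjInv hs)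
      (Function.rightInverse_surjInv hs) ⟨a, hle⟩
  have hρ : ∀ τ : Aut (H' ⋙ F''), ρ (Pi1X.autWhisker H (H' ⋙ F'') τ) = a τ := fun τ =>
    MonoidHom.liftOfRightInverse_comp_apply _ _ _ ⟨a, hle⟩ τ
  let : MulAction (Aut (H ⋙ (H' ⋙ F''))) ((H' ⋙ F'').obj X') := MulAction.compHom _ ρ
  have hact : ∀ (τ : Aut (H' ⋙ F'')) (z : (H' ⋙ F'').obj X'),
      (Pi1X.autWhisker H (H' ⋙ F'') τ) • z = τ • z := by
    intro τ z
    change ρ (Pi1X.autWhisker H (H' ⋙ F'') τ) z = τ • z
    rw [hρ]
    rfl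
  have hopen : ∀ z : (H' ⋙ F'').obj X',
      IsOpen (MulAction.stabilizer (Aut (H ⋙ (H' ⋙ F''))) z : Set (Aut (H ⋙ (H' ⋙ F'')))) := by
    intro z
    have hq : Topology.IsQuotientMap (Pi1X.autWhisker H (H' ⋙ F'')) :=
      (autWhisker_continuous H (H' ⋙ F'')).isClosedMap.isQuotientMap
        (autWhisker_continuous H (H' ⋙ F'')) hs
    rw [← hq.isOpen_preimage]
    have : (Pi1X.autWhisker H (H' ⋙ F'')) ⁻¹'
        (MulAction.stabilizer (Aut (H ⋙ (H' ⋙ F''))) z : Set (Aut (H ⋙ (H' ⋙ F'')))) =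
        (MulAction.stabilizer (Aut (H' ⋙ F'')) z : Set (Aut (H' ⋙ F''))) := by
      ext τ
      simp only [Set.mem_preimage, SetLike.mem_coe, MulAction.mem_stabilizer_iff, hact]
    rw [this]
    exact stabilizer_isOpen (Aut (H' ⋙ F'')) z
  obtain ⟨X, e, he⟩ := exists_obj_of_mulAction (H ⋙ (H' ⋙ F'')) ((H' ⋙ F'').obj X') hopen
  refine ⟨X, nonempty_iso_of_equivariant_equiv (H' ⋙ F'') (X := H.obj X) (Y := X') e ?_⟩
  intro τ x
  have := he (Pi1X.autWhisker H (H' ⋙ F'') τ) x
  rw [hact] at this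
  exact this


open Pointwise in
/-- If every `X'` with `H' X'` totally split is in the essential image of `H`, then the kernel of
`h` is contained in the closed normal subgroup generated by the image of `h'`. -/
lemma ker_le_clNormal
    (hess : ∀ X' : C', (∃ n : ℕ, Nonempty (H'.obj X' ≅ ∐ fun _ : Fin n => ⊤_ C'')) →
      ∃ X : C, Nonempty (H.obj X ≅ X')) :
    (Pi1X.autWhisker H (H' ⋙ F'')).ker ≤ clNormal H' F'' := by
  intro σ hσ
  by_contra hσN
  have hNn : (clNormal H' F'').Normal := clNormal_normal H' F''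
  have hNc : IsClosed (clNormal H' F'' : Set (Aut (H' ⋙ F''))) :=
    Subgroup.isClosed_topologicalClosure _
  let O : Set (Aut (H' ⋙ F'')) := {w | w⁻¹ * σ ∉ clNormal H' F''}
  have hO : O ∈ nhds (1 : Aut (H' ⋙ F'')) := by
    have hOo : IsOpen O :=
      hNc.isOpen_compl.preimage (by fun_prop : Continuous fun w : Aut (H' ⋙ F'') => w⁻¹ * σ)
    exact hOo.mem_nhds (by simpa [O] using hσN)
  obtain ⟨A, -, hA⟩ := (nhds_one_has_basis_stabilizers (H' ⋙ F'')).mem_iff.mp hO
  have := A.isGalois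
  -- the `Aut F'`-set of `N`-stable subsets of the fibre of `A`
  let Z : SubMulAction (Aut (H' ⋙ F'')) (Set ((H' ⋙ F'').obj A.obj)) :=
    { carrier := {s | ∀ n ∈ clNormal H' F'', n • s = s}
      smul_mem' := by
        intro τ s hs n hn
        have h1 : τ⁻¹ * n * τ ∈ clNormal H' F'' := by
          have := hNn.conj_mem n hn τ⁻¹
          simpa using this
        have h2 := hs _ h1
        calc n • τ • s = τ • (τ⁻¹ * n * τ) • s := by
              rw [← mul_smul, ← mul_smul]
              congr 1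
              group
          _ = τ • s := by rw [h2] }
  have hZfin : Finite Z := inferInstanceAs (Finite {s // s ∈ Z.carrier})
  have hZopen : ∀ z : Z, IsOpen (MulAction.stabilizer (Aut (H' ⋙ F'')) z :
      Set (Aut (H' ⋙ F''))) := by
    intro z
    have hle : (⨅ x : (H' ⋙ F'').obj A.obj, MulAction.stabilizer (Aut (H' ⋙ F'')) x) ≤
        MulAction.stabilizer (Aut (H' ⋙ F'')) z := by
      intro τ hτ
      rw [Subgroup.mem_iInf] at hτ
      rw [MulAction.mem_stabilizer_iff]
      apply Subtype.ext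
      change τ • (z : Set ((H' ⋙ F'').obj A.obj)) = z
      ext x
      constructor
      · rintro ⟨y, hy, rfl⟩
        have : τ • y = y := hτ y
        simpa [this] using hy
      · intro hx
        exact ⟨x, hx, hτ x⟩
    refine Subgroup.isOpen_mono hle ?_
    rw [Subgroup.coe_iInf]
    exact isOpen_iInter_of_finite fun x => stabilizer_isOpen (Aut (H' ⋙ F'')) x
  obtain ⟨X', e, he⟩ := exists_obj_of_mulAction (H' ⋙ F'') Z hZopen
  -- `N` acts trivially on the fibre of `X'`
  have hNtriv : ∀ τ ∈ clNormal H' F'', ∀ x : (H' ⋙ F'').obj X', τ • x = x := by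
    intro τ hτ x
    apply e.injective
    rw [he]
    exact Subtype.ext ((e x).2 τ hτ)
  obtain ⟨X, ⟨i⟩⟩ := hess X' ((split_iff_clNormal_smul_eq H' F'' X').mpr hNtriv)
  -- hence `σ` acts trivially on the fibre of `X'`
  have hσX : ∀ x : (H' ⋙ F'').obj X', σ • x = x := by
    apply smul_eq_of_iso (H' ⋙ F'') i σ
    intro x
    exact (autWhisker_eq_one_iff H (H' ⋙ F'') σ).mp hσ X x
  -- the `N`-orbit of the base point
  let s₀ : Set ((H' ⋙ F'').obj A.obj) := {x | ∃ n ∈ clNormal H' F'', n • A.pt = x}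
  have hs₀ : s₀ ∈ Z := by
    intro n hn
    ext x
    constructor
    · rintro ⟨y, ⟨m, hm, rfl⟩, rfl⟩
      exact ⟨n * m, (clNormal H' F'').mul_mem hn hm, mul_smul n m A.pt⟩
    · rintro ⟨m, hm, rfl⟩
      refine ⟨n⁻¹ • m • A.pt, ⟨n⁻¹ * m, (clNormal H' F'').mul_mem
        ((clNormal H' F'').inv_mem hn) hm, mul_smul _ _ _⟩, ?_⟩
      simp
  have hσs₀ : σ • (⟨s₀, hs₀⟩ : Z) = ⟨s₀, hs₀⟩ := by
    apply e.symm.injective
    have h1 := he σ (e.symm ⟨s₀, hs₀⟩)
    rw [e.apply_symm_apply] at h1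
    rw [← h1, e.symm_apply_apply]
    exact hσX _
  have hσs₀' : σ • s₀ = s₀ := congrArg Subtype.val hσs₀
  have hmem : σ • A.pt ∈ s₀ := by
    rw [← hσs₀']
    exact ⟨A.pt, ⟨1, (clNormal H' F'').one_mem, one_smul _ _⟩, rfl⟩
  obtain ⟨n, hn, hna⟩ := hmem
  have hw : n⁻¹ * σ ∈ MulAction.stabilizer (Aut (H' ⋙ F'')) A.pt := by
    rw [MulAction.mem_stabilizer_iff, mul_smul, ← hna, inv_smul_smul]
  have hwO : (n⁻¹ * σ)⁻¹ * σ ∉ clNormal H' F'' := hA hw
  apply hwO
  have := hNn.conj_mem n hn σ⁻¹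
  simpa [mul_assoc] using this

end

end Groth.Agent.Lib.Helper6
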