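import Mathlib

/-! Localize-then-restrict vs restrict-then-localize (helper6). -/

set_option autoImplicit false
universe u

open TensorProduct

namespace Groth.Agent.Lib.Helper6
namespace LocCore

variable {P : Type u} (A : Type u) [CommRing P] [CommRing A] [Algebra P A] (G : P)
  (N : Type u) [AddCommGroup N] [Module A N] [Module P N] [IsScalarTower P A N]

/-- the induced map on localizations. -/
noncomputable abbrev abar : Localization.Away G →+* Localization.Away (algebraMap P A G) :=
  IsLocalization.Away.map (Localization.Away G) (Localization.Away (algebraMap P A G))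
    (algebraMap P A) G

lemma abar_algebraMap (p : P) :
    abar A G (algebraMap P (Localization.Away G) p) =
      algebraMap A (Localization.Away (algebraMap P A G)) (algebraMap P A p) :=
  IsLocalization.map_eq _ _

/-- the target. -/
abbrev T₂ : Type u := Localization.Away (algebraMap P A G) ⊗[A] N

/-- the `P_G`-module structure through `abar`. -/
@[reducible] noncomputable def modT₂ : Module (Localization.Away G) (T₂ A G N) :=
  Module.compHom (T₂ A G N) (abar A G)

attribute [local instance] modT₂

lemma smul_T₂ (x : Localization.Away G) (z : T₂ A G N) :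
    x • z = (abar A G x) • z := rfl

lemma towerT₂ : IsScalarTower P (Localization.Away G) (T₂ A G N) :=
  IsScalarTower.of_algebraMap_smul (fun r x => by
    rw [smul_T₂, abar_algebraMap, ← IsScalarTower.algebraMap_apply, algebraMap_smul])

attribute [local instance] towerT₂

/-- `n ↦ 1 ⊗ n` as a `P`-linear map. -/
noncomputable def f₂ : N →ₗ[P] T₂ A G N :=
  (TensorProduct.mk A (Localization.Away (algebraMap P A G)) N 1).restrictScalars P

lemma isLoc_f₂ : IsLocalizedModule (Submonoid.powers G) (f₂ A G N) :=
  IsLocalizedModule.restrictScalars_powers G
    (TensorProduct.mk A (Localization.Away (algebraMap P A G)) N 1)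

attribute [local instance] isLoc_f₂

/-- the comparison, `P`-linear. -/
noncomputable def coreEquivP : (Localization.Away G ⊗[P] N) ≃ₗ[P] T₂ A G N :=
  IsLocalizedModule.linearEquiv (Submonoid.powers G)
    (TensorProduct.mk P (Localization.Away G) N 1) (f₂ A G N)

/-- the comparison, `P_G`-linear. -/
noncomputable def coreEquiv : (Localization.Away G ⊗[P] N) ≃ₗ[Localization.Away G] T₂ A G N :=
  LinearEquiv.extendScalarsOfIsLocalization (Submonoid.powers G) (Localization.Away G)
    (coreEquivP A G N)

lemma coreEquiv_one_tmul (n : N) :
    coreEquiv A G N ((1 : Localization.Away G) ⊗ₜ[P] n) =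
      ((1 : Localization.Away (algebraMap P A G)) ⊗ₜ[A] n : T₂ A G N) :=
  IsLocalizedModule.linearEquiv_apply (Submonoid.powers G)
    (TensorProduct.mk P (Localization.Away G) N 1) (f₂ A G N) n

end LocCore
end Groth.Agent.Lib.Helper6
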