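import Mathlib
import Groth.Prelude.Def_DRing2
import Groth.Agent.Lib.Helper35.FlatBC
import Groth.Agent.Lib.Helper6.LocCore

/-! Base change for localization at one element, on module categories (helper6). -/

set_option autoImplicit false
universe u

open CategoryTheory Limits TensorProduct

namespace Groth.Agent.Lib.Helper6
namespace LocBC

open Groth.Agent.Lib.Helper35.FlatBC LocCore

lemma extLinearEquiv_tmul {A : Type u} (B : Type u) [CommRing A] [CommRing B] [Algebra A B]
    (M : Type u) [AddCommGroup M] [Module A M] (b : B) (m : M) :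
    extLinearEquiv B M ((b : B' A B) ⊗ₜ[A] m) = b ⊗ₜ[A] m := rfl

/-- two linear maps out of an extension of scalars agreeing on `1 ⊗ m` are equal. -/
lemma ext_hom_ext {A B : Type u} [CommRing A] [CommRing B] (φ : A →+* B) (M : ModuleCat.{u} A)
    {Z : ModuleCat.{u} B} (h₁ h₂ : (ModuleCat.extendScalars.{u, u, u} φ).obj M ⟶ Z)
    (h : ∀ m : M, h₁.hom ((1 : B) ⊗ₜ[A] m) = h₂.hom ((1 : B) ⊗ₜ[A] m)) : h₁ = h₂ := by
  ext z
  exact h z

section

variable {P A : Type u} [CommRing P] [CommRing A] [Algebra P A] (G : P)

attribute [local instance] modT₂ towerT₂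

/-- restrict, then localize. -/
noncomputable abbrev F₁ : ModuleCat.{u} A ⥤ ModuleCat.{u} (Localization.Away G) :=
  ModuleCat.restrictScalars.{u} (algebraMap P A) ⋙ ext P (Localization.Away G)

/-- localize, then restrict. -/
noncomputable abbrev F₂ : ModuleCat.{u} A ⥤ ModuleCat.{u} (Localization.Away G) :=
  ext A (Localization.Away (algebraMap P A G)) ⋙ ModuleCat.restrictScalars.{u} (abar A G)

variable (N : ModuleCat.{u} A)

/-- the `P`-module structure on `N`. -/
@[reducible] noncomputable def modP : Module P N := Module.compHom N (algebraMap P A)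

attribute [local instance] modP

lemma towerP : IsScalarTower P A N := IsScalarTower.of_algebraMap_smul (fun _ _ => rfl)

attribute [local instance] towerP

/-- second leg. -/
noncomputable def e₂ : T₂ A G N ≃ₗ[Localization.Away G] ((F₂ (A := A) G).obj N) where
  toFun := (extLinearEquiv (Localization.Away (algebraMap P A G)) N).symm
  invFun := extLinearEquiv (Localization.Away (algebraMap P A G)) N
  map_add' := (extLinearEquiv (Localization.Away (algebraMap P A G)) N).symm.map_add
  map_smul' := fun x z =>
    (extLinearEquiv (Localization.Away (algebraMap P A G)) N).symm.map_smul (abar A G x) z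
  left_inv := (extLinearEquiv (Localization.Away (algebraMap P A G)) N).apply_symm_apply
  right_inv := (extLinearEquiv (Localization.Away (algebraMap P A G)) N).symm_apply_apply

/-- the comparison on objects. -/
noncomputable def eN : ((F₁ (A := A) G).obj N) ≃ₗ[Localization.Away G] ((F₂ (A := A) G).obj N) :=
  (extLinearEquiv (Localization.Away G) N) ≪≫ₗ coreEquiv A G N ≪≫ₗ e₂ G N

lemma eN_one_tmul (n : N) :
    eN G N ((1 : Localization.Away G) ⊗ₜ[P] n) =
      e₂ G N ((1 : Localization.Away (algebraMap P A G)) ⊗ₜ[A] n) := by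
  show e₂ G N (coreEquiv A G N (extLinearEquiv (Localization.Away G) N
    ((1 : Localization.Away G) ⊗ₜ[P] n))) = _
  have h1 : extLinearEquiv (Localization.Away G) N ((1 : Localization.Away G) ⊗ₜ[P] n) =
      (1 : Localization.Away G) ⊗ₜ[P] n := rfl
  rw [h1, coreEquiv_one_tmul]

lemma map_e₂ {N N' : ModuleCat.{u} A} (φ : N ⟶ N') (x : Localization.Away (algebraMap P A G))
    (n : N) :
    ((F₂ (A := A) G).map φ).hom (e₂ G N (x ⊗ₜ[A] n)) = e₂ G N' (x ⊗ₜ[A] φ.hom n) := by
  rfl

end

section natIso

variable {P A : Type u} [CommRing P] [CommRing A] [Algebra P A] (G : P)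

attribute [local instance] modP towerP modT₂ towerT₂

/-- restrict-then-localize is localize-then-restrict. -/
noncomputable def locRestrIso : F₁ (A := A) G ≅ F₂ (A := A) G :=
  NatIso.ofComponents (fun N => (eN G N).toModuleIso) (by
    intro N N' φ
    apply ext_hom_ext
    intro m
    have key : ∀ m' : N, eN G N' ((1 : Localization.Away G) ⊗ₜ[P] φ.hom m') =
        ((F₂ (A := A) G).map φ).hom (eN G N ((1 : Localization.Away G) ⊗ₜ[P] m')) := by
      intro m'
      rw [eN_one_tmul, eN_one_tmul, map_e₂]
    exact key m)

/-- complex level. -/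
noncomputable def locRestrCxIso (K : DRing.Cx A) :
    ((ext P (Localization.Away G)).mapHomologicalComplex (ComplexShape.up ℤ)).obj
        (((ModuleCat.restrictScalars.{u} (algebraMap P A)).mapHomologicalComplex
          (ComplexShape.up ℤ)).obj K) ≅
      ((ModuleCat.restrictScalars.{u} (abar A G)).mapHomologicalComplex (ComplexShape.up ℤ)).obj
        (((ext A (Localization.Away (algebraMap P A G))).mapHomologicalComplex
          (ComplexShape.up ℤ)).obj K) :=
  HomologicalComplex.Hom.isoOfComponents (fun i => (locRestrIso (A := A) G).app (K.X i))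
    (fun i j _ => ((locRestrIso (A := A) G).hom.naturality (K.d i j)).symm)

end natIso

end LocBC
end Groth.Agent.Lib.Helper6
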