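import Mathlib
import Groth.Prelude.Def_DRing2
import Groth.Prelude.Def_DDual2
import Groth.Agent.Lib.Helper6.RestrPC

/-! More on restriction of scalars on derived categories (helper6). -/

set_option autoImplicit false
universe u

open CategoryTheory Limits Pretriangulated DerivedCategory ZeroObject

namespace Groth.Agent.Lib.Helper6
namespace RestrPC

attribute [local instance] HasDerivedCategory.standard

open MPC

variable {A B : Type u} [CommRing A] [CommRing B] (φ : A →+* B)

/-- `H^i` of the restriction is the restriction of `H^i` (as a linear equivalence over `A`). -/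
noncomputable def hdEquiv (K : Dual.D B) (i : ℤ) :
    Dual.HD A ((DRing.restrictD φ).obj K) i ≃ₗ[A] ((Φ φ).obj (ModuleCat.of B (Dual.HD B K i))) :=
  ((ExactDC.homologyIso (Φ φ) i).app K).toLinearEquiv

lemma subsingleton_hd_rD_iff (K : Dual.D B) (i : ℤ) :
    Subsingleton (Dual.HD A ((DRing.restrictD φ).obj K) i) ↔ Subsingleton (Dual.HD B K i) :=
  (hdEquiv φ K i).toEquiv.subsingleton_congr

lemma finite_restr_of_surjective (hφ : Function.Surjective φ) (M : ModuleCat.{u} B)
    (h : Module.Finite B M) : Module.Finite A ((Φ φ).obj M) := by
  let _ : Algebra A B := φ.toAlgebra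
  let _ : Module A M := Module.compHom M φ
  have : IsScalarTower A B M := IsScalarTower.of_algebraMap_smul (fun r x => rfl)
  have : Module.Finite A B := Module.Finite.of_surjective (Algebra.linearMap A B) hφ
  have h' : Module.Finite A M := Module.Finite.trans B M
  exact h'

lemma finite_hd_rD_iff (hφ : Function.Surjective φ) (K : Dual.D B) (i : ℤ) :
    Module.Finite A (Dual.HD A ((DRing.restrictD φ).obj K) i) ↔ Module.Finite B (Dual.HD B K i) := by
  constructor
  · intro h
    have h2 : Module.Finite A ((Φ φ).obj (ModuleCat.of B (Dual.HD B K i))) :=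
      Module.Finite.equiv (hdEquiv φ K i)
    exact finite_of_finite_restr φ (ModuleCat.of B (Dual.HD B K i)) h2
  · intro h
    have h2 : Module.Finite A ((Φ φ).obj (ModuleCat.of B (Dual.HD B K i))) :=
      finite_restr_of_surjective φ hφ _ h
    exact Module.Finite.equiv (hdEquiv φ K i).symm

end RestrPC
end Groth.Agent.Lib.Helper6
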