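import Mathlib
import Groth.Prelude.Def_DRing2
import Groth.Prelude.Def_DDual2
import Groth.Agent.Lib.Helper6.RestrPC2
import Groth.Prelude.Def_DerCA

/-! Ring maps `A → B` making `B` a pseudo-coherent `A`-module; independence of presentations for
relative pseudo-coherence (helper6). -/

set_option autoImplicit false
universe u

open CategoryTheory Limits Pretriangulated DerivedCategory ZeroObject

namespace Groth.Agent.Lib.Helper6
namespace RestrPC

attribute [local instance] HasDerivedCategory.standard

open MPC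

variable {A B C : Type u} [CommRing A] [CommRing B] [CommRing C]

/-- the ring map `φ` makes `B` an all-pseudo-coherent `A`-module. -/
def PCMap (φ : A →+* B) : Prop := AllPC ((Φ φ).obj (ModuleCat.of B B))

section comp

variable (φ : A →+* B) (ψ : B →+* C)

/-- termwise: restricting a complex twice is restricting along the composite. -/
noncomputable def restrCxCompIso (E : DRing.Cx C) :
    ((Φ φ).mapHomologicalComplex (ComplexShape.up ℤ)).obj
        (((Φ ψ).mapHomologicalComplex (ComplexShape.up ℤ)).obj E) ≅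
      ((Φ (ψ.comp φ)).mapHomologicalComplex (ComplexShape.up ℤ)).obj E :=
  HomologicalComplex.Hom.isoOfComponents
    (fun i => (ModuleCat.restrictScalarsComp'App φ ψ (ψ.comp φ) rfl (E.X i)).symm)
    (fun i j _ => rfl)

/-- object-level: restricting twice in the derived category is restricting along the composite. -/
noncomputable def rDCompIso (K : Dual.D C) :
    (DRing.restrictD φ).obj ((DRing.restrictD ψ).obj K) ≅ (DRing.restrictD (ψ.comp φ)).obj K :=
  let E := Q.objPreimage K
  let e : Q.obj E ≅ K := Q.objObjPreimageIso K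
  (DRing.restrictD φ).mapIso ((DRing.restrictD ψ).mapIso e.symm) ≪≫
    (DRing.restrictD φ).mapIso ((Φ ψ).mapDerivedCategoryFactors.app E) ≪≫
    (Φ φ).mapDerivedCategoryFactors.app _ ≪≫
    Q.mapIso (restrCxCompIso φ ψ E) ≪≫
    ((Φ (ψ.comp φ)).mapDerivedCategoryFactors.app E).symm ≪≫
    (DRing.restrictD (ψ.comp φ)).mapIso e

variable {φ}

lemma isPC_rD_comp_iff (hφ : PCMap φ) (K : Dual.D C) (m : ℤ) :
    DRing.IsPseudoCoherent B m ((DRing.restrictD ψ).obj K) ↔
      DRing.IsPseudoCoherent A m ((DRing.restrictD (ψ.comp φ)).obj K) := by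
  rw [isPC_rD_iff φ hφ]
  exact ⟨isPC_of_iso (rDCompIso φ ψ K), isPC_of_iso (rDCompIso φ ψ K).symm⟩

variable {ψ}

lemma pcMap_comp (hφ : PCMap φ) (hψ : PCMap ψ) : PCMap (ψ.comp φ) := by
  intro m
  have h1 := isPC_rD φ hφ (hψ m)
  have h2 := isPC_of_iso (((Φ φ).mapDerivedCategorySingleFunctor 0).app _) h1
  exact isPC_of_iso ((DerivedCategory.singleFunctor (ModuleCat.{u} A) 0).mapIso
    (ModuleCat.restrictScalarsComp'App φ ψ (ψ.comp φ) rfl (ModuleCat.of C C)).symm) h2

end comp

lemma allPC_self (A : Type u) [CommRing A] : AllPC (ModuleCat.of A A) := fun m =>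
  isPC_of_FF (FF_single (ModuleCat.of A A)) m

lemma pcMap_of_bijective (φ : A →+* B) (hφ : Function.Bijective φ) : PCMap φ := by
  let e : A ≃ₗ[A] ((Φ φ).obj (ModuleCat.of B B)) :=
    { toFun := fun a => φ a
      invFun := fun b => (RingEquiv.ofBijective φ hφ).symm b
      map_add' := fun a a' => map_add φ a a'
      map_smul' := fun a a' => map_mul φ a a'
      left_inv := fun a => (RingEquiv.ofBijective φ hφ).symm_apply_apply a
      right_inv := fun b => (RingEquiv.ofBijective φ hφ).apply_symm_apply b }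
  exact allPC_of_iso e.toModuleIso (allPC_self A)


/-- from a short exact sequence: first two all-pc implies the third. -/
lemma allPC_of_shortExact₃ {A : Type u} [CommRing A] {S : ShortComplex (ModuleCat.{u} A)}
    (hS : S.ShortExact) (h₁ : AllPC S.X₁) (h₂ : AllPC S.X₂) : AllPC S.X₃ := fun m =>
  (isPC_triangle _ hS.singleTriangle_distinguished m).1 (h₁ (m + 1)) (h₂ m)

section eval

open Polynomial

variable (S : Type u) [CommRing S] (a : S)

/-- evaluation at `a` as a linear map over `S[X]`. -/
noncomputable def evalLin :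
    (ModuleCat.of S[X] S[X]) →ₗ[S[X]] ((Φ (Polynomial.evalRingHom a)).obj (ModuleCat.of S S)) where
  toFun p := (Polynomial.eval a (p : S[X]) : S)
  map_add' p q := Polynomial.eval_add (p := (p : S[X])) (q := (q : S[X])) (x := a)
  map_smul' p q := Polynomial.eval_mul (p := (p : S[X])) (q := (q : S[X])) (x := a)

lemma evalLin_apply (p : S[X]) : evalLin S a p = Polynomial.eval a p := rfl

lemma pcMap_eval : PCMap (Polynomial.evalRingHom a) := by
  let T : ShortComplex (ModuleCat.{u} S[X]) :=
    ShortComplex.mk (ModuleCat.ofHom (LinearMap.mulLeft S[X] (X - C a)))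
      (ModuleCat.ofHom (evalLin S a))
      (by
        ext
        show Polynomial.eval a ((X - C a) * 1) = 0
        simp)
  have hT : T.ShortExact := by
    refine ModuleCat.shortComplex_shortExact T ?_ ?_ ?_
    · intro p
      constructor
      · intro hp
        have hroot : Polynomial.IsRoot (p : S[X]) a := hp
        obtain ⟨q, hq⟩ := Polynomial.dvd_iff_isRoot.2 hroot
        exact ⟨q, hq.symm⟩
      · rintro ⟨q, rfl⟩
        show (Polynomial.eval a ((X - C a) * (q : S[X])) : S) = 0
        rw [Polynomial.eval_mul, Polynomial.eval_sub, Polynomial.eval_X, Polynomial.eval_C,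
          sub_self, zero_mul]
    · intro p q hpq
      exact (Polynomial.monic_X_sub_C a).isRegular.left hpq
    · intro s
      have hs : ∀ s' : S, (Polynomial.eval a (C s') : S) = s' := fun s' => Polynomial.eval_C
      exact ⟨C (show S from s), hs s⟩
  exact allPC_of_shortExact₃ hT (allPC_self S[X]) (allPC_self S[X])

end eval


section aeval

variable (P : Type u) [CommRing P]

lemma pcMap_aeval (k : ℕ) : ∀ (f : Fin k → P),
    PCMap ((MvPolynomial.aeval f : MvPolynomial (Fin k) P →ₐ[P] P) :
      MvPolynomial (Fin k) P →+* P) := by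
  induction k with
  | zero =>
    intro f
    refine pcMap_of_bijective _ ⟨?_, ?_⟩
    · intro q q' h
      rw [MvPolynomial.eq_C_of_isEmpty q, MvPolynomial.eq_C_of_isEmpty q'] at h ⊢
      have h' : MvPolynomial.aeval f (MvPolynomial.C (MvPolynomial.coeff 0 q)) =
          MvPolynomial.aeval f (MvPolynomial.C (MvPolynomial.coeff 0 q')) := h
      rw [MvPolynomial.aeval_C, MvPolynomial.aeval_C] at h'
      exact congrArg _ h'
    · intro p
      exact ⟨MvPolynomial.C p, by
        show MvPolynomial.aeval f (MvPolynomial.C p) = p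
        rw [MvPolynomial.aeval_C]; rfl⟩
  | succ k ih =>
    intro f
    let S := MvPolynomial (Fin k) P
    let φ₁ : MvPolynomial (Fin (k + 1)) P →+* Polynomial S :=
      (MvPolynomial.finSuccEquiv P k : MvPolynomial (Fin (k + 1)) P →+* Polynomial S)
    let φ₂ : Polynomial S →+* S := Polynomial.evalRingHom (MvPolynomial.C (f 0) : S)
    let φ₃ : S →+* P := ((MvPolynomial.aeval (f ∘ Fin.succ) : S →ₐ[P] P) : S →+* P)
    have h₁ : PCMap φ₁ := pcMap_of_bijective _ (MvPolynomial.finSuccEquiv P k).bijective
    have h₂ : PCMap φ₂ := pcMap_eval S _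
    have h₃ : PCMap φ₃ := ih (f ∘ Fin.succ)
    have heq : ((MvPolynomial.aeval f : MvPolynomial (Fin (k + 1)) P →ₐ[P] P) :
        MvPolynomial (Fin (k + 1)) P →+* P) = φ₃.comp (φ₂.comp φ₁) := by
      apply MvPolynomial.ringHom_ext
      · intro p
        simp [φ₁, φ₂, φ₃, MvPolynomial.finSuccEquiv_apply]
        exact ((MvPolynomial.aeval_C (f ∘ Fin.succ) p).trans rfl).symm
      · intro i
        refine Fin.cases ?_ (fun j => ?_) i
        · simp [φ₁, φ₂, φ₃, MvPolynomial.finSuccEquiv_apply]
          exact ((MvPolynomial.aeval_C (f ∘ Fin.succ) (f 0)).trans rfl).symm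
        · simp [φ₁, φ₂, φ₃, MvPolynomial.finSuccEquiv_apply]
          exact (MvPolynomial.aeval_X (f ∘ Fin.succ) j).symm
    rw [heq]
    exact pcMap_comp (pcMap_comp h₁ h₂) h₃

end aeval


section indep

variable {R A : Type u} [CommRing R] [CommRing A] [Algebra R A]

/-- one direction of the independence of the presentation. -/
theorem relPC_indep {n k : ℕ} (α : MvPolynomial (Fin n) R →ₐ[R] A) (hα : Function.Surjective α)
    (β : MvPolynomial (Fin k) R →ₐ[R] A) (hβ : Function.Surjective β) (K : Dual.D A) (m : ℤ)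
    (h : DerCA.IsRelPseudoCoherentVia α m K) : DerCA.IsRelPseudoCoherentVia β m K := by
  choose f hf using fun j : Fin k => hα (β (MvPolynomial.X j))
  choose g hg using fun i : Fin n => hβ (α (MvPolynomial.X i))
  let π₁ : MvPolynomial (Fin k) (MvPolynomial (Fin n) R) →+* MvPolynomial (Fin n) R :=
    ((MvPolynomial.aeval f :
      MvPolynomial (Fin k) (MvPolynomial (Fin n) R) →ₐ[MvPolynomial (Fin n) R] _) : _ →+* _)
  let π₂ : MvPolynomial (Fin n) (MvPolynomial (Fin k) R) →+* MvPolynomial (Fin k) R :=
    ((MvPolynomial.aeval g :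
      MvPolynomial (Fin n) (MvPolynomial (Fin k) R) →ₐ[MvPolynomial (Fin k) R] _) : _ →+* _)
  let c : MvPolynomial (Fin k) (MvPolynomial (Fin n) R) →+*
      MvPolynomial (Fin n) (MvPolynomial (Fin k) R) :=
    (MvPolynomial.commAlgEquiv R (Fin k) (Fin n) : _ →+* _)
  have hπ₁ : PCMap π₁ := pcMap_aeval _ k f
  have hπ₂ : PCMap π₂ := pcMap_aeval _ n g
  have hc : PCMap c := pcMap_of_bijective _ (MvPolynomial.commAlgEquiv R (Fin k) (Fin n)).bijective
  let α' : MvPolynomial (Fin n) R →+* A := (α : _ →+* A)
  let β' : MvPolynomial (Fin k) R →+* A := (β : _ →+* A)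
  have heq : α'.comp π₁ = (β'.comp π₂).comp c := by
    apply MvPolynomial.ringHom_ext
    · intro p
      have h0 : (α'.comp π₁).comp MvPolynomial.C = ((β'.comp π₂).comp c).comp MvPolynomial.C := by
        apply MvPolynomial.ringHom_ext
        · intro r
          show α (MvPolynomial.aeval f (MvPolynomial.C (MvPolynomial.C r))) =
            β (MvPolynomial.aeval g (MvPolynomial.commAlgEquiv R (Fin k) (Fin n)
              (MvPolynomial.C (MvPolynomial.C r))))
          rw [MvPolynomial.aeval_C, MvPolynomial.commAlgEquiv_C, MvPolynomial.map_C,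
            MvPolynomial.aeval_C]
          show α (algebraMap R _ r) = β (algebraMap R _ r)
          rw [α.commutes, β.commutes]
        · intro i
          show α (MvPolynomial.aeval f (MvPolynomial.C (MvPolynomial.X i))) =
            β (MvPolynomial.aeval g (MvPolynomial.commAlgEquiv R (Fin k) (Fin n)
              (MvPolynomial.C (MvPolynomial.X i))))
          rw [MvPolynomial.aeval_C, MvPolynomial.commAlgEquiv_C_X, MvPolynomial.aeval_X, hg]
          rfl
      exact RingHom.congr_fun h0 p
    · intro j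
      show α (MvPolynomial.aeval f (MvPolynomial.X j)) =
        β (MvPolynomial.aeval g (MvPolynomial.commAlgEquiv R (Fin k) (Fin n) (MvPolynomial.X j)))
      rw [MvPolynomial.aeval_X, MvPolynomial.commAlgEquiv_X, MvPolynomial.aeval_C, hf]
      rfl
  have h1 : DRing.IsPseudoCoherent _ m ((DRing.restrictD (α'.comp π₁)).obj K) :=
    (isPC_rD_comp_iff α' hπ₁ K m).1 h
  rw [heq] at h1
  have h2 : DRing.IsPseudoCoherent _ m ((DRing.restrictD (β'.comp π₂)).obj K) :=
    (isPC_rD_comp_iff (β'.comp π₂) hc K m).2 h1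
  exact (isPC_rD_comp_iff β' hπ₂ K m).2 h2

theorem relPC_of_via [Algebra.FiniteType R A] {n : ℕ} (α : MvPolynomial (Fin n) R →ₐ[R] A)
    (hα : Function.Surjective α) (K : Dual.D A) (m : ℤ) :
    DerCA.IsRelPseudoCoherent R A m K ↔ DerCA.IsRelPseudoCoherentVia α m K :=
  ⟨fun ⟨_, β, hβ, h⟩ => relPC_indep β hβ α hα K m h, fun h => ⟨n, α, hα, h⟩⟩

end indep

end RestrPC
end Groth.Agent.Lib.Helper6
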