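import Mathlib
import Groth.Prelude.Def_DRing2
import Groth.Prelude.Def_DDual2
import Groth.Prelude.Def_DerCA
import Groth.Agent.Lib.Helper35.FlatBC
import Groth.Agent.Lib.Helper6.PCMap

/-! Flat base change of pseudo-coherent ring maps; polynomial extensions (helper6). -/

set_option autoImplicit false
universe u

open CategoryTheory Limits Pretriangulated DerivedCategory ZeroObject TensorProduct

namespace Groth.Agent.Lib.Helper6
namespace RestrPC

attribute [local instance] HasDerivedCategory.standard

open MPC Groth.Agent.Lib.Helper35.FlatBC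

section baseChange

variable {P A P' : Type u} [CommRing P] [CommRing A] [CommRing P'] [Algebra P A] [Algebra P P']

/-- `P' ⊗[P] A` as a `P'`-module is the restriction of itself along `includeLeft`. -/
noncomputable def tensorRestrIso :
    ModuleCat.of P' (P' ⊗[P] A) ≅
      (Φ (Algebra.TensorProduct.includeLeftRingHom : P' →+* P' ⊗[P] A)).obj
        (ModuleCat.of (P' ⊗[P] A) (P' ⊗[P] A)) :=
  LinearEquiv.toModuleIso
    ({ toFun := fun z => z
       invFun := fun z => z
       map_add' := fun _ _ => rfl
       map_smul' := fun p z => by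
        show p • z = (p ⊗ₜ[P] (1 : A)) * z
        induction z using TensorProduct.induction_on with
        | zero => simp
        | tmul x y => simp [TensorProduct.smul_tmul', Algebra.TensorProduct.tmul_mul_tmul]
        | add x y hx hy => rw [smul_add, mul_add, hx, hy]
       left_inv := fun _ => rfl
       right_inv := fun _ => rfl } :
      (P' ⊗[P] A) ≃ₗ[P'] ((Φ (Algebra.TensorProduct.includeLeftRingHom : P' →+* P' ⊗[P] A)).obj
        (ModuleCat.of (P' ⊗[P] A) (P' ⊗[P] A))))

variable [Module.Flat P P']

lemma pcMap_includeLeft (h : PCMap (algebraMap P A)) :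
    PCMap (Algebra.TensorProduct.includeLeftRingHom : P' →+* P' ⊗[P] A) := by
  intro m
  have h1 : DRing.IsPseudoCoherent P m (Dual.inD P A) :=
    isPC_of_iso ((DerivedCategory.singleFunctor (ModuleCat.{u} P) 0).mapIso
      (restrSelfIso P A).symm) (h m)
  have h2 := isPseudoCoherent_G P' m _ h1
  have h3 := isPC_of_iso (GInDIso P' A) h2
  exact isPC_of_iso ((DerivedCategory.singleFunctor (ModuleCat.{u} P') 0).mapIso
    (tensorRestrIso (P := P) (A := A) (P' := P'))) h3

end baseChange

section mvPoly

variable {P A : Type u} [CommRing P] [CommRing A]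

lemma pcMap_mvPolynomial_map (φ : P →+* A) (h : PCMap φ) (k : ℕ) :
    PCMap (MvPolynomial.map φ : MvPolynomial (Fin k) P →+* MvPolynomial (Fin k) A) := by
  letI : Algebra P A := φ.toAlgebra
  have h0 : PCMap (algebraMap P A) := h
  have h1 : PCMap (Algebra.TensorProduct.includeLeftRingHom :
      MvPolynomial (Fin k) P →+* MvPolynomial (Fin k) P ⊗[P] A) := pcMap_includeLeft h0
  let e : MvPolynomial (Fin k) P ⊗[P] A ≃+* MvPolynomial (Fin k) A :=
    (Algebra.TensorProduct.comm P (MvPolynomial (Fin k) P) A).toRingEquiv.trans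
      (MvPolynomial.algebraTensorAlgEquiv P A).toRingEquiv
  have h2 : PCMap e.toRingHom := pcMap_of_bijective _ e.bijective
  have heq : (MvPolynomial.map φ : MvPolynomial (Fin k) P →+* MvPolynomial (Fin k) A) =
      e.toRingHom.comp Algebra.TensorProduct.includeLeftRingHom := by
    apply MvPolynomial.ringHom_ext
    · intro p
      simp [e]
      rfl
    · intro i
      simp [e]
  rw [heq]
  exact pcMap_comp h1 h2

end mvPoly


section trans

variable {R A B : Type u} [CommRing R] [CommRing A] [CommRing B] [Algebra R A] [Algebra A B]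
  [Algebra R B] [IsScalarTower R A B]

/-- `A` pseudo-coherent relative to `R` means presentations of `A` are `PCMap`s. -/
lemma pcMap_of_relPC [Algebra.FiniteType R A] (hA : DerCA.IsRelPseudoCoherentModuleAll R A A)
    {n : ℕ} (α : MvPolynomial (Fin n) R →ₐ[R] A) (hα : Function.Surjective α) :
    PCMap (α : MvPolynomial (Fin n) R →+* A) := fun m' =>
  isPC_of_iso (((Φ (α : MvPolynomial (Fin n) R →+* A)).mapDerivedCategorySingleFunctor 0).app
    (ModuleCat.of A A)) ((relPC_of_via α hα _ m').1 (hA m'))

theorem relPC_trans_iff [Algebra.FiniteType R A] [Algebra.FiniteType A B] [Algebra.FiniteType R B]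
    (hA : DerCA.IsRelPseudoCoherentModuleAll R A A) (K : Dual.D B) (m : ℤ) :
    DerCA.IsRelPseudoCoherent A B m K ↔ DerCA.IsRelPseudoCoherent R B m K := by
  obtain ⟨n, α, hα⟩ := (Algebra.FiniteType.iff_quotient_mvPolynomial'' (R := R) (S := A)).1
    inferInstance
  obtain ⟨k, β, hβ⟩ := (Algebra.FiniteType.iff_quotient_mvPolynomial'' (R := A) (S := B)).1
    inferInstance
  have hα' := pcMap_of_relPC hA α hα
  let μ : MvPolynomial (Fin k) (MvPolynomial (Fin n) R) →+* MvPolynomial (Fin k) A :=
    MvPolynomial.map (α : MvPolynomial (Fin n) R →+* A)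
  have hμ : PCMap μ := pcMap_mvPolynomial_map _ hα' k
  let σ : MvPolynomial (Fin (k + n)) R ≃ₐ[R] MvPolynomial (Fin k) (MvPolynomial (Fin n) R) :=
    (MvPolynomial.renameEquiv R finSumFinEquiv.symm).trans
      (MvPolynomial.sumAlgEquiv R (Fin k) (Fin n))
  let σ' : MvPolynomial (Fin (k + n)) R →+* MvPolynomial (Fin k) (MvPolynomial (Fin n) R) :=
    (σ : _ →+* _)
  have hσ : PCMap σ' := pcMap_of_bijective _ σ.bijective
  let β' : MvPolynomial (Fin k) A →+* B := (β : _ →+* B)
  let γ : MvPolynomial (Fin (k + n)) R →ₐ[R] B :=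
    ((β.restrictScalars R).comp (MvPolynomial.mapAlgHom α)).comp σ.toAlgHom
  have hγ : Function.Surjective γ := by
    refine (hβ.comp ?_).comp σ.surjective
    exact MvPolynomial.map_surjective _ hα
  have heq : (γ : MvPolynomial (Fin (k + n)) R →+* B) = (β'.comp μ).comp σ' := rfl
  rw [relPC_of_via β hβ K m, relPC_of_via γ hγ K m]
  show DRing.IsPseudoCoherent _ m ((DRing.restrictD β').obj K) ↔
    DRing.IsPseudoCoherent _ m ((DRing.restrictD (γ : MvPolynomial (Fin (k + n)) R →+* B)).obj K)
  rw [heq, isPC_rD_comp_iff β' hμ K m, isPC_rD_comp_iff (β'.comp μ) hσ K m]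

end trans

end RestrPC
end Groth.Agent.Lib.Helper6
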