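import Mathlib
import Groth.Prelude.Def_DRing2
import Groth.Prelude.Def_DDual2
import Groth.Prelude.Def_DerCA
import Groth.Agent.Lib.Helper6.PCMap2

/-! Relative pseudo-coherence and finite ring maps (helper6). -/

set_option autoImplicit false
universe u

open CategoryTheory Limits Pretriangulated DerivedCategory ZeroObject TensorProduct

namespace Groth.Agent.Lib.Helper6
namespace RestrPC

attribute [local instance] HasDerivedCategory.standard

open MPC

section finiteFree

variable (P C : Type u) [CommRing P] [CommRing C] [Algebra P C]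

lemma pcMap_of_finite_free [Module.Finite P C] [Module.Free P C] : PCMap (algebraMap P C) :=
  allPC_of_iso (restrSelfIso P C) (fun m => isPC_of_FF (FF_single (ModuleCat.of P C)) m)

end finiteFree

section adjoinRoot

open Polynomial

variable {P : Type u} [CommRing P] (p : P[X])

/-- the quotient map as a linear map over `P[X]`. -/
noncomputable def mkLin :
    (ModuleCat.of P[X] P[X]) →ₗ[P[X]]
      ((Φ (AdjoinRoot.mk p)).obj (ModuleCat.of (AdjoinRoot p) (AdjoinRoot p))) where
  toFun q := (AdjoinRoot.mk p (q : P[X]) : AdjoinRoot p)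
  map_add' q r := map_add (AdjoinRoot.mk p) (q : P[X]) (r : P[X])
  map_smul' q r := map_mul (AdjoinRoot.mk p) (q : P[X]) (r : P[X])

lemma pcMap_adjoinRoot_mk (hp : p.Monic) : PCMap (AdjoinRoot.mk p) := by
  let T : ShortComplex (ModuleCat.{u} P[X]) :=
    ShortComplex.mk (ModuleCat.ofHom (LinearMap.mulLeft P[X] p))
      (ModuleCat.ofHom (mkLin p))
      (by
        ext
        show (AdjoinRoot.mk p (p * 1) : AdjoinRoot p) = 0
        rw [mul_one, AdjoinRoot.mk_self])
  have hT : T.ShortExact := by
    refine ModuleCat.shortComplex_shortExact T ?_ ?_ ?_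
    · intro q
      constructor
      · intro hq
        have h0 : (AdjoinRoot.mk p (q : P[X]) : AdjoinRoot p) = 0 := hq
        obtain ⟨r, hr⟩ := AdjoinRoot.mk_eq_zero.1 h0
        exact ⟨r, hr.symm⟩
      · rintro ⟨r, rfl⟩
        show (AdjoinRoot.mk p (p * (r : P[X])) : AdjoinRoot p) = 0
        rw [map_mul, AdjoinRoot.mk_self, zero_mul]
    · intro q r hqr
      exact hp.isRegular.left hqr
    · intro s
      obtain ⟨q, hq⟩ := AdjoinRoot.mk_surjective (g := p) (show AdjoinRoot p from s)
      exact ⟨q, hq⟩
  exact allPC_of_shortExact₃ hT (allPC_self P[X]) (allPC_self P[X])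

end adjoinRoot


section finite

lemma relPC_self_of_pcMap {P C : Type u} [CommRing P] [CommRing C] [Algebra P C] {n : ℕ}
    (γ : MvPolynomial (Fin n) P →ₐ[P] C) (hγ : Function.Surjective γ)
    (h : PCMap (γ : MvPolynomial (Fin n) P →+* C)) : DerCA.IsRelPseudoCoherentModuleAll P C C :=
  fun m => ⟨n, γ, hγ, isPC_of_iso
    (((Φ (γ : MvPolynomial (Fin n) P →+* C)).mapDerivedCategorySingleFunctor 0).app
      (ModuleCat.of C C)).symm (h m)⟩

open Polynomial in
lemma relPC_adjoinRoot {P : Type u} [CommRing P] (p : P[X]) (hp : p.Monic) :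
    DerCA.IsRelPseudoCoherentModuleAll P (AdjoinRoot p) (AdjoinRoot p) := by
  let γ : MvPolynomial (Fin 1) P →ₐ[P] AdjoinRoot p :=
    MvPolynomial.aeval (fun _ => AdjoinRoot.root p)
  let e : MvPolynomial (Fin 1) P ≃ₐ[P] P[X] := MvPolynomial.uniqueAlgEquiv P (Fin 1)
  have heq : (γ : MvPolynomial (Fin 1) P →+* AdjoinRoot p) =
      (AdjoinRoot.mk p).comp (e : MvPolynomial (Fin 1) P →+* P[X]) := by
    apply MvPolynomial.ringHom_ext
    · intro r
      simp [γ, e, AdjoinRoot.algebraMap_eq]
    · intro i
      simp [γ, e]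
  have hsurj : Function.Surjective γ := by
    intro x
    obtain ⟨q, rfl⟩ := AdjoinRoot.mk_surjective (g := p) x
    refine ⟨e.symm q, ?_⟩
    have := RingHom.congr_fun heq (e.symm q)
    simpa using this
  refine relPC_self_of_pcMap γ hsurj ?_
  rw [heq]
  exact pcMap_comp (pcMap_of_bijective _ e.bijective) (pcMap_adjoinRoot_mk p hp)

theorem relPC_iff_of_finite_aux (N : ℕ) :
    ∀ (P B : Type u) [CommRing P] [CommRing B] [Algebra P B] [Module.Finite P B]
      (b : Fin N → B) (_ : Algebra.adjoin P (Set.range b) = ⊤) (K : Dual.D B) (m : ℤ),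
      DerCA.IsRelPseudoCoherent P B m K ↔
        DRing.IsPseudoCoherent P m ((DRing.restrictD (algebraMap P B)).obj K) := by
  induction N with
  | zero =>
    intro P B _ _ _ _ b hb K m
    have hsurj : Function.Surjective (algebraMap P B) := by
      rw [Algebra.surjective_algebraMap_iff, ← hb]
      have : Set.range b = ∅ := Set.range_eq_empty b
      rw [this, Algebra.adjoin_empty]
    let e : MvPolynomial (Fin 0) P ≃ₐ[P] P := MvPolynomial.isEmptyAlgEquiv P (Fin 0)
    let γ : MvPolynomial (Fin 0) P →ₐ[P] B := (Algebra.ofId P B).comp e.toAlgHom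
    have hγ : Function.Surjective γ := hsurj.comp e.surjective
    have heq : (γ : MvPolynomial (Fin 0) P →+* B) =
        (algebraMap P B).comp (e : MvPolynomial (Fin 0) P →+* P) := rfl
    rw [relPC_of_via γ hγ K m]
    show DRing.IsPseudoCoherent _ m
      ((DRing.restrictD (γ : MvPolynomial (Fin 0) P →+* B)).obj K) ↔ _
    rw [heq]
    exact (isPC_rD_comp_iff (algebraMap P B) (pcMap_of_bijective _ e.bijective) K m).symm
  | succ N ih =>
    intro P B _ _ _ _ b hb K m
    obtain ⟨p, hp, hpb⟩ := Algebra.IsIntegral.isIntegral (R := P) (b 0)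
    let C := AdjoinRoot p
    let _ : Algebra C B := (AdjoinRoot.lift (algebraMap P B) (b 0) hpb).toAlgebra
    have : IsScalarTower P C B := IsScalarTower.of_algebraMap_eq (fun r => by
      show algebraMap P B r = AdjoinRoot.lift (algebraMap P B) (b 0) hpb (AdjoinRoot.of p r)
      rw [AdjoinRoot.lift_of])
    have : Module.Finite C B := Module.Finite.of_restrictScalars_finite P C B
    have : Module.Finite P C := hp.finite_adjoinRoot
    have : Module.Free P C := hp.free_adjoinRoot
    have hroot : algebraMap C B (AdjoinRoot.root p) = b 0 := AdjoinRoot.lift_root hpb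
    have hb' : Algebra.adjoin C (Set.range (b ∘ Fin.succ)) = ⊤ := by
      rw [eq_top_iff]
      rintro x -
      have hx : x ∈ Algebra.adjoin P (Set.range b) := by rw [hb]; trivial
      induction hx using Algebra.adjoin_induction with
      | mem y hy =>
        obtain ⟨j, rfl⟩ := hy
        refine Fin.cases ?_ (fun i => ?_) j
        · rw [← hroot]
          exact Subalgebra.algebraMap_mem _ _
        · exact Algebra.subset_adjoin ⟨i, rfl⟩
      | algebraMap r =>
        rw [IsScalarTower.algebraMap_apply P C B]
        exact Subalgebra.algebraMap_mem _ _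
      | add y z _ _ hy hz => exact Subalgebra.add_mem _ hy hz
      | mul y z _ _ hy hz => exact Subalgebra.mul_mem _ hy hz
    have h1 := ih C B (b ∘ Fin.succ) hb' K m
    have hC : DerCA.IsRelPseudoCoherentModuleAll P C C := relPC_adjoinRoot p hp
    have h2 := relPC_trans_iff (R := P) (A := C) (B := B) hC K m
    have h3 := isPC_rD_iff (algebraMap P C) (pcMap_of_finite_free P C)
      ((DRing.restrictD (algebraMap C B)).obj K) m
    have h4 : (algebraMap C B).comp (algebraMap P C) = algebraMap P B :=
      (IsScalarTower.algebraMap_eq P C B).symm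
    rw [← h2, h1, h3, ← h4]
    exact ⟨isPC_of_iso (rDCompIso _ _ K), isPC_of_iso (rDCompIso _ _ K).symm⟩

theorem relPC_iff_of_finite (P B : Type u) [CommRing P] [CommRing B] [Algebra P B]
    [Module.Finite P B] (K : Dual.D B) (m : ℤ) :
    DerCA.IsRelPseudoCoherent P B m K ↔
      DRing.IsPseudoCoherent P m ((DRing.restrictD (algebraMap P B)).obj K) := by
  obtain ⟨N, b, hb⟩ := Module.Finite.exists_fin (R := P) (M := B)
  refine relPC_iff_of_finite_aux N P B b ?_ K m
  rw [eq_top_iff]
  intro x _
  have hx : x ∈ Submodule.span P (Set.range b) := by rw [hb]; trivial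
  exact Algebra.span_le_adjoin P _ hx

end finite


section finiteRestr

variable {R A B : Type u} [CommRing R] [CommRing A] [CommRing B]
  [Algebra R A] [Algebra A B] [Algebra R B] [IsScalarTower R A B]

theorem relPC_restrict_iff_of_finite [Algebra.FiniteType R A] [Algebra.FiniteType R B]
    [Module.Finite A B] (K : Dual.D B) (m : ℤ) :
    DerCA.IsRelPseudoCoherent R B m K ↔
      DerCA.IsRelPseudoCoherent R A m ((DRing.restrictD (algebraMap A B)).obj K) := by
  obtain ⟨n, α, hα⟩ := (Algebra.FiniteType.iff_quotient_mvPolynomial'' (R := R) (S := A)).1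
    inferInstance
  let α' : MvPolynomial (Fin n) R →+* A := (α : MvPolynomial (Fin n) R →+* A)
  let _ : Algebra (MvPolynomial (Fin n) R) A := α'.toAlgebra
  let _ : Algebra (MvPolynomial (Fin n) R) B := ((algebraMap A B).comp α').toAlgebra
  have : IsScalarTower (MvPolynomial (Fin n) R) A B :=
    IsScalarTower.of_algebraMap_eq (fun r => rfl)
  have : IsScalarTower R (MvPolynomial (Fin n) R) B := IsScalarTower.of_algebraMap_eq (fun r => by
    show algebraMap R B r = algebraMap A B (α (algebraMap R (MvPolynomial (Fin n) R) r))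
    rw [α.commutes, ← IsScalarTower.algebraMap_apply])
  have : Module.Finite (MvPolynomial (Fin n) R) A :=
    Module.Finite.of_surjective (Algebra.linearMap (MvPolynomial (Fin n) R) A) hα
  have : Module.Finite (MvPolynomial (Fin n) R) B := Module.Finite.trans A B
  have hP : DerCA.IsRelPseudoCoherentModuleAll R (MvPolynomial (Fin n) R) (MvPolynomial (Fin n) R) :=
    relPC_self_of_pcMap (AlgHom.id R (MvPolynomial (Fin n) R)) Function.surjective_id
      (pcMap_of_bijective _ Function.bijective_id)
  have h1 := relPC_trans_iff (R := R) (A := MvPolynomial (Fin n) R) (B := B) hP K m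
  have h2 := relPC_iff_of_finite (MvPolynomial (Fin n) R) B K m
  have h3 := relPC_of_via α hα ((DRing.restrictD (algebraMap A B)).obj K) m
  rw [← h1, h2, h3]
  exact ⟨isPC_of_iso (rDCompIso α' (algebraMap A B) K).symm,
    isPC_of_iso (rDCompIso α' (algebraMap A B) K)⟩

end finiteRestr

end RestrPC
end Groth.Agent.Lib.Helper6
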