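import Mathlib
import Groth.Prelude.Def_DRing2
import Groth.Prelude.Def_DDual2
import Groth.Prelude.Def_DerCA
import Groth.Agent.Lib.Helper6.PCMap3
import Groth.Agent.Lib.Helper6.LocBC
import Groth.Agent.S2087

/-! Relative pseudo-coherence and localization at one element (helper6). -/

set_option autoImplicit false
universe u

open CategoryTheory Limits Pretriangulated DerivedCategory ZeroObject TensorProduct

namespace Groth.Agent.Lib.Helper6
namespace RestrPC

attribute [local instance] HasDerivedCategory.standard

open MPC

section away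

open Polynomial

variable {P : Type u} [CommRing P]

lemma pcMap_adjoinRoot_mk_of_regular (p : P[X]) (hp : IsLeftRegular p) :
    PCMap (AdjoinRoot.mk p) := by
  let T : ShortComplex (ModuleCat.{u} P[X]) :=
    ShortComplex.mk (ModuleCat.ofHom (LinearMap.mulLeft P[X] p))
      (ModuleCat.ofHom (mkLin p))
      (by
        ext
        show (AdjoinRoot.mk p (p * 1) : AdjoinRoot p) = 0
        rw [mul_one, AdjoinRoot.mk_self])
  have hT : T.ShortExact := by
    refine ModuleCat.shortComplex_shortExact T ?_ ?_ ?_
    · intro q
      constructor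
      · intro hq
        have h0 : (AdjoinRoot.mk p (q : P[X]) : AdjoinRoot p) = 0 := hq
        obtain ⟨r, hr⟩ := AdjoinRoot.mk_eq_zero.1 h0
        exact ⟨r, hr.symm⟩
      · rintro ⟨r, rfl⟩
        show (AdjoinRoot.mk p (p * (r : P[X])) : AdjoinRoot p) = 0
        rw [map_mul, AdjoinRoot.mk_self, zero_mul]
    · intro q r hqr
      exact hp hqr
    · intro s
      obtain ⟨q, hq⟩ := AdjoinRoot.mk_surjective (g := p) (show AdjoinRoot p from s)
      exact ⟨q, hq⟩
  exact allPC_of_shortExact₃ hT (allPC_self P[X]) (allPC_self P[X])

lemma isLeftRegular_CX_sub_one (G : P) : IsLeftRegular (C G * X - 1 : P[X]) := by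
  intro q q' h
  have hu : IsUnit ((C G * X - 1 : P[X]) : PowerSeries P) := by
    rw [PowerSeries.isUnit_iff_constantCoeff]
    simp
  have h' : ((C G * X - 1 : P[X]) : PowerSeries P) * (q : PowerSeries P) =
      ((C G * X - 1 : P[X]) : PowerSeries P) * (q' : PowerSeries P) := by
    rw [← Polynomial.coe_mul, ← Polynomial.coe_mul]
    exact congrArg _ h
  exact Polynomial.coe_injective P (hu.mul_left_cancel h')

/-- evaluation at the inverse of `G`. -/
noncomputable abbrev evInv (G : P) : P[X] →ₐ[P] Localization.Away G :=
  Polynomial.aeval (IsLocalization.Away.invSelf G)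

lemma evInv_eq (G : P) :
    ((evInv G : P[X] →ₐ[P] Localization.Away G) : P[X] →+* Localization.Away G) =
      ((Localization.awayEquivAdjoin G).symm :
        AdjoinRoot (C G * X - 1) →+* Localization.Away G).comp (AdjoinRoot.mk (C G * X - 1)) := by
  apply Polynomial.ringHom_ext
  · intro a
    simp [evInv]
  · simp only [evInv, Localization.awayEquivAdjoin, RingHom.coe_coe, aeval_X, RingHom.coe_comp,
      Function.comp_apply, AdjoinRoot.mk_X, AlgEquiv.ofAlgHom_symm_apply]
    exact (AdjoinRoot.liftAlgHom_root _ _ _ _).symm

lemma pcMap_evInv (G : P) :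
    PCMap ((evInv G : P[X] →ₐ[P] Localization.Away G) : P[X] →+* Localization.Away G) := by
  rw [evInv_eq]
  exact pcMap_comp (pcMap_adjoinRoot_mk_of_regular _ (isLeftRegular_CX_sub_one G))
    (pcMap_of_bijective _ (Localization.awayEquivAdjoin G).symm.bijective)

lemma evInv_surjective (G : P) : Function.Surjective (evInv G) := by
  have h : ⇑(evInv G) = ⇑((Localization.awayEquivAdjoin G).symm) ∘ ⇑(AdjoinRoot.mk (C G * X - 1)) := by
    ext q
    exact RingHom.congr_fun (evInv_eq G) q
  rw [h]
  exact (Localization.awayEquivAdjoin G).symm.surjective.comp AdjoinRoot.mk_surjective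

end away


section relAway

open Groth.Agent.Lib.Helper35.FlatBC LocCore LocBC

variable {R A : Type u} [CommRing R] [CommRing A] [Algebra R A]

/-- version of `relPC_of_via` without finiteness hypothesis. -/
theorem relPC_of_via' {n : ℕ} (α : MvPolynomial (Fin n) R →ₐ[R] A)
    (hα : Function.Surjective α) (K : Dual.D A) (m : ℤ) :
    DerCA.IsRelPseudoCoherent R A m K ↔ DerCA.IsRelPseudoCoherentVia α m K :=
  ⟨fun ⟨_, β, hβ, h⟩ => relPC_indep β hβ α hα K m h, fun h => ⟨n, α, hα, h⟩⟩

variable {n : ℕ} (α : MvPolynomial (Fin n) R →ₐ[R] A) (hα : Function.Surjective α)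
  (G : MvPolynomial (Fin n) R)

include hα in
theorem relPC_away_iff (K : DRing.Cx A) (m : ℤ) :
    DerCA.IsRelPseudoCoherent R (Localization.Away (α G)) m
      (DRing.toD (((ModuleCat.extendScalars.{u, u, u}
        (algebraMap A (Localization.Away (α G)))).mapHomologicalComplex
          (ComplexShape.up ℤ)).obj K)) ↔
    DRing.IsPseudoCoherent (Localization.Away G) m
      (DRing.toD (((ext (MvPolynomial (Fin n) R) (Localization.Away G)).mapHomologicalComplex
        (ComplexShape.up ℤ)).obj
        (((ModuleCat.restrictScalars.{u} (α : MvPolynomial (Fin n) R →+* A)).mapHomologicalComplex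
          (ComplexShape.up ℤ)).obj K))) := by
  letI : Algebra (MvPolynomial (Fin n) R) A := (α : MvPolynomial (Fin n) R →+* A).toAlgebra
  -- the maps
  let abarₐ : Localization.Away G →ₐ[R] Localization.Away (α G) :=
    IsLocalization.Away.mapₐ (Localization.Away G) (Localization.Away (α G)) α G
  have habar : Function.Surjective abarₐ :=
    IsLocalization.Away.mapₐ_surjective_of_surjective G hα
  let ev : Polynomial (MvPolynomial (Fin n) R) →ₐ[R] Localization.Away G :=
    (evInv G).restrictScalars R
  let σ : MvPolynomial (Fin (n + 1)) R ≃ₐ[R] Polynomial (MvPolynomial (Fin n) R) :=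
    MvPolynomial.finSuccEquiv R n
  let γ : MvPolynomial (Fin (n + 1)) R →ₐ[R] Localization.Away (α G) :=
    (abarₐ.comp ev).comp σ.toAlgHom
  have hγ : Function.Surjective γ := (habar.comp (evInv_surjective G)).comp σ.surjective
  let ab : Localization.Away G →+* Localization.Away (α G) := abar A G
  let ev' : Polynomial (MvPolynomial (Fin n) R) →+* Localization.Away G :=
    ((evInv G : _ →ₐ[MvPolynomial (Fin n) R] Localization.Away G) : _ →+* Localization.Away G)
  let σ' : MvPolynomial (Fin (n + 1)) R →+* Polynomial (MvPolynomial (Fin n) R) := (σ : _ →+* _)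
  have heq : (γ : MvPolynomial (Fin (n + 1)) R →+* Localization.Away (α G)) =
      (ab.comp ev').comp σ' := rfl
  have hσ : PCMap σ' := pcMap_of_bijective _ σ.bijective
  have hev : PCMap ev' := pcMap_evInv G
  rw [relPC_of_via' γ hγ]
  show DRing.IsPseudoCoherent _ m ((DRing.restrictD
    (γ : MvPolynomial (Fin (n + 1)) R →+* Localization.Away (α G))).obj _) ↔ _
  rw [heq, ← isPC_rD_comp_iff (ab.comp ev') hσ, ← isPC_rD_comp_iff ab hev]
  have e1 := (Φ ab).mapDerivedCategoryFactors.app
    (((ModuleCat.extendScalars.{u, u, u}
      (algebraMap A (Localization.Away (α G)))).mapHomologicalComplex (ComplexShape.up ℤ)).obj K)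
  have e2 := Q.mapIso (locRestrCxIso (A := A) G K)
  exact ⟨fun h => isPC_of_iso (e1 ≪≫ e2.symm) h, fun h => isPC_of_iso (e1 ≪≫ e2.symm).symm h⟩

include hα in
/-- relative pseudo-coherence passes to a principal localization. -/
theorem relPC_away (K : DRing.Cx A) (m : ℤ)
    (h : DerCA.IsRelPseudoCoherent R A m (DRing.toD K)) :
    DerCA.IsRelPseudoCoherent R (Localization.Away (α G)) m
      (DRing.toD (((ModuleCat.extendScalars.{u, u, u}
        (algebraMap A (Localization.Away (α G)))).mapHomologicalComplex
          (ComplexShape.up ℤ)).obj K)) := by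
  rw [relPC_away_iff α hα G K m]
  have h1 : DRing.IsPseudoCoherent (MvPolynomial (Fin n) R) m
      (DRing.toD (((ModuleCat.restrictScalars.{u}
        (α : MvPolynomial (Fin n) R →+* A)).mapHomologicalComplex (ComplexShape.up ℤ)).obj K)) :=
    isPC_of_iso ((Φ (α : MvPolynomial (Fin n) R →+* A)).mapDerivedCategoryFactors.app K)
      ((relPC_of_via' α hα _ m).1 h)
  exact isPC_of_iso (GQIso (Localization.Away G) _)
    (isPseudoCoherent_G (Localization.Away G) m _ h1)

theorem relPC_away' (hα' : Function.Surjective α) (g : A) (K : DRing.Cx A) (m : ℤ)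
    (h : DerCA.IsRelPseudoCoherent R A m (DRing.toD K)) :
    DerCA.IsRelPseudoCoherent R (Localization.Away g) m
      (DRing.toD (((ModuleCat.extendScalars.{u, u, u}
        (algebraMap A (Localization.Away g))).mapHomologicalComplex
          (ComplexShape.up ℤ)).obj K)) := by
  obtain ⟨G, rfl⟩ := hα' g
  exact relPC_away α hα' G K m h

end relAway


section vanish

open Groth.Agent.Lib.Helper35.FlatBC

variable {P A : Type u} [CommRing P] [CommRing A] (α : P →+* A) (h : P) (hh : α h = 0)

omit [CommRing A] in
lemma subsingleton_away_tensor (N : Type u) [AddCommGroup N] [Module P N]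
    (hN : ∀ n : N, h • n = 0) : Subsingleton (Localization.Away h ⊗[P] N) := by
  refine ⟨fun z w => ?_⟩
  have key : ∀ z : Localization.Away h ⊗[P] N, z = 0 := by
    intro z
    induction z using TensorProduct.induction_on with
    | zero => rfl
    | tmul x n =>
      have hx : x = h • (x * IsLocalization.Away.invSelf h) := by
        rw [Algebra.smul_def, mul_comm x, ← mul_assoc, IsLocalization.Away.mul_invSelf, one_mul]
      rw [hx, TensorProduct.smul_tmul, hN, TensorProduct.tmul_zero]
    | add x y hx hy => rw [hx, hy, add_zero]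
  rw [key z, key w]

include hh in
lemma isZero_ext_restr (N : ModuleCat.{u} A) :
    IsZero ((ext P (Localization.Away h)).obj ((ModuleCat.restrictScalars.{u} α).obj N)) := by
  have hsub : Subsingleton (Localization.Away h ⊗[P] ((ModuleCat.restrictScalars.{u} α).obj N)) :=
    subsingleton_away_tensor h _ (fun n => by
      show α h • (show N from n) = 0
      rw [hh, zero_smul])
  have : Subsingleton ((ext P (Localization.Away h)).obj ((ModuleCat.restrictScalars.{u} α).obj N)) :=
    @Equiv.subsingleton _ _ (extLinearEquiv (Localization.Away h)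
      ((ModuleCat.restrictScalars.{u} α).obj N)).toEquiv hsub
  exact ModuleCat.isZero_of_subsingleton _

include hh in
lemma isPC_ext_restr_of_ker (K : DRing.Cx A) (m : ℤ) :
    DRing.IsPseudoCoherent (Localization.Away h) m
      (DRing.toD (((ext P (Localization.Away h)).mapHomologicalComplex (ComplexShape.up ℤ)).obj
        (((ModuleCat.restrictScalars.{u} α).mapHomologicalComplex (ComplexShape.up ℤ)).obj K))) := by
  have hs : CochainComplex.IsStrictlyLE
      (((ext P (Localization.Away h)).mapHomologicalComplex (ComplexShape.up ℤ)).obj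
      (((ModuleCat.restrictScalars.{u} α).mapHomologicalComplex
        (ComplexShape.up ℤ)).obj K)) (m - 1) := by
    rw [CochainComplex.isStrictlyLE_iff]
    intro i _
    exact isZero_ext_restr α h hh (K.X i)
  have : (DRing.toD (((ext P (Localization.Away h)).mapHomologicalComplex (ComplexShape.up ℤ)).obj
      (((ModuleCat.restrictScalars.{u} α).mapHomologicalComplex
        (ComplexShape.up ℤ)).obj K))).IsLE (m - 1) := inferInstance
  exact isPC_of_isLE m _

end vanish


section cover

open Groth.Agent.Lib.Helper35.FlatBC

variable {R A : Type u} [CommRing R] [CommRing A] [Algebra R A]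

/-- relative pseudo-coherence is local for principal covers (the two directions). -/
theorem relPC_iff_of_cover [Algebra.FiniteType R A] (K : DRing.Cx A) (m : ℤ) {r : ℕ}
    (f : Fin r → A) (hf : Ideal.span (Set.range f) = ⊤) :
    DerCA.IsRelPseudoCoherent R A m (DRing.toD K) ↔
      ∀ i, DerCA.IsRelPseudoCoherent R (Localization.Away (f i)) m
        (DRing.toD (((ModuleCat.extendScalars.{u, u, u}
          (algebraMap A (Localization.Away (f i)))).mapHomologicalComplex
            (ComplexShape.up ℤ)).obj K)) := by
  obtain ⟨n, α, hα⟩ := (Algebra.FiniteType.iff_quotient_mvPolynomial'' (R := R) (S := A)).1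
    inferInstance
  constructor
  · intro h i
    exact relPC_away' α hα (f i) K m h
  · intro h
    choose F hF using fun i => hα (f i)
    obtain rfl : f = fun i => α (F i) := funext fun i => (hF i).symm
    -- the extra element
    have htop : Ideal.span (Set.range F) ⊔ RingHom.ker (α : MvPolynomial (Fin n) R →+* A) = ⊤ := by
      have h1 : Ideal.map (α : MvPolynomial (Fin n) R →+* A) (Ideal.span (Set.range F)) = ⊤ := by
        rw [Ideal.map_span, ← hf]
        congr 1
        ext x
        simp
      have h2 := Ideal.comap_map_of_surjective (α : MvPolynomial (Fin n) R →+* A) hα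
        (Ideal.span (Set.range F))
      rw [h1, Ideal.comap_top] at h2
      rw [h2]
      rfl
    obtain ⟨a, ha, h₀, hh₀, hsum⟩ := Submodule.mem_sup.1
      (show (1 : MvPolynomial (Fin n) R) ∈
        Ideal.span (Set.range F) ⊔ RingHom.ker (α : MvPolynomial (Fin n) R →+* A) by
          rw [htop]; trivial)
    have hh₀' : (α : MvPolynomial (Fin n) R →+* A) h₀ = 0 := hh₀
    have hspan : Ideal.span (Set.range (Fin.cons h₀ F : Fin (r + 1) → MvPolynomial (Fin n) R)) = ⊤ := by
      rw [Ideal.eq_top_iff_one, ← hsum]
      refine Ideal.add_mem _ ?_ ?_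
      · refine Ideal.span_mono ?_ ha
        rintro _ ⟨i, rfl⟩
        exact ⟨i.succ, by simp⟩
      · exact Ideal.subset_span ⟨0, by simp⟩
    have hloc : ∀ j : Fin (r + 1), DRing.IsPseudoCoherent
        (Localization.Away ((Fin.cons h₀ F : Fin (r + 1) → MvPolynomial (Fin n) R) j)) m
        (DRing.toD (((ModuleCat.extendScalars.{u, u, u}
          (algebraMap (MvPolynomial (Fin n) R)
            (Localization.Away ((Fin.cons h₀ F : Fin (r + 1) → MvPolynomial (Fin n) R)
              j)))).mapHomologicalComplex (ComplexShape.up ℤ)).obj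
          (((ModuleCat.restrictScalars.{u}
            (α : MvPolynomial (Fin n) R →+* A)).mapHomologicalComplex
              (ComplexShape.up ℤ)).obj K))) := by
      intro j
      refine Fin.cases ?_ (fun i => ?_) j
      · exact isPC_ext_restr_of_ker (α : MvPolynomial (Fin n) R →+* A) h₀ hh₀' K m
      · exact (relPC_away_iff α hα (F i) K m).1 (h i)
    have hP := Groth.Agent.S2087.result (Fin.cons h₀ F) hspan
      (((ModuleCat.restrictScalars.{u}
        (α : MvPolynomial (Fin n) R →+* A)).mapHomologicalComplex (ComplexShape.up ℤ)).obj K) m hloc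
    exact (relPC_of_via' α hα _ m).2 (isPC_of_iso
      ((Φ (α : MvPolynomial (Fin n) R →+* A)).mapDerivedCategoryFactors.app K).symm hP)

end cover


section awayBase

variable {R : Type u} [CommRing R] (f : R)

/-- `R_f` is pseudo-coherent relative to `R`. -/
lemma relPC_self_away :
    DerCA.IsRelPseudoCoherentModuleAll R (Localization.Away f) (Localization.Away f) := by
  let e : MvPolynomial (Fin 1) R ≃ₐ[R] Polynomial R := MvPolynomial.uniqueAlgEquiv R (Fin 1)
  let γ : MvPolynomial (Fin 1) R →ₐ[R] Localization.Away f := (evInv f).comp e.toAlgHom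
  have hγ : Function.Surjective γ := (evInv_surjective f).comp e.surjective
  refine relPC_self_of_pcMap γ hγ ?_
  have heq : (γ : MvPolynomial (Fin 1) R →+* Localization.Away f) =
      ((evInv f : Polynomial R →ₐ[R] Localization.Away f) : Polynomial R →+* _).comp
        (e : MvPolynomial (Fin 1) R →+* Polynomial R) := rfl
  rw [heq]
  exact pcMap_comp (pcMap_of_bijective _ e.bijective) (pcMap_evInv f)

variable {A : Type u} [CommRing A] [Algebra R A]
  [Algebra (Localization.Away f) A] [IsScalarTower R (Localization.Away f) A]
  [Algebra.FiniteType (Localization.Away f) A]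

include f in
theorem relPC_of_relPC_away (K : Dual.D A) (m : ℤ)
    (h : DerCA.IsRelPseudoCoherent (Localization.Away f) A m K) :
    DerCA.IsRelPseudoCoherent R A m K := by
  have hfp : Algebra.FinitePresentation R (Localization.Away f) :=
    IsLocalization.Away.finitePresentation f
  have : Algebra.FiniteType R (Localization.Away f) :=
    Algebra.FiniteType.of_finitePresentation
  have : Algebra.FiniteType R A := Algebra.FiniteType.trans (S := Localization.Away f) this
    inferInstance
  exact (relPC_trans_iff (R := R) (A := Localization.Away f) (B := A) (relPC_self_away f) K m).1 h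

include f in
theorem finiteType_of_away : Algebra.FiniteType R A := by
  have hfp : Algebra.FinitePresentation R (Localization.Away f) :=
    IsLocalization.Away.finitePresentation f
  have : Algebra.FiniteType R (Localization.Away f) :=
    Algebra.FiniteType.of_finitePresentation
  exact Algebra.FiniteType.trans (S := Localization.Away f) this inferInstance

end awayBase

end RestrPC
end Groth.Agent.Lib.Helper6
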