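import Groth.Agent.Lib.Helper6.HomBC5
import Groth.Agent.Lib.Helper6.MPC4
import Groth.Agent.Lib.Helper35.IALib3
import Groth.Agent.Lib.Helper35.NoethRes
import Groth.Prelude.Def_DDual2
import Groth.Prelude.Def_Wider

/-! Dualizing complexes and flat base change: generalities (helper6). -/

set_option autoImplicit false
set_option linter.unusedSectionVars false
universe u
open CategoryTheory CategoryTheory.Limits DerivedCategory TensorProduct Pretriangulated
attribute [local instance] HasDerivedCategory.standard

namespace Groth.Agent.Lib.Helper6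
namespace HomBC

open Groth.Agent.Lib.Helper35 Groth.Agent.Lib.Helper35.FlatBC

section iso

variable {A : Type u} [CommRing A]

lemma isDualizing_of_iso {ω ω' : Dual.D A} (e : ω ≅ ω') (h : Dual.IsDualizing A ω) :
    Dual.IsDualizing A ω' where
  isNoetherianRing := h.isNoetherianRing
  finite_injective_dimension := by
    obtain ⟨a, b, hab⟩ := h.finite_injective_dimension
    refine ⟨a, b, fun M _ _ i hi => ?_⟩
    have := hab M i hi
    exact (Iso.homCongr (Iso.refl (Dual.inD A M)) ((shiftFunctor (Dual.D A) i).mapIso e.symm)).subsingleton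
  finite_cohomology := fun i => by
    have := h.finite_cohomology i
    exact Module.Finite.equiv
      ((homologyFunctor (ModuleCat.{u} A) i).mapIso e).toLinearEquiv
  toEnd_bijective := by
    have h1 : (fun a : A => a • 𝟙 ω') = (Iso.homCongr e e) ∘ (fun a : A => a • 𝟙 ω) := by
      funext a
      simp [Iso.homCongr]
    rw [h1]
    exact (Iso.homCongr e e).bijective.comp h.toEnd_bijective
  ext_self_subsingleton := fun i hi => by
    have := h.ext_self_subsingleton i hi
    exact (Iso.homCongr e.symm ((shiftFunctor (Dual.D A) i).mapIso e.symm)).subsingleton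

end iso

variable (A B : Type u) [CommRing A] [CommRing B] [Algebra A B] [Module.Flat A B]

/-- For flat `B`, derived base change is the exact base change functor `G`. -/
noncomputable def lbcIsoG [DRing.HasLBaseChange (algebraMap A B)] :
    DRing.LBaseChange (algebraMap A B) ≅ G A B := by
  have : (G A B).IsLeftDerivedFunctor ((ext A B).mapDerivedCategoryFactorsh).hom
      (HomotopyCategory.quasiIso (ModuleCat.{u} A) (ComplexShape.up ℤ)) :=
    Functor.isLeftDerivedFunctor_of_inverts _ _ _
  exact Functor.leftDerivedUnique _ _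
    ((DRing.baseChangeKh (algebraMap A B)).totalLeftDerivedCounit DerivedCategory.Qh
      (HomotopyCategory.quasiIso (ModuleCat.{u} A) (ComplexShape.up ℤ)))
    ((ext A B).mapDerivedCategoryFactorsh).hom
    (HomotopyCategory.quasiIso (ModuleCat.{u} A) (ComplexShape.up ℤ))

variable {A B}

/-- vanishing of `Hom` ascends along flat base change. -/
lemma subsingleton_G_hom (X L : Dual.D A) (ℓ : ℤ) [L.IsGE ℓ]
    (hX : DRing.IsPseudoCoherent A (ℓ - 1) X) (h : Subsingleton (X ⟶ L)) :
    Subsingleton ((G A B).obj X ⟶ (G A B).obj L) := by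
  have hb := bijective_Phi_of_isPC (B := B) X L ℓ hX
  have : Subsingleton (B ⊗[A] (X ⟶ L)) := inferInstance
  exact hb.2.subsingleton

/-- vanishing of `Hom` descends along faithfully flat base change. -/
lemma subsingleton_hom_of_G [Module.FaithfullyFlat A B] (X L : Dual.D A) (ℓ : ℤ) [L.IsGE ℓ]
    (hX : DRing.IsPseudoCoherent A (ℓ - 1) X)
    (h : Subsingleton ((G A B).obj X ⟶ (G A B).obj L)) : Subsingleton (X ⟶ L) := by
  have hb := bijective_Phi_of_isPC (B := B) X L ℓ hX
  have h1 : Subsingleton (B ⊗[A] (X ⟶ L)) := hb.1.subsingleton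
  exact (Module.FaithfullyFlat.subsingleton_tensorProduct_iff_right A B).1 h1

/-- `H^i(G K) ≅ B ⊗ H^i(K)`, as a `B`-linear equivalence. -/
noncomputable def homologyGEquiv (K : Dual.D A) (i : ℤ) :
    Dual.HD B ((G A B).obj K) i ≃ₗ[B] B ⊗[A] (Dual.HD A K i) :=
  ((homologyIso A B i).app K).toLinearEquiv ≪≫ₗ
    (extLinearEquiv B ((homologyFunctor (ModuleCat.{u} A) i).obj K))

lemma finite_homology_G (K : Dual.D A) (i : ℤ) [Module.Finite A (Dual.HD A K i)] :
    Module.Finite B (Dual.HD B ((G A B).obj K) i) :=
  Module.Finite.equiv (homologyGEquiv (B := B) K i).symm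

lemma finite_homology_of_G [Module.FaithfullyFlat A B] (K : Dual.D A) (i : ℤ)
    [Module.Finite B (Dual.HD B ((G A B).obj K) i)] : Module.Finite A (Dual.HD A K i) := by
  have : Module.Finite B (B ⊗[A] (Dual.HD A K i)) :=
    Module.Finite.equiv (homologyGEquiv (B := B) K i)
  exact Module.Finite.of_finite_tensorProduct_of_faithfullyFlat B

lemma isZero_homology_of_G [Module.FaithfullyFlat A B] (K : Dual.D A) (i : ℤ)
    (h : IsZero ((homologyFunctor (ModuleCat.{u} B) i).obj ((G A B).obj K))) :
    IsZero ((homologyFunctor (ModuleCat.{u} A) i).obj K) := by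
  have h1 : Subsingleton (Dual.HD B ((G A B).obj K) i) := ModuleCat.subsingleton_of_isZero h
  have h2 : Subsingleton (B ⊗[A] (Dual.HD A K i)) :=
    (homologyGEquiv (B := B) K i).symm.toEquiv.subsingleton
  have h3 : Subsingleton (Dual.HD A K i) :=
    (Module.FaithfullyFlat.subsingleton_tensorProduct_iff_right A B).1 h2
  exact ModuleCat.isZero_of_subsingleton _

lemma isLE_of_G [Module.FaithfullyFlat A B] (K : Dual.D A) (n : ℤ) [((G A B).obj K).IsLE n] :
    K.IsLE n := by
  rw [DerivedCategory.isLE_iff]
  intro i hi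
  exact isZero_homology_of_G (B := B) K i (isZero_of_isLE _ n i hi)

lemma isGE_of_G [Module.FaithfullyFlat A B] (K : Dual.D A) (n : ℤ) [((G A B).obj K).IsGE n] :
    K.IsGE n := by
  rw [DerivedCategory.isGE_iff]
  intro i hi
  exact isZero_homology_of_G (B := B) K i (isZero_of_isGE _ n i hi)

/-- Over a Noetherian ring, a bounded above object with finite cohomology is pseudo-coherent. -/
lemma isPC_of_finite_homology [IsNoetherianRing A] (K : Dual.D A) (b : ℤ) [K.IsLE b]
    (hfin : ∀ i : ℤ, Module.Finite A (Dual.HD A K i)) (m : ℤ) :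
    DRing.IsPseudoCoherent A m K := by
  refine MPC.isPC_of_homology K b m (fun i => ?_)
  have := hfin i
  exact MPC.isPC_of_isPC'
    (KL.isPseudoCoherent'_single_of_finite_of_isNoetherianRing
      ((homologyFunctor (ModuleCat.{u} A) i).obj K)) _

/-- finite modules over a Noetherian ring are pseudo-coherent. -/
lemma isPC_inD_of_finite [IsNoetherianRing A] (M : Type u) [AddCommGroup M] [Module A M]
    [Module.Finite A M] (m : ℤ) : DRing.IsPseudoCoherent A m (Dual.inD A M) :=
  MPC.isPC_of_isPC'
    (KL.isPseudoCoherent'_single_of_finite_of_isNoetherianRing (ModuleCat.of A M)) _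

end HomBC
end Groth.Agent.Lib.Helper6
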