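import Mathlib

/-! An elementwise criterion for quasi-isomorphisms of complexes of modules (helper6). -/

set_option autoImplicit false
universe u

open CategoryTheory Limits

namespace Groth.Agent.Lib.Helper6
namespace QisCrit

variable {A : Type u} [Ring A]

/-- elementwise criterion for a morphism of short complexes of modules to be a quasi-isomorphism. -/
theorem shortComplex_quasiIso {S₁ S₂ : ShortComplex (ModuleCat.{u} A)} (φ : S₁ ⟶ S₂)
    (hS : ∀ x₂ : S₂.X₂, S₂.g.hom x₂ = 0 →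
      ∃ x₁ : S₁.X₂, S₁.g.hom x₁ = 0 ∧ ∃ y : S₂.X₁, φ.τ₂.hom x₁ - x₂ = S₂.f.hom y)
    (hI : ∀ x₁ : S₁.X₂, S₁.g.hom x₁ = 0 → (∃ y : S₂.X₁, φ.τ₂.hom x₁ = S₂.f.hom y) →
      ∃ w : S₁.X₁, x₁ = S₁.f.hom w) :
    ShortComplex.QuasiIso φ := by
  have hker : ∀ x ∈ LinearMap.ker S₁.g.hom, φ.τ₂.hom x ∈ LinearMap.ker S₂.g.hom := by
    intro x hx
    rw [LinearMap.mem_ker] at hx ⊢
    have h1 : S₂.g.hom (φ.τ₂.hom x) = φ.τ₃.hom (S₁.g.hom x) := by
      have := congrArg (fun t => t.hom x) φ.comm₂₃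
      exact this
    rw [h1, hx, map_zero]
  let φK : LinearMap.ker S₁.g.hom →ₗ[A] LinearMap.ker S₂.g.hom := LinearMap.restrict φ.τ₂.hom hker
  have hcomm : ∀ y : S₁.X₁, φK (S₁.moduleCatToCycles y) = S₂.moduleCatToCycles (φ.τ₁.hom y) := by
    intro y
    apply Subtype.ext
    have := congrArg (fun t => t.hom y) φ.comm₁₂
    exact this.symm
  have hrange : LinearMap.range S₁.moduleCatToCycles ≤
      (LinearMap.range S₂.moduleCatToCycles).comap φK := by
    rintro _ ⟨y, rfl⟩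
    exact ⟨φ.τ₁.hom y, (hcomm y).symm⟩
  let φH := Submodule.mapQ _ _ φK hrange
  let γ : ShortComplex.LeftHomologyMapData φ S₁.moduleCatLeftHomologyData
      S₂.moduleCatLeftHomologyData :=
    { φK := ModuleCat.ofHom φK
      φH := ModuleCat.ofHom φH
      commi := by
        ext x
        rfl
      commf' := by
        ext y
        exact hcomm y
      commπ := by
        ext x
        rfl }
  rw [γ.quasiIso_iff]
  rw [ConcreteCategory.isIso_iff_bijective]
  change Function.Bijective φH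
  constructor
  · -- injective
    rw [injective_iff_map_eq_zero]
    intro t ht
    obtain ⟨x, rfl⟩ := Submodule.Quotient.mk_surjective _ t
    rw [Submodule.mapQ_apply, Submodule.Quotient.mk_eq_zero] at ht
    obtain ⟨y, hy⟩ := ht
    obtain ⟨w, hw⟩ := hI x.1 x.2 ⟨y, (congrArg Subtype.val hy).symm⟩
    rw [Submodule.Quotient.mk_eq_zero]
    exact ⟨w, Subtype.ext hw.symm⟩
  · intro t
    obtain ⟨x₂, rfl⟩ := Submodule.Quotient.mk_surjective _ t
    obtain ⟨x₁, hx₁, y, hy⟩ := hS x₂.1 x₂.2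
    refine ⟨Submodule.Quotient.mk ⟨x₁, hx₁⟩, ?_⟩
    rw [Submodule.mapQ_apply, Submodule.Quotient.eq]
    exact ⟨y, Subtype.ext hy.symm⟩


/-- elementwise criterion for a morphism of cochain complexes of modules to be a
quasi-isomorphism. -/
theorem quasiIso_of_elementwise {C C' : CochainComplex (ModuleCat.{u} A) ℤ} (g : C ⟶ C')
    (hS : ∀ (n : ℤ) (z' : C'.X n), (C'.d n (n + 1)).hom z' = 0 →
      ∃ z : C.X n, (C.d n (n + 1)).hom z = 0 ∧
        ∃ w' : C'.X (n - 1), (g.f n).hom z - z' = (C'.d (n - 1) n).hom w')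
    (hI : ∀ (n : ℤ) (z : C.X n), (C.d n (n + 1)).hom z = 0 →
      (∃ w' : C'.X (n - 1), (g.f n).hom z = (C'.d (n - 1) n).hom w') →
      ∃ w : C.X (n - 1), z = (C.d (n - 1) n).hom w) : QuasiIso g := by
  rw [quasiIso_iff]
  intro n
  rw [quasiIsoAt_iff' g (n - 1) n (n + 1) (by simp) (by simp)]
  exact shortComplex_quasiIso _ (hS n) (hI n)

end QisCrit
end Groth.Agent.Lib.Helper6
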