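import Mathlib
import Groth.Prelude.Def_DRing2
import Groth.Prelude.Def_DDual2
import Groth.Prelude.Def_DerCA
import Groth.Prelude.Def_MoreMor
import Groth.Agent.Lib.Helper6.LocPC
import Groth.Agent.Lib.Helper6.Resol3
import Groth.Agent.S6940

/-! Pseudo-coherent ring maps (`MoreMor.IsPseudoCoherentHom`) (helper6). -/

set_option autoImplicit false
universe u

open CategoryTheory Limits Pretriangulated DerivedCategory ZeroObject TensorProduct

namespace Groth.Agent.Lib.Helper6
namespace PCHom

attribute [local instance] HasDerivedCategory.standard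

open MPC RestrPC

section basic

variable (A B : Type u) [CommRing A] [CommRing B] [Algebra A B]

theorem pcHom_iff_relPC :
    MoreMor.IsPseudoCoherentHom A B ↔ DerCA.IsRelPseudoCoherentModuleAll A B B := by
  constructor
  · rintro ⟨n, φ, hφ, hB⟩ m
    refine ⟨n, φ, hφ, ?_⟩
    let _ : Algebra (MvPolynomial (Fin n) A) B := φ.toRingHom.toAlgebra
    have h := ((Groth.Agent.S6940.result (A := MvPolynomial (Fin n) A) (B := B) hB
      (Dual.inD B B) m).1).1 (allPC_self B m)
    exact h
  · intro h
    obtain ⟨n, α, hα, -⟩ := h 0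
    refine ⟨n, α, hα, ?_⟩
    let _ : Algebra (MvPolynomial (Fin n) A) B := α.toRingHom.toAlgebra
    have hpc : PCMap (algebraMap (MvPolynomial (Fin n) A) B) := fun m' =>
      isPC_of_iso (((Φ (α : MvPolynomial (Fin n) A →+* B)).mapDerivedCategorySingleFunctor 0).app
        (ModuleCat.of B B)) ((relPC_of_via' α hα _ m').1 (h m'))
    have h2 : AllPC (ModuleCat.of (MvPolynomial (Fin n) A) B) :=
      allPC_of_iso (restrSelfIso (MvPolynomial (Fin n) A) B).symm hpc
    exact (Resol.isPC'_iff _).2 h2

variable {A B}

lemma finiteType_of_pcHom (h : MoreMor.IsPseudoCoherentHom A B) : Algebra.FiniteType A B := by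
  obtain ⟨n, φ, hφ, -⟩ := h
  exact Algebra.FiniteType.of_surjective φ hφ

end basic

section trans

variable {A B C : Type u} [CommRing A] [CommRing B] [CommRing C] [Algebra A B] [Algebra B C]
  [Algebra A C] [IsScalarTower A B C]

theorem pcHom_comp (hAB : MoreMor.IsPseudoCoherentHom A B) (hBC : MoreMor.IsPseudoCoherentHom B C) :
    MoreMor.IsPseudoCoherentHom A C := by
  have h1 : Algebra.FiniteType A B := finiteType_of_pcHom hAB
  have h2 : Algebra.FiniteType B C := finiteType_of_pcHom hBC
  have h3 : Algebra.FiniteType A C := Algebra.FiniteType.trans h1 h2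
  rw [pcHom_iff_relPC] at hAB hBC ⊢
  intro m
  exact (relPC_trans_iff (R := A) (A := B) (B := C) hAB _ m).1 (hBC m)

theorem pcHom_cancel (hAB : MoreMor.IsPseudoCoherentHom A B) (hAC : MoreMor.IsPseudoCoherentHom A C) :
    MoreMor.IsPseudoCoherentHom B C := by
  have h1 : Algebra.FiniteType A B := finiteType_of_pcHom hAB
  have h3 : Algebra.FiniteType A C := finiteType_of_pcHom hAC
  have h2 : Algebra.FiniteType B C := Algebra.FiniteType.of_restrictScalars_finiteType A B C
  rw [pcHom_iff_relPC] at hAB hAC ⊢
  intro m
  exact (relPC_trans_iff (R := A) (A := B) (B := C) hAB _ m).2 (hAC m)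

end trans

section special

variable {A B : Type u} [CommRing A] [CommRing B] [Algebra A B]

theorem pcHom_of_bijective (h : Function.Bijective (algebraMap A B)) :
    MoreMor.IsPseudoCoherentHom A B := by
  rw [pcHom_iff_relPC]
  let γ : MvPolynomial (Fin 0) A →ₐ[A] B :=
    (Algebra.ofId A B).comp (MvPolynomial.isEmptyAlgEquiv A (Fin 0)).toAlgHom
  have hγ : Function.Bijective γ :=
    h.comp (MvPolynomial.isEmptyAlgEquiv A (Fin 0)).bijective
  exact relPC_self_of_pcMap γ hγ.2 (pcMap_of_bijective _ hγ)

theorem pcHom_away (r : A) [IsLocalization.Away r B] : MoreMor.IsPseudoCoherentHom A B := by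
  let e : Localization.Away r ≃ₐ[A] B := IsLocalization.algEquiv (Submonoid.powers r) _ _
  let _ : Algebra (Localization.Away r) B := e.toAlgHom.toRingHom.toAlgebra
  have : IsScalarTower A (Localization.Away r) B :=
    IsScalarTower.of_algebraMap_eq (fun a => (e.commutes a).symm)
  have h1 : MoreMor.IsPseudoCoherentHom A (Localization.Away r) :=
    (pcHom_iff_relPC _ _).2 (relPC_self_away r)
  have h2 : MoreMor.IsPseudoCoherentHom (Localization.Away r) B := pcHom_of_bijective e.bijective
  exact pcHom_comp h1 h2

end special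


section span

open Groth.Agent.Lib.Helper35.FlatBC

variable {A B : Type u} [CommRing A] [CommRing B] [Algebra A B]

/-- `B ⊗_A A ≅ B`. -/
noncomputable def extSelfIso : (ext A B).obj (ModuleCat.of A A) ≅ ModuleCat.of B B :=
  extObjIso B A ≪≫ (TensorProduct.AlgebraTensorModule.rid A B B).toModuleIso

/-- the termwise base change of `A[0]` is `B[0]`. -/
noncomputable def extSingleIso :
    DRing.toD (((ext A B).mapHomologicalComplex (ComplexShape.up ℤ)).obj
      ((CochainComplex.singleFunctor (ModuleCat.{u} A) 0).obj (ModuleCat.of A A))) ≅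
      Dual.inD B B :=
  DerivedCategory.Q.mapIso
    (((HomologicalComplex.singleMapHomologicalComplex (ext A B) (ComplexShape.up ℤ) 0).app
      (ModuleCat.of A A)) ≪≫
      (CochainComplex.singleFunctor (ModuleCat.{u} B) 0).mapIso extSelfIso) ≪≫
    ((DerivedCategory.singleFunctorIsoCompQ (ModuleCat.{u} B) 0).app (ModuleCat.of B B)).symm

end span

section iso

variable {R A : Type u} [CommRing R] [CommRing A] [Algebra R A]

lemma relPC_of_iso {K K' : Dual.D A} (e : K ≅ K') {m : ℤ}
    (h : DerCA.IsRelPseudoCoherent R A m K) : DerCA.IsRelPseudoCoherent R A m K' := by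
  obtain ⟨n, α, hα, h⟩ := h
  exact ⟨n, α, hα, isPC_of_iso ((DRing.restrictD (α : MvPolynomial (Fin n) R →+* A)).mapIso e) h⟩

end iso

section span2

variable {A B : Type u} [CommRing A] [CommRing B] [Algebra A B]

theorem pcHom_of_span_target {r : ℕ} (f : Fin r → B) (hf : Ideal.span (Set.range f) = ⊤)
    (H : ∀ i, MoreMor.IsPseudoCoherentHom A (Localization.Away (f i))) :
    MoreMor.IsPseudoCoherentHom A B := by
  have hft : Algebra.FiniteType A B :=
    Algebra.FiniteType.of_span_eq_top_target (Set.range f) hf (by
      rintro _ ⟨i, rfl⟩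
      exact finiteType_of_pcHom (H i))
  rw [pcHom_iff_relPC]
  intro m
  have e0 : Dual.inD B B ≅ DRing.toD ((CochainComplex.singleFunctor (ModuleCat.{u} B) 0).obj
      (ModuleCat.of B B)) :=
    (DerivedCategory.singleFunctorIsoCompQ (ModuleCat.{u} B) 0).app (ModuleCat.of B B)
  have key := (relPC_iff_of_cover (R := A) (A := B)
    ((CochainComplex.singleFunctor (ModuleCat.{u} B) 0).obj (ModuleCat.of B B)) m f hf).2 ?_
  · exact relPC_of_iso e0.symm key
  · intro i
    have hi := ((pcHom_iff_relPC A (Localization.Away (f i))).1 (H i)) m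
    exact relPC_of_iso (extSingleIso (A := B) (B := Localization.Away (f i))).symm hi

end span2

section ringHom

/-- the ring hom property: pseudo-coherent ring map. -/
def pcQ {R S : Type u} [CommRing R] [CommRing S] (f : R →+* S) : Prop :=
  @MoreMor.IsPseudoCoherentHom R S _ _ f.toAlgebra

lemma pcQ_algebraMap {A B : Type u} [CommRing A] [CommRing B] [Algebra A B] :
    pcQ (algebraMap A B) ↔ MoreMor.IsPseudoCoherentHom A B := by
  have : (algebraMap A B).toAlgebra = ‹Algebra A B› := Algebra.algebra_ext _ _ (fun _ => rfl)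
  unfold pcQ
  rw [this]

lemma pcQ_stableUnderComposition : RingHom.StableUnderComposition @pcQ := by
  intro R S T _ _ _ f g hf hg
  let _ : Algebra R S := f.toAlgebra
  let _ : Algebra S T := g.toAlgebra
  let _ : Algebra R T := (g.comp f).toAlgebra
  have : IsScalarTower R S T := IsScalarTower.of_algebraMap_eq (fun _ => rfl)
  exact pcHom_comp (A := R) (B := S) (C := T) hf hg

lemma pcQ_holdsForLocalizationAway : RingHom.HoldsForLocalizationAway @pcQ := by
  intro R S _ _ _ r _
  exact pcQ_algebraMap.2 (pcHom_away r)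

lemma pcQ_localizationAwayPreserves : RingHom.LocalizationAwayPreserves @pcQ := by
  intro R S _ _ f r R' S' _ _ _ _ _ _ hf
  let _ : Algebra R S := f.toAlgebra
  let g : R' →+* S' := IsLocalization.Away.map R' S' f r
  let _ : Algebra R' S' := g.toAlgebra
  let _ : Algebra R S' := ((algebraMap S S').comp f).toAlgebra
  have t1 : IsScalarTower R S S' := IsScalarTower.of_algebraMap_eq (fun _ => rfl)
  have t2 : IsScalarTower R R' S' := IsScalarTower.of_algebraMap_eq (fun x => by
    show (algebraMap S S') (f x) = g (algebraMap R R' x)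
    exact (IsLocalization.map_eq _ x).symm)
  have h1 : MoreMor.IsPseudoCoherentHom R R' := pcHom_away r
  have h2 : MoreMor.IsPseudoCoherentHom S S' := pcHom_away (f r)
  have h3 : MoreMor.IsPseudoCoherentHom R S' := pcHom_comp (A := R) (B := S) (C := S') hf h2
  exact pcHom_cancel (A := R) (B := R') (C := S') h1 h3

lemma pcQ_ofLocalizationFiniteSpanTarget : RingHom.OfLocalizationFiniteSpanTarget @pcQ := by
  intro R S _ _ f s hs H
  let _ : Algebra R S := f.toAlgebra
  let e := s.equivFin
  let g : Fin s.card → S := fun i => ((e.symm i : s) : S)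
  have hg : Set.range g = (s : Set S) := by
    ext x
    constructor
    · rintro ⟨i, rfl⟩
      exact (e.symm i).2
    · intro hx
      exact ⟨e ⟨x, hx⟩, by simp [g]⟩
  refine pcHom_of_span_target (A := R) (B := S) g (by rw [hg]; exact hs) (fun i => ?_)
  have hi := H (e.symm i)
  have heq : ((algebraMap S (Localization.Away ((e.symm i : s) : S))).comp f).toAlgebra =
      (inferInstance : Algebra R (Localization.Away (g i))) :=
    Algebra.algebra_ext _ _ (fun x => by
      rw [IsScalarTower.algebraMap_apply R S (Localization.Away (g i))]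
      rfl)
  unfold pcQ at hi
  rw [heq] at hi
  exact hi

lemma pcQ_ofLocalizationSpanTarget : RingHom.OfLocalizationSpanTarget @pcQ :=
  (RingHom.ofLocalizationSpanTarget_iff_finite _).2 pcQ_ofLocalizationFiniteSpanTarget

lemma pcQ_stableUnderCompositionWithLocalizationAway :
    RingHom.StableUnderCompositionWithLocalizationAway @pcQ :=
  pcQ_stableUnderComposition.stableUnderCompositionWithLocalizationAway
    pcQ_holdsForLocalizationAway

theorem pcQ_isLocal : RingHom.PropertyIsLocal @pcQ :=
  ⟨pcQ_localizationAwayPreserves, pcQ_ofLocalizationSpanTarget,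
    pcQ_ofLocalizationSpanTarget.ofLocalizationSpan
      pcQ_stableUnderCompositionWithLocalizationAway.left,
    pcQ_stableUnderCompositionWithLocalizationAway.right⟩

end ringHom

end PCHom
end Groth.Agent.Lib.Helper6
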