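import Mathlib
import Groth.Prelude.Def_MoreMor
import Groth.Agent.Lib.Helper6.PCHom
import Groth.Agent.Lib.Helper6.FlatDescent
import Groth.Agent.Lib.Helper35.FlatBC

/-! Faithfully flat descent of pseudo-coherent ring maps (helper6). -/

set_option autoImplicit false
universe u

open CategoryTheory Limits TensorProduct

namespace Groth.Agent.Lib.Helper6
namespace PCHom

attribute [local instance] HasDerivedCategory.standard

open MPC RestrPC Groth.Agent.Lib.Helper35.FlatBC

section presentation

variable {A B : Type u} [CommRing A] [CommRing B] [Algebra A B]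

/-- a pseudo-coherent ring map is pseudo-coherent via any presentation. -/
theorem pcModule_of_pcHom (h : MoreMor.IsPseudoCoherentHom A B) {n : ℕ}
    (α : MvPolynomial (Fin n) A →ₐ[A] B) (hα : Function.Surjective α) :
    letI := α.toRingHom.toAlgebra
    DRing.IsPseudoCoherentModule' (MvPolynomial (Fin n) A) B := by
  have h' := (pcHom_iff_relPC A B).1 h
  let _ : Algebra (MvPolynomial (Fin n) A) B := α.toRingHom.toAlgebra
  have hpc : PCMap (algebraMap (MvPolynomial (Fin n) A) B) := fun m' =>
    isPC_of_iso (((Φ (α : MvPolynomial (Fin n) A →+* B)).mapDerivedCategorySingleFunctor 0).app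
      (ModuleCat.of B B)) ((relPC_of_via' α hα _ m').1 (h' m'))
  have h2 : AllPC (ModuleCat.of (MvPolynomial (Fin n) A) B) :=
    allPC_of_iso (restrSelfIso (MvPolynomial (Fin n) A) B).symm hpc
  exact (Resol.isPC'_iff _).2 h2

end presentation

section baseChange

variable {R B R' B' : Type u} [CommRing R] [CommRing B] [CommRing R'] [CommRing B']
  [Algebra R B] [Algebra R R'] [Algebra B B'] [Algebra R' B'] [Algebra R B']
  [IsScalarTower R B B'] [IsScalarTower R R' B']

attribute [local instance] MvPolynomial.algebraMvPolynomial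

/-- base change of a presentation. -/
theorem exists_baseChange_presentation [Algebra.IsPushout R B R' B'] {n : ℕ}
    (φ : MvPolynomial (Fin n) R →ₐ[R] B) (hφ : Function.Surjective φ) :
    ∃ φ' : MvPolynomial (Fin n) R' →ₐ[R'] B', Function.Surjective φ' ∧
      (letI := φ.toRingHom.toAlgebra
       letI := φ'.toRingHom.toAlgebra
       Nonempty (TensorProduct (MvPolynomial (Fin n) R) (MvPolynomial (Fin n) R') B
        ≃ₗ[MvPolynomial (Fin n) R'] B')) := by
  let _ : Algebra (MvPolynomial (Fin n) R) B := φ.toRingHom.toAlgebra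
  have t1 : IsScalarTower R (MvPolynomial (Fin n) R) B :=
    IsScalarTower.of_algebraMap_eq (fun r => (φ.commutes r).symm)
  let φ' : MvPolynomial (Fin n) R' →ₐ[R'] B' :=
    MvPolynomial.aeval (fun i => algebraMap B B' (φ (MvPolynomial.X i)))
  let _ : Algebra (MvPolynomial (Fin n) R') B' := φ'.toRingHom.toAlgebra
  have t2 : IsScalarTower R' (MvPolynomial (Fin n) R') B' :=
    IsScalarTower.of_algebraMap_eq (fun r => (φ'.commutes r).symm)
  let _ : Algebra (MvPolynomial (Fin n) R) B' :=
    ((algebraMap B B').comp (algebraMap (MvPolynomial (Fin n) R) B)).toAlgebra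
  have t3 : IsScalarTower (MvPolynomial (Fin n) R) B B' :=
    IsScalarTower.of_algebraMap_eq (fun _ => rfl)
  have hcomp : (φ' : MvPolynomial (Fin n) R' →+* B').comp
      (MvPolynomial.map (algebraMap R R')) =
      (algebraMap B B').comp (φ : MvPolynomial (Fin n) R →+* B) := by
    apply MvPolynomial.ringHom_ext
    · intro r
      simp only [RingHom.comp_apply, MvPolynomial.map_C]
      have e1 : (φ' : MvPolynomial (Fin n) R' →+* B') (MvPolynomial.C (algebraMap R R' r)) =
          algebraMap R' B' (algebraMap R R' r) := φ'.commutes _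
      have e2 : (φ : MvPolynomial (Fin n) R →+* B) (MvPolynomial.C r) = algebraMap R B r :=
        φ.commutes r
      rw [e1, e2, ← IsScalarTower.algebraMap_apply R R' B', ← IsScalarTower.algebraMap_apply R B B']
    · intro i
      simp [φ']
  have t4 : IsScalarTower (MvPolynomial (Fin n) R) (MvPolynomial (Fin n) R') B' :=
    IsScalarTower.of_algebraMap_eq (fun p => (RingHom.congr_fun hcomp p).symm)
  have t5 : IsScalarTower R (MvPolynomial (Fin n) R') B' :=
    IsScalarTower.of_algebraMap_eq (fun r => by
      rw [IsScalarTower.algebraMap_apply R R' B', IsScalarTower.algebraMap_apply R' (MvPolynomial (Fin n) R') B',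
        ← IsScalarTower.algebraMap_apply R R' (MvPolynomial (Fin n) R')])
  have hpo : Algebra.IsPushout (MvPolynomial (Fin n) R) B (MvPolynomial (Fin n) R') B' :=
    (Algebra.IsPushout.comp_iff R (MvPolynomial (Fin n) R) R' (MvPolynomial (Fin n) R')).1
      inferInstance
  have hbc : IsBaseChange (MvPolynomial (Fin n) R')
      (IsScalarTower.toAlgHom (MvPolynomial (Fin n) R) B B').toLinearMap := hpo.symm.out
  let e : TensorProduct (MvPolynomial (Fin n) R) (MvPolynomial (Fin n) R') B
      ≃ₗ[MvPolynomial (Fin n) R'] B' := hbc.equiv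
  have hsurj : Function.Surjective φ' := by
    intro b'
    obtain ⟨z, rfl⟩ := e.surjective b'
    induction z using TensorProduct.induction_on with
    | zero => exact ⟨0, by simp⟩
    | tmul p' b =>
      obtain ⟨p, rfl⟩ := hφ b
      refine ⟨p' * MvPolynomial.map (algebraMap R R') p, ?_⟩
      rw [map_mul]
      have h1 : e (p' ⊗ₜ[MvPolynomial (Fin n) R] φ p) = p' • algebraMap B B' (φ p) :=
        hbc.equiv_tmul p' (φ p)
      rw [h1, Algebra.smul_def]
      congr 1
      exact RingHom.congr_fun hcomp p
    | add x y hx hy =>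
      obtain ⟨a, ha⟩ := hx
      obtain ⟨b, hb⟩ := hy
      exact ⟨a + b, by rw [map_add, map_add, ha, hb]⟩
  exact ⟨φ', hsurj, ⟨e⟩⟩

lemma flat_mvPolynomial (n : ℕ) [Module.Flat R R'] :
    Module.Flat (MvPolynomial (Fin n) R) (MvPolynomial (Fin n) R') :=
  Module.Flat.isBaseChange R (MvPolynomial (Fin n) R) R' (MvPolynomial (Fin n) R')
    (Algebra.IsPushout.out (R := R) (S := MvPolynomial (Fin n) R) (R' := R')
      (S' := MvPolynomial (Fin n) R'))

lemma faithfullyFlat_mvPolynomial (n : ℕ) [Module.FaithfullyFlat R R'] :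
    Module.FaithfullyFlat (MvPolynomial (Fin n) R) (MvPolynomial (Fin n) R') :=
  Module.FaithfullyFlat.of_linearEquiv _ _
    (IsBaseChange.equiv (Algebra.IsPushout.out (R := R) (S := MvPolynomial (Fin n) R) (R' := R')
      (S' := MvPolynomial (Fin n) R'))).symm

theorem pcHom_descent [Module.FaithfullyFlat R R'] [Algebra.IsPushout R B R' B']
    (h : MoreMor.IsPseudoCoherentHom R' B') : MoreMor.IsPseudoCoherentHom R B := by
  have hft' : Algebra.FiniteType R' B' := finiteType_of_pcHom h
  have hsymm : Algebra.IsPushout R R' B B' := Algebra.IsPushout.symm inferInstance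
  have hft'' : Algebra.FiniteType R' (TensorProduct R R' B) :=
    Algebra.FiniteType.equiv hft' (Algebra.IsPushout.equiv R R' B B').symm
  have hft : Algebra.FiniteType R B :=
    Algebra.FiniteType.of_finiteType_tensorProduct_of_faithfullyFlat R'
  obtain ⟨n, φ, hφ⟩ := Algebra.FiniteType.iff_quotient_mvPolynomial''.mp hft
  obtain ⟨φ', hφ', ⟨e⟩⟩ := exists_baseChange_presentation (R' := R') (B' := B') φ hφ
  have hB' := pcModule_of_pcHom h φ' hφ'
  refine ⟨n, φ, hφ, ?_⟩
  let _ : Algebra (MvPolynomial (Fin n) R) B := φ.toRingHom.toAlgebra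
  let _ : Algebra (MvPolynomial (Fin n) R') B' := φ'.toRingHom.toAlgebra
  have hff := faithfullyFlat_mvPolynomial (R := R) (R' := R') n
  have hfl : Module.Flat (MvPolynomial (Fin n) R) (MvPolynomial (Fin n) R') := inferInstance
  have H : PCDescent.Hyp (fun _ : Unit => MvPolynomial (Fin n) R')
      (fun _ => G (MvPolynomial (Fin n) R) (MvPolynomial (Fin n) R')) :=
    PCDescent.hyp_of_flat (fun _ : Unit => MvPolynomial (Fin n) R')
      (fun M hM => by
        have := hM ()
        exact Module.FaithfullyFlat.lTensor_reflects_triviality (MvPolynomial (Fin n) R)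
          (MvPolynomial (Fin n) R') M)
      (fun M hM => by
        have := hM ()
        exact Module.Finite.of_finite_tensorProduct_of_faithfullyFlat (MvPolynomial (Fin n) R'))
  refine PCDescent.descent' H _ (fun _ => ?_)
  have e2 : (G (MvPolynomial (Fin n) R) (MvPolynomial (Fin n) R')).obj
        (Dual.inD (MvPolynomial (Fin n) R) B) ≅ Dual.inD (MvPolynomial (Fin n) R') B' :=
    GInDIso (MvPolynomial (Fin n) R') B ≪≫
      (DerivedCategory.singleFunctor (ModuleCat.{u} (MvPolynomial (Fin n) R')) 0).mapIso
        e.toModuleIso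
  exact isPseudoCoherent'_of_iso (MvPolynomial (Fin n) R') e2.symm hB'

end baseChange

end PCHom
end Groth.Agent.Lib.Helper6
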