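import Mathlib
import Groth.Prelude.Def_MoreMor
import Groth.Agent.Lib.Helper6.PCHom
import Groth.Agent.Lib.Helper35.NoethRes

/-! Pseudo-coherent morphisms of schemes via `HasRingHomProperty` (helper6). -/

set_option autoImplicit false
universe u

open CategoryTheory Limits AlgebraicGeometry

namespace Groth.Agent.Lib.Helper6
namespace PCMor

open PCHom

attribute [local instance] HasDerivedCategory.standard

section ring

variable {A B : Type u} [CommRing A] [CommRing B] [Algebra A B]

theorem finitePresentation_of_pcHom (h : MoreMor.IsPseudoCoherentHom A B) :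
    Algebra.FinitePresentation A B := by
  obtain ⟨n, φ, hφ, hB⟩ := h
  let _ : Algebra (MvPolynomial (Fin n) A) B := φ.toRingHom.toAlgebra
  have hfp : Module.FinitePresentation (MvPolynomial (Fin n) A) B :=
    MPC.fp_of_isPC_neg_one_single (ModuleCat.of (MvPolynomial (Fin n) A) B)
      (MPC.isPC_of_isPC' hB (-1))
  let l : MvPolynomial (Fin n) A →ₗ[MvPolynomial (Fin n) A] B :=
    (Algebra.linearMap (MvPolynomial (Fin n) A) B)
  have hl : Function.Surjective l := hφ
  have hker : (LinearMap.ker l).FG := Module.FinitePresentation.fg_ker l hl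
  refine Algebra.FinitePresentation.of_surjective (f := φ) hφ ?_
  have : (RingHom.ker φ.toRingHom : Ideal (MvPolynomial (Fin n) A)) = LinearMap.ker l := by
    ext x
    rfl
  rw [this]
  exact hker

lemma pcQ_finitePresentation {R S : Type u} [CommRing R] [CommRing S] (f : R →+* S)
    (h : pcQ f) : f.FinitePresentation := by
  let _ : Algebra R S := f.toAlgebra
  exact finitePresentation_of_pcHom (A := R) (B := S) h

open RestrPC in
theorem pcHom_iff_of_finite [Module.Finite A B] :
    MoreMor.IsPseudoCoherentHom A B ↔ DRing.IsPseudoCoherentModule' A B := by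
  rw [pcHom_iff_relPC]
  have key : ∀ m : ℤ, DerCA.IsRelPseudoCoherent A B m (Dual.inD B B) ↔
      DRing.IsPseudoCoherent A m (Dual.inD A B) := by
    intro m
    rw [relPC_iff_of_finite A B _ m]
    have e : (DRing.restrictD (algebraMap A B)).obj (Dual.inD B B) ≅ Dual.inD A B :=
      ((Φ (algebraMap A B)).mapDerivedCategorySingleFunctor 0).app (ModuleCat.of B B) ≪≫
        (DerivedCategory.singleFunctor (ModuleCat.{u} A) 0).mapIso (restrSelfIso A B).symm
    exact ⟨fun h => MPC.isPC_of_iso e h, fun h => MPC.isPC_of_iso e.symm h⟩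
  unfold DerCA.IsRelPseudoCoherentModuleAll DerCA.IsRelPseudoCoherentAll
    DRing.IsPseudoCoherentModule'
  rw [Resol.isPC'_iff]
  exact forall_congr' key

theorem pcHom_of_noetherian [IsNoetherianRing A] [Algebra.FiniteType A B] :
    MoreMor.IsPseudoCoherentHom A B := by
  obtain ⟨n, φ, hφ⟩ := Algebra.FiniteType.iff_quotient_mvPolynomial''.mp
    (inferInstance : Algebra.FiniteType A B)
  refine ⟨n, φ, hφ, ?_⟩
  let _ := φ.toRingHom.toAlgebra
  have hfin : Module.Finite (MvPolynomial (Fin n) A) B :=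
    Module.Finite.of_surjective (Algebra.linearMap (MvPolynomial (Fin n) A) B) hφ
  exact Groth.Agent.Lib.Helper35.KL.isPseudoCoherent'_single_of_finite_of_isNoetherianRing
    (ModuleCat.of (MvPolynomial (Fin n) A) B)

end ring

/-- the morphism property "pseudo-coherent". -/
def pcMor : MorphismProperty Scheme.{u} := affineLocally @pcQ

instance : HasRingHomProperty pcMor.{u} @pcQ where
  isLocal_ringHomProperty := pcQ_isLocal
  eq_affineLocally' := rfl

theorem isPseudoCoherentMor_iff {X Y : Scheme.{u}} (f : X ⟶ Y) :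
    MoreMor.IsPseudoCoherentMor f ↔ pcMor f := by
  rw [pcMor, affineLocally_iff_forall_isAffineOpen]
  constructor
  · intro h U hU V hV e
    exact h V U hV hU e
  · intro h U V hU hV e
    exact h hV hU e

section schemes

variable {X Y Z : Scheme.{u}}

/-- S7166. -/
theorem pcMor_iff_exists (f : X ⟶ Y) :
    MoreMor.IsPseudoCoherentMor f ↔ ∀ x : X, ∃ (U : X.Opens) (V : Y.Opens) (hUV : U ≤ f ⁻¹ᵁ V),
      IsAffineOpen U ∧ IsAffineOpen V ∧ x ∈ U ∧
      (letI := (f.appLE V U hUV).hom.toAlgebra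
       MoreMor.IsPseudoCoherentHom Γ(Y, V) Γ(X, U)) := by
  rw [isPseudoCoherentMor_iff,
    HasRingHomProperty.iff_exists_appLE (P := pcMor)
      pcQ_stableUnderCompositionWithLocalizationAway.left]
  constructor
  · intro h x
    obtain ⟨U, V, hx, e, hQ⟩ := h x
    exact ⟨V.1, U.1, e, V.2, U.2, hx, hQ⟩
  · intro h x
    obtain ⟨U, V, e, hU, hV, hx, hQ⟩ := h x
    exact ⟨⟨V, hV⟩, ⟨U, hU⟩, hx, e, hQ⟩

/-- S7168. -/
theorem locallyOfFinitePresentation_of_pcMor (f : X ⟶ Y) (hf : MoreMor.IsPseudoCoherentMor f) :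
    LocallyOfFinitePresentation f := by
  rw [isPseudoCoherentMor_iff] at hf
  rw [HasRingHomProperty.iff_appLE (P := @LocallyOfFinitePresentation)]
  intro U V e
  exact pcQ_finitePresentation _ (HasRingHomProperty.appLE pcMor f hf U V e)

/-- S1504. -/
theorem pcMor_comp (f : X ⟶ Y) (g : Y ⟶ Z) (hf : MoreMor.IsPseudoCoherentMor f)
    (hg : MoreMor.IsPseudoCoherentMor g) : MoreMor.IsPseudoCoherentMor (f ≫ g) := by
  rw [isPseudoCoherentMor_iff] at hf hg ⊢
  have := HasRingHomProperty.stableUnderComposition (P := pcMor) pcQ_stableUnderComposition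
  exact pcMor.comp_mem f g hf hg

lemma pcQ_cancel {R S T : Type u} [CommRing R] [CommRing S] [CommRing T] (φ : R →+* S)
    (ψ : S →+* T) (h1 : pcQ φ) (h2 : pcQ (ψ.comp φ)) : pcQ ψ := by
  let _ : Algebra R S := φ.toAlgebra
  let _ : Algebra S T := ψ.toAlgebra
  let _ : Algebra R T := (ψ.comp φ).toAlgebra
  have : IsScalarTower R S T := IsScalarTower.of_algebraMap_eq (fun _ => rfl)
  exact pcHom_cancel (A := R) (B := S) (C := T) h1 h2

theorem pcMor_cancel_aux (f : X ⟶ Y) (g : Y ⟶ Z) (h : pcMor (f ≫ g)) (hg : pcMor g) :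
    pcMor f := by
  wlog hZ : IsAffine Z generalizing X Y Z
  · rw [IsZariskiLocalAtTarget.iff_of_iSup_eq_top (P := pcMor) _
      (g.iSup_preimage_eq_top (iSup_affineOpens_eq_top Z))]
    intro U
    have H := IsZariskiLocalAtTarget.restrict h U.1
    rw [morphismRestrict_comp] at H
    exact this _ _ H (IsZariskiLocalAtTarget.restrict hg U.1) inferInstance
  wlog hY : IsAffine Y generalizing X Y
  · rw [IsZariskiLocalAtTarget.iff_of_iSup_eq_top (P := pcMor) _ (iSup_affineOpens_eq_top Y)]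
    intro U
    have H := HasRingHomProperty.comp_of_isOpenImmersion pcMor (f ⁻¹ᵁ U.1).ι (f ≫ g) h
    rw [← morphismRestrict_ι_assoc] at H
    exact this _ _ H (HasRingHomProperty.comp_of_isOpenImmersion pcMor U.1.ι g hg) inferInstance
  wlog hX : IsAffine X generalizing X
  · rw [IsZariskiLocalAtSource.iff_of_iSup_eq_top (P := pcMor) _ (iSup_affineOpens_eq_top X)]
    intro U
    have H := HasRingHomProperty.comp_of_isOpenImmersion pcMor U.1.ι (f ≫ g) h
    rw [← Category.assoc] at H
    exact this _ H inferInstance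
  rw [HasRingHomProperty.iff_of_isAffine (P := pcMor)] at h hg ⊢
  rw [Scheme.Hom.comp_appTop] at h
  exact pcQ_cancel _ _ hg h

/-- S7169. -/
theorem pcMor_cancel (f : X ⟶ Y) (g : Y ⟶ Z) (hX : MoreMor.IsPseudoCoherentMor (f ≫ g))
    (hY : MoreMor.IsPseudoCoherentMor g) : MoreMor.IsPseudoCoherentMor f := by
  rw [isPseudoCoherentMor_iff] at hX hY ⊢
  exact pcMor_cancel_aux f g hX hY

/-- S7170. -/
theorem pcMor_iff_of_isFinite (f : X ⟶ Y) [IsFinite f] :
    MoreMor.IsPseudoCoherentMor f ↔ ∀ (V : Y.Opens), IsAffineOpen V →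
      (letI := (f.app V).hom.toAlgebra
       DRing.IsPseudoCoherentModule' Γ(Y, V) Γ(X, f ⁻¹ᵁ V)) := by
  have hfin : ∀ (V : Y.Opens), IsAffineOpen V →
      (letI := (f.app V).hom.toAlgebra
       Module.Finite Γ(Y, V) Γ(X, f ⁻¹ᵁ V)) := fun V hV => IsFinite.finite_app f V hV
  have hring : ∀ (V : Y.Opens), IsAffineOpen V →
      (pcQ (f.app V).hom ↔
      (letI := (f.app V).hom.toAlgebra
       DRing.IsPseudoCoherentModule' Γ(Y, V) Γ(X, f ⁻¹ᵁ V))) := by
    intro V hV
    let _ : Algebra Γ(Y, V) Γ(X, f ⁻¹ᵁ V) := (f.app V).hom.toAlgebra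
    have : Module.Finite Γ(Y, V) Γ(X, f ⁻¹ᵁ V) := hfin V hV
    exact pcHom_iff_of_finite
  constructor
  · intro h V hV
    have h1 := h (f ⁻¹ᵁ V) V (hV.preimage f) hV le_rfl
    have h2 : pcQ (f.appLE V (f ⁻¹ᵁ V) le_rfl).hom := h1
    rw [Scheme.Hom.appLE_eq_app] at h2
    exact (hring V hV).1 h2
  · intro h
    rw [isPseudoCoherentMor_iff,
      HasRingHomProperty.iff_exists_appLE (P := pcMor)
        pcQ_stableUnderCompositionWithLocalizationAway.left]
    intro x
    obtain ⟨V, hV, hxV, -⟩ := TopologicalSpace.Opens.isBasis_iff_nbhd.mp Y.isBasis_affineOpens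
      (TopologicalSpace.Opens.mem_top (f x))
    refine ⟨⟨V, hV⟩, ⟨f ⁻¹ᵁ V, hV.preimage f⟩, hxV, le_rfl, ?_⟩
    show pcQ (f.appLE V (f ⁻¹ᵁ V) le_rfl).hom
    rw [Scheme.Hom.appLE_eq_app]
    exact (hring V hV).2 (h V hV)

/-- S1503. -/
theorem pcMor_iff_locallyOfFiniteType (f : X ⟶ Y) [IsLocallyNoetherian Y] :
    MoreMor.IsPseudoCoherentMor f ↔ LocallyOfFiniteType f := by
  constructor
  · intro h
    have := locallyOfFinitePresentation_of_pcMor f h
    infer_instance
  · intro h U V hU hV e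
    have hN : IsNoetherianRing Γ(Y, V) := IsLocallyNoetherian.component_noetherian ⟨V, hV⟩
    have hft : (f.appLE V U e).hom.FiniteType :=
      HasRingHomProperty.appLE (P := @LocallyOfFiniteType) f h ⟨V, hV⟩ ⟨U, hU⟩ e
    let _ : Algebra Γ(Y, V) Γ(X, U) := (f.appLE V U e).hom.toAlgebra
    have : Algebra.FiniteType Γ(Y, V) Γ(X, U) := hft
    exact pcHom_of_noetherian

end schemes

end PCMor
end Groth.Agent.Lib.Helper6
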