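import Mathlib
import Groth.Prelude.Def_MoreMor
import Groth.Agent.Lib.Helper6.PCMor
import Groth.Agent.Lib.Helper6.PCBC

set_option autoImplicit false
universe u

open CategoryTheory Limits AlgebraicGeometry

namespace Groth.Agent.Lib.Helper6
namespace PCMor

open PCHom

/-- ring hom version of flat base change -/
lemma pcQ_baseChange {R B R' B' : CommRingCat.{u}} {a : R ⟶ B} {b : R ⟶ R'} {c : B ⟶ B'}
    {d : R' ⟶ B'} (H : IsPushout a b c d) (hb : b.hom.Flat) (ha : pcQ a.hom) : pcQ d.hom := by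
  let _ : Algebra R B := a.hom.toAlgebra
  let _ : Algebra R R' := b.hom.toAlgebra
  let _ : Algebra B B' := c.hom.toAlgebra
  let _ : Algebra R' B' := d.hom.toAlgebra
  let _ : Algebra R B' := (c.hom.comp a.hom).toAlgebra
  have t1 : IsScalarTower R B B' := IsScalarTower.of_algebraMap_eq (fun _ => rfl)
  have t2 : IsScalarTower R R' B' := IsScalarTower.of_algebraMap_eq (fun r => by
    have := congr($(H.w).hom r)
    exact this)
  have hflat : Module.Flat R R' := hb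
  have hpo : Algebra.IsPushout R B R' B' :=
    CommRingCat.isPushout_iff_isPushout.1 H
  exact pcHom_baseChange (R := R) (B := B) (R' := R') (B' := B') ha

theorem pcMor_flat_baseChange {X S X' S' : Scheme.{u}} (f : X ⟶ S) (f' : X' ⟶ S') (g' : X' ⟶ X)
    (g : S' ⟶ S) [Flat g] (hc : IsPullback g' f' f g) (hf : pcMor f) : pcMor f' := by
  rw [HasRingHomProperty.iff_exists_appLE (P := pcMor)
    pcQ_stableUnderCompositionWithLocalizationAway.left]
  intro x'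
  -- affine neighbourhoods
  obtain ⟨V, hV, hxV, -⟩ := TopologicalSpace.Opens.isBasis_iff_nbhd.mp S.isBasis_affineOpens
    (TopologicalSpace.Opens.mem_top (g (f' x')))
  obtain ⟨V', hV', hxV', hV'V⟩ := TopologicalSpace.Opens.isBasis_iff_nbhd.mp
    S'.isBasis_affineOpens (show f' x' ∈ g ⁻¹ᵁ V from hxV)
  have hxU0 : g' x' ∈ f ⁻¹ᵁ V := by
    show f (g' x') ∈ V
    have : f (g' x') = g (f' x') := by
      rw [← Scheme.Hom.comp_apply, ← Scheme.Hom.comp_apply, hc.w]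
    rw [this]
    exact hxV
  obtain ⟨U, hU, hxU, hUV⟩ := TopologicalSpace.Opens.isBasis_iff_nbhd.mp
    X.isBasis_affineOpens hxU0
  have hiso := isIso_pushoutSection_of_isAffineOpen hc hV'V hUV
    (UY := g' ⁻¹ᵁ U ⊓ f' ⁻¹ᵁ V') rfl hV hV' hU
  have hpo := (isIso_pushoutSection_iff hc hV'V hUV (UY := g' ⁻¹ᵁ U ⊓ f' ⁻¹ᵁ V') rfl).1 hiso
  have hU' : IsAffineOpen (g' ⁻¹ᵁ U ⊓ f' ⁻¹ᵁ V') := by
    have : IsAffine (V : Scheme) := hV
    have : IsAffine (V' : Scheme) := hV'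
    have : IsAffine (U : Scheme) := hU
    exact .of_isIso (Scheme.Hom.isPullback_resLE hc hV'V hUV
      (UY := g' ⁻¹ᵁ U ⊓ f' ⁻¹ᵁ V') rfl).isoPullback.hom
  refine ⟨⟨V', hV'⟩, ⟨g' ⁻¹ᵁ U ⊓ f' ⁻¹ᵁ V', hU'⟩, ⟨hxU, hxV'⟩, inf_le_right, ?_⟩
  have hflat : (g.appLE V V' hV'V).hom.Flat :=
    HasRingHomProperty.appLE (P := @Flat) g inferInstance ⟨V, hV⟩ ⟨V', hV'⟩ hV'V
  have hpc : pcQ (f.appLE V U hUV).hom :=
    HasRingHomProperty.appLE (P := pcMor) f hf ⟨V, hV⟩ ⟨U, hU⟩ hUV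
  exact pcQ_baseChange hpo hflat hpc

/-- S7167. -/
theorem pcMor_flat_baseChange' {X S X' S' : Scheme.{u}} (f : X ⟶ S) (f' : X' ⟶ S')
    (g' : X' ⟶ X) (g : S' ⟶ S) [Flat g] (hc : IsPullback g' f' f g)
    (hf : MoreMor.IsPseudoCoherentMor f) : MoreMor.IsPseudoCoherentMor f' := by
  rw [isPseudoCoherentMor_iff] at hf ⊢
  exact pcMor_flat_baseChange f f' g' g hc hf

end PCMor
end Groth.Agent.Lib.Helper6
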