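import Mathlib
import Groth.Prelude.Def_MoreMor
import Groth.Agent.Lib.Helper6.PCMor2
import Groth.Agent.Lib.Helper6.PCBC2

set_option autoImplicit false
universe u

open CategoryTheory Limits AlgebraicGeometry MorphismProperty

namespace Groth.Agent.Lib.Helper6
namespace PCMor

open PCHom

lemma pcQ_codescendsAlong : RingHom.CodescendsAlong @pcQ RingHom.FaithfullyFlat := by
  intro R S R' S' _ _ _ _ _ _ _ _ _ _ _ _ hff h
  rw [pcQ_algebraMap] at h ⊢
  have : Module.FaithfullyFlat R R' := RingHom.faithfullyFlat_algebraMap_iff.1 hff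
  exact pcHom_descent (R := R) (B := S) (R' := R') (B' := S') h

set_option backward.isDefEq.respectTransparency.types false in
instance pcMor_descendsAlong :
    pcMor.{u}.DescendsAlong (@Surjective ⊓ @Flat ⊓ @QuasiCompact) := by
  apply IsZariskiLocalAtTarget.descendsAlong
  intro R X Y f g hf h
  wlog hX : ∃ T, X = Spec T generalizing X
  · have _ : CompactSpace X := by simpa [← quasiCompact_iff_compactSpace f] using hf.2
    obtain ⟨Y', p, hsurj, hP', hY'⟩ := X.exists_hom_isAffine_of_isZariskiLocalAtSource @IsLocalIso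
    have hflat : Flat (Y'.isoSpec.inv ≫ p) := by
      have : Flat p := IsLocalIso.le_of_isZariskiLocalAtSource @Flat _ _ _ hP'
      infer_instance
    refine this (f := (Y'.isoSpec.inv ≫ p) ≫ f) ?_ ?_ ⟨_, rfl⟩
    · have h1 : Surjective f := hf.1.1
      have h2 : Flat f := hf.1.2
      have h3 : QuasiCompact f := hf.2
      exact ⟨⟨inferInstance, inferInstance⟩, inferInstance⟩
    · rw [← pullbackRightPullbackFstIso_inv_fst f g _, pcMor.cancel_left_of_respectsIso]
      exact pcMor_flat_baseChange (pullback.fst f g)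
        (pullback.fst (Y'.isoSpec.inv ≫ p) (pullback.fst f g))
        (pullback.snd (Y'.isoSpec.inv ≫ p) (pullback.fst f g)) (Y'.isoSpec.inv ≫ p)
        (IsPullback.of_hasPullback _ _).flip h
  obtain ⟨T, rfl⟩ := hX
  obtain ⟨φ, rfl⟩ := Spec.map_surjective f
  wlog hY : ∃ S, Y = Spec S generalizing Y
  · rw [IsZariskiLocalAtSource.iff_of_openCover (P := pcMor) Y.affineCover]
    intro i
    have heq : pullback.fst (Spec.map φ) (Y.affineCover.f i ≫ g) =
        pullback.map _ _ _ _ (𝟙 _) (Y.affineCover.f i) (𝟙 _) (by simp) (by simp) ≫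
          pullback.fst (Spec.map φ) g := (pullback.lift_fst _ _ _).symm
    exact this _ (heq ▸ AlgebraicGeometry.IsZariskiLocalAtSource.comp h _) ⟨_, rfl⟩
  obtain ⟨S, rfl⟩ := hY
  refine of_pullback_fst_Spec_of_codescendsAlong (P := pcMor)
    (P' := @Surjective ⊓ @Flat ⊓ @QuasiCompact) pcQ_codescendsAlong ?_ ?_ hf h
  · intro R S f hf
    rw [RingHom.FaithfullyFlat.iff_flat_and_comap_surjective]
    have h1 : Surjective (Spec.map f) := hf.1.1
    have h2 : Flat (Spec.map f) := hf.1.2
    refine ⟨?_, (Spec.map f).surjective⟩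
    rwa [HasRingHomProperty.Spec_iff (P := @Flat)] at h2
  · intro R S f
    exact HasRingHomProperty.Spec_iff (P := pcMor)

/-- S1505. -/
theorem pcMor_descent {X S X' S' : Scheme.{u}} (f : X ⟶ S) (f' : X' ⟶ S') (g' : X' ⟶ X)
    (g : S' ⟶ S) [Flat g] [Surjective g] [QuasiCompact g] (hc : IsPullback g' f' f g)
    (hf' : MoreMor.IsPseudoCoherentMor f') : MoreMor.IsPseudoCoherentMor f := by
  rw [isPseudoCoherentMor_iff] at hf' ⊢
  exact MorphismProperty.of_isPullback_of_descendsAlong (P := pcMor)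
    (Q := @Surjective ⊓ @Flat ⊓ @QuasiCompact) hc.flip
    ⟨⟨inferInstance, inferInstance⟩, inferInstance⟩ hf'

end PCMor
end Groth.Agent.Lib.Helper6
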