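import Groth.Prelude.Def_DRing4
import Groth.Agent.Lib.Helper26.KProjQ
import Groth.Agent.Lib.Helper28.KProjFlat
import Groth.Agent.Lib.Helper28.TensCx6
import Groth.Agent.Lib.Helper32.LBC

/-!
# Values of `DRing.LTensorCx` at K-projective complexes; terms of a tensor product of complexes
(helper6, on top of helper26 `DerivedAt`/`KProjQ` and helper28 `TensCx`).
-/

set_option autoImplicit false
universe u

open CategoryTheory CategoryTheory.Limits MonoidalCategory DerivedCategory

namespace Groth.Agent.Lib.Helper6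
namespace LTCx

attribute [local instance] HasDerivedCategory.standard

open Groth.Agent.Lib.Helper26.DerivedAt Groth.Agent.Lib.Helper26.KProjQ
open Groth.Agent.Lib.Helper28

section counit

variable (A : Type u) [CommRing A] (E : DRing.Cx A)

lemma isGoodAt (P : DRing.Cx A) [P.IsKProjective] :
    IsGoodAt (Q : DRing.Cx A ⥤ Dual.D A) (DRing.tensorCxQ A E) P where
  surj Z g := Q_map_surjective P Z g
  resp Z f g h := by
    obtain ⟨H⟩ := nonempty_homotopy_of_Q_map_eq f g h
    exact Q_map_eq_of_homotopy _ _ (TensCx.whiskerRightHomotopy H E)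

lemma exists_good (X : DRing.Cx A) :
    ∃ (X₀ : DRing.Cx A) (w : X₀ ⟶ X),
      HomologicalComplex.quasiIso (ModuleCat.{u} A) (ComplexShape.up ℤ) w ∧
        IsGoodAt (Q : DRing.Cx A ⥤ Dual.D A) (DRing.tensorCxQ A E) X₀ := by
  obtain ⟨P, f, hP, hf⟩ := Groth.Agent.Lib.Helper32.LBC.hasKProjRes A X
  exact ⟨P, f, (HomologicalComplex.mem_quasiIso_iff _).2 hf, isGoodAt A E P⟩

variable [DRing.HasLTensorCx A E]

/-- The canonical map `(Q P) ⊗^L E ⟶ Q (P ⊗ E)`. -/
noncomputable def ltcCounit (P : DRing.Cx A) :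
    (DRing.LTensorCx A E).obj (DRing.toD P) ⟶ DRing.toD (P ⊗ E) :=
  ((DRing.tensorCxQ A E).totalLeftDerivedCounit Q
    (HomologicalComplex.quasiIso (ModuleCat.{u} A) (ComplexShape.up ℤ))).app P

lemma ltcCounit_naturality {P P' : DRing.Cx A} (f : P ⟶ P') :
    (DRing.LTensorCx A E).map (Q.map f) ≫ ltcCounit A E P' =
      ltcCounit A E P ≫ Q.map (f ▷ E) :=
  ((DRing.tensorCxQ A E).totalLeftDerivedCounit Q
    (HomologicalComplex.quasiIso (ModuleCat.{u} A) (ComplexShape.up ℤ))).naturality f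

lemma isIso_ltcCounit (P : DRing.Cx A) [P.IsKProjective] : IsIso (ltcCounit A E P) :=
  isIso_app_of_isLeftDerivedFunctor
    (HomologicalComplex.quasiIso (ModuleCat.{u} A) (ComplexShape.up ℤ)) (exists_good A E)
    (DRing.LTensorCx A E) _ P (isGoodAt A E P)

/-- `(Q P) ⊗^L E ≅ Q (P ⊗ E)` for `P` K-projective. -/
noncomputable def ltcIso (P : DRing.Cx A) [P.IsKProjective] :
    (DRing.LTensorCx A E).obj (DRing.toD P) ≅ DRing.toD (P ⊗ E) :=
  haveI := isIso_ltcCounit A E P
  asIso (ltcCounit A E P)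

end counit


section second

variable {A : Type u} [CommRing A]

lemma quasiIso_whiskerLeft_of_isKProjective (P : DRing.Cx A) [P.IsKProjective]
    {M N : DRing.Cx A} (η : M ⟶ N) [QuasiIso η] : QuasiIso (P ◁ η) :=
  TensCx.quasiIso_whiskerLeft P
    (fun C hC => KProjFlat.acyclic_tensor_left_of_kflat P (KProjFlat.kflat_of_isKProjective P) C hC)
    η

/-- an isomorphism in `D(A)` out of a K-projective complex is given by a quasi-isomorphism. -/
lemma exists_quasiIso_of_iso (P L : DRing.Cx A) [P.IsKProjective] (e : DRing.toD P ≅ DRing.toD L) :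
    ∃ w : P ⟶ L, QuasiIso w ∧ Q.map w = e.hom := by
  obtain ⟨w, hw⟩ := Q_map_surjective P L e.hom
  refine ⟨w, ?_, hw⟩
  rw [← isIso_Q_map_iff_quasiIso, hw]
  infer_instance

/-- `Q (P ⊗ L) ≅ Q (P ⊗ L')` when `P` is K-projective and `L → L'` is a quasi-isomorphism. -/
noncomputable def tensorQIso (P : DRing.Cx A) [P.IsKProjective] {L L' : DRing.Cx A} (w : L ⟶ L')
    [QuasiIso w] : DRing.toD (P ⊗ L) ≅ DRing.toD (P ⊗ L') :=
  haveI := quasiIso_whiskerLeft_of_isKProjective P w
  asIso (Q.map (P ◁ w))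

end second


section terms

variable {R : Type u} [CommRing R] (L P : DRing.Cx R)

lemma proj_ι_apply_self (p q n : ℤ) (h : p + q = n) (y : ↑(L.X p ⊗ P.X q : ModuleCat.{u} R)) :
    (TensCx.proj L P p q n h).hom ((TensCx.ι L P p q n h).hom y) = y := by
  change (TensCx.ι L P p q n h ≫ TensCx.proj L P p q n h).hom y = y
  rw [TensCx.ι_proj_self]
  rfl

lemma proj_ι_apply_ne (p q p₀ q₀ n : ℤ) (h : p + q = n) (h₀ : p₀ + q₀ = n) (hne : p ≠ p₀)
    (y : ↑(L.X p ⊗ P.X q : ModuleCat.{u} R)) :
    (TensCx.proj L P p₀ q₀ n h₀).hom ((TensCx.ι L P p q n h).hom y) = 0 := by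
  change (TensCx.ι L P p q n h ≫ TensCx.proj L P p₀ q₀ n h₀).hom y = 0
  rw [TensCx.ι_proj_ne L P p q p₀ q₀ n h h₀ hne]
  rfl

/-- the `n`-th term of `L ⊗ P` as a finite product of the summands `L^p ⊗ P^(n-p)`, `p ∈ S`,
when the other summands vanish. -/
noncomputable def tensorXEquiv (n : ℤ) (S : Finset ℤ)
    (hS : ∀ p, p ∉ S → IsZero (L.X p ⊗ P.X (n - p) : ModuleCat.{u} R)) :
    ↑((L ⊗ P).X n) ≃ₗ[R] (∀ p : S, ↑(L.X p.1 ⊗ P.X (n - p.1) : ModuleCat.{u} R)) :=
  LinearEquiv.ofLinearMap
    (LinearMap.pi (fun p : S => (TensCx.proj L P p.1 (n - p.1) n (by omega)).hom))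
    (∑ p : S, (TensCx.ι L P p.1 (n - p.1) n (by omega)).hom ∘ₗ LinearMap.proj p)
    (by
      classical
      apply LinearMap.ext
      intro y
      funext p₀
      rw [LinearMap.comp_apply, LinearMap.pi_apply, LinearMap.sum_apply, map_sum,
        LinearMap.id_apply]
      simp only [LinearMap.comp_apply, LinearMap.proj_apply]
      rw [Finset.sum_eq_single p₀]
      · exact proj_ι_apply_self L P p₀.1 (n - p₀.1) n (by omega) (y p₀)
      · intro p _ hne
        exact proj_ι_apply_ne L P p.1 (n - p.1) p₀.1 (n - p₀.1) n (by omega) (by omega)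
          (fun h => hne (Subtype.ext h)) (y p)
      · intro h
        exact absurd (Finset.mem_univ p₀) h)
    (by
      classical
      apply LinearMap.ext
      intro x
      rw [LinearMap.comp_apply, LinearMap.sum_apply, LinearMap.id_apply]
      simp only [LinearMap.comp_apply, LinearMap.proj_apply, LinearMap.pi_apply]
      apply sub_eq_zero.1
      apply TensCx.eq_zero_of_proj_eq_zero L P n
      intro p₀
      rw [map_sub, map_sum]
      by_cases hp₀ : p₀ ∈ S
      · rw [Finset.sum_eq_single (⟨p₀, hp₀⟩ : S)]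
        · rw [proj_ι_apply_self, sub_self]
        · intro p _ hne
          exact proj_ι_apply_ne L P p.1 (n - p.1) p₀ (n - p₀) n (by omega) (by omega)
            (fun h => hne (Subtype.ext h)) _
        · intro h
          exact absurd (Finset.mem_univ _) h
      · have := ModuleCat.subsingleton_of_isZero (hS p₀ hp₀)
        exact Subsingleton.elim _ _)

end terms


section props

variable {R : Type u} [CommRing R] (L P : DRing.Cx R)

lemma isZero_tensorObj_left {X : ModuleCat.{u} R} (Y : ModuleCat.{u} R) (h : IsZero X) :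
    IsZero (X ⊗ Y : ModuleCat.{u} R) := by
  rw [IsZero.iff_id_eq_zero, ← MonoidalCategory.id_whiskerRight, (IsZero.iff_id_eq_zero X).1 h,
    MonoidalPreadditive.zero_whiskerRight]

lemma isZero_tensorObj_right (X : ModuleCat.{u} R) {Y : ModuleCat.{u} R} (h : IsZero Y) :
    IsZero (X ⊗ Y : ModuleCat.{u} R) := by
  rw [IsZero.iff_id_eq_zero, ← MonoidalCategory.whiskerLeft_id, (IsZero.iff_id_eq_zero Y).1 h,
    MonoidalPreadditive.whiskerLeft_zero]

lemma isZero_tensor_X (n : ℤ) (h : ∀ p, IsZero (L.X p ⊗ P.X (n - p) : ModuleCat.{u} R)) :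
    IsZero ((L ⊗ P).X n) := by
  have e := tensorXEquiv L P n ∅ (fun p _ => h p)
  have : Subsingleton ↑((L ⊗ P).X n) := e.toEquiv.subsingleton
  exact ModuleCat.isZero_of_subsingleton _

variable {L P}

theorem vanishesAbove_tensor {b b' : ℤ} (hL : DRing.VanishesAbove L b)
    (hP : DRing.VanishesAbove P b') : DRing.VanishesAbove (L ⊗ P) (b + b') := by
  intro n hn
  refine isZero_tensor_X L P n (fun p => ?_)
  by_cases hp : b < p
  · exact isZero_tensorObj_left _ (hL p hp)
  · exact isZero_tensorObj_right _ (hP (n - p) (by omega))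

theorem vanishesOutside_tensor {a b a' b' : ℤ} (hL : DRing.VanishesOutside L a b)
    (hP : DRing.VanishesOutside P a' b') : DRing.VanishesOutside (L ⊗ P) (a + a') (b + b') := by
  intro n hn
  refine isZero_tensor_X L P n (fun p => ?_)
  by_cases hp : p < a ∨ b < p
  · exact isZero_tensorObj_left _ (hL p hp)
  · exact isZero_tensorObj_right _ (hP (n - p) (by omega))

lemma isZero_summand_of_vanishesAbove {b b' : ℤ} (hL : DRing.VanishesAbove L b)
    (hP : DRing.VanishesAbove P b') (n p : ℤ) (hp : p ∉ Finset.Icc (n - b') b) :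
    IsZero (L.X p ⊗ P.X (n - p) : ModuleCat.{u} R) := by
  rw [Finset.mem_Icc] at hp
  by_cases hp' : b < p
  · exact isZero_tensorObj_left _ (hL p hp')
  · exact isZero_tensorObj_right _ (hP (n - p) (by omega))

theorem termwiseFiniteFree_tensor {b b' : ℤ} (hL : DRing.VanishesAbove L b)
    (hP : DRing.VanishesAbove P b') (hLf : DRing.TermwiseFiniteFree L)
    (hPf : DRing.TermwiseFiniteFree P) : DRing.TermwiseFiniteFree (L ⊗ P) := by
  intro n
  have e := tensorXEquiv L P n (Finset.Icc (n - b') b) (isZero_summand_of_vanishesAbove hL hP n)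
  have h1 : ∀ p : ℤ, Module.Finite R ↑(L.X p ⊗ P.X (n - p) : ModuleCat.{u} R) := fun p => by
    have := (hLf p).1
    have := (hPf (n - p)).1
    exact inferInstanceAs (Module.Finite R (TensorProduct R (L.X p) (P.X (n - p))))
  have h2 : ∀ p : ℤ, Module.Free R ↑(L.X p ⊗ P.X (n - p) : ModuleCat.{u} R) := fun p => by
    have := (hLf p).2
    have := (hPf (n - p)).2
    exact inferInstanceAs (Module.Free R (TensorProduct R (L.X p) (P.X (n - p))))
  exact ⟨Module.Finite.equiv e.symm, Module.Free.of_equiv e.symm⟩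

theorem termwiseFiniteProjective_tensor {b b' : ℤ} (hL : DRing.VanishesAbove L b)
    (hP : DRing.VanishesAbove P b') (hLf : DRing.TermwiseFiniteProjective L)
    (hPf : DRing.TermwiseFiniteProjective P) : DRing.TermwiseFiniteProjective (L ⊗ P) := by
  intro n
  have e := tensorXEquiv L P n (Finset.Icc (n - b') b) (isZero_summand_of_vanishesAbove hL hP n)
  have h1 : ∀ p : ℤ, Module.Finite R ↑(L.X p ⊗ P.X (n - p) : ModuleCat.{u} R) := fun p => by
    have := (hLf p).1
    have := (hPf (n - p)).1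
    exact inferInstanceAs (Module.Finite R (TensorProduct R (L.X p) (P.X (n - p))))
  have h2 : ∀ p : ℤ, Module.Projective R ↑(L.X p ⊗ P.X (n - p) : ModuleCat.{u} R) := fun p => by
    have := (hLf p).2
    have := (hPf (n - p)).2
    exact inferInstanceAs (Module.Projective R (TensorProduct R (L.X p) (P.X (n - p))))
  exact ⟨Module.Finite.equiv e.symm,
    Module.Projective.of_equiv (DFinsupp.linearEquivFunOnFintype ≪≫ₗ e.symm)⟩

theorem termwiseFlat_tensor {b b' : ℤ} (hL : DRing.VanishesAbove L b)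
    (hP : DRing.VanishesAbove P b') (hLf : DRing.TermwiseFlat L)
    (hPf : DRing.TermwiseFlat P) : DRing.TermwiseFlat (L ⊗ P) := by
  intro n
  have e := tensorXEquiv L P n (Finset.Icc (n - b') b) (isZero_summand_of_vanishesAbove hL hP n)
  have h2 : ∀ p : ℤ, Module.Flat R ↑(L.X p ⊗ P.X (n - p) : ModuleCat.{u} R) := fun p => by
    have := hLf p
    have := hPf (n - p)
    exact inferInstanceAs (Module.Flat R (TensorProduct R (L.X p) (P.X (n - p))))
  exact Module.Flat.of_linearEquiv (DFinsupp.linearEquivFunOnFintype ≪≫ₗ e.symm).symm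

end props


section main

variable (R : Type u) [CommRing R]

/-- `K ⊗^L L ≅ Q (P ⊗ P')` for K-projective representatives `P` of `K` and `P'` of `L`. -/
lemma nonempty_ltensorCx_iso (K : Dual.D R) (L : DRing.Cx R) [DRing.HasLTensorCx R L]
    (P P' : DRing.Cx R) [P.IsKProjective] [P'.IsKProjective] (e : DRing.toD P ≅ K)
    (e' : DRing.toD P' ≅ DRing.toD L) :
    Nonempty (DRing.toD (P ⊗ P') ≅ (DRing.LTensorCx R L).obj K) := by
  obtain ⟨w, hw, _⟩ := exists_quasiIso_of_iso P' L e'
  exact ⟨tensorQIso P w ≪≫ (ltcIso R L P).symm ≪≫ (DRing.LTensorCx R L).mapIso e⟩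

theorem isPerfect_ltensorCx (K : Dual.D R) (hK : DRing.IsPerfect R K)
    (L : DRing.Cx R) (hL : DRing.IsPerfect R (DRing.toD L)) [DRing.HasLTensorCx R L] :
    DRing.IsPerfect R ((DRing.LTensorCx R L).obj K) := by
  obtain ⟨P, a, b, hv, hP, ⟨e⟩⟩ := hK
  obtain ⟨P', a', b', hv', hP', ⟨e'⟩⟩ := hL
  have hb : DRing.VanishesAbove P b := fun i hi => hv i (Or.inr hi)
  have hb' : DRing.VanishesAbove P' b' := fun i hi => hv' i (Or.inr hi)
  have : P.IsKProjective :=
    Groth.Agent.Lib.Helper32.LBC.isKProjective_of_vanishesAbove P b hb (fun i => (hP i).2)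
  have : P'.IsKProjective :=
    Groth.Agent.Lib.Helper32.LBC.isKProjective_of_vanishesAbove P' b' hb' (fun i => (hP' i).2)
  obtain ⟨i⟩ := nonempty_ltensorCx_iso R K L P P' e e'
  exact ⟨P ⊗ P', a + a', b + b', vanishesOutside_tensor hv hv',
    termwiseFiniteProjective_tensor hb hb' hP hP', ⟨i⟩⟩

theorem isPseudoCoherent'_ltensorCx (K : Dual.D R) (hK : DRing.IsPseudoCoherent' R K)
    (L : DRing.Cx R) (hL : DRing.IsPseudoCoherent' R (DRing.toD L)) [DRing.HasLTensorCx R L] :
    DRing.IsPseudoCoherent' R ((DRing.LTensorCx R L).obj K) := by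
  obtain ⟨P, b, hb, hP, ⟨e⟩⟩ := hK
  obtain ⟨P', b', hb', hP', ⟨e'⟩⟩ := hL
  have : P.IsKProjective :=
    Groth.Agent.Lib.Helper32.LBC.isKProjective_of_vanishesAbove P b hb (fun i => by
      have := (hP i).2
      infer_instance)
  have : P'.IsKProjective :=
    Groth.Agent.Lib.Helper32.LBC.isKProjective_of_vanishesAbove P' b' hb' (fun i => by
      have := (hP' i).2
      infer_instance)
  obtain ⟨i⟩ := nonempty_ltensorCx_iso R K L P P' e e'
  exact ⟨P ⊗ P', b + b', vanishesAbove_tensor hb hb', termwiseFiniteFree_tensor hb hb' hP hP', ⟨i⟩⟩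

end main

end LTCx
end Groth.Agent.Lib.Helper6
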