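import Mathlib
import Groth.Prelude.Def_DRing2
import Groth.Prelude.Def_DDual2
import Groth.Agent.Lib.Helper32.LBC
import Groth.Agent.Lib.Helper35.FlatBC
import Groth.Agent.Lib.Helper6.Resol3

/-! Derived base change: right t-exactness, triangulated structure and pseudo-coherence
(helper6, on top of helper32's `LBC`). -/

set_option autoImplicit false
universe u

open CategoryTheory Limits Pretriangulated DerivedCategory ZeroObject

namespace Groth.Agent.Lib.Helper6
namespace LBCPC

attribute [local instance] HasDerivedCategory.standard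

open MPC Resol

section free

variable {R : Type u} [CommRing R]

lemma classHyp_free : ClassHyp (fun M : ModuleCat.{u} R => Module.Free R M) where
  proj M h := by
    have := h
    infer_instance
  zero M h := by
    have := ModuleCat.subsingleton_of_isZero h
    infer_instance
  iso e h := by
    have := h
    exact Module.Free.of_equiv e.toLinearEquiv
  prod M N hM hN := by
    have := hM
    have := hN
    exact inferInstanceAs (Module.Free R (M × N))

lemma coverHyp_free (K₀ : DRing.Cx R) : CoverHyp (fun M : ModuleCat.{u} R => Module.Free R M) K₀ := by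
  intro E a' b' hv hE a C p q hT t hC
  let H := (homologyFunctor (ModuleCat.{u} R) t).obj C
  refine ⟨ModuleCat.of R (H →₀ R), inferInstanceAs (Module.Free R (H →₀ R)),
    ModuleCat.ofHom (Finsupp.linearCombination R (id : H → H)), ?_⟩
  rw [ModuleCat.epi_iff_surjective]
  intro x
  exact ⟨Finsupp.single x 1, by simp⟩

/-- an object `≤ b` is represented by a complex of free modules vanishing above `b`. -/
theorem exists_free_of_isLE (K : Dual.D R) (b : ℤ) [K.IsLE b] :
    ∃ E : DRing.Cx R, DRing.VanishesAbove E b ∧ (∀ i, Module.Free R (E.X i)) ∧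
      Nonempty (DRing.toD E ≅ K) := by
  let K₀ := Q.objPreimage K
  let e : Q.obj K₀ ≅ K := Q.objObjPreimageIso K
  have hLE : (Q.obj K₀).IsLE b := TStructure.t.isLE_of_iso e.symm b
  obtain ⟨E, a, hv, hE, ha⟩ := exists_resolution_cx (b := b) classHyp_free (coverHyp_free K₀)
  exact ⟨E, hv, hE, ⟨asIso (Q.map a) ≪≫ e⟩⟩

end free

section LBC

open Groth.Agent.Lib.Helper32

variable {A B : Type u} [CommRing A] [CommRing B] (φ : A →+* B) [DRing.HasLBaseChange φ]

/-- derived base change is right t-exact. -/
theorem isLE_LBaseChange (K : Dual.D A) (n : ℤ) [K.IsLE n] :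
    ((DRing.LBaseChange φ).obj K).IsLE n := by
  obtain ⟨E, hv, hfree, ⟨e⟩⟩ := exists_free_of_isLE K n
  have : E.IsKProjective := LBC.isKProjective_of_vanishesAbove E n hv (fun i => by
    have := hfree i
    infer_instance)
  have hs : ((LBC.extCx φ).obj E).IsStrictlyLE n := by
    rw [CochainComplex.isStrictlyLE_iff]
    intro i hi
    exact (ModuleCat.extendScalars.{u, u, u} φ).map_isZero (hv i hi)
  have h1 : (DRing.toD ((LBC.extCx φ).obj E)).IsLE n := inferInstance
  exact TStructure.t.isLE_of_iso
    ((LBC.lbcIso φ E).symm ≪≫ (DRing.LBaseChange φ).mapIso e) n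

/-- the adjunction `LBaseChange ⊣ restrictD`. -/
noncomputable def lbcAdj : DRing.LBaseChange φ ⊣ DRing.restrictD φ :=
  KProjDerived.derivedAdjunction (ModuleCat.extendRestrictScalarsAdj φ)
    (fun K => KProjRes.exists_kProjective_resolution_moduleCat A K)
    _ ((DRing.baseChangeKh φ).totalLeftDerivedCounit DerivedCategory.Qh
      (HomotopyCategory.quasiIso (ModuleCat.{u} A) (ComplexShape.up ℤ)))

/-- the commutation with shifts induced by the adjunction. -/
@[instance_reducible]
noncomputable def lbcCommShift : (DRing.LBaseChange φ).CommShift ℤ :=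
  (lbcAdj φ).leftAdjointCommShift ℤ

lemma lbc_isTriangulated :
    letI := lbcCommShift φ
    (DRing.LBaseChange φ).IsTriangulated := by
  letI := lbcCommShift φ
  haveI : (lbcAdj φ).CommShift ℤ := (lbcAdj φ).commShift_of_rightAdjoint ℤ
  exact (lbcAdj φ).isTriangulated_leftAdjoint

theorem cond_LBaseChange {X Y : Dual.D A} (α : X ⟶ Y) (m : ℤ) (h : Cond m α) :
    Cond m ((DRing.LBaseChange φ).map α) := by
  letI := lbcCommShift φ
  haveI := lbc_isTriangulated φ
  obtain ⟨C, p, q, hT⟩ := distinguished_cocone_triangle α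
  have hC : C.IsLE (m - 1) := (cond_iff_isLE _ hT m).1 h
  have hT' := (DRing.LBaseChange φ).map_distinguished _ hT
  have hLC : ((DRing.LBaseChange φ).obj C).IsLE (m - 1) := isLE_LBaseChange φ C (m - 1)
  exact (cond_iff_isLE _ hT' m).2 hLC

theorem isPC_LBaseChange (K : Dual.D A) (m : ℤ) (hK : DRing.IsPseudoCoherent A m K) :
    DRing.IsPseudoCoherent B m ((DRing.LBaseChange φ).obj K) := by
  obtain ⟨E, a, b, α, hv, hE, hiso, hepi⟩ := hK
  letI : Algebra A B := φ.toAlgebra
  have : E.IsKProjective := LBC.isKProjective_of_vanishesAbove E b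
    (fun i hi => hv i (Or.inr hi)) (fun i => by
      have := (hE i).2
      infer_instance)
  have hc := cond_LBaseChange φ α m ⟨hiso, hepi⟩
  refine isPC_of_cond hc (isPC_of_iso (LBC.lbcIso φ E).symm (isPC_of_FF (a := a) (b := b)
    ⟨(LBC.extCx φ).obj E, ?_, ?_, ⟨Iso.refl _⟩⟩ m))
  · exact fun i hi => (ModuleCat.extendScalars.{u, u, u} φ).map_isZero (hv i hi)
  · intro i
    have h1 := (hE i).1
    have h2 := (hE i).2
    exact ⟨Groth.Agent.Lib.Helper35.FlatBC.finite_ext_obj B (E.X i),
      Groth.Agent.Lib.Helper35.FlatBC.free_ext_obj B (E.X i)⟩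

end LBC

end LBCPC
end Groth.Agent.Lib.Helper6
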