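import Mathlib
import Groth.Prelude.Def_DRing2
import Groth.Prelude.Def_DDual2
import Groth.Agent.Lib.Helper35.BCIso

/-! Base change comparison `R' ⊗_R X ≅ A' ⊗_A X` for a general pushout square of rings (a variant of
helper35's `bcNatIso` for `A' = R' ⊗_R A`) (helper6). -/

set_option autoImplicit false
set_option linter.unusedSectionVars false
universe u
open CategoryTheory CategoryTheory.Limits MonoidalCategory DerivedCategory CochainComplex
  TensorProduct
attribute [local instance] HasDerivedCategory.standard

namespace Groth.Agent.Lib.Helper6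
namespace PushoutBC

open Groth.Agent.Lib.Helper35.FlatBC

variable (R A R' A' : Type u) [CommRing R] [CommRing A] [Algebra R A] [CommRing R'] [Algebra R R']
  [CommRing A'] [Algebra A A'] [Algebra R' A'] [Algebra R A'] [IsScalarTower R A A']
  [IsScalarTower R R' A'] [Algebra.IsPushout R R' A A']

/-- `X ↦ R' ⊗_R X` on `A`-modules (restricted to `R`). -/
noncomputable abbrev bcR : ModuleCat.{u} A ⥤ ModuleCat.{u} R' :=
  ModuleCat.restrictScalars.{u} (algebraMap R A) ⋙ ModuleCat.extendScalars.{u, u, u} (algebraMap R R')

/-- `X ↦ A' ⊗_A X` on `A`-modules, restricted to `R'`. -/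
noncomputable abbrev bcL : ModuleCat.{u} A ⥤ ModuleCat.{u} R' :=
  ModuleCat.extendScalars.{u, u, u} (algebraMap A A') ⋙
    ModuleCat.restrictScalars.{u} (algebraMap R' A')

variable {A}

set_option backward.isDefEq.respectTransparency false in
/-- the comparison equivalence `R' ⊗_R X ≃ A' ⊗_A X` -/
noncomputable def bcEquiv (X : ModuleCat.{u} A) :
    ((bcR R A R').obj X) ≃ₗ[R'] ((bcL A R' A').obj X) := by
  let _ : Module R X := Module.compHom X (algebraMap R A)
  have : IsScalarTower R A X := IsScalarTower.of_algebraMap_smul (fun _ _ => rfl)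
  let e1 : ((bcR R A R').obj X) ≃ₗ[R'] R' ⊗[R] X := extLinearEquiv R' X
  let e2 : A' ⊗[A] X ≃ₗ[R'] R' ⊗[R] X :=
    Algebra.IsPushout.cancelBaseChange R R' A A' X
  let e3 : ((ModuleCat.extendScalars.{u, u, u} (algebraMap A A')).obj X) ≃ₗ[A']
      A' ⊗[A] X := extLinearEquiv A' X
  let e3' : ((bcL A R' A').obj X) ≃ₗ[R'] A' ⊗[A] X :=
    { toFun := fun z => e3 z
      invFun := fun z => e3.symm z
      map_add' := fun x y => e3.map_add x y
      map_smul' := fun r
          (z : (ModuleCat.extendScalars.{u, u, u} (algebraMap A A')).obj X) => by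
        change e3 ((algebraMap R' A' r) • z) = r • e3 z
        rw [map_smul, algebraMap_smul]
      left_inv := fun z => e3.symm_apply_apply z
      right_inv := fun z => e3.apply_symm_apply z }
  exact e1.trans (e2.symm.trans e3'.symm)

set_option backward.isDefEq.respectTransparency false in
theorem bcEquiv_one_tmul (X : ModuleCat.{u} A) (x : X) :
    bcEquiv R R' A' X (show (bcR R A R').obj X from ((1 : R') ⊗ₜ[R] x)) =
      (show (bcL A R' A').obj X from ((1 : A') ⊗ₜ[A] x)) := by
  let _ : Module R X := Module.compHom X (algebraMap R A)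
  have : IsScalarTower R A X := IsScalarTower.of_algebraMap_smul (fun _ _ => rfl)
  have h2 : (Algebra.IsPushout.cancelBaseChange R R' A A' X).symm ((1 : R') ⊗ₜ[R] x) =
      (1 : A') ⊗ₜ[A] x := by
    rw [Algebra.IsPushout.cancelBaseChange_symm_tmul, map_one]
  simp only [bcEquiv, LinearEquiv.trans_apply]
  erw [h2]
  rfl

set_option backward.isDefEq.respectTransparency false in
/-- base change compatibility as a natural isomorphism -/
noncomputable def bcNatIso : bcR R A R' ≅ bcL A R' A' :=
  NatIso.ofComponents (fun X => (bcEquiv R R' A' X).toModuleIso) (by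
    intro X Y f
    apply ModuleCat.ExtendScalars.hom_ext
    intro m
    change bcEquiv R R' A' Y (show (bcR R A R').obj Y from ((1 : R') ⊗ₜ[R] (f m))) =
      ((bcL A R' A').map f).hom (bcEquiv R R' A' X (show (bcR R A R').obj X from ((1 : R') ⊗ₜ[R] m)))
    rw [bcEquiv_one_tmul, bcEquiv_one_tmul]
    rfl)

/-- the comparison of complexes -/
noncomputable def bcCxIso (E : DRing.Cx A) :
    ((ModuleCat.extendScalars.{u, u, u} (algebraMap R R')).mapHomologicalComplex
      (ComplexShape.up ℤ)).obj (((ModuleCat.restrictScalars.{u}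
        (algebraMap R A)).mapHomologicalComplex (ComplexShape.up ℤ)).obj E) ≅
    ((ModuleCat.restrictScalars.{u} (algebraMap R' A')).mapHomologicalComplex
      (ComplexShape.up ℤ)).obj (((ModuleCat.extendScalars.{u, u, u}
        (algebraMap A A')).mapHomologicalComplex (ComplexShape.up ℤ)).obj E) :=
  HomologicalComplex.Hom.isoOfComponents (fun i => (bcNatIso R R' A').app (E.X i))
    (fun i j _ => ((bcNatIso R R' A').hom.naturality (E.d i j)).symm)

end PushoutBC
end Groth.Agent.Lib.Helper6
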