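import Mathlib
import Groth.Prelude.Def_DRing2
import Groth.Agent.Lib.Helper35.TorRestr

/-! Modules `X` with `Tor_p(X, N) = 0` for `p > 0` (`N` fixed): closure properties and the
injectivity consequence (helper6). -/

set_option autoImplicit false
universe u

open CategoryTheory Limits MonoidalCategory TensorProduct

namespace Groth.Agent.Lib.Helper6
namespace TorAcyc

open Groth.Agent.Lib.Helper35.TA

variable {R : Type u} [CommRing R] (N : ModuleCat.{u} R)

/-- `Tor_p(X, N) = 0` for all `p > 0`. -/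
def Acyc (X : ModuleCat.{u} R) : Prop := ∀ q : ℕ, IsZero (TorZ (q + 1) X N)

lemma acyc_of_flat (X : ModuleCat.{u} R) [Module.Flat R X] : Acyc N X :=
  fun q => TD_zero_of_flat X N (q + 1) (by omega)

lemma acyc_of_iso {X Y : ModuleCat.{u} R} (e : X ≅ Y) (h : Acyc N X) : Acyc N Y :=
  fun q => (h q).of_iso (((Tor (ModuleCat.{u} R) (q + 1)).mapIso e.symm).app N)

lemma acyc_of_isZero {X : ModuleCat.{u} R} (h : IsZero X) : Acyc N X := by
  have : Subsingleton X := ModuleCat.subsingleton_of_isZero h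
  exact acyc_of_flat N X

lemma acyc_X₁ {S : ShortComplex (ModuleCat.{u} R)} (hS : S.ShortExact)
    (h₂ : Acyc N S.X₂) (h₃ : Acyc N S.X₃) : Acyc N S.X₁ := by
  intro q
  obtain ⟨-, δ, w₁, w₂, -, hex⟩ := Groth.Agent.Lib.Helper73.tor_les_first hS N (q + 1)
  exact hex.isZero_of_both_zeros ((h₃ (q + 1)).eq_of_src _ _) ((h₂ q).eq_of_tgt _ _)

lemma acyc_X₂ {S : ShortComplex (ModuleCat.{u} R)} (hS : S.ShortExact)
    (h₁ : Acyc N S.X₁) (h₃ : Acyc N S.X₃) : Acyc N S.X₂ := by
  intro q
  obtain ⟨⟨w₀, hex⟩, -⟩ := Groth.Agent.Lib.Helper73.tor_les_first hS N (q + 1)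
  exact hex.isZero_of_both_zeros ((h₁ q).eq_of_src _ _) ((h₃ q).eq_of_tgt _ _)

lemma acyc_prod (X Y : ModuleCat.{u} R) (hX : Acyc N X) (hY : Acyc N Y) :
    Acyc N (ModuleCat.of R (X × Y)) := by
  let S : ShortComplex (ModuleCat.{u} R) :=
    ShortComplex.mk (ModuleCat.ofHom (LinearMap.inl R X Y)) (ModuleCat.ofHom (LinearMap.snd R X Y))
      (by ext x; simp)
  have hS : S.ShortExact := by
    refine ModuleCat.shortComplex_shortExact S ?_ LinearMap.inl_injective LinearMap.snd_surjective
    intro x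
    constructor
    · intro hx
      have hx' : (x : X × Y).2 = 0 := hx
      refine ⟨(x : X × Y).1, ?_⟩
      show ((x : X × Y).1, (0 : Y)) = x
      exact Prod.ext rfl hx'.symm
    · rintro ⟨y, rfl⟩
      rfl
  exact acyc_X₂ N hS hX hY

section Chase

variable {K X K' N₁ Fr N₀ : Type u} [AddCommGroup K] [Module R K] [AddCommGroup X] [Module R X]
  [AddCommGroup K'] [Module R K'] [AddCommGroup N₁] [Module R N₁] [AddCommGroup Fr] [Module R Fr]
  [AddCommGroup N₀] [Module R N₀]

/-- the snake-type diagram chase. -/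
theorem rTensor_injective_of_chase [Module.Flat R Fr] (f : K →ₗ[R] X) (g : X →ₗ[R] K')
    (hf : Function.Injective f) (hg : Function.Surjective g) (hfg : Function.Exact f g)
    (i : N₁ →ₗ[R] Fr) (π : Fr →ₗ[R] N₀) (hπ : Function.Surjective π) (hiπ : Function.Exact i π)
    (hinj : Function.Injective (i.lTensor K')) :
    Function.Injective (f.rTensor N₀) := by
  rw [injective_iff_map_eq_zero]
  intro z hz
  obtain ⟨z₀, rfl⟩ := LinearMap.lTensor_surjective K hπ z
  -- x₀
  have h1 : (π.lTensor X) ((f.rTensor Fr) z₀) = 0 := by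
    rw [← LinearMap.comp_apply, LinearMap.lTensor_comp_rTensor, ← LinearMap.rTensor_comp_lTensor,
      LinearMap.comp_apply]
    exact hz
  obtain ⟨x₁, hx₁⟩ := (lTensor_exact X hiπ hπ _).1 h1
  -- k₁'
  have h2 : (i.lTensor K') ((g.rTensor N₁) x₁) = 0 := by
    rw [← LinearMap.comp_apply, LinearMap.lTensor_comp_rTensor, ← LinearMap.rTensor_comp_lTensor,
      LinearMap.comp_apply, hx₁, ← LinearMap.comp_apply, ← LinearMap.rTensor_comp]
    have : g ∘ₗ f = 0 := by
      ext y
      exact hfg.apply_apply_eq_zero y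
    rw [this, LinearMap.rTensor_zero, LinearMap.zero_apply]
  have h3 : (g.rTensor N₁) x₁ = 0 := hinj (by rw [h2, map_zero])
  obtain ⟨k₁, hk₁⟩ := (rTensor_exact N₁ hfg hg _).1 h3
  have h4 : (f.rTensor Fr) ((i.lTensor K) k₁) = (f.rTensor Fr) z₀ := by
    rw [← LinearMap.comp_apply, LinearMap.rTensor_comp_lTensor, ← LinearMap.lTensor_comp_rTensor,
      LinearMap.comp_apply, hk₁, hx₁]
  have h5 : (i.lTensor K) k₁ = z₀ :=
    Module.Flat.rTensor_preserves_injective_linearMap f hf h4
  rw [← h5, ← LinearMap.comp_apply, ← LinearMap.lTensor_comp]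
  have : π ∘ₗ i = 0 := by
    ext y
    exact hiπ.apply_apply_eq_zero y
  rw [this, LinearMap.lTensor_zero, LinearMap.zero_apply]

end Chase

/-- for a short exact sequence with `Tor_1(S.X₃, N) = 0`, `N ⊗ S.X₁ → N ⊗ S.X₂` is injective. -/
theorem lTensor_injective {S : ShortComplex (ModuleCat.{u} R)} (hS : S.ShortExact)
    (h₃ : Acyc N S.X₃) : Function.Injective (S.f.hom.lTensor N) := by
  rw [LinearMap.lTensor_inj_iff_rTensor_inj]
  have hinj : Function.Injective S.f.hom := (ModuleCat.mono_iff_injective _).1 hS.mono_f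
  have hsurj : Function.Surjective S.g.hom := (ModuleCat.epi_iff_surjective _).1 hS.epi_g
  have hex : Function.Exact S.f.hom S.g.hom :=
    (ShortComplex.ShortExact.moduleCat_exact_iff_function_exact _).1 hS.exact
  have hproj : Projective (freeCoverSC N).X₂ :=
    (IsProjective.iff_projective (R := R) (P := (N →₀ R))).mp inferInstance
  have hT := (Groth.Agent.Lib.Helper63.tor_one_isZero_iff S.X₃ (freeCoverSC N)
    (freeCoverSC_shortExact N)).1 (h₃ 0)
  have hN := freeCoverSC_shortExact N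
  exact rTensor_injective_of_chase (Fr := (freeCoverSC N).X₂) S.f.hom S.g.hom hinj hsurj hex
    (freeCoverSC N).f.hom (freeCoverSC N).g.hom
    ((ModuleCat.epi_iff_surjective _).1 hN.epi_g)
    ((ShortComplex.ShortExact.moduleCat_exact_iff_function_exact _).1 hN.exact) hT

end TorAcyc
end Groth.Agent.Lib.Helper6
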