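import Mathlib
import Groth.Prelude.Def_DRing2
import Groth.Agent.Lib.Helper6.TorAcyc

/-! Bounded above exact complexes of `N`-acyclic modules stay exact after `N ⊗ -` (helper6). -/

set_option autoImplicit false
universe u

open CategoryTheory Limits MonoidalCategory TensorProduct

namespace Groth.Agent.Lib.Helper6
namespace TorAcyc

open Groth.Agent.Lib.Helper35.TA

variable {R : Type u} [CommRing R] (N : ModuleCat.{u} R)

/-- the short exact sequence `ker d^i → C^i → ker d^{i+1}` of an exact complex. -/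
lemma kerSC_shortExact (C : CochainComplex (ModuleCat.{u} R) ℤ) (i : ℤ)
    (hex : C.ExactAt (i + 1)) :
    ∃ S : ShortComplex (ModuleCat.{u} R), S.ShortExact ∧
      S.X₁ = ModuleCat.of R (LinearMap.ker (C.d i (i + 1)).hom) ∧ S.X₂ = C.X i ∧
      S.X₃ = ModuleCat.of R (LinearMap.ker (C.d (i + 1) (i + 1 + 1)).hom) := by
  rw [HomologicalComplex.exactAt_iff' C i (i + 1) (i + 1 + 1) (by simp) (by simp),
    ShortComplex.moduleCat_exact_iff] at hex
  have hdd : ∀ x : C.X i, (C.d i (i + 1)).hom x ∈ LinearMap.ker (C.d (i + 1) (i + 1 + 1)).hom := by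
    intro x
    rw [LinearMap.mem_ker, ← ModuleCat.comp_apply, C.d_comp_d]
    rfl
  let g : C.X i →ₗ[R] LinearMap.ker (C.d (i + 1) (i + 1 + 1)).hom :=
    (C.d i (i + 1)).hom.codRestrict _ hdd
  have hg : Function.Surjective g := by
    rintro ⟨y, hy⟩
    obtain ⟨x, hx⟩ := hex y hy
    exact ⟨x, Subtype.ext hx⟩
  let S : ShortComplex (ModuleCat.{u} R) :=
    ShortComplex.mk (ModuleCat.ofHom (LinearMap.ker (C.d i (i + 1)).hom).subtype)
      (ModuleCat.ofHom g) (by
        ext x
        exact LinearMap.mem_ker.1 x.2)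
  refine ⟨S, ?_, rfl, rfl, rfl⟩
  refine ModuleCat.shortComplex_shortExact S ?_ (Submodule.injective_subtype _) hg
  intro x
  constructor
  · intro hx
    have hx' : (C.d i (i + 1)).hom x = 0 := congrArg Subtype.val hx
    exact ⟨⟨x, hx'⟩, rfl⟩
  · rintro ⟨y, rfl⟩
    exact Subtype.ext y.2

theorem acyc_ker_d_aux (C : CochainComplex (ModuleCat.{u} R) ℤ) (b : ℤ)
    (hb : ∀ i : ℤ, b < i → IsZero (C.X i)) (hA : ∀ i : ℤ, Acyc N (C.X i))
    (hex : ∀ i : ℤ, C.ExactAt i) (k : ℕ) :
    ∀ i : ℤ, b + 1 - i ≤ k → Acyc N (ModuleCat.of R (LinearMap.ker (C.d i (i + 1)).hom)) := by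
  induction k with
  | zero =>
    intro i hik
    have hz : IsZero (C.X i) := hb i (by omega)
    have : Subsingleton (C.X i) := ModuleCat.subsingleton_of_isZero hz
    exact acyc_of_isZero N (ModuleCat.isZero_of_subsingleton _)
  | succ k ih =>
    intro i hik
    obtain ⟨S, hS, h1, h2, h3⟩ := kerSC_shortExact C i (hex (i + 1))
    have h := acyc_X₁ N hS (h2 ▸ hA i) (h3 ▸ ih (i + 1) (by push_cast at hik ⊢; omega))
    exact h1 ▸ h

theorem acyc_ker_d (C : CochainComplex (ModuleCat.{u} R) ℤ) (b : ℤ)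
    (hb : ∀ i : ℤ, b < i → IsZero (C.X i)) (hA : ∀ i : ℤ, Acyc N (C.X i))
    (hex : ∀ i : ℤ, C.ExactAt i) (i : ℤ) :
    Acyc N (ModuleCat.of R (LinearMap.ker (C.d i (i + 1)).hom)) :=
  acyc_ker_d_aux N C b hb hA hex (b + 1 - i).toNat i (by omega)

/-- the tensored differentials stay exact. -/
theorem exact_lTensor_d (C : CochainComplex (ModuleCat.{u} R) ℤ) (b : ℤ)
    (hb : ∀ i : ℤ, b < i → IsZero (C.X i)) (hA : ∀ i : ℤ, Acyc N (C.X i))
    (hex : ∀ i : ℤ, C.ExactAt i) (i : ℤ) :
    Function.Exact ((C.d i (i + 1)).hom.lTensor N) ((C.d (i + 1) (i + 1 + 1)).hom.lTensor N) := by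
  let j := i + 1
  let k := i + 1 + 1
  let K : Submodule R (C.X k) := LinearMap.ker (C.d k (k + 1)).hom
  have hEj := hex j
  rw [HomologicalComplex.exactAt_iff' C i j k (by simp [j]) (by simp [j, k]),
    ShortComplex.ShortExact.moduleCat_exact_iff_function_exact] at hEj
  have hEk := hex k
  rw [HomologicalComplex.exactAt_iff' C j k (k + 1) (by simp [j, k]) (by simp),
    ShortComplex.ShortExact.moduleCat_exact_iff_function_exact] at hEk
  change Function.Exact (C.d i j).hom (C.d j k).hom at hEj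
  change Function.Exact (C.d j k).hom (C.d k (k + 1)).hom at hEk
  have hdd : ∀ x : C.X j, (C.d j k).hom x ∈ K := by
    intro x
    rw [LinearMap.mem_ker, ← ModuleCat.comp_apply, C.d_comp_d]
    rfl
  let d' : C.X j →ₗ[R] K := (C.d j k).hom.codRestrict K hdd
  have hd'surj : Function.Surjective d' := by
    rintro ⟨y, hy⟩
    obtain ⟨x, hx⟩ := (hEk y).1 hy
    exact ⟨x, Subtype.ext hx⟩
  have hfact : (C.d j k).hom = K.subtype ∘ₗ d' := by
    ext x; rfl
  have hE' : Function.Exact (C.d i j).hom d' := by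
    intro y
    rw [← hEj y]
    constructor
    · intro h
      have := congrArg Subtype.val h
      exact this
    · intro h
      exact Subtype.ext h
  have h1 : Function.Exact ((C.d i j).hom.lTensor N) (d'.lTensor N) :=
    lTensor_exact N hE' hd'surj
  -- injectivity of `N ⊗ K → N ⊗ C^k`
  have hEk1 := hex (k + 1)
  rw [HomologicalComplex.exactAt_iff' C k (k + 1) (k + 1 + 1) (by simp) (by simp),
    ShortComplex.moduleCat_exact_iff] at hEk1
  have hdd' : ∀ x : C.X k, (C.d k (k + 1)).hom x ∈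
      LinearMap.ker (C.d (k + 1) (k + 1 + 1)).hom := by
    intro x
    rw [LinearMap.mem_ker, ← ModuleCat.comp_apply, C.d_comp_d]
    rfl
  let d'' : C.X k →ₗ[R] LinearMap.ker (C.d (k + 1) (k + 1 + 1)).hom :=
    (C.d k (k + 1)).hom.codRestrict _ hdd'
  have hd''surj : Function.Surjective d'' := by
    rintro ⟨y, hy⟩
    obtain ⟨x, hx⟩ := hEk1 y hy
    exact ⟨x, Subtype.ext hx⟩
  let S : ShortComplex (ModuleCat.{u} R) :=
    ShortComplex.mk (ModuleCat.ofHom K.subtype) (ModuleCat.ofHom d'') (by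
      ext x
      exact LinearMap.mem_ker.1 x.2)
  have hS : S.ShortExact := by
    refine ModuleCat.shortComplex_shortExact S ?_ (Submodule.injective_subtype _) hd''surj
    intro x
    constructor
    · intro hx
      have hx' : (C.d k (k + 1)).hom x = 0 := congrArg Subtype.val hx
      exact ⟨⟨x, hx'⟩, rfl⟩
    · rintro ⟨y, rfl⟩
      exact Subtype.ext y.2
  have h2 : Function.Injective (K.subtype.lTensor N) :=
    lTensor_injective N hS (acyc_ker_d N C b hb hA hex (k + 1))
  have h3 : (C.d j k).hom.lTensor N = (K.subtype.lTensor N) ∘ₗ (d'.lTensor N) := by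
    rw [hfact, LinearMap.lTensor_comp]
  change Function.Exact ((C.d i j).hom.lTensor N) ((C.d j k).hom.lTensor N)
  rw [h3]
  exact h1.comp_injective _ h2 (map_zero _)

end TorAcyc
end Groth.Agent.Lib.Helper6
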