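import Mathlib
import Groth.Prelude.Def_DRing2
import Groth.Prelude.Def_DDual2
import Groth.Agent.Lib.Helper6.TorAcyc2
import Groth.Agent.Lib.Helper35.BCIso
import Groth.Agent.Lib.Helper35.FlatLBC

/-! Derived base change along `P → R' ⊗_R P` is computed termwise on bounded above complexes of
`P`-modules which are `R'`-acyclic over `R` (helper6). -/

set_option autoImplicit false
universe u

open CategoryTheory Limits MonoidalCategory TensorProduct DerivedCategory CochainComplex

namespace Groth.Agent.Lib.Helper6
namespace TorAcyc

attribute [local instance] HasDerivedCategory.standard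

open Groth.Agent.Lib.Helper35.TA Groth.Agent.Lib.Helper32.LBC

section Restr

variable {R : Type u} [CommRing R] (N : ModuleCat.{u} R) {A : Type u} [CommRing A] [Algebra R A]

set_option backward.isDefEq.respectTransparency false in
/-- a flat `A`-module is `N`-acyclic over `R` if `A` is. -/
theorem acyc_restrict_of_flat (hA : Acyc N (ModuleCat.of R A)) (F : ModuleCat.{u} A)
    [Module.Flat A F] : Acyc N ((ModuleCat.restrictScalars (algebraMap R A)).obj F) := by
  intro q
  rw [isZero_TorZ_succ_iff]
  have h1 := (isZero_TorZ_succ_iff (ModuleCat.of R A) N q).1 (hA q)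
  let T : Type u := ((ModuleCat.restrictScalars (algebraMap R A)).obj F)
  let _ : Module A T := (inferInstance : Module A F)
  have hflat : Module.Flat A T := (inferInstance : Module.Flat A F)
  have : IsScalarTower R A T := ⟨fun a b x => by
    change (a • b) • (show F from x) = (algebraMap R A a) • (b • (show F from x))
    rw [Algebra.smul_def, mul_smul]⟩
  exact exact_lTensor_of_flat_over (B := A) (F := T) _ _ h1

end Restr

section BC

attribute [local instance] Algebra.TensorProduct.rightAlgebra

variable (R P R' : Type u) [CommRing R] [CommRing P] [Algebra R P] [CommRing R'] [Algebra R R']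

/-- `R'` as an `R`-module, in the form used by extension of scalars. -/
noncomputable abbrev NN : ModuleCat.{u} R :=
  (ModuleCat.restrictScalars (algebraMap R R')).obj (ModuleCat.of R' R')

variable {R P R'}

/-- extension of scalars `R → R'` preserves exactness of bounded above complexes of acyclics. -/
theorem exactAt_extendScalars_of_acyc (C : CochainComplex (ModuleCat.{u} R) ℤ) (b : ℤ)
    (hb : ∀ i : ℤ, b < i → IsZero (C.X i)) (hA : ∀ i : ℤ, Acyc (NN R R') (C.X i))
    (hex : ∀ i : ℤ, C.ExactAt i) (j : ℤ) :
    (((ModuleCat.extendScalars.{u, u, u} (algebraMap R R')).mapHomologicalComplex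
      (ComplexShape.up ℤ)).obj C).ExactAt j := by
  obtain ⟨i, rfl⟩ : ∃ i, j = i + 1 := ⟨j - 1, by omega⟩
  rw [HomologicalComplex.exactAt_iff' _ i (i + 1) (i + 1 + 1) (by simp) (by simp),
    ShortComplex.ShortExact.moduleCat_exact_iff_function_exact]
  exact exact_lTensor_d (NN R R') C b hb hA hex i

end BC

end TorAcyc
end Groth.Agent.Lib.Helper6
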