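import Mathlib
import Groth.Prelude.Def_DRing2
import Groth.Prelude.Def_DDual2
import Groth.Agent.Lib.Helper6.TorAcyc3

/-! `LBaseChange` along `P → R' ⊗_R P` on bounded above complexes of `R'`-acyclic modules is computed
termwise (helper6). -/

set_option autoImplicit false
universe u

open CategoryTheory Limits MonoidalCategory TensorProduct DerivedCategory CochainComplex

namespace Groth.Agent.Lib.Helper6
namespace TorAcyc

attribute [local instance] HasDerivedCategory.standard

open Groth.Agent.Lib.Helper35.TA Groth.Agent.Lib.Helper32.LBC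

lemma exactAt_restrict_iff {A B : Type u} [CommRing A] [CommRing B] (f : A →+* B)
    (C : CochainComplex (ModuleCat.{u} B) ℤ) (j : ℤ) :
    (((ModuleCat.restrictScalars.{u} f).mapHomologicalComplex (ComplexShape.up ℤ)).obj C).ExactAt j ↔
      C.ExactAt j := by
  rw [HomologicalComplex.exactAt_iff' _ (j - 1) j (j + 1) (by simp) (by simp),
    HomologicalComplex.exactAt_iff' C (j - 1) j (j + 1) (by simp) (by simp),
    ShortComplex.ShortExact.moduleCat_exact_iff_function_exact,
    ShortComplex.ShortExact.moduleCat_exact_iff_function_exact]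
  exact Iff.rfl

/-- restriction of a product. -/
noncomputable def restrProdIso {A B : Type u} [CommRing A] [CommRing B] (f : A →+* B)
    (X Y : ModuleCat.{u} B) :
    (ModuleCat.restrictScalars.{u} f).obj (ModuleCat.of B (X × Y)) ≅
      ModuleCat.of A (((ModuleCat.restrictScalars.{u} f).obj X) ×
        ((ModuleCat.restrictScalars.{u} f).obj Y)) :=
  LinearEquiv.toModuleIso
    ({ toFun := fun z => z
       invFun := fun z => z
       map_add' := fun _ _ => rfl
       map_smul' := fun _ _ => rfl
       left_inv := fun _ => rfl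
       right_inv := fun _ => rfl } :
      ((ModuleCat.restrictScalars.{u} f).obj (ModuleCat.of B (X × Y))) ≃ₗ[A]
        (((ModuleCat.restrictScalars.{u} f).obj X) × ((ModuleCat.restrictScalars.{u} f).obj Y)))

section BC2

attribute [local instance] Algebra.TensorProduct.rightAlgebra

variable {R P R' : Type u} [CommRing R] [CommRing P] [Algebra R P] [CommRing R'] [Algebra R R']

theorem nonempty_lbc_iso_of_acyc [Module.Flat R P]
    [DRing.HasLBaseChange (algebraMap P (R' ⊗[R] P))] (E : DRing.Cx P) (b : ℤ)
    (hEb : DRing.VanishesAbove E b)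
    (hE : ∀ i : ℤ, Acyc (NN R R') ((ModuleCat.restrictScalars (algebraMap R P)).obj (E.X i))) :
    Nonempty ((DRing.LBaseChange (algebraMap P (R' ⊗[R] P))).obj (DRing.toD E) ≅
      DRing.toD ((((ModuleCat.extendScalars.{u, u, u}
        (algebraMap P (R' ⊗[R] P))).mapHomologicalComplex (ComplexShape.up ℤ))).obj E)) := by
  have hs : E.IsStrictlyLE b := by
    rw [CochainComplex.isStrictlyLE_iff]
    exact fun i hi => hEb i hi
  have hLE : (Q.obj E).IsLE b := inferInstance
  obtain ⟨Pr, π, hPb, hPproj, hπ⟩ := exists_projective_resolution_cx E b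
  have hKP : Pr.IsKProjective := isKProjective_of_vanishesAbove Pr b hPb hPproj
  let C := mappingCone π
  have hCb : ∀ i : ℤ, b < i → IsZero (C.X i) := by
    intro i hi
    rw [CochainComplex.mappingCone.isZero_X_iff]
    exact ⟨hPb (i + 1) (by omega), hEb i hi⟩
  have hCex : ∀ i : ℤ, C.ExactAt i := fun i => exactAt_mappingCone_of_quasiIso π i
  let CR := ((ModuleCat.restrictScalars.{u} (algebraMap R P)).mapHomologicalComplex
    (ComplexShape.up ℤ)).obj C
  have hCRb : ∀ i : ℤ, b < i → IsZero (CR.X i) := fun i hi =>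
    (ModuleCat.restrictScalars.{u} (algebraMap R P)).map_isZero (hCb i hi)
  have hCRex : ∀ i : ℤ, CR.ExactAt i := fun i => (exactAt_restrict_iff _ C i).2 (hCex i)
  have hCRA : ∀ i : ℤ, Acyc (NN R R') (CR.X i) := by
    intro i
    have := hPproj (i + 1)
    have hfl : Module.Flat R ((ModuleCat.restrictScalars.{u} (algebraMap R P)).obj (Pr.X (i + 1))) :=
      flat_restrictScalars_of_flat (Pr.X (i + 1))
    have h1 := acyc_prod (NN R R') _ _ (acyc_of_flat (NN R R')
      ((ModuleCat.restrictScalars.{u} (algebraMap R P)).obj (Pr.X (i + 1)))) (hE i)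
    refine acyc_of_iso (NN R R') ?_ h1
    exact (restrProdIso (algebraMap R P) (Pr.X (i + 1)) (E.X i)).symm ≪≫
      (ModuleCat.restrictScalars.{u} (algebraMap R P)).mapIso
        (Groth.Agent.Lib.Helper35.KL.mappingConeXLinearEquiv π i).toModuleIso.symm
  have h1 := exactAt_extendScalars_of_acyc CR b hCRb hCRA hCRex
  have h2 : ∀ j : ℤ, (((ModuleCat.extendScalars.{u, u, u}
      (algebraMap P (R' ⊗[R] P))).mapHomologicalComplex (ComplexShape.up ℤ)).obj C).ExactAt j := by
    intro j
    rw [← exactAt_restrict_iff (algebraMap R' (R' ⊗[R] P))]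
    exact (h1 j).of_iso (bcCxIso R R' C)
  have hq : QuasiIso (((ModuleCat.extendScalars.{u, u, u}
      (algebraMap P (R' ⊗[R] P))).mapHomologicalComplex (ComplexShape.up ℤ)).map π) := by
    apply quasiIso_of_exactAt_mappingCone
    intro n
    exact (h2 n).of_iso (CochainComplex.mappingCone.mapHomologicalComplexIso π
      (ModuleCat.extendScalars.{u, u, u} (algebraMap P (R' ⊗[R] P))))
  have hiso : IsIso (Q.map π) := by
    rw [isIso_Q_map_iff_quasiIso]; infer_instance
  have hiso2 : IsIso (Q.map (((ModuleCat.extendScalars.{u, u, u}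
      (algebraMap P (R' ⊗[R] P))).mapHomologicalComplex (ComplexShape.up ℤ)).map π)) := by
    rw [isIso_Q_map_iff_quasiIso]; exact hq
  exact ⟨((DRing.LBaseChange (algebraMap P (R' ⊗[R] P))).mapIso (asIso (Q.map π))).symm ≪≫
    lbcIso (algebraMap P (R' ⊗[R] P)) Pr ≪≫
    asIso (Q.map (((ModuleCat.extendScalars.{u, u, u}
      (algebraMap P (R' ⊗[R] P))).mapHomologicalComplex (ComplexShape.up ℤ)).map π))⟩

end BC2

end TorAcyc
end Groth.Agent.Lib.Helper6
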