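import Mathlib
import Groth.Prelude.Def_DRing2
import Groth.Prelude.Def_DDual2
import Groth.Prelude.Def_DerCA
import Groth.Agent.Lib.Helper6.PushoutBC
import Groth.Agent.Lib.Helper6.TorAcyc4
import Groth.Agent.Lib.Helper6.PCMap2
import Groth.Agent.Lib.Helper6.LBCPC

/-! Tor-independent base change preserves relative `m`-pseudo-coherence (helper6). -/

set_option autoImplicit false
set_option linter.style.haveILetI false
universe u

open CategoryTheory Limits MonoidalCategory TensorProduct DerivedCategory CochainComplex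

namespace Groth.Agent.Lib.Helper6
namespace TorBC

attribute [local instance] HasDerivedCategory.standard
attribute [local instance] Algebra.TensorProduct.rightAlgebra

variable (R A R' : Type u) [CommRing R] [CommRing A] [CommRing R'] [Algebra R A] [Algebra R R']
  (P : Type u) [CommRing P] [Algebra R P] [Algebra P A] [IsScalarTower R P A]

/-- the base change `R' ⊗_R P → R' ⊗_R A` of `P → A`. -/
noncomputable def tmap : R' ⊗[R] P →ₐ[R'] R' ⊗[R] A :=
  Algebra.TensorProduct.map (AlgHom.id R' R') (IsScalarTower.toAlgHom R P A)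

/-- `R' ⊗_R A` as an algebra over `R' ⊗_R P`. -/
@[instance_reducible]
noncomputable def algP'A' : Algebra (R' ⊗[R] P) (R' ⊗[R] A) := (tmap R A R' P).toRingHom.toAlgebra

/-- `R' ⊗_R A` as an algebra over `P`. -/
@[instance_reducible]
noncomputable def algPA' : Algebra P (R' ⊗[R] A) :=
  ((algebraMap A (R' ⊗[R] A)).comp (algebraMap P A)).toAlgebra

theorem isPushout :
    letI := algP'A' R A R' P
    letI := algPA' R A R' P
    ∃ (_ : IsScalarTower P A (R' ⊗[R] A)) (_ : IsScalarTower P (R' ⊗[R] P) (R' ⊗[R] A)),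
      Algebra.IsPushout P (R' ⊗[R] P) A (R' ⊗[R] A) := by
  letI := algP'A' R A R' P
  letI := algPA' R A R' P
  have t1 : IsScalarTower P A (R' ⊗[R] A) := IsScalarTower.of_algebraMap_eq (fun _ => rfl)
  have t2 : IsScalarTower P (R' ⊗[R] P) (R' ⊗[R] A) := IsScalarTower.of_algebraMap_eq (fun p => by
    show (1 : R') ⊗ₜ[R] (algebraMap P A p) = tmap R A R' P ((1 : R') ⊗ₜ[R] p)
    simp [tmap])
  have t3 : IsScalarTower R' (R' ⊗[R] P) (R' ⊗[R] A) := IsScalarTower.of_algebraMap_eq (fun r => by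
    exact ((tmap R A R' P).commutes r).symm)
  have t4 : IsScalarTower R (R' ⊗[R] P) (R' ⊗[R] A) := IsScalarTower.of_algebraMap_eq (fun r => by
    exact (((tmap R A R' P).restrictScalars R).commutes r).symm)
  refine ⟨t1, t2, ?_⟩
  have h := (Algebra.IsPushout.comp_iff R P R' (R' ⊗[R] P) (T := A) (T' := R' ⊗[R] A)).1 inferInstance
  exact h.symm

open MPC RestrPC TorAcyc Groth.Agent.Lib.Helper35.TA

variable {R A R'} in
theorem isPC_tor [Module.Flat R P] (hA : Acyc (NN R R') (ModuleCat.of R A))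
    (χ : A →+* R' ⊗[R] A) (hχ : χ = algebraMap A (R' ⊗[R] A)) [DRing.HasLBaseChange χ]
    (K : Dual.D A) (m : ℤ)
    (hK : DRing.IsPseudoCoherent P m ((DRing.restrictD (algebraMap P A)).obj K)) :
    DRing.IsPseudoCoherent (R' ⊗[R] P) m ((DRing.restrictD (tmap R A R' P).toRingHom).obj
      ((DRing.LBaseChange χ).obj K)) := by
  subst hχ
  letI := algP'A' R A R' P
  letI := algPA' R A R' P
  obtain ⟨t1, t2, hpo⟩ := isPushout R A R' P
  have := hasLBaseChange (algebraMap P (R' ⊗[R] P))
  obtain ⟨t, ht⟩ := Resol.exists_isLE_of_isPC hK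
  have : K.IsLE t := isLE_of_isLE_rD (algebraMap P A) K t
  obtain ⟨F, hv, hfree, ⟨e⟩⟩ := LBCPC.exists_free_of_isLE K t
  have hflat : ∀ i, Module.Flat A (F.X i) := fun i => by
    have := hfree i
    infer_instance
  obtain ⟨e1⟩ := nonempty_lbc_iso_of_flat (algebraMap A (R' ⊗[R] A)) F t hv hflat
  let FP := ((ModuleCat.restrictScalars.{u} (algebraMap P A)).mapHomologicalComplex
    (ComplexShape.up ℤ)).obj F
  have hFPb : DRing.VanishesAbove FP t := fun i hi =>
    (ModuleCat.restrictScalars.{u} (algebraMap P A)).map_isZero (hv i hi)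
  have hFPA : ∀ i : ℤ, Acyc (NN R R')
      ((ModuleCat.restrictScalars (algebraMap R P)).obj (FP.X i)) := by
    intro i
    have := hflat i
    refine acyc_of_iso (NN R R') ?_ (acyc_restrict_of_flat (NN R R') hA (F.X i))
    exact ModuleCat.restrictScalarsComp'App (algebraMap R P) (algebraMap P A) (algebraMap R A)
      (IsScalarTower.algebraMap_eq R P A) (F.X i)
  obtain ⟨e2⟩ := nonempty_lbc_iso_of_acyc (R := R) (R' := R') FP t hFPb hFPA
  have h1 := LBCPC.isPC_LBaseChange (algebraMap P (R' ⊗[R] P)) _ m hK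
  refine isPC_of_iso ?_ h1
  exact (DRing.LBaseChange (algebraMap P (R' ⊗[R] P))).mapIso
      ((DRing.restrictD (algebraMap P A)).mapIso e.symm ≪≫
        (ModuleCat.restrictScalars.{u} (algebraMap P A)).mapDerivedCategoryFactors.app F) ≪≫
    e2 ≪≫ DerivedCategory.Q.mapIso (PushoutBC.bcCxIso P (R' ⊗[R] P) (R' ⊗[R] A) F) ≪≫
    ((ModuleCat.restrictScalars.{u}
      (algebraMap (R' ⊗[R] P) (R' ⊗[R] A))).mapDerivedCategoryFactors.app _).symm ≪≫
    (DRing.restrictD (algebraMap (R' ⊗[R] P) (R' ⊗[R] A))).mapIso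
      (e1.symm ≪≫ (DRing.LBaseChange (algebraMap A (R' ⊗[R] A))).mapIso e)

section Main

variable {R A R'}

/-- Tor-independent base change preserves relative `m`-pseudo-coherence. -/
theorem relPC_tor [Algebra.FiniteType R A]
    (htor : ∀ p : ℕ, 0 < p → Subsingleton (DRing.Tor R p A R'))
    (χ : A →+* R' ⊗[R] A) (hχ : χ = algebraMap A (R' ⊗[R] A)) [DRing.HasLBaseChange χ]
    (K : Dual.D A) (m : ℤ) (h : DerCA.IsRelPseudoCoherent R A m K) :
    DerCA.IsRelPseudoCoherent R' (R' ⊗[R] A) m ((DRing.LBaseChange χ).obj K) := by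
  obtain ⟨n, α, hα, hK⟩ := h
  let _ : Algebra (MvPolynomial (Fin n) R) A := (α : MvPolynomial (Fin n) R →+* A).toAlgebra
  have : IsScalarTower R (MvPolynomial (Fin n) R) A :=
    IsScalarTower.of_algebraMap_eq (fun r => (α.commutes r).symm)
  have hA : Acyc (NN R R') (ModuleCat.of R A) := by
    intro q
    have := htor (q + 1) (by omega)
    have hz : IsZero (TorZ (q + 1) (ModuleCat.of R A) (ModuleCat.of R R')) :=
      ModuleCat.isZero_of_subsingleton _
    exact hz.of_iso ((((Tor (ModuleCat.{u} R) (q + 1)).obj (ModuleCat.of R A)).mapIso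
      (restrSelfIso R R')).symm)
  have h1 := isPC_tor (MvPolynomial (Fin n) R) hA χ hχ K m hK
  let σ : MvPolynomial (Fin n) R' ≃ₐ[R'] R' ⊗[R] MvPolynomial (Fin n) R :=
    (MvPolynomial.algebraTensorAlgEquiv R R').symm
  let σ' : MvPolynomial (Fin n) R' →+* R' ⊗[R] MvPolynomial (Fin n) R := (σ : _ →+* _)
  have hσ : PCMap σ' := pcMap_of_bijective _ σ.bijective
  let γ : MvPolynomial (Fin n) R' →ₐ[R'] R' ⊗[R] A :=
    (tmap R A R' (MvPolynomial (Fin n) R)).comp σ.toAlgHom
  have hγ : Function.Surjective γ := by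
    have h1 : Function.Surjective (tmap R A R' (MvPolynomial (Fin n) R)) :=
      Algebra.TensorProduct.map_surjective (f := AlgHom.id R' R')
        (g := IsScalarTower.toAlgHom R (MvPolynomial (Fin n) R) A) Function.surjective_id hα
    exact h1.comp σ.surjective
  refine ⟨n, γ, hγ, ?_⟩
  have heq : (γ : MvPolynomial (Fin n) R' →+* R' ⊗[R] A) =
      ((tmap R A R' (MvPolynomial (Fin n) R)).toRingHom).comp σ' := rfl
  show DRing.IsPseudoCoherent _ m
    ((DRing.restrictD (γ : MvPolynomial (Fin n) R' →+* R' ⊗[R] A)).obj _)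
  rw [heq]
  exact (isPC_rD_comp_iff _ hσ _ m).1 h1

end Main

end TorBC
end Groth.Agent.Lib.Helper6
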