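import Mathlib
import Groth.Prelude.Def_MoreMor
import Groth.Agent.H76.FlatModel
import Groth.Agent.S7067
import Groth.Agent.Lib.Helper6.TorBC
import Groth.Agent.Lib.Helper6.PCHom

/-! A flat ring map of finite presentation is pseudo-coherent (helper6).
Noetherian descent of flatness (helper76) + Tor-independent base change of relative
pseudo-coherence. -/

set_option autoImplicit false
set_option linter.style.haveILetI false
universe u

open CategoryTheory Limits MonoidalCategory TensorProduct DerivedCategory CochainComplex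

namespace Groth.Agent.Lib.Helper6
namespace FlatPC

attribute [local instance] HasDerivedCategory.standard

open MPC RestrPC TorAcyc PCHom Groth.Agent.Lib.Helper35.TA Groth.Agent.Lib.Helper35.FlatBC

section baseChange

attribute [local instance] Algebra.TensorProduct.rightAlgebra

variable {R A R' : Type u} [CommRing R] [CommRing A] [CommRing R'] [Algebra R A] [Algebra R R']

/-- the derived base change of `A[0]` along `A → B` is `B[0]`. -/
theorem nonempty_lbc_unit_iso {A B : Type u} [CommRing A] [CommRing B] [Algebra A B]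
    [DRing.HasLBaseChange (algebraMap A B)] :
    Nonempty ((DRing.LBaseChange (algebraMap A B)).obj (Dual.inD A A) ≅ Dual.inD B B) := by
  let E : DRing.Cx A := (CochainComplex.singleFunctor (ModuleCat.{u} A) 0).obj (ModuleCat.of A A)
  have e0 : Dual.inD A A ≅ DRing.toD E :=
    (DerivedCategory.singleFunctorIsoCompQ (ModuleCat.{u} A) 0).app (ModuleCat.of A A)
  have hv : DRing.VanishesAbove E 0 := by
    intro i hi
    exact HomologicalComplex.isZero_single_obj_X (ComplexShape.up ℤ) 0 (ModuleCat.of A A) i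
      (by omega)
  have hflat : ∀ i : ℤ, Module.Flat A (E.X i) := by
    intro i
    by_cases hi : i = 0
    · subst hi
      exact Module.Flat.of_linearEquiv
        ((HomologicalComplex.singleObjXSelf (ComplexShape.up ℤ) 0
          (ModuleCat.of A A)).toLinearEquiv)
    · have hz : IsZero (E.X i) :=
        HomologicalComplex.isZero_single_obj_X (ComplexShape.up ℤ) 0 (ModuleCat.of A A) i hi
      have : Subsingleton (E.X i) := ModuleCat.subsingleton_of_isZero hz
      infer_instance
  obtain ⟨e1⟩ := nonempty_lbc_iso_of_flat (algebraMap A B) E 0 hv hflat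
  exact ⟨(DRing.LBaseChange (algebraMap A B)).mapIso e0 ≪≫ e1 ≪≫ extSingleIso (A := A) (B := B)⟩

/-- flat base change source: a pseudo-coherent flat ring map stays pseudo-coherent after
arbitrary base change. -/
theorem pcHom_baseChange_of_flat [Module.Flat R A] (h : MoreMor.IsPseudoCoherentHom R A) :
    MoreMor.IsPseudoCoherentHom R' (R' ⊗[R] A) := by
  have hft := finiteType_of_pcHom h
  rw [pcHom_iff_relPC] at h ⊢
  intro m
  have htor : ∀ p : ℕ, 0 < p → Subsingleton (DRing.Tor R p A R') := fun p hp =>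
    ModuleCat.subsingleton_of_isZero (TD_zero_of_flat (ModuleCat.of R A) (ModuleCat.of R R') p hp)
  have := hasLBaseChange (algebraMap A (R' ⊗[R] A))
  have h1 := TorBC.relPC_tor htor (algebraMap A (R' ⊗[R] A)) rfl (Dual.inD A A) m (h m)
  obtain ⟨e⟩ := nonempty_lbc_unit_iso (A := A) (B := R' ⊗[R] A)
  exact relPC_of_iso e h1

end baseChange

section model

variable {R₀ R S₀ S : Type u} [CommRing R₀] [CommRing R] [CommRing S₀] [CommRing S]
  [Algebra R₀ R] [Algebra R S] [Algebra R₀ S₀] [Algebra S₀ S] [Algebra R₀ S]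
  [IsScalarTower R₀ R S] [IsScalarTower R₀ S₀ S]

/-- a pushout of a flat pseudo-coherent ring map is pseudo-coherent. -/
theorem pcHom_of_isPushout (hpo : Algebra.IsPushout R₀ R S₀ S) [Module.Flat R₀ S₀]
    (h : MoreMor.IsPseudoCoherentHom R₀ S₀) : MoreMor.IsPseudoCoherentHom R S := by
  have h1 : MoreMor.IsPseudoCoherentHom R (R ⊗[R₀] S₀) := pcHom_baseChange_of_flat h
  let e : R ⊗[R₀] S₀ ≃ₐ[R] S := hpo.equiv
  let _ : Algebra (R ⊗[R₀] S₀) S := e.toAlgHom.toRingHom.toAlgebra
  have : IsScalarTower R (R ⊗[R₀] S₀) S :=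
    IsScalarTower.of_algebraMap_eq (fun a => (e.commutes a).symm)
  have h2 : MoreMor.IsPseudoCoherentHom (R ⊗[R₀] S₀) S := pcHom_of_bijective e.bijective
  exact pcHom_comp h1 h2

end model

section coker

/-- the cokernel of a one-column matrix is the quotient by the ideal of its entries. -/
noncomputable def cokerFinOneEquiv {P : Type*} [CommRing P] {r : ℕ} (c : Fin r → Fin 1 → P) :
    ((Fin 1 → P) ⧸ Submodule.span P (Set.range c)) ≃ₗ[P]
      (P ⧸ Ideal.span (Set.range fun k => c k 0)) :=
  Submodule.Quotient.equiv _ _ (LinearEquiv.funUnique (Fin 1) P P) (by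
    rw [Submodule.map_span, ← Set.range_comp]
    rfl)

end coker

section main

open Groth.Agent.H76.FlatKernel Groth.Agent.H76.FlatDescentLocal
  Groth.Agent.H76.FlatDescentGlobal Groth.Agent.H76.FlatModel

variable (A B : Type u) [CommRing A] [CommRing B] [Algebra A B]

/-- **A flat ring map of finite presentation is pseudo-coherent** (Stacks 067X). -/
theorem pcHom_of_flat_of_finitePresentation [Module.Flat A B] [Algebra.FinitePresentation A B] :
    MoreMor.IsPseudoCoherentHom A B := by
  classical
  obtain ⟨n, π, hπ, hker⟩ := Algebra.FinitePresentation.out (R := A) (A := B)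
  obtain ⟨r, g, hg⟩ := Submodule.fg_iff_exists_fin_generating_family.mp hker
  let _ : Algebra (MvPolynomial (Fin n) A) B := π.toRingHom.toAlgebra
  have halg : ∀ p : MvPolynomial (Fin n) A, algebraMap (MvPolynomial (Fin n) A) B p = π p :=
    fun p => rfl
  have : IsScalarTower A (MvPolynomial (Fin n) A) B :=
    IsScalarTower.of_algebraMap_eq fun r => (π.commutes r).symm
  let c : Fin r → Fin 1 → MvPolynomial (Fin n) A := fun k _ => g k
  have hkerπ : RingHom.ker (algebraMap (MvPolynomial (Fin n) A) B) = Ideal.span (Set.range g) :=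
    hg.symm
  -- the cokernel of `c` is `B`
  let e1 : ((Fin 1 → MvPolynomial (Fin n) A) ⧸
      Submodule.span (MvPolynomial (Fin n) A) (Set.range c)) ≃ₗ[MvPolynomial (Fin n) A]
      (MvPolynomial (Fin n) A ⧸ Ideal.span (Set.range g)) := cokerFinOneEquiv c
  let e2 : (MvPolynomial (Fin n) A ⧸ Ideal.span (Set.range g)) ≃ₐ[A] B :=
    (Ideal.quotientEquivAlgOfEq A hkerπ.symm).trans
      (Ideal.quotientKerAlgEquivOfSurjective (f := π) hπ)
  have hflat : Module.Flat A ((Fin 1 → MvPolynomial (Fin n) A) ⧸
      Submodule.span (MvPolynomial (Fin n) A) (Set.range c)) :=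
    Module.Flat.of_linearEquiv ((e1.restrictScalars A).trans e2.toLinearEquiv)
  obtain ⟨s, -, c', hc', hfl⟩ := exists_stage_flat_global c ∅
  let f₀ : Fin r → MvPolynomial (Fin n) (Stg s) := fun k => c' k 0
  have hfl₀ : Module.Flat (Stg s) (MvPolynomial (Fin n) (Stg s) ⧸ Ideal.span (Set.range f₀)) :=
    Module.Flat.of_linearEquiv ((cokerFinOneEquiv c').symm.restrictScalars (Stg s))
  have hmap : ∀ k, MvPolynomial.map (algebraMap (Stg s) A) (f₀ k) = g k := fun k =>
    congrFun (congrFun hc' k) 0
  -- the algebra structure `B₀ → B`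
  have hsurj₀ : Function.Surjective (algebraMap (MvPolynomial (Fin n) (Stg s))
      (MvPolynomial (Fin n) (Stg s) ⧸ Ideal.span (Set.range f₀))) := Ideal.Quotient.mk_surjective
  have hker₀ : RingHom.ker (algebraMap (MvPolynomial (Fin n) (Stg s))
      (MvPolynomial (Fin n) (Stg s) ⧸ Ideal.span (Set.range f₀))) = Ideal.span (Set.range f₀) :=
    Ideal.mk_ker
  let ψ : MvPolynomial (Fin n) (Stg s) →+* B :=
    (algebraMap (MvPolynomial (Fin n) A) B).comp (MvPolynomial.map (algebraMap (Stg s) A))
  have hψ : ∀ a ∈ Ideal.span (Set.range f₀), ψ a = 0 := by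
    intro a ha
    have hle : Ideal.span (Set.range f₀) ≤ RingHom.ker ψ := by
      rw [Ideal.span_le]
      rintro _ ⟨k, rfl⟩
      show algebraMap (MvPolynomial (Fin n) A) B
        (MvPolynomial.map (algebraMap (Stg s) A) (f₀ k)) = 0
      rw [hmap, ← RingHom.mem_ker, hkerπ]
      exact Ideal.subset_span ⟨k, rfl⟩
    exact hle ha
  let φ : (MvPolynomial (Fin n) (Stg s) ⧸ Ideal.span (Set.range f₀)) →+* B :=
    Ideal.Quotient.lift _ ψ hψ
  have hφ : ∀ p, φ (algebraMap (MvPolynomial (Fin n) (Stg s))
      (MvPolynomial (Fin n) (Stg s) ⧸ Ideal.span (Set.range f₀)) p) = ψ p := fun p =>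
    Ideal.Quotient.lift_mk _ _ _
  let _ : Algebra (MvPolynomial (Fin n) (Stg s) ⧸ Ideal.span (Set.range f₀)) B := φ.toAlgebra
  have t1 : IsScalarTower (Stg s) A B := inferInstance
  have hC : ∀ x : Stg s, ψ (MvPolynomial.C x) = algebraMap (Stg s) B x := by
    intro x
    simp only [ψ, RingHom.coe_comp, Function.comp_apply, MvPolynomial.map_C]
    rw [IsScalarTower.algebraMap_apply (Stg s) A B,
      IsScalarTower.algebraMap_apply A (MvPolynomial (Fin n) A) B]
    rfl
  have t2 : IsScalarTower (Stg s) (MvPolynomial (Fin n) (Stg s) ⧸ Ideal.span (Set.range f₀)) B := by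
    refine IsScalarTower.of_algebraMap_eq (R := Stg s)
      (S := MvPolynomial (Fin n) (Stg s) ⧸ Ideal.span (Set.range f₀)) (A := B) (fun x => ?_)
    rw [IsScalarTower.algebraMap_apply (Stg s) (MvPolynomial (Fin n) (Stg s))
      (MvPolynomial (Fin n) (Stg s) ⧸ Ideal.span (Set.range f₀))]
    show _ = φ _
    rw [MvPolynomial.algebraMap_eq, hφ, hC]
  have hker' : RingHom.ker (algebraMap (MvPolynomial (Fin n) A) B) =
      Ideal.span (Set.range fun k => MvPolynomial.map (algebraMap (Stg s) A) (f₀ k)) := by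
    rw [hkerπ]
    congr 2
    funext k
    exact (hmap k).symm
  have hpo : Algebra.IsPushout (Stg s) A
      (MvPolynomial (Fin n) (Stg s) ⧸ Ideal.span (Set.range f₀)) B :=
    isPushout_quotient (R₀ := Stg s) (R := A)
      (S₀ := MvPolynomial (Fin n) (Stg s) ⧸ Ideal.span (Set.range f₀)) (S := B)
      hπ hsurj₀ f₀ hker' hker₀ (fun p => hφ p)
  have h0 : MoreMor.IsPseudoCoherentHom (Stg s)
      (MvPolynomial (Fin n) (Stg s) ⧸ Ideal.span (Set.range f₀)) := by
    have : Algebra.FiniteType (Stg s)
        (MvPolynomial (Fin n) (Stg s) ⧸ Ideal.span (Set.range f₀)) :=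
      Algebra.FiniteType.of_surjective
        (Ideal.Quotient.mkₐ (Stg s) (Ideal.span (Set.range f₀))) Ideal.Quotient.mk_surjective
    exact Groth.Agent.S7067.result _ _
  exact pcHom_of_isPushout hpo h0

end main

end FlatPC
end Groth.Agent.Lib.Helper6
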