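import Mathlib
import Groth.Agent.Lib.Helper6.FlatPC
import Groth.Agent.Lib.Helper6.PCMap3

/-! Consequences of "flat + finitely presented ⟹ pseudo-coherent" (helper6). -/

set_option autoImplicit false
set_option linter.style.haveILetI false
universe u

open CategoryTheory Limits MonoidalCategory TensorProduct DerivedCategory CochainComplex

namespace Groth.Agent.Lib.Helper6
namespace FlatPC

attribute [local instance] HasDerivedCategory.standard

open MPC RestrPC PCHom

section surj

variable {B A : Type u} [CommRing B] [CommRing A] [Algebra B A]

/-- a surjective pseudo-coherent ring map makes the target a pseudo-coherent module. -/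
theorem pcMap_of_pcHom_of_surjective (hφ : Function.Surjective (algebraMap B A))
    (h : MoreMor.IsPseudoCoherentHom B A) : PCMap (algebraMap B A) := by
  have : Module.Finite B A := Module.Finite.of_surjective (Algebra.linearMap B A) hφ
  have hrel := (pcHom_iff_relPC B A).1 h
  intro m
  exact isPC_of_iso (((Φ (algebraMap B A)).mapDerivedCategorySingleFunctor 0).app
    (ModuleCat.of A A)) ((relPC_iff_of_finite B A _ m).1 (hrel m))

/-- conversely. -/
theorem pcHom_of_pcMap_of_surjective (hφ : Function.Surjective (algebraMap B A))
    (h : PCMap (algebraMap B A)) : MoreMor.IsPseudoCoherentHom B A := by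
  have : Module.Finite B A := Module.Finite.of_surjective (Algebra.linearMap B A) hφ
  rw [pcHom_iff_relPC]
  intro m
  exact (relPC_iff_of_finite B A _ m).2 (isPC_of_iso
    (((Φ (algebraMap B A)).mapDerivedCategorySingleFunctor 0).app (ModuleCat.of A A)).symm (h m))

end surj

section tower

variable (R B A : Type u) [CommRing R] [CommRing B] [CommRing A]
    [Algebra R B] [Algebra R A] [Algebra B A] [IsScalarTower R B A]

theorem pcMap_of_flat_fp (hφ : Function.Surjective (algebraMap B A))
    [Module.Flat R B] [Algebra.FinitePresentation R B] [Module.Flat R A]
    [Algebra.FinitePresentation R A] : PCMap (algebraMap B A) := by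
  have hRB := pcHom_of_flat_of_finitePresentation R B
  have hRA := pcHom_of_flat_of_finitePresentation R A
  exact pcMap_of_pcHom_of_surjective hφ (pcHom_cancel hRB hRA)

end tower

end FlatPC
end Groth.Agent.Lib.Helper6
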