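import Mathlib
import Groth.Agent.Lib.Helper6.FlatPC2

/-! Quotients of flat finitely presented algebras: pseudo-coherence (helper6). -/

set_option autoImplicit false
set_option linter.style.haveILetI false
universe u

open CategoryTheory Limits MonoidalCategory TensorProduct DerivedCategory CochainComplex

namespace Groth.Agent.Lib.Helper6
namespace FlatPC

attribute [local instance] HasDerivedCategory.standard

open MPC RestrPC PCHom

section ses

variable {A : Type u} [CommRing A]

lemma allPC_of_shortExact₁ {S : ShortComplex (ModuleCat.{u} A)} (hS : S.ShortExact)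
    (h₂ : AllPC S.X₂) (h₃ : AllPC S.X₃) : AllPC S.X₁ := fun m => by
  have h := (isPC_triangle _ hS.singleTriangle_distinguished (m - 1)).2.2
    (by simpa using h₂ m) (h₃ (m - 1))
  simpa using h

variable (I : Ideal A)

/-- the short exact sequence `0 → I → A → A/I → 0`. -/
noncomputable def idealSC : ShortComplex (ModuleCat.{u} A) :=
  ShortComplex.mk (ModuleCat.ofHom (Submodule.subtype I))
    (ModuleCat.ofHom (Submodule.mkQ I)) (by
      ext x
      exact (Submodule.Quotient.mk_eq_zero I).2 x.2)

lemma idealSC_shortExact : (idealSC I).ShortExact := by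
  refine ModuleCat.shortComplex_shortExact _ ?_ (Submodule.injective_subtype I)
    (Submodule.mkQ_surjective I)
  intro x
  constructor
  · intro hx
    exact ⟨⟨x, (Submodule.Quotient.mk_eq_zero I).1 hx⟩, rfl⟩
  · rintro ⟨y, rfl⟩
    exact (Submodule.Quotient.mk_eq_zero I).2 y.2

/-- `A/I` is a pseudo-coherent `A`-module iff `I` is. -/
theorem allPC_quotient_iff : AllPC (ModuleCat.of A (A ⧸ I)) ↔ AllPC (ModuleCat.of A I) :=
  ⟨fun h => allPC_of_shortExact₁ (idealSC_shortExact I) (allPC_self A) h,
    fun h => allPC_of_shortExact₃ (idealSC_shortExact I) h (allPC_self A)⟩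

theorem pcMap_quotient_iff : PCMap (algebraMap A (A ⧸ I)) ↔ DRing.IsPseudoCoherentModule' A I := by
  show AllPC _ ↔ DRing.IsPseudoCoherent' A _
  rw [Resol.isPC'_iff]
  have h1 : AllPC ((Φ (algebraMap A (A ⧸ I))).obj (ModuleCat.of (A ⧸ I) (A ⧸ I))) ↔
      AllPC (ModuleCat.of A (A ⧸ I)) :=
    ⟨allPC_of_iso (restrSelfIso A (A ⧸ I)).symm, allPC_of_iso (restrSelfIso A (A ⧸ I))⟩
  rw [h1, allPC_quotient_iff]
  rfl

end ses

section main

variable {A B : Type u} [CommRing A] [CommRing B] [Algebra A B] [Module.Flat A B]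
  [Algebra.FinitePresentation A B] (I : Ideal B)

theorem pcHom_quotient_iff :
    MoreMor.IsPseudoCoherentHom A (B ⧸ I) ↔ DRing.IsPseudoCoherentModule' B ↥I := by
  have hAB := pcHom_of_flat_of_finitePresentation A B
  have hsurj : Function.Surjective (algebraMap B (B ⧸ I)) := Ideal.Quotient.mk_surjective
  rw [← pcMap_quotient_iff]
  constructor
  · intro h
    exact pcMap_of_pcHom_of_surjective hsurj (pcHom_cancel hAB h)
  · intro h
    exact pcHom_comp hAB (pcHom_of_pcMap_of_surjective hsurj h)

end main

end FlatPC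
end Groth.Agent.Lib.Helper6
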