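import Groth.Prelude.Def_DualSh
import Groth.Agent.Lib.Helper6.LTCx
import Groth.Agent.Lib.Helper6.RestrPC2
import Groth.Agent.Lib.Helper35.TARes
import Groth.Agent.Lib.Helper35.PCRes

/-!
# `M ⊗^L_A E` is `R`-perfect for `M` `R`-perfect and `E` a bounded complex of finite projectives
(helper6).
-/

set_option autoImplicit false
universe u

open CategoryTheory CategoryTheory.Limits MonoidalCategory DerivedCategory TensorProduct

namespace Groth.Agent.Lib.Helper6
namespace RelPerfTen

attribute [local instance] HasDerivedCategory.standard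

open Groth.Agent.Lib.Helper28

section modules

variable {R A : Type u} [CommRing R] [CommRing A] (φ : R →+* A)

/-- restriction of scalars on modules. -/
noncomputable abbrev Φ : ModuleCat.{u} A ⥤ ModuleCat.{u} R := ModuleCat.restrictScalars.{u} φ

lemma flat_restr_of_iso {Y Y' : ModuleCat.{u} A} (e : Y ≅ Y') (h : Module.Flat R ((Φ φ).obj Y')) :
    Module.Flat R ((Φ φ).obj Y) :=
  Module.Flat.of_linearEquiv ((Φ φ).mapIso e).toLinearEquiv

lemma flat_restr_of_retract {Y Y' : ModuleCat.{u} A} (i : Y ⟶ Y') (r : Y' ⟶ Y) (hir : i ≫ r = 𝟙 Y)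
    (h : Module.Flat R ((Φ φ).obj Y')) : Module.Flat R ((Φ φ).obj Y) := by
  refine Module.Flat.of_retract ((Φ φ).map i).hom ((Φ φ).map r).hom ?_
  have h1 : (Φ φ).map i ≫ (Φ φ).map r = 𝟙 _ := by
    rw [← CategoryTheory.Functor.map_comp, hir, CategoryTheory.Functor.map_id]
  have h2 := congrArg ModuleCat.Hom.hom h1
  exact h2

lemma flat_restr_of_isZero {Y : ModuleCat.{u} A} (h : IsZero Y) : Module.Flat R ((Φ φ).obj Y) := by
  have : Subsingleton Y := ModuleCat.subsingleton_of_isZero h
  have : Subsingleton ((Φ φ).obj Y) := this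
  infer_instance

/-- finitely supported functions with values in a restricted module. -/
lemma flat_restr_finsupp (ι : Type u) (X : ModuleCat.{u} A) (h : Module.Flat R ((Φ φ).obj X)) :
    Module.Flat R ((Φ φ).obj (ModuleCat.of A (ι →₀ X))) := by
  classical
  have := h
  have hf : Module.Flat R (ι →₀ ((Φ φ).obj X)) :=
    Module.Flat.of_linearEquiv (finsuppLequivDFinsupp (ι := ι) (M := (Φ φ).obj X) R)
  let e : (ι →₀ ((Φ φ).obj X)) ≃ₗ[R] (Φ φ).obj (ModuleCat.of A (ι →₀ X)) :=
    { toFun := fun f => f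
      invFun := fun f => f
      map_add' := fun _ _ => rfl
      map_smul' := fun r f => by
        apply Finsupp.ext
        intro i
        rfl
      left_inv := fun _ => rfl
      right_inv := fun _ => rfl }
  exact Module.Flat.of_linearEquiv e.symm

/-- finite products of restricted modules. -/
lemma flat_restr_pi {ι : Type} [Fintype ι] [DecidableEq ι] (W : ι → ModuleCat.{u} A)
    (h : ∀ i, Module.Flat R ((Φ φ).obj (W i))) :
    Module.Flat R ((Φ φ).obj (ModuleCat.of A (∀ i, W i))) := by
  have := h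
  let e : (∀ i, ((Φ φ).obj (W i))) ≃ₗ[R] (Φ φ).obj (ModuleCat.of A (∀ i, W i)) :=
    { toFun := fun f => f
      invFun := fun f => f
      map_add' := fun _ _ => rfl
      map_smul' := fun r f => rfl
      left_inv := fun _ => rfl
      right_inv := fun _ => rfl }
  exact Module.Flat.of_linearEquiv (DFinsupp.linearEquivFunOnFintype ≪≫ₗ e).symm

/-- `X ⊗_A N` is `R`-flat when `X` is `R`-flat and `N` is `A`-projective. -/
lemma flat_restr_tensor_of_projective (X N : ModuleCat.{u} A)
    (hX : Module.Flat R ((Φ φ).obj X)) [Module.Projective A N] :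
    Module.Flat R ((Φ φ).obj (X ⊗ N)) := by
  classical
  obtain ⟨s, hs⟩ := Module.projective_def'.1 (inferInstance : Module.Projective A N)
  let i : (X ⊗ N : ModuleCat.{u} A) ⟶ X ⊗ ModuleCat.of A (N →₀ A) := X ◁ ModuleCat.ofHom s
  let r : (X ⊗ ModuleCat.of A (N →₀ A) : ModuleCat.{u} A) ⟶ X ⊗ N :=
    X ◁ ModuleCat.ofHom (Finsupp.linearCombination A id)
  have hir : i ≫ r = 𝟙 _ := by
    rw [← MonoidalCategory.whiskerLeft_comp, ← ModuleCat.ofHom_comp, hs]
    exact MonoidalCategory.whiskerLeft_id _ _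
  refine flat_restr_of_retract φ i r hir ?_
  refine flat_restr_of_iso φ
    (TensorProduct.finsuppScalarRight A A X N).toModuleIso ?_
  exact flat_restr_finsupp φ N X hX

end modules


section complexes

variable {R A : Type u} [CommRing R] [CommRing A] [Algebra R A]

lemma flat_restr_of_flat [Module.Flat R A] (Y : ModuleCat.{u} A) [Module.Flat A Y] :
    Module.Flat R ((Φ (algebraMap R A)).obj Y) := by
  let _ : Module A ((Φ (algebraMap R A)).obj Y) := inferInstanceAs (Module A Y)
  have : IsScalarTower R A ((Φ (algebraMap R A)).obj Y) :=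
    IsScalarTower.of_algebraMap_smul (fun r x => rfl)
  have : Module.Flat A ((Φ (algebraMap R A)).obj Y) := inferInstanceAs (Module.Flat A Y)
  exact Module.Flat.trans R A _

/-- the terms of `Z ⊗ E` are `R`-flat when those of `Z` are and `E` is termwise projective. -/
lemma flat_restr_tensor_X (Z E : DRing.Cx A) (b₀ b : ℤ) (hZ : DRing.VanishesAbove Z b₀)
    (hE : DRing.VanishesAbove E b)
    (hZf : ∀ i, Module.Flat R ((Φ (algebraMap R A)).obj (Z.X i)))
    (hEp : ∀ i, Module.Projective A (E.X i)) (n : ℤ) :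
    Module.Flat R ((Φ (algebraMap R A)).obj ((Z ⊗ E).X n)) := by
  have e := LTCx.tensorXEquiv Z E n (Finset.Icc (n - b) b₀)
    (LTCx.isZero_summand_of_vanishesAbove hZ hE n)
  refine flat_restr_of_iso _ e.toModuleIso ?_
  exact flat_restr_pi _ (fun p : ↥(Finset.Icc (n - b) b₀) => (Z.X p.1 ⊗ E.X (n - p.1) : ModuleCat.{u} A))
    (fun p => by
      have := hEp (n - p.1)
      exact flat_restr_tensor_of_projective _ _ _ (hZf p.1))

end complexes


section main

variable {R A : Type u} [CommRing R] [CommRing A] [Algebra R A]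

open Groth.Agent.Lib.Helper35.TA in
theorem hasFiniteTorDimCx_restr_ltensorCx [Module.Flat R A] (E : DRing.Cx A) (a b : ℤ)
    (hEb : DRing.VanishesOutside E a b) (hEp : DRing.TermwiseFiniteProjective E)
    [DRing.HasLTensorCx A E] (M : Dual.D A) (hM : Dual2.IsRelPerfect R A M) :
    DRing.HasFiniteTorDimCx R
      ((DRing.restrictD (algebraMap R A)).obj ((DRing.LTensorCx A E).obj M)) := by
  obtain ⟨P, b₀, hb₀, hPff, ⟨e⟩⟩ := hM.1
  obtain ⟨c, d, hcd⟩ := hM.2
  have hEab : DRing.VanishesAbove E b := fun i hi => hEb i (Or.inr hi)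
  have hPK : P.IsKProjective :=
    Groth.Agent.Lib.Helper32.LBC.isKProjective_of_vanishesAbove P b₀ hb₀ (fun i => by
      have := (hPff i).2
      infer_instance)
  have hEK : E.IsKProjective :=
    Groth.Agent.Lib.Helper32.LBC.isKProjective_of_vanishesAbove E b hEab (fun i => (hEp i).2)
  -- the restriction of `P`
  let PR : DRing.Cx R := (DRing.restrictCx (algebraMap R A)).obj P
  have iso0 : DRing.toD PR ≅ (DRing.restrictD (algebraMap R A)).obj M :=
    ((Φ (algebraMap R A)).mapDerivedCategoryFactors.app P).symm ≪≫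
      (DRing.restrictD (algebraMap R A)).mapIso e
  have hT : TAmp c d (DRing.toD PR) := TAmp.of_iso hcd iso0.symm
  have hPRb : DRing.VanishesAbove PR b₀ := fun i hi =>
    (Φ (algebraMap R A)).map_isZero (hb₀ i hi)
  have hPflat : ∀ i, Module.Flat R ((Φ (algebraMap R A)).obj (P.X i)) := fun i => by
    have := (hPff i).2
    exact flat_restr_of_flat (P.X i)
  obtain ⟨hGE, hflat⟩ := flat_opcycles_of_TAmp' PR b₀ hPRb hPflat c d hT
  -- `P` is exact below `c`
  have hPGE : P.IsGE c := by
    rw [CochainComplex.isGE_iff]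
    intro i hi
    have h1 : PR.ExactAt i := PR.exactAt_of_isGE c i hi
    have h2 : ((P.sc i).map (Φ (algebraMap R A))).Exact := h1
    exact (ShortComplex.exact_map_iff_of_faithful (P.sc i) (Φ (algebraMap R A))).1 h2
  -- the truncation
  let Z : DRing.Cx A := P.truncGE c
  have hπ : QuasiIso (P.πTruncGE c) := (CochainComplex.quasiIso_πTruncGE_iff P c).2 hPGE
  have hZb : DRing.VanishesAbove Z b₀ :=
    isZero_truncGE_X_of_vanishesAbove P b₀ hb₀ c
  have hZc : ∀ i, i < c → IsZero (Z.X i) := fun i hi =>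
    (P.truncGE c).isZero_of_isStrictlyGE c i hi
  have hZf : ∀ i, Module.Flat R ((Φ (algebraMap R A)).obj (Z.X i)) := by
    intro i
    by_cases hi : c < i
    · exact flat_restr_of_iso _ (P.truncGEXIso c i hi) (hPflat i)
    · by_cases hi' : i < c
      · exact flat_restr_of_isZero _ (hZc i hi')
      · obtain rfl : i = c := by omega
        refine flat_restr_of_iso _ (P.truncGEXIsoOpcycles i) ?_
        have hflat' : Module.Flat R ↑(((P.sc i).map (Φ (algebraMap R A))).opcycles) := hflat
        exact Module.Flat.of_linearEquiv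
          ((P.sc i).mapOpcyclesIso (Φ (algebraMap R A))).toLinearEquiv.symm
  -- the tensor product `Z ⊗ E`
  have hW : DRing.VanishesOutside (Z ⊗ E) (c + a) (b₀ + b) :=
    LTCx.vanishesOutside_tensor (fun i hi => by
      rcases hi with hi | hi
      · exact hZc i hi
      · exact hZb i hi) hEb
  have hWf : ∀ n, Module.Flat R ((Φ (algebraMap R A)).obj ((Z ⊗ E).X n)) :=
    flat_restr_tensor_X Z E b₀ b hZb hEab hZf (fun i => (hEp i).2)
  have hq : QuasiIso (P.πTruncGE c ▷ E) :=
    TensCx.quasiIso_whiskerRight_of_kflat (P.πTruncGE c) E (KProjFlat.kflat_of_isKProjective E)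
  have hiso : IsIso (Q.map (P.πTruncGE c ▷ E)) := by
    rw [isIso_Q_map_iff_quasiIso]
    exact hq
  have iso1 : (DRing.LTensorCx A E).obj M ≅ DRing.toD (Z ⊗ E) :=
    (DRing.LTensorCx A E).mapIso e.symm ≪≫ LTCx.ltcIso A E P ≪≫
      asIso (Q.map (P.πTruncGE c ▷ E))
  have iso3 : DRing.toD ((DRing.restrictCx (algebraMap R A)).obj (Z ⊗ E)) ≅
      (DRing.restrictD (algebraMap R A)).obj ((DRing.LTensorCx A E).obj M) :=
    ((Φ (algebraMap R A)).mapDerivedCategoryFactors.app (Z ⊗ E)).symm ≪≫
      (DRing.restrictD (algebraMap R A)).mapIso iso1.symm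
  exact ⟨c + a, b₀ + b, (DRing.restrictCx (algebraMap R A)).obj (Z ⊗ E),
    fun i hi => (Φ (algebraMap R A)).map_isZero (hW i hi), hWf, ⟨iso3⟩⟩

theorem isRelPerfect_ltensorCx [Module.Flat R A] (E : DRing.Cx A) (a b : ℤ)
    (hEb : DRing.VanishesOutside E a b) (hEp : DRing.TermwiseFiniteProjective E)
    [DRing.HasLTensorCx A E] (M : Dual.D A) (hM : Dual2.IsRelPerfect R A M) :
    Dual2.IsRelPerfect R A ((DRing.LTensorCx A E).obj M) :=
  ⟨LTCx.isPseudoCoherent'_ltensorCx A M hM.1 E
    (Groth.Agent.Lib.Helper35.KL.isPseudoCoherent'_of_isPerfect ⟨E, a, b, hEb, hEp, ⟨Iso.refl _⟩⟩),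
    hasFiniteTorDimCx_restr_ltensorCx E a b hEb hEp M hM⟩

end main

end RelPerfTen
end Groth.Agent.Lib.Helper6
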