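import Mathlib
import Groth.Prelude.Def_DualSh
import Groth.Agent.Lib.Helper6.FlatPC3
import Groth.Agent.Lib.Helper6.PCMor
import Groth.Agent.Lib.Helper6.MPC5
import Groth.Agent.Lib.Helper6.RelPerfTen
import Groth.Agent.Lib.Helper6.TorAcyc4
import Groth.Agent.Lib.Helper35.TARes

/-! Finitely presented modules over a flat finitely presented algebra which are flat over the base
are pseudo-coherent; `R`-perfect complexes as bounded complexes of such modules (helper6). -/

set_option autoImplicit false
set_option linter.style.haveILetI false
universe u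

open CategoryTheory Limits MonoidalCategory TensorProduct DerivedCategory CochainComplex

namespace Groth.Agent.Lib.Helper6
namespace FlatPC

attribute [local instance] HasDerivedCategory.standard

open MPC RestrPC PCHom

section tsze

/-- **Stacks 0DHX-like**: for `R → A` flat of finite presentation, a finitely presented `A`-module
which is `R`-flat is a pseudo-coherent `A`-module (via the trivial square zero extension). -/
theorem isPCModule_of_fp_of_flat (R A : Type u) [CommRing R] [CommRing A] [Algebra R A]
    [Module.Flat R A] [Algebra.FinitePresentation R A]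
    (M : Type u) [AddCommGroup M] [Module A M] [Module R M] [IsScalarTower R A M]
    [Module.FinitePresentation A M] [Module.Flat R M] : DRing.IsPseudoCoherentModule' A M := by
  letI : Module Aᵐᵒᵖ M := Module.compHom M ((RingEquiv.toOpposite A).symm : Aᵐᵒᵖ →+* A)
  haveI : IsCentralScalar A M := ⟨fun a m => rfl⟩
  have hfpm : Module.FinitePresentation A (TrivSqZeroExt A M) :=
    (inferInstance : Module.FinitePresentation A (A × M))
  have hfpa : Algebra.FinitePresentation A (TrivSqZeroExt A M) := inferInstance
  have tower : IsScalarTower R A (TrivSqZeroExt A M) := inferInstance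
  have hfpr : Algebra.FinitePresentation R (TrivSqZeroExt A M) :=
    Algebra.FinitePresentation.trans R A (TrivSqZeroExt A M)
  have hflat : Module.Flat R (TrivSqZeroExt A M) :=
    (Groth.Agent.Lib.Helper35.TA.flat_prod : Module.Flat R (A × M))
  have hRB := pcHom_of_flat_of_finitePresentation R (TrivSqZeroExt A M)
  have hRA := pcHom_of_flat_of_finitePresentation R A
  have hAB : MoreMor.IsPseudoCoherentHom A (TrivSqZeroExt A M) := pcHom_cancel hRA hRB
  have hB : DRing.IsPseudoCoherent' A (Dual.inD A (TrivSqZeroExt A M)) :=
    (PCMor.pcHom_iff_of_finite).1 hAB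
  show DRing.IsPseudoCoherent' A _
  rw [Resol.isPC'_iff] at hB ⊢
  intro m
  let i : ModuleCat.of A M ⟶ ModuleCat.of A (TrivSqZeroExt A M) :=
    ModuleCat.ofHom (TrivSqZeroExt.inrHom A M)
  let r : ModuleCat.of A (TrivSqZeroExt A M) ⟶ ModuleCat.of A M :=
    ModuleCat.ofHom (TrivSqZeroExt.sndHom A M)
  have hir : i ≫ r = 𝟙 _ := by
    ext x
    exact TrivSqZeroExt.snd_inr A x
  refine isPC_of_retract ((DerivedCategory.singleFunctor (ModuleCat.{u} A) 0).map i)
    ((DerivedCategory.singleFunctor (ModuleCat.{u} A) 0).map r) ?_ m (hB m)
  rw [← CategoryTheory.Functor.map_comp, hir, CategoryTheory.Functor.map_id]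

variable (R A : Type u) [CommRing R] [CommRing A] [Algebra R A]
    [Module.Flat R A] [Algebra.FinitePresentation R A]

/-- the `ModuleCat` form. -/
theorem allPC_of_fp_of_flat_restr (M : ModuleCat.{u} A) [Module.FinitePresentation A M]
    (h : Module.Flat R ((ModuleCat.restrictScalars (algebraMap R A)).obj M)) : AllPC M := by
  letI : Module R M := Module.compHom M (algebraMap R A)
  haveI : IsScalarTower R A M := IsScalarTower.of_algebraMap_smul (fun _ _ => rfl)
  haveI : Module.Flat R M := h
  have h1 := isPCModule_of_fp_of_flat R A M
  intro m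
  exact isPC_of_isPC' h1 m

end tsze

end FlatPC
end Groth.Agent.Lib.Helper6
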