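import Mathlib

set_option autoImplicit false
universe u

namespace Groth.Agent.Lib.Helper6.DimFun

open Order

theorem eq_add_coheight {α : Type*} [PartialOrder α] [OrderTop α] (δ : α → ℤ)
    (hδ : ∀ p q : α, p ⋖ q → δ p = δ q + 1) :
    ∀ (n : ℕ) (p : α), Order.coheight p = n → δ p = δ ⊤ + n := by
  intro n
  induction n with
  | zero =>
    intro p hp
    have h0 : Order.coheight p = 0 := by simpa using hp
    rw [Order.coheight_eq_zero] at h0
    have : p = ⊤ := isMax_iff_eq_top.1 h0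
    subst this
    simp
  | succ n ih =>
    intro p hp
    have hp' : Order.coheight p = (n : ℕ∞) + 1 := by simpa using hp
    rw [Order.coheight_eq_coe_add_one_iff] at hp'
    obtain ⟨-, ⟨y, hy, hyn⟩, hall⟩ := hp'
    have hcov : p ⋖ y := by
      refine ⟨hy, fun r hpr hry => ?_⟩
      have h1 := hall r hpr
      have h2 := Order.coheight_add_one_le hry
      rw [hyn] at h2
      have h3 : ((n : ℕ∞) + 1) ≤ n := h2.trans h1
      have h4 : ((n + 1 : ℕ) : ℕ∞) ≤ (n : ℕ∞) := by exact_mod_cast h3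
      have h5 : n + 1 ≤ n := by exact_mod_cast h4
      omega
    rw [hδ p y hcov, ih y hyn]
    push_cast
    ring

theorem ringKrullDim_quotient_eq_coheight {A : Type u} [CommRing A] (p : PrimeSpectrum A) :
    ringKrullDim (A ⧸ p.asIdeal) = (Order.coheight p : ℕ∞) := by
  rw [ringKrullDim_quotient, Order.coheight_eq_krullDim_Ici]
  have h : PrimeSpectrum.zeroLocus (p.asIdeal : Set A) = Set.Ici p := by
    ext q
    simp only [PrimeSpectrum.mem_zeroLocus, SetLike.coe_subset_coe, Set.mem_Ici]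
    exact Iff.rfl
  rw [h]

theorem exists_nat {A : Type u} [CommRing A] [IsLocalRing A] [IsNoetherianRing A]
    (δ : PrimeSpectrum A → ℤ) (hδ : ∀ p q : PrimeSpectrum A, p ⋖ q → δ p = δ q + 1)
    (p : PrimeSpectrum A) :
    ∃ n : ℕ, ringKrullDim (A ⧸ p.asIdeal) = n ∧ δ p = δ ⊤ + n := by
  have hfin : Order.coheight p < ⊤ := Order.coheight_lt_top p
  obtain ⟨n, hn⟩ := ENat.ne_top_iff_exists.1 hfin.ne
  refine ⟨n, ?_, eq_add_coheight δ hδ n p hn.symm⟩
  rw [ringKrullDim_quotient_eq_coheight, ← hn]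
  rfl

end Groth.Agent.Lib.Helper6.DimFun
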