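import Mathlib

set_option autoImplicit false
universe u

namespace Groth.Agent.Lib.Helper6.DimFun

open Order

/-- a function which drops by one along covers is strictly antitone with gaps, when the order
has ACC and finite heights. -/
theorem add_one_le_of_lt {α : Type*} [PartialOrder α] [WellFoundedGT α]
    (hfin : ∀ q : α, Order.height q < ⊤) (δ : α → ℤ)
    (hδ : ∀ p q : α, p ⋖ q → δ p = δ q + 1) :
    ∀ (n : ℕ) (q : α), Order.height q = n → ∀ p : α, p < q → δ q + 1 ≤ δ p := by
  intro n
  induction n using Nat.strong_induction_on with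
  | _ n ih =>
    intro q hq p hpq
    obtain ⟨q', hpq', hcov⟩ := exists_le_covBy_of_lt hpq
    have h1 : δ q' = δ q + 1 := hδ q' q hcov
    rcases eq_or_lt_of_le hpq' with h | h
    · subst h
      omega
    · have hlt : Order.height q' < Order.height q := Order.height_strictMono hcov.lt (hfin q')
      obtain ⟨m, hm⟩ := ENat.ne_top_iff_exists.1 (hfin q').ne
      have hmn : m < n := by
        rw [← hm, hq] at hlt
        exact_mod_cast hlt
      have := ih m hmn q' hm.symm p h
      omega

theorem add_one_le_of_lt' {α : Type*} [PartialOrder α] [WellFoundedGT α]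
    (hfin : ∀ q : α, Order.height q < ⊤) (δ : α → ℤ)
    (hδ : ∀ p q : α, p ⋖ q → δ p = δ q + 1) (p q : α) (hpq : p < q) : δ q + 1 ≤ δ p := by
  obtain ⟨n, hn⟩ := ENat.ne_top_iff_exists.1 (hfin q).ne
  exact add_one_le_of_lt hfin δ hδ n q hn.symm p hpq

theorem krullDim_le_of_bounded {α : Type*} [PartialOrder α] (δ : α → ℤ)
    (hδ : ∀ p q : α, p < q → δ q + 1 ≤ δ p) (lo hi : ℤ) (hb : ∀ p, lo ≤ δ p ∧ δ p ≤ hi) :
    Order.krullDim α ≤ ((hi - lo).toNat : WithBot ℕ∞) := by
  unfold Order.krullDim
  refine iSup_le (fun s => ?_)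
  have key : ∀ i : Fin (s.length + 1), δ (s i) + (i : ℕ) ≤ δ (s 0) := by
    intro i
    induction i using Fin.induction with
    | zero => simp
    | succ i ih =>
      have h1 := hδ _ _ (s.step i)
      have h2 : ((i.succ : Fin (s.length + 1)) : ℕ) = (i : ℕ) + 1 := by simp
      have h3 : ((i.castSucc : Fin (s.length + 1)) : ℕ) = (i : ℕ) := by simp
      rw [h3] at ih
      rw [h2]
      push_cast
      omega
  have h1 := key (Fin.last s.length)
  have h2 := (hb (s (Fin.last s.length))).1
  have h3 := (hb (s 0)).2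
  have h4 : ((Fin.last s.length : Fin (s.length + 1)) : ℕ) = s.length := by simp
  rw [h4] at h1
  have h5 : s.length ≤ (hi - lo).toNat := by omega
  exact_mod_cast h5

theorem wellFoundedGT_primeSpectrum {A : Type u} [CommRing A] [IsNoetherianRing A] :
    WellFoundedGT (PrimeSpectrum A) :=
  StrictMono.wellFoundedGT (f := PrimeSpectrum.asIdeal) (fun _ _ h => h)

theorem height_lt_top {A : Type u} [CommRing A] [IsNoetherianRing A] (q : PrimeSpectrum A) :
    Order.height q < ⊤ := by
  rw [← PrimeSpectrum.height_eq_orderHeight]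
  exact Ideal.height_lt_top_of_isPrime

theorem ringKrullDim_lt_top_of_dimFun {A : Type u} [CommRing A] [IsNoetherianRing A]
    (δ : PrimeSpectrum A → ℤ) (hδ : ∀ p q : PrimeSpectrum A, p ⋖ q → δ p = δ q + 1)
    (lo hi : ℤ) (hb : ∀ p, lo ≤ δ p ∧ δ p ≤ hi) : ringKrullDim A < ⊤ := by
  haveI := wellFoundedGT_primeSpectrum (A := A)
  have h1 : ringKrullDim A ≤ ((hi - lo).toNat : WithBot ℕ∞) :=
    krullDim_le_of_bounded δ (fun p q h => add_one_le_of_lt' height_lt_top δ hδ p q h) lo hi hb
  refine lt_of_le_of_lt h1 ?_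
  exact WithBot.coe_lt_coe.2 (ENat.natCast_lt_top _)

end Groth.Agent.Lib.Helper6.DimFun
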