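import Groth.Agent.Lib.Helper6.HomBC7

/-! Dualizing complexes ascend along flat maps all of whose cyclic modules are extended
from finite modules, e.g. localizations (helper6). -/

set_option autoImplicit false
set_option linter.unusedSectionVars false
set_option linter.overlappingInstances false
universe u
open CategoryTheory CategoryTheory.Limits DerivedCategory TensorProduct Pretriangulated
attribute [local instance] HasDerivedCategory.standard

namespace Groth.Agent.Lib.Helper6
namespace HomBC

open Groth.Agent.Lib.Helper35 Groth.Agent.Lib.Helper35.FlatBC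

variable {A B : Type u} [CommRing A] [CommRing B] [Algebra A B] [Module.Flat A B]

/-- Amplitude data of a dualizing complex. -/
lemma isDualizing_bounds {ω : Dual.D A} (hω : Dual.IsDualizing A ω) :
    ∃ a b : ℤ, ω.IsGE a ∧ ω.IsLE b ∧ ∀ (M : Type u) [AddCommGroup M] [Module A M] (i : ℤ),
      (i < a ∨ b < i) → Subsingleton (Dual.inD A M ⟶ ω⟦i⟧) := by
  obtain ⟨a, b, hab⟩ := hω.finite_injective_dimension
  have h21 := (KL.IA_tfae ω a b).out 1 0
  have hIA : KL.IA a b ω := h21.1 (fun (N : ModuleCat.{u} A) i hi => hab N i hi)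
  exact ⟨a, b, hIA.isGE, hIA.isLE, hab⟩

lemma isDualizing_isPC {ω : Dual.D A} (hω : Dual.IsDualizing A ω) (m : ℤ) :
    DRing.IsPseudoCoherent A m ω := by
  have := hω.isNoetherianRing
  obtain ⟨a, b, hge, hle, -⟩ := isDualizing_bounds hω
  exact isPC_of_finite_homology ω b hω.finite_cohomology m

/-- **Ascent of dualizing complexes** along a flat map `A → B` with `B` Noetherian such that every
cyclic `B`-module is the base change of a finite `A`-module. -/
theorem isDualizing_G [IsNoetherianRing B]
    (hcyc : ∀ J : Ideal B, ∃ (N : Type u) (_ : AddCommGroup N) (_ : Module A N)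
      (_ : Module.Finite A N), Nonempty ((B ⊗[A] N) ≃ₗ[B] (B ⧸ J)))
    (ω : Dual.D A) (hω : Dual.IsDualizing A ω) : Dual.IsDualizing B ((G A B).obj ω) := by
  have := hω.isNoetherianRing
  obtain ⟨a, b, hge, hle, hab⟩ := isDualizing_bounds hω
  have hpc : ∀ m : ℤ, DRing.IsPseudoCoherent A m ω := isDualizing_isPC hω
  have hshift : ∀ i : ℤ, (ω⟦i⟧).IsGE (a - i) := fun i =>
    TStructure.t.isGE_shift ω a i (a - i) (by omega)
  have key : ∀ (X : Dual.D A) (i : ℤ), (∀ m, DRing.IsPseudoCoherent A m X) →
      Subsingleton (X ⟶ ω⟦i⟧) → Subsingleton ((G A B).obj X ⟶ ((G A B).obj ω)⟦i⟧) := by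
    intro X i hX hs
    have := hshift i
    have h1 := subsingleton_G_hom (B := B) X (ω⟦i⟧) (a - i) (hX _) hs
    exact (Iso.homCongr (Iso.refl ((G A B).obj X)) (GShiftIso (B := B) ω i)).symm.subsingleton
  refine
    { isNoetherianRing := inferInstance
      finite_injective_dimension := ?_
      finite_cohomology := fun i => by
        have := hω.finite_cohomology i
        exact finite_homology_G (B := B) ω i
      toEnd_bijective := ?_
      ext_self_subsingleton := fun i hi => key ω i hpc (hω.ext_self_subsingleton i hi) }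
  · refine ⟨a, b, ?_⟩
    have h3 : ∀ (J : Ideal B) (i : ℤ), (i < a ∨ b < i) →
        Subsingleton ((singleFunctor (ModuleCat.{u} B) 0).obj (ModuleCat.of B (B ⧸ J)) ⟶
          ((G A B).obj ω)⟦i⟧) := by
      intro J i hi
      obtain ⟨N, _, _, _, ⟨e⟩⟩ := hcyc J
      have h1 := key (Dual.inD A N) i (isPC_inD_of_finite N) (hab N i hi)
      let ι : (singleFunctor (ModuleCat.{u} B) 0).obj (ModuleCat.of B (B ⧸ J)) ≅
          (G A B).obj (Dual.inD A N) :=
        (singleFunctor (ModuleCat.{u} B) 0).mapIso e.symm.toModuleIso ≪≫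
          (GInDIso (A := A) B N).symm
      exact (Iso.homCongr ι (Iso.refl (((G A B).obj ω)⟦i⟧))).subsingleton
    have h32 := (KL.IA_tfae ((G A B).obj ω) a b).out 2 1
    have h2 := h32.1 h3
    intro M _ _ i hi
    exact h2 (ModuleCat.of B M) i hi
  · have h1 := bijective_Phi_of_isPC (B := B) ω ω a (hpc _)
    have hu : Function.Bijective (LinearMap.toSpanSingleton A (ω ⟶ ω) (𝟙 ω)) := by
      have h0 : ⇑(LinearMap.toSpanSingleton A (ω ⟶ ω) (𝟙 ω)) = fun c : A => c • 𝟙 ω := by
        funext c
        rfl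
      rw [h0]
      exact hω.toEnd_bijective
    have h2 : Function.Bijective (fun x : B ⊗[A] A =>
        Phi A B ω ω (LinearMap.lTensor B (LinearMap.toSpanSingleton A (ω ⟶ ω) (𝟙 ω)) x)) :=
      h1.comp (lTensor_bijective' _ hu)
    have h3 : (fun x : B ⊗[A] A =>
        Phi A B ω ω (LinearMap.lTensor B (LinearMap.toSpanSingleton A (ω ⟶ ω) (𝟙 ω)) x)) =
        (fun c : B => c • 𝟙 ((G A B).obj ω)) ∘ (TensorProduct.rid A B) := by
      funext x
      exact Phi_comp_toEnd ω x
    rw [h3] at h2
    exact (Function.Bijective.of_comp_iff _ (TensorProduct.rid A B).bijective).1 h2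

end HomBC
end Groth.Agent.Lib.Helper6
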