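import Groth.Agent.Lib.Helper6.InjDimMax2

set_option autoImplicit false
set_option linter.unusedSectionVars false
set_option linter.overlappingInstances false
universe u
open CategoryTheory CategoryTheory.Limits DerivedCategory TensorProduct Pretriangulated
attribute [local instance] HasDerivedCategory.standard

namespace Groth.Agent.Lib.Helper6
namespace InjDimMax

open Groth.Agent.Lib.Helper35 Groth.Agent.Lib.Helper35.FlatBC HomBC

variable {A B : Type u} [CommRing A] [CommRing B] [Algebra A B] [Module.Flat A B]

lemma finite_hom_inD_of_bounded [IsNoetherianRing B] (M : Type u) [AddCommGroup M] [Module B M]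
    [Module.Finite B M] (L : Dual.D B) (a b : ℤ) [L.IsGE a] [L.IsLE b]
    (hL : ∀ i : ℤ, Module.Finite B ((homologyFunctor (ModuleCat.{u} B) i).obj L)) (i : ℤ) :
    Module.Finite B (Dual.inD B M ⟶ L⟦i⟧) := by
  have h := KL.NHs_of_bounded (Dual.inD B M) L
    ⟨0, 0, fun j hj => by
      rcases hj with hj | hj
      · exact ModuleCat.subsingleton_of_isZero (DerivedCategory.isZero_of_isGE _ 0 j hj)
      · exact ModuleCat.subsingleton_of_isZero (DerivedCategory.isZero_of_isLE _ 0 j hj)⟩
    ⟨a, b, fun j hj => by
      rcases hj with hj | hj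
      · exact ModuleCat.subsingleton_of_isZero (DerivedCategory.isZero_of_isGE L a j hj)
      · exact ModuleCat.subsingleton_of_isZero (DerivedCategory.isZero_of_isLE L b j hj)⟩
    (fun j => by
      by_cases hj : j = 0
      · subst hj
        have hM : Module.Finite B ((𝟭 (ModuleCat.{u} B)).obj (ModuleCat.of B M)) :=
          inferInstanceAs (Module.Finite B M)
        exact Module.Finite.equiv
          ((DerivedCategory.singleFunctorCompHomologyFunctorIso (ModuleCat.{u} B) 0).app
            (ModuleCat.of B M)).symm.toLinearEquiv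
      · have : Subsingleton ((homologyFunctor (ModuleCat.{u} B) j).obj (Dual.inD B M)) := by
          rcases lt_or_gt_of_ne hj with hj | hj
          · exact ModuleCat.subsingleton_of_isZero (DerivedCategory.isZero_of_isGE _ 0 j hj)
          · exact ModuleCat.subsingleton_of_isZero (DerivedCategory.isZero_of_isLE _ 0 j hj)
        infer_instance)
    hL
  have := h i
  infer_instance

/-- **Ascent of dualizing complexes** along a flat map `A → B` with `B` Noetherian such that the
residue field of every maximal ideal of `B` is the base change of a finite `A`-module. -/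
theorem isDualizing_G_of_max [IsNoetherianRing B]
    (hmaxN : ∀ n : Ideal B, n.IsMaximal → ∃ (N : Type u) (_ : AddCommGroup N) (_ : Module A N)
      (_ : Module.Finite A N), Nonempty ((B ⊗[A] N) ≃ₗ[B] (B ⧸ n)))
    (ω : Dual.D A) (hω : Dual.IsDualizing A ω) : Dual.IsDualizing B ((G A B).obj ω) := by
  have := hω.isNoetherianRing
  obtain ⟨a, b, hge, hle, hab⟩ := isDualizing_bounds hω
  have hpc : ∀ m : ℤ, DRing.IsPseudoCoherent A m ω := isDualizing_isPC hω
  have hshift : ∀ i : ℤ, (ω⟦i⟧).IsGE (a - i) := fun i =>
    TStructure.t.isGE_shift ω a i (a - i) (by omega)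
  have key : ∀ (X : Dual.D A) (i : ℤ), (∀ m, DRing.IsPseudoCoherent A m X) →
      Subsingleton (X ⟶ ω⟦i⟧) → Subsingleton ((G A B).obj X ⟶ ((G A B).obj ω)⟦i⟧) := by
    intro X i hX hs
    have := hshift i
    have h1 := subsingleton_G_hom (B := B) X (ω⟦i⟧) (a - i) (hX _) hs
    exact (Iso.homCongr (Iso.refl ((G A B).obj X)) (GShiftIso (B := B) ω i)).symm.subsingleton
  have hGge : ((G A B).obj ω).IsGE a := isGE_G (B := B) ω a
  have hGle : ((G A B).obj ω).IsLE b := isLE_G (B := B) ω b
  have hfinG : ∀ i : ℤ, Module.Finite B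
      ((homologyFunctor (ModuleCat.{u} B) i).obj ((G A B).obj ω)) := fun i => by
    have := hω.finite_cohomology i
    exact finite_homology_G (B := B) ω i
  refine
    { isNoetherianRing := inferInstance
      finite_injective_dimension := ?_
      finite_cohomology := hfinG
      toEnd_bijective := ?_
      ext_self_subsingleton := fun i hi => key ω i hpc (hω.ext_self_subsingleton i hi) }
  · refine ⟨a, b, ?_⟩
    have hPall : ∀ J : Ideal B, P ((G A B).obj ω) b J := by
      refine P_all ((G A B).obj ω) b
        (fun J i => finite_hom_inD_of_bounded (B ⧸ J) ((G A B).obj ω) a b hfinG i) ?_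
      intro n hn i hi
      obtain ⟨N, _, _, _, ⟨e⟩⟩ := hmaxN n hn
      have h1 := key (Dual.inD A N) i (isPC_inD_of_finite N) (hab N i (Or.inr hi))
      let ι : (singleFunctor (ModuleCat.{u} B) 0).obj (ModuleCat.of B (B ⧸ n)) ≅
          (G A B).obj (Dual.inD A N) :=
        (singleFunctor (ModuleCat.{u} B) 0).mapIso e.symm.toModuleIso ≪≫
          (GInDIso (A := A) B N).symm
      exact (Iso.homCongr ι (Iso.refl (((G A B).obj ω)⟦i⟧))).subsingleton
    have h3 : ∀ (J : Ideal B) (i : ℤ), (i < a ∨ b < i) →
        Subsingleton ((singleFunctor (ModuleCat.{u} B) 0).obj (ModuleCat.of B (B ⧸ J)) ⟶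
          ((G A B).obj ω)⟦i⟧) := by
      intro J i hi
      rcases hi with hi | hi
      · have h1 : TStructure.t.IsGE (((G A B).obj ω)⟦i⟧) (a - i) :=
          TStructure.t.isGE_shift _ a i (a - i) (by omega)
        refine ⟨fun f g => ?_⟩
        have hz : ∀ φ : (singleFunctor (ModuleCat.{u} B) 0).obj (ModuleCat.of B (B ⧸ J)) ⟶
            ((G A B).obj ω)⟦i⟧, φ = 0 := fun φ =>
          TStructure.t.zero φ 0 (a - i) (by omega)
        rw [hz f, hz g]
      · exact hPall J i hi
    have h32 := (KL.IA_tfae ((G A B).obj ω) a b).out 2 1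
    have h2 := h32.1 h3
    intro M _ _ i hi
    exact h2 (ModuleCat.of B M) i hi
  · have h1 := bijective_Phi_of_isPC (B := B) ω ω a (hpc _)
    have hu : Function.Bijective (LinearMap.toSpanSingleton A (ω ⟶ ω) (𝟙 ω)) := by
      have h0 : ⇑(LinearMap.toSpanSingleton A (ω ⟶ ω) (𝟙 ω)) = fun c : A => c • 𝟙 ω := by
        funext c
        rfl
      rw [h0]
      exact hω.toEnd_bijective
    have h2 : Function.Bijective (fun x : B ⊗[A] A =>
        Phi A B ω ω (LinearMap.lTensor B (LinearMap.toSpanSingleton A (ω ⟶ ω) (𝟙 ω)) x)) :=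
      h1.comp (lTensor_bijective' _ hu)
    have h3 : (fun x : B ⊗[A] A =>
        Phi A B ω ω (LinearMap.lTensor B (LinearMap.toSpanSingleton A (ω ⟶ ω) (𝟙 ω)) x)) =
        (fun c : B => c • 𝟙 ((G A B).obj ω)) ∘ (TensorProduct.rid A B) := by
      funext x
      exact Phi_comp_toEnd ω x
    rw [h3] at h2
    exact (Function.Bijective.of_comp_iff _ (TensorProduct.rid A B).bijective).1 h2

end InjDimMax
end Groth.Agent.Lib.Helper6
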