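import Groth.Agent.Lib.Helper6.NormDual1

/-! Vanishing of `Ext^j(M, ω)` below `-dim M` for a normalized dualizing complex, and the
Cohen–Macaulay criterion (helper6). -/

set_option autoImplicit false
set_option linter.unusedSectionVars false
set_option linter.overlappingInstances false
universe u
open CategoryTheory CategoryTheory.Limits DerivedCategory TensorProduct Pretriangulated
attribute [local instance] HasDerivedCategory.standard

namespace Groth.Agent.Lib.Helper6
namespace NormDual

open Groth.Agent.Lib.Helper35 HomBC InjDimMax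


lemma wb_lt_zero_iff (a : WithBot ℕ∞) : a < ((0 : ℕ) : WithBot ℕ∞) ↔ a = ⊥ := by
  induction a using WithBot.recBotCoe with
  | bot => simp
  | coe a =>
    constructor
    · intro h
      have h' : (a : WithBot ℕ∞) < ((0 : ℕ∞) : WithBot ℕ∞) := by exact_mod_cast h
      rw [WithBot.coe_lt_coe] at h'
      exact absurd h' (by simp)
    · intro h
      exact absurd h (WithBot.coe_ne_bot)

lemma wb_lt_of_add_one_lt (a : WithBot ℕ∞) (k : ℕ)
    (h : a + 1 < ((k + 1 : ℕ) : WithBot ℕ∞)) : a < ((k : ℕ) : WithBot ℕ∞) := by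
  induction a using WithBot.recBotCoe with
  | bot => exact WithBot.bot_lt_coe _
  | coe a =>
    induction a using ENat.recTopCoe with
    | top =>
      exfalso
      have h' : ((⊤ : ℕ∞) : WithBot ℕ∞) < (((k + 1 : ℕ) : ℕ∞) : WithBot ℕ∞) := by
        have : (((⊤ : ℕ∞) : WithBot ℕ∞) + 1) = ((⊤ : ℕ∞) : WithBot ℕ∞) := by
          rw [← WithBot.coe_one, ← WithBot.coe_add]; simp
        rw [this] at h
        exact_mod_cast h
      rw [WithBot.coe_lt_coe] at h'
      exact absurd h' (by simp)
    | coe n =>
      have h' : (((n + 1 : ℕ) : ℕ∞) : WithBot ℕ∞) < (((k + 1 : ℕ) : ℕ∞) : WithBot ℕ∞) := by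
        exact_mod_cast h
      rw [WithBot.coe_lt_coe, Nat.cast_lt] at h'
      have : n < k := by omega
      exact_mod_cast this

variable {A : Type u} [CommRing A]

lemma subsingleton_hom_of_subsingleton (M : Type u) [AddCommGroup M] [Module A M]
    [Subsingleton M] (L : Dual.D A) : Subsingleton (Dual.inD A M ⟶ L) := by
  have h0 : IsZero (ModuleCat.of A M) := ModuleCat.isZero_of_subsingleton _
  have h1 : IsZero (Dual.inD A M) := (singleFunctor (ModuleCat.{u} A) 0).map_isZero h0
  exact ⟨fun f g => h1.eq_of_src f g⟩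

lemma subsingleton_hom_of_linearEquiv {M N : Type u} [AddCommGroup M] [Module A M]
    [AddCommGroup N] [Module A N] (e : M ≃ₗ[A] N) (L : Dual.D A)
    (h : Subsingleton (Dual.inD A N ⟶ L)) : Subsingleton (Dual.inD A M ⟶ L) :=
  (Iso.homCongr ((singleFunctor (ModuleCat.{u} A) 0).mapIso e.toModuleIso)
    (Iso.refl L)).subsingleton

/-- middle term of a short exact sequence. -/
lemma subsingleton_hom_mid (S : ShortComplex (ModuleCat.{u} A)) (hS : S.ShortExact)
    (L : Dual.D A)
    (h₁ : Subsingleton ((singleFunctor (ModuleCat.{u} A) 0).obj S.X₁ ⟶ L))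
    (h₃ : Subsingleton ((singleFunctor (ModuleCat.{u} A) 0).obj S.X₃ ⟶ L)) :
    Subsingleton ((singleFunctor (ModuleCat.{u} A) 0).obj S.X₂ ⟶ L) := by
  have hT := hS.singleTriangle_distinguished
  have hex := HomBC.exact_leftComp₂ A _ hT L
  have s₁ : Subsingleton (hS.singleTriangle.obj₁ ⟶ L) := h₁
  have s₃ : Subsingleton (hS.singleTriangle.obj₃ ⟶ L) := h₃
  refine ⟨fun f g => ?_⟩
  have hz : ∀ φ : hS.singleTriangle.obj₂ ⟶ L, φ = 0 := by
    intro φ
    obtain ⟨ψ, hψ⟩ := (hex φ).1 (s₁.elim _ _)
    rw [← hψ, s₃.elim ψ 0, map_zero]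
  exact (hz f).trans (hz g).symm

lemma isSMulRegular_quotient_prime (p : Ideal A) [p.IsPrime] (x : A) (hx : x ∉ p) :
    IsSMulRegular (A ⧸ p) x := by
  intro y z hyz
  obtain ⟨y, rfl⟩ := Submodule.Quotient.mk_surjective _ y
  obtain ⟨z, rfl⟩ := Submodule.Quotient.mk_surjective _ z
  have h1 : x • (y - z) ∈ p := by
    rw [smul_sub]
    exact (Submodule.Quotient.eq p).1 hyz
  rw [smul_eq_mul] at h1
  exact (Submodule.Quotient.eq p).2 ((Ideal.IsPrime.mem_or_mem inferInstance h1).resolve_left hx)

section normalized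

variable [IsNoetherianRing A] [IsLocalRing A] (ω : Dual.D A) (hω : Dual.IsDualizing A ω)
  (hn : Dual.IsNormalized A ω)

include hω hn

theorem vanishing_below_dim (k : ℕ) : ∀ (M : Type u) [AddCommGroup M] [Module A M]
    [Module.Finite A M], Module.supportDim A M < (k : WithBot ℕ∞) →
    ∀ j : ℤ, j ≤ -(k : ℤ) → Subsingleton (Dual.inD A M ⟶ ω⟦j⟧) := by
  obtain ⟨a, b, hge, hle, hab⟩ := isDualizing_bounds hω
  induction k with
  | zero =>
    intro M _ _ _ hd j _
    have h0 : Module.supportDim A M = ⊥ := (wb_lt_zero_iff _).1 hd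
    have := (Module.supportDim_eq_bot_iff_subsingleton A M).1 h0
    exact subsingleton_hom_of_subsingleton M _
  | succ k ih =>
    intro M _ _ hfin hd j hj
    induction hfin using IsNoetherianRing.induction_on_isQuotientEquivQuotientPrime A with
    | subsingleton N => exact subsingleton_hom_of_subsingleton N _
    | quotient N p e =>
      refine subsingleton_hom_of_linearEquiv e _ ?_
      have hd' : Module.supportDim A (A ⧸ p.asIdeal) < ((k + 1 : ℕ) : WithBot ℕ∞) := by
        rw [← Module.supportDim_eq_of_equiv e]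
        exact hd
      by_cases hm : p.asIdeal = IsLocalRing.maximalIdeal A
      · rw [hm]
        exact hn j (by push_cast at hj; omega)
      · have hlt : p.asIdeal < IsLocalRing.maximalIdeal A :=
          lt_of_le_of_ne (IsLocalRing.le_maximalIdeal p.2.ne_top) hm
        obtain ⟨x, hxm, hxp⟩ := SetLike.exists_of_lt hlt
        have hreg : IsSMulRegular (A ⧸ p.asIdeal) x := isSMulRegular_quotient_prime p.asIdeal x hxp
        have hdim := Module.supportDim_quotSMulTop_succ_eq_supportDim hreg hxm
        have hd'' : Module.supportDim A (QuotSMulTop x (A ⧸ p.asIdeal)) < ((k : ℕ) : WithBot ℕ∞) := by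
          rw [← hdim] at hd'
          exact wb_lt_of_add_one_lt _ k hd'
        have h1 := ih (QuotSMulTop x (A ⧸ p.asIdeal)) hd'' (j + 1) (by push_cast at hj; omega)
        have hxj : x ∈ (⊥ : Ideal A).jacobson := IsLocalRing.maximalIdeal_le_jacobson _ hxm
        exact subsingleton_of_smul_surjective
          (finite_hom_inD_of_bounded (A ⧸ p.asIdeal) ω a b hω.finite_cohomology j) x hxj
          (smul_surjective_of_regular (A ⧸ p.asIdeal) x hreg ω j h1)
    | exact N₁ N₂ N₃ f g hf hg hfg h₁ h₃ =>
      have hd₁ := lt_of_le_of_lt (Module.supportDim_le_of_injective f hf) hd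
      have hd₃ := lt_of_le_of_lt (Module.supportDim_le_of_surjective g hg) hd
      let S : ShortComplex (ModuleCat.{u} A) :=
        ModuleCat.shortComplexOfCompEqZero f g hfg.linearMap_comp_eq_zero
      have hS : S.ShortExact := ModuleCat.shortComplex_shortExact S hfg hf hg
      exact subsingleton_hom_mid S hS _ (h₁ hd₁) (h₃ hd₃)

/-- **Cohen–Macaulay criterion** via a normalized dualizing complex. -/
theorem isCohenMacaulayModule_iff (M : Type u) [AddCommGroup M] [Module A M] [Module.Finite A M]
    [Nontrivial M] (d : ℕ) (hd : Module.supportDim A M = d) :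
    LocCoh.IsCohenMacaulayModule A M ↔
      ∀ i : ℤ, i ≠ d → Subsingleton (Dual.inD A M ⟶ ω⟦(-i)⟧) := by
  obtain ⟨n', hn'⟩ := ENat.ne_top_iff_exists.1 (Lib.Helper29.depth_ne_top A M)
  obtain ⟨c1, c2⟩ := depth_claim ω hω hn n' M hn'.symm
  constructor
  · intro hCM
    have h1 : n' = d := by
      unfold LocCoh.IsCohenMacaulayModule at hCM
      rw [hd, ← hn'] at hCM
      have h2 : ((d : ℕ∞) : WithBot ℕ∞) = ((n' : ℕ∞) : WithBot ℕ∞) := by exact_mod_cast hCM
      have h3 : (d : ℕ∞) = (n' : ℕ∞) := WithBot.coe_injective h2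
      exact_mod_cast h3.symm
    subst h1
    intro i hi
    rcases lt_or_gt_of_ne hi with hlt | hgt
    · exact c1 (-i) (by omega)
    · refine vanishing_below_dim ω hω hn (n' + 1) M ?_ (-i) (by push_cast; omega)
      rw [hd]
      exact_mod_cast Nat.lt_succ_self n'
  · intro h
    have h1 : n' = d := by
      by_contra hne
      have := h (n' : ℤ) (by exact_mod_cast hne)
      exact not_subsingleton _ this
    unfold LocCoh.IsCohenMacaulayModule
    rw [hd, ← hn', h1]
    rfl

end normalized

end NormDual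
end Groth.Agent.Lib.Helper6
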