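import Groth.Agent.Lib.Helper6.FinLenDual
import Groth.Agent.Lib.Helper6.HomBC8
import Groth.Agent.Lib.Helper6.NormDual2
import Groth.Agent.Lib.Helper6.InjDimMax3

/-! Localization of dualizing complexes and Hom groups; the covering lemma for the dimension
function (helper6). -/

set_option autoImplicit false
set_option linter.unusedSectionVars false
set_option linter.style.haveILetI false
universe u
open CategoryTheory CategoryTheory.Limits DerivedCategory Pretriangulated TensorProduct Pointwise
attribute [local instance] HasDerivedCategory.standard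

namespace Groth.Agent.Lib.Helper6
namespace LocDual

open Groth.Agent.Lib.Helper35 Groth.Agent.Lib.Helper35.FlatBC

section loc

variable {A : Type u} [CommRing A] [IsNoetherianRing A] (S : Submonoid A)

lemma hcyc_localization (J : Ideal (Localization S)) :
    ∃ (N : Type u) (_ : AddCommGroup N) (_ : Module A N) (_ : Module.Finite A N),
      Nonempty ((Localization S ⊗[A] N) ≃ₗ[Localization S] (Localization S ⧸ J)) := by
  let I : Ideal A := J.comap (algebraMap A (Localization S))
  have hIJ : I.map (algebraMap A (Localization S)) = J := IsLocalization.map_under S _ J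
  refine ⟨A ⧸ I, inferInstance, inferInstance, inferInstance, ⟨?_⟩⟩
  exact (Algebra.TensorProduct.quotIdealMapEquivTensorQuot (Localization S) I).symm.toLinearEquiv ≪≫ₗ
    Submodule.quotEquivOfEq _ _ hIJ

theorem isDualizing_G_localization (ω : Dual.D A) (hω : Dual.IsDualizing A ω) :
    Dual.IsDualizing (Localization S) ((G A (Localization S)).obj ω) := by
  have hN : IsNoetherianRing (Localization S) :=
    IsLocalization.isNoetherianRing S (Localization S) inferInstance
  exact HomBC.isDualizing_G (B := Localization S) (hcyc_localization S) ω hω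

/-- `S⁻¹ Hom(N[0], L[i]) ≃ Hom((S⁻¹A ⊗ N)[0], (G L)[i])` for `N` finite and `L` bounded
below. -/
theorem nonempty_locHomEquiv (N : Type u) [AddCommGroup N] [Module A N] [Module.Finite A N]
    (L : Dual.D A) (a : ℤ) [L.IsGE a] (i : ℤ) :
    Nonempty (LocalizedModule S (Dual.inD A N ⟶ L⟦i⟧) ≃
      (Dual.inD (Localization S) (Localization S ⊗[A] N) ⟶
        ((G A (Localization S)).obj L)⟦i⟧)) := by
  have hge : (L⟦i⟧).IsGE (a - i) := TStructure.t.isGE_shift L a i (a - i) (by omega)
  have hb := HomBC.bijective_Phi_of_isPC (B := Localization S) (Dual.inD A N) (L⟦i⟧) (a - i)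
    (HomBC.isPC_inD_of_finite N _)
  exact ⟨(LocalizedModule.equivTensorProduct S (Dual.inD A N ⟶ L⟦i⟧)).toEquiv.trans
    ((Equiv.ofBijective _ hb).trans
      (Iso.homCongr (GInDIso (A := A) (Localization S) N)
        (HomBC.GShiftIso (B := Localization S) L i)))⟩

end loc


section DF

variable {B : Type u} [CommRing B] [IsLocalRing B] [IsNoetherianRing B]

/-- `B/(p' + x)` has finite length when every prime strictly containing `p'` is maximal. -/
lemma isFiniteLength_quotSMulTop (p' : Ideal B) [p'.IsPrime]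
    (hcov : ∀ P : Ideal B, P.IsPrime → p' < P → P = IsLocalRing.maximalIdeal B)
    (x : B) (hx : x ∉ p') : IsFiniteLength B (QuotSMulTop x (B ⧸ p')) := by
  set J : Ideal B := p' ⊔ Ideal.span {x} with hJ
  have hpJ : p' ≤ J := le_sup_left
  have hxJ : x ∈ J := Ideal.mem_sup_right (Ideal.mem_span_singleton_self x)
  -- B/J is artinian
  have hK0 : Ring.KrullDimLE 0 (B ⧸ J) := by
    rw [Ring.krullDimLE_zero_iff]
    intro I hI
    have hcomap : (I.comap (Ideal.Quotient.mk J)).IsPrime := Ideal.comap_isPrime _ I
    have hJle : J ≤ I.comap (Ideal.Quotient.mk J) := by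
      intro y hy
      rw [Ideal.mem_comap, Ideal.Quotient.eq_zero_iff_mem.2 hy]
      exact I.zero_mem
    have hlt : p' < I.comap (Ideal.Quotient.mk J) := by
      refine lt_of_le_of_ne (hpJ.trans hJle) ?_
      intro heq
      exact hx (heq ▸ hJle hxJ)
    have hmax := hcov _ hcomap hlt
    have hImap : I = (IsLocalRing.maximalIdeal B).map (Ideal.Quotient.mk J) := by
      rw [← hmax, Ideal.map_comap_of_surjective _ Ideal.Quotient.mk_surjective]
    rw [hImap]
    rcases Ideal.map_eq_top_or_isMaximal_of_surjective (Ideal.Quotient.mk J)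
      Ideal.Quotient.mk_surjective (IsLocalRing.maximalIdeal.isMaximal B) with h | h
    · exfalso
      rw [← hImap] at h
      exact hI.ne_top h
    · exact h
  have hArt : IsArtinianRing (B ⧸ J) := isArtinianRing_iff_krullDimLE_zero.2 hK0
  have hFL : IsFiniteLength B (B ⧸ J) := by
    rw [isFiniteLength_iff_isNoetherian_isArtinian]
    exact ⟨isNoetherian_quotient J,
      isArtinian_of_surjective_algebraMap (Ideal.Quotient.mk_surjective (I := J))⟩
  -- the surjection
  let g : B →ₗ[B] QuotSMulTop x (B ⧸ p') :=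
    (Submodule.mkQ (x • (⊤ : Submodule B (B ⧸ p')))) ∘ₗ (Submodule.mkQ p')
  have hg : J ≤ LinearMap.ker g := by
    rw [hJ, sup_le_iff]
    constructor
    · intro y hy
      rw [LinearMap.mem_ker]
      change Submodule.mkQ _ (Submodule.mkQ p' y) = 0
      have h0 : Submodule.mkQ p' y = 0 := by
        rw [Submodule.mkQ_apply]
        exact (Submodule.Quotient.mk_eq_zero p').2 hy
      rw [h0, map_zero]
    · rw [Ideal.span_singleton_le_iff_mem, LinearMap.mem_ker]
      change Submodule.mkQ _ (Submodule.mkQ p' x) = 0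
      rw [Submodule.mkQ_apply, Submodule.Quotient.mk_eq_zero]
      have : Submodule.mkQ p' x = x • (Submodule.mkQ p' (1 : B)) := by
        rw [← map_smul, smul_eq_mul, mul_one]
      rw [this]
      exact Submodule.smul_mem_pointwise_smul _ x ⊤ Submodule.mem_top
  let f : (B ⧸ J) →ₗ[B] QuotSMulTop x (B ⧸ p') := Submodule.liftQ J g hg
  have hf : Function.Surjective f := by
    intro y
    obtain ⟨y', rfl⟩ := Submodule.mkQ_surjective _ y
    obtain ⟨y'', rfl⟩ := Submodule.mkQ_surjective _ y'
    exact ⟨Submodule.mkQ J y'', rfl⟩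
  exact hFL.of_surjective hf

/-- Lemma DF: over a local ring with dualizing complex `ω` whose residue field Ext is concentrated
in degree `n`, the Ext of `B/p'` for a prime `p'` "of dimension one" is concentrated in degree
`n - 1`. -/
theorem subsingleton_hom_quot_prime_of_covBy (ω : Dual.D B) (hω : Dual.IsDualizing B ω) (n : ℤ)
    (hn : ∀ i : ℤ, i ≠ n →
      Subsingleton (Dual.inD B (B ⧸ IsLocalRing.maximalIdeal B) ⟶ ω⟦i⟧))
    (p' : Ideal B) [p'.IsPrime] (hne : p' ≠ IsLocalRing.maximalIdeal B)
    (hcov : ∀ P : Ideal B, P.IsPrime → p' < P → P = IsLocalRing.maximalIdeal B)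
    (i : ℤ) (hi : i ≠ n - 1) : Subsingleton (Dual.inD B (B ⧸ p') ⟶ ω⟦i⟧) := by
  obtain ⟨a, b, hge, hle, hab⟩ := HomBC.isDualizing_bounds hω
  have hlt : p' < IsLocalRing.maximalIdeal B :=
    lt_of_le_of_ne (IsLocalRing.le_maximalIdeal (Ideal.IsPrime.ne_top inferInstance)) hne
  obtain ⟨x, hxm, hxp⟩ := SetLike.exists_of_lt hlt
  have hreg : IsSMulRegular (B ⧸ p') x := NormDual.isSMulRegular_quotient_prime p' x hxp
  have hFL := isFiniteLength_quotSMulTop p' hcov x hxp
  have h : Subsingleton (Dual.inD B (QuotSMulTop x (B ⧸ p')) ⟶ ω⟦i + 1⟧) :=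
    FinLenDual.subsingleton_hom_of_isFiniteLength (ω⟦i + 1⟧) (fun n' hn' => by
      rw [IsLocalRing.eq_maximalIdeal hn']
      exact hn (i + 1) (by omega)) _ hFL
  have hsurj := NormDual.smul_surjective_of_regular (B ⧸ p') x hreg ω i h
  have hfin : Module.Finite B (Dual.inD B (B ⧸ p') ⟶ ω⟦i⟧) :=
    InjDimMax.finite_hom_inD_of_bounded (B ⧸ p') ω a b hω.finite_cohomology i
  refine NormDual.subsingleton_of_smul_surjective hfin x ?_ hsurj
  rw [IsLocalRing.jacobson_eq_maximalIdeal ⊥ bot_ne_top]
  exact hxm

end DF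

end LocDual
end Groth.Agent.Lib.Helper6
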