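import Groth.Agent.Lib.Helper6.Bidual6

/-! Biduality for dualizing complexes, part 7: Hom(κ, ω[i]) is one-dimensional in one degree
(helper6). -/

set_option autoImplicit false
set_option linter.unusedSectionVars false
set_option linter.style.haveILetI false
universe u
open CategoryTheory CategoryTheory.Limits DerivedCategory Pretriangulated Opposite
attribute [local instance] HasDerivedCategory.standard

namespace Groth.Agent.Lib.Helper6
namespace Bidual

open Groth.Agent.Lib.Helper35

variable {A : Type u} [CommRing A] [IsNoetherianRing A]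

omit [IsNoetherianRing A] in
/-- D1 (universe polymorphic): a finite module killed by a maximal ideal is a finite product of
copies of the residue field. -/
lemma exists_pi_equiv' (m : Ideal A) [m.IsMaximal] (V : Type*) [AddCommGroup V] [Module A V]
    [Module.Finite A V] (hV : ∀ a ∈ m, ∀ v : V, a • v = 0) :
    ∃ e : ℕ, Nonempty (V ≃ₗ[A] (Fin e → A ⧸ m)) := by
  have htors : Module.IsTorsionBySet A V (m : Set A) := by
    intro v a
    exact hV a.1 a.2 v
  letI : Module (A ⧸ m) V := htors.module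
  letI : Field (A ⧸ m) := Ideal.Quotient.field m
  haveI : IsScalarTower A (A ⧸ m) V := htors.isScalarTower
  haveI : Module.Finite (A ⧸ m) V := Module.Finite.of_restrictScalars_finite A (A ⧸ m) V
  let bas := Module.finBasis (A ⧸ m) V
  exact ⟨Module.finrank (A ⧸ m) V, ⟨(bas.equivFun).restrictScalars A⟩⟩

section setup

variable (I : DRing.Cx A) (a b : ℤ) (hv : DRing.VanishesOutside I a b)
  (hinj : ∀ i : ℤ, Injective (I.X i))
  (hend : Function.Bijective (fun x : A => x • 𝟙 (DerivedCategory.Q.obj I : Dual.D A)))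
  (hext : ∀ j : ℤ, j ≠ 0 →
    Subsingleton ((DerivedCategory.Q.obj I : Dual.D A) ⟶ (DerivedCategory.Q.obj I)⟦j⟧))
  (hfin : ∀ i : ℤ, Module.Finite A (Dual.HD A (DerivedCategory.Q.obj I) i))
  (m : Ideal A) [m.IsMaximal]

/-- `E^j = Hom(κ[0], Q(I)[j])`. -/
abbrev EE (j : ℤ) : Type (u + 1) :=
  (Dual.inD A (A ⧸ m) ⟶ (DerivedCategory.Q.obj I : Dual.D A)⟦j⟧)

omit [IsNoetherianRing A] in
lemma EE_kill (j : ℤ) (x : A) (hx : x ∈ m) (f : EE I m j) : x • f = 0 := by
  have h1 : x • f = (DerivedCategory.singleFunctor (ModuleCat.{u} A) 0).map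
      (x • 𝟙 (ModuleCat.of A (A ⧸ m))) ≫ f := by
    rw [Functor.map_smul, Linear.smul_comp, CategoryTheory.Functor.map_id, Category.id_comp]
  have h2 : x • 𝟙 (ModuleCat.of A (A ⧸ m)) = 0 := by
    refine ModuleCat.hom_ext (LinearMap.ext fun y => ?_)
    obtain ⟨y, rfl⟩ := Ideal.Quotient.mk_surjective y
    change x • (Ideal.Quotient.mk m y) = 0
    rw [← Ideal.Quotient.mk_eq_mk, ← Submodule.Quotient.mk_smul, Ideal.Quotient.mk_eq_mk,
      Ideal.Quotient.eq_zero_iff_mem]
    exact m.mul_mem_right y hx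
  rw [h1, h2, Functor.map_zero, zero_comp]

include hv hfin in
lemma EE_finite (j : ℤ) : Module.Finite A (EE I m j) := by
  have h1 : (DerivedCategory.Q.obj I : Dual.D A).IsGE a := by
    have : I.IsStrictlyGE a := by
      rw [CochainComplex.isStrictlyGE_iff]
      exact fun i hi => hv i (Or.inl hi)
    infer_instance
  have h2 : (DerivedCategory.Q.obj I : Dual.D A).IsLE b := by
    have : I.IsStrictlyLE b := by
      rw [CochainComplex.isStrictlyLE_iff]
      exact fun i hi => hv i (Or.inr hi)
    infer_instance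
  exact InjDimMax.finite_hom_inD_of_bounded (A ⧸ m) (DerivedCategory.Q.obj I) a b hfin j

include hv hfin in
lemma exists_EE_equiv (j : ℤ) : ∃ e : ℕ, Nonempty (EE I m j ≃ₗ[A] (Fin e → A ⧸ m)) := by
  have := EE_finite I a b hv hfin m j
  exact exists_pi_equiv' m (EE I m j) (fun x hx f => EE_kill I m j x hx f)


include hv hinj hend hext hfin in
theorem exists_unique_degree :
    ∃ n : ℤ, (∀ i : ℤ, i ≠ n → Subsingleton (EE I m i)) ∧
      Nonempty (EE I m n ≃ₗ[A] (A ⧸ m)) := by
  classical
  have hKI : I.IsKInjective := KL.IA.isKInjective I hv hinj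
  obtain ⟨hT, hη⟩ := (wayOutData I a b hv hinj hend hext).main (A ⧸ m)
  change ∀ j : ℤ, j ≠ 0 → Subsingleton ((Dq I).obj (op (ModuleCat.of A (A ⧸ m))) ⟶
    (DerivedCategory.Q.obj I : Dual.D A)⟦j⟧) at hT
  change Function.Bijective (etaLin I (ModuleCat.of A (A ⧸ m))) at hη
  set κ : ModuleCat.{u} A := ModuleCat.of A (A ⧸ m) with hκ
  set W : Dual.D A := DerivedCategory.Q.obj I with hW
  set Dκ : Dual.D A := (Dq I).obj (op κ) with hDκ
  -- bounds on Dκ
  have hDGE : Dκ.IsGE a := by
    have := isStrictlyGE_Dc I a b hv κ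
    exact (inferInstance : (DerivedCategory.Q.obj ((Dc I).obj (op κ)) : Dual.D A).IsGE a)
  have hDLE0 : Dκ.IsLE b := by
    have := isStrictlyLE_Dc I a b hv κ
    exact (inferInstance : (DerivedCategory.Q.obj ((Dc I).obj (op κ)) : Dual.D A).IsLE b)
  -- homology of Dκ
  have hH : ∀ j : ℤ, Nonempty (Dual.HD A Dκ j ≃ₗ[A] EE I m j) := fun j =>
    ⟨(hdQEquiv ((Dc I).obj (op κ)) j).trans (homologyDcEquiv κ I j)⟩
  have hEout : ∀ j : ℤ, (j < a ∨ b < j) → Subsingleton (EE I m j) := by
    intro j hj
    obtain ⟨e⟩ := hH j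
    have : Subsingleton (Dual.HD A Dκ j) := ModuleCat.subsingleton_of_isZero (by
      rcases hj with hj | hj
      · exact isZero_of_isGE Dκ a j hj
      · exact isZero_of_isLE Dκ b j hj)
    exact e.symm.toEquiv.subsingleton
  have hne : ∃ j : ℤ, ¬ Subsingleton (EE I m j) := by
    by_contra hcon
    simp only [not_exists, not_not] at hcon
    have hz : IsZero Dκ := by
      have h := KL.isGE_and_isLE_of_subsingleton Dκ (b + 1) b (fun i _ => by
        obtain ⟨e⟩ := hH i
        have := hcon i
        exact e.toEquiv.subsingleton)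
      haveI := h.1
      haveI := h.2
      exact TStructure.t.isZero Dκ b (b + 1) (by omega)
    have h1 : ∀ x : A ⧸ m, x = 0 := fun x => hη.1 (hz.eq_of_src _ _)
    exact one_ne_zero (h1 1)
  obtain ⟨imax, himax, hmax⟩ := Int.exists_greatest_of_bdd
    (P := fun j => ¬ Subsingleton (EE I m j)) ⟨b, fun z hz => by
      by_contra h
      exact hz (hEout z (Or.inr (by omega)))⟩ hne
  obtain ⟨imin, himin, hmin⟩ := Int.exists_least_of_bdd
    (P := fun j => ¬ Subsingleton (EE I m j)) ⟨a, fun z hz => by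
      by_contra h
      exact hz (hEout z (Or.inl (by omega)))⟩ hne
  have hle : imin ≤ imax := hmin imax himax
  have hEabove : ∀ j : ℤ, imax < j → Subsingleton (EE I m j) := by
    intro j hj
    by_contra h
    have := hmax j h
    omega
  have hEbelow : ∀ j : ℤ, j < imin → Subsingleton (EE I m j) := by
    intro j hj
    by_contra h
    have := hmin j h
    omega
  have hDLE : Dκ.IsLE imax := by
    rw [isLE_iff]
    intro i hi
    obtain ⟨e⟩ := hH i
    have := hEabove i hi
    have : Subsingleton (Dual.HD A Dκ i) := e.toEquiv.subsingleton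
    exact ModuleCat.isZero_of_subsingleton _
  -- structure of the cohomology modules
  have hψ : ∀ j : ℤ, ∃ e : ℕ, Nonempty
      (((homologyFunctor (ModuleCat.{u} A) j).obj Dκ : ModuleCat.{u} A) ≃ₗ[A] (Fin e → κ)) := by
    intro j
    obtain ⟨e, ⟨ψ⟩⟩ := exists_EE_equiv I a b hv hfin m j
    obtain ⟨e'⟩ := hH j
    exact ⟨e, ⟨e'.trans ψ⟩⟩
  -- the key step
  have hkey : ∀ l : ℤ, (∀ i : ℤ, i < imax → Subsingleton (EE I m (l - 1 + i))) →
      Subsingleton (Dκ ⟶ W⟦l⟧) → Subsingleton (EE I m (l + imax)) := by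
    intro l hl hs
    have h1 := subsingleton_top Dκ a imax (W⟦l⟧) (fun i hi => by
      obtain ⟨e, ⟨ψ⟩⟩ := hψ i
      refine subsingleton_single_of_pi κ _ e ψ (W⟦l⟧) i (-1) (-1 + i) rfl ?_
      have := hl i hi
      exact (Iso.homCongr (Iso.refl _)
        ((shiftFunctorAdd' (Dual.D A) l (-1 + i) (l - 1 + i) (by omega)).app W)).symm.subsingleton) hs
    obtain ⟨e, ⟨ψ⟩⟩ := hψ imax
    have he : 0 < e := by
      rcases Nat.eq_zero_or_pos e with h0 | h0
      · exfalso
        subst h0
        apply himax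
        obtain ⟨e'⟩ := hH imax
        have : Subsingleton (Dual.HD A Dκ imax) := ψ.toEquiv.subsingleton
        exact e'.symm.toEquiv.subsingleton
      · exact h0
    exact subsingleton_of_single_pi κ _ e ψ W imax l (l + imax) rfl he h1
  have heq : imin = imax := by
    by_contra hne'
    have hlt : imin < imax := lt_of_le_of_ne hle hne'
    have h2 := hkey (imin - imax) (fun i hi => hEbelow _ (by omega)) (hT _ (by omega))
    have e3 : imin - imax + imax = imin := by omega
    rw [e3] at h2
    exact himin h2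
  subst heq
  refine ⟨imin, fun i hi => ?_, ?_⟩
  · rcases lt_or_gt_of_ne hi with h | h
    · exact hEbelow i h
    · exact hEabove i h
  · obtain ⟨e, ⟨ψE⟩⟩ := exists_EE_equiv I a b hv hfin m imin
    have he1 : e = 1 := by
      have he0 : e ≠ 0 := by
        rintro rfl
        exact himin ψE.toEquiv.subsingleton
      by_contra hne1
      have he2 : 2 ≤ e := by omega
      have hDGE' : Dκ.IsGE imin := by
        rw [isGE_iff]
        intro i hi
        obtain ⟨e'⟩ := hH i
        have := hEbelow i hi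
        have : Subsingleton (Dual.HD A Dκ i) := e'.toEquiv.subsingleton
        exact ModuleCat.isZero_of_subsingleton _
      obtain ⟨hHe⟩ := hH imin
      let ψ : Dual.HD A Dκ imin ≃ₗ[A] (Fin e → A ⧸ m) := hHe.trans ψE
      obtain ⟨φ⟩ := nonempty_iso_single Dκ imin (Fin e → A ⧸ m) ψ
      have hnt : ¬ Subsingleton ((DerivedCategory.singleFunctor (ModuleCat.{u} A) imin).obj κ ⟶
          W⟦(0 : ℤ)⟧) := fun h =>
        himin ((singleShiftHomEquiv κ W imin 0 imin (zero_add _)).symm.subsingleton)
      rw [not_subsingleton_iff_nontrivial] at hnt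
      obtain ⟨f0, hf0⟩ := exists_ne
        (0 : (DerivedCategory.singleFunctor (ModuleCat.{u} A) imin).obj κ ⟶ W⟦(0 : ℤ)⟧)
      let z : W⟦(0 : ℤ)⟧ ≅ W := (shiftFunctorZero (Dual.D A) ℤ).app W
      let f' : (DerivedCategory.singleFunctor (ModuleCat.{u} A) imin).obj κ ⟶ W := f0 ≫ z.hom
      have hf' : f' ≠ 0 := fun h => hf0 ((cancel_mono z.hom).1 (h.trans zero_comp.symm))
      let i0 : Fin e := ⟨0, by omega⟩
      let i1 : Fin e := ⟨1, by omega⟩
      have hA : ∀ k : Fin e, (DerivedCategory.singleFunctor (ModuleCat.{u} A) imin).map (ιN κ e k) ≫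
          (DerivedCategory.singleFunctor (ModuleCat.{u} A) imin).map (πN κ e k) ≫ f' = f' := by
        intro k
        rw [← Category.assoc, ← Functor.map_comp, ιN_πN_self, CategoryTheory.Functor.map_id,
          Category.id_comp]
      have hB : ∀ k k' : Fin e, k ≠ k' →
          (DerivedCategory.singleFunctor (ModuleCat.{u} A) imin).map (ιN κ e k) ≫
          (DerivedCategory.singleFunctor (ModuleCat.{u} A) imin).map (πN κ e k') ≫ f' = 0 := by
        intro k k' hk
        rw [← Category.assoc, ← Functor.map_comp, ιN_πN_ne κ e k k' hk, Functor.map_zero,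
          zero_comp]
      let t : Fin e → (Dκ ⟶ W) := fun k =>
        φ.hom ≫ (DerivedCategory.singleFunctor (ModuleCat.{u} A) imin).map (πN κ e k) ≫ f'
      have ht0 : t i0 ≠ 0 := by
        intro h
        have h1 : (DerivedCategory.singleFunctor (ModuleCat.{u} A) imin).map (πN κ e i0) ≫ f' = 0 :=
          (cancel_epi φ.hom).1 (h.trans comp_zero.symm)
        apply hf'
        rw [← hA i0, h1, comp_zero]
      obtain ⟨x0, hx0⟩ := hη.2 (t i0)
      obtain ⟨x1, hx1⟩ := hη.2 (t i1)
      have hx0ne : x0 ≠ 0 := by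
        rintro rfl
        apply ht0
        rw [← hx0, map_zero]
      obtain ⟨c, hc⟩ : ∃ c : A, c • x0 = x1 := by
        letI : Field (A ⧸ m) := Ideal.Quotient.field m
        obtain ⟨c, hc⟩ := Ideal.Quotient.mk_surjective (x1 * x0⁻¹)
        refine ⟨c, ?_⟩
        rw [Algebra.smul_def, Ideal.Quotient.algebraMap_eq, hc, mul_assoc,
          inv_mul_cancel₀ hx0ne, mul_one]
      have ht1 : t i1 = c • t i0 := by
        rw [← hx1, ← hx0, ← hc, map_smul]
      have h01 : i1 ≠ i0 := by
        intro h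
        have := congrArg Fin.val h
        simp [i0, i1] at this
      have h5 : (DerivedCategory.singleFunctor (ModuleCat.{u} A) imin).map (ιN κ e i1) ≫
          φ.inv ≫ t i1 = f' := by
        change _ ≫ φ.inv ≫ φ.hom ≫ _ = f'
        rw [Iso.inv_hom_id_assoc, hA]
      have h6 : (DerivedCategory.singleFunctor (ModuleCat.{u} A) imin).map (ιN κ e i1) ≫
          φ.inv ≫ t i0 = 0 := by
        change _ ≫ φ.inv ≫ φ.hom ≫ _ = 0
        rw [Iso.inv_hom_id_assoc, hB i1 i0 h01]
      apply hf'
      rw [← h5, ht1, Linear.comp_smul, Linear.comp_smul, h6, smul_zero]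
    subst he1
    exact ⟨ψE.trans (LinearEquiv.funUnique (Fin 1) A (A ⧸ m))⟩

end setup

end Bidual
end Groth.Agent.Lib.Helper6
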