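import Groth.Agent.Lib.Helper6.InjDimMax5

/-! Ascent of dualizing complexes along flat maps whose closed residue fields have a two-term
resolution by extended modules, e.g. polynomial rings (helper6). -/

set_option autoImplicit false
set_option linter.unusedSectionVars false
set_option linter.overlappingInstances false
universe u
open CategoryTheory CategoryTheory.Limits DerivedCategory TensorProduct Pretriangulated
attribute [local instance] HasDerivedCategory.standard

namespace Groth.Agent.Lib.Helper6
namespace InjDimMax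

open Groth.Agent.Lib.Helper35 Groth.Agent.Lib.Helper35.FlatBC HomBC

variable {A B : Type u} [CommRing A] [CommRing B] [Algebra A B] [Module.Flat A B]

theorem isDualizing_G_of_ses [IsNoetherianRing B] (ω : Dual.D A) (hω : Dual.IsDualizing A ω)
    (hses : ∀ n : Ideal B, n.IsMaximal → ∃ (M : Type u) (_ : AddCommGroup M) (_ : Module A M)
      (θ : (B ⊗[A] M) →ₗ[B] (B ⊗[A] M)) (π : (B ⊗[A] M) →ₗ[B] (B ⧸ n)),
      Function.Injective θ ∧ Function.Exact θ π ∧ Function.Surjective π) :
    Dual.IsDualizing B ((G A B).obj ω) := by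
  have := hω.isNoetherianRing
  obtain ⟨a, b, hge, hle, hab⟩ := isDualizing_bounds hω
  refine isDualizing_G_of_P (B := B) ω hω (b + 1) ?_
  intro n hn i hi
  obtain ⟨M, _, _, θ, π, hθ, hex, hπ⟩ := hses n hn
  let S : ShortComplex (ModuleCat.{u} B) :=
    ShortComplex.mk (ModuleCat.ofHom θ) (ModuleCat.ofHom π) (by
      apply ModuleCat.hom_ext
      apply LinearMap.ext
      intro r
      exact hex.apply_apply_eq_zero r)
  have hS : S.ShortExact := ModuleCat.shortComplex_shortExact S hex hθ hπ
  have hR : ∀ j : ℤ, b < j → Subsingleton (Dual.inD B (B ⊗[A] M) ⟶ ((G A B).obj ω)⟦j⟧) :=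
    fun j hj => subsingleton_G_inD_hom (B := B) ω a b (fun J i hi => hab (A ⧸ J) i hi) M j
      (Or.inr hj)
  exact subsingleton_hom_of_shortExact S hS ((G A B).obj ω) i (i - 1) (by omega)
    (hR (i - 1) (by omega)) (hR i (by omega))

end InjDimMax
end Groth.Agent.Lib.Helper6
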