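import Groth.Agent.Lib.Helper6.InjDimMax6

set_option autoImplicit false
set_option linter.unusedSectionVars false
set_option linter.overlappingInstances false
universe u
open TensorProduct Polynomial

namespace Groth.Agent.Lib.Helper6
namespace InjDimMax

section poly

variable (A : Type u) [CommRing A]

/-- `A[X] ⊗ κ ≃ κ[X]` as rings. -/
noncomputable def polyTensorEquiv (κ : Type u) [CommRing κ] [Algebra A κ] :
    (A[X] ⊗[A] κ) ≃+* κ[X] :=
  ((Algebra.TensorProduct.comm A A[X] κ).trans (polyEquivTensor A κ).symm).toRingEquiv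

theorem exists_ses_polynomial (n : Ideal A[X]) (hn : n.IsMaximal) :
    ∃ (M : Type u) (_ : AddCommGroup M) (_ : Module A M)
      (θ : (A[X] ⊗[A] M) →ₗ[A[X]] (A[X] ⊗[A] M)) (π : (A[X] ⊗[A] M) →ₗ[A[X]] (A[X] ⧸ n)),
      Function.Injective θ ∧ Function.Exact θ π ∧ Function.Surjective π := by
  let p : Ideal A := n.comap (algebraMap A A[X])
  have hp : p.IsPrime := Ideal.comap_isPrime _ _
  let κ := p.ResidueField
  let _ : Field (A[X] ⧸ n) := Ideal.Quotient.field n
  have hf₁ : p ≤ RingHom.ker (Algebra.ofId A (A[X] ⧸ n)) := by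
    intro a ha
    rw [RingHom.mem_ker]
    show algebraMap A (A[X] ⧸ n) a = 0
    rw [IsScalarTower.algebraMap_apply A A[X] (A[X] ⧸ n), Ideal.Quotient.algebraMap_eq,
      Ideal.Quotient.eq_zero_iff_mem]
    exact ha
  have hf₂ : p.primeCompl ≤ (IsUnit.submonoid (A[X] ⧸ n)).comap (Algebra.ofId A (A[X] ⧸ n)) := by
    intro a ha
    show IsUnit (algebraMap A (A[X] ⧸ n) a)
    apply IsUnit.mk0
    rw [IsScalarTower.algebraMap_apply A A[X] (A[X] ⧸ n), Ideal.Quotient.algebraMap_eq, Ne,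
      Ideal.Quotient.eq_zero_iff_mem]
    exact ha
  let ι : κ →ₐ[A] (A[X] ⧸ n) := Ideal.ResidueField.liftₐ p (Algebra.ofId A (A[X] ⧸ n)) hf₁ hf₂
  let ψ : (A[X] ⊗[A] κ) →ₐ[A[X]] (A[X] ⧸ n) :=
    Algebra.TensorProduct.lift (Algebra.ofId A[X] (A[X] ⧸ n)) ι (fun _ _ => Commute.all _ _)
  have hψs : Function.Surjective ψ := by
    intro y
    obtain ⟨y, rfl⟩ := Ideal.Quotient.mk_surjective y
    refine ⟨y ⊗ₜ 1, ?_⟩
    simp only [ψ, Algebra.TensorProduct.lift_tmul, map_one, mul_one]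
    rfl
  let e := polyTensorEquiv A κ
  have hdom : IsDomain (A[X] ⊗[A] κ) := e.toMulEquiv.isDomain _
  have hpid : IsPrincipalIdealRing (A[X] ⊗[A] κ) :=
    IsPrincipalIdealRing.of_surjective e.symm.toRingHom e.symm.surjective
  obtain ⟨t, ht⟩ := (IsPrincipalIdealRing.principal (RingHom.ker ψ.toRingHom)).principal
  have ht0 : t ≠ 0 := by
    rintro rfl
    have hker : RingHom.ker ψ.toRingHom = ⊥ := by
      rw [ht]
      exact Submodule.span_zero_singleton _
    have hinj : Function.Injective ψ := (RingHom.injective_iff_ker_eq_bot ψ.toRingHom).2 hker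
    let eψ : (A[X] ⊗[A] κ) ≃+* (A[X] ⧸ n) := RingEquiv.ofBijective ψ.toRingHom ⟨hinj, hψs⟩
    have hF : IsField (A[X] ⧸ n) := Field.toIsField _
    have hF2 : IsField κ[X] := (e.symm.trans eψ).toMulEquiv.isField hF
    exact Polynomial.not_isField κ hF2
  refine ⟨κ, inferInstance, inferInstance, LinearMap.mulLeft A[X] t, ψ.toLinearMap, ?_, ?_, hψs⟩
  · intro x y hxy
    exact mul_left_cancel₀ ht0 hxy
  · intro x
    constructor
    · intro hx
      have hx' : x ∈ RingHom.ker ψ.toRingHom := hx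
      rw [ht] at hx'
      obtain ⟨y, rfl⟩ := Ideal.mem_span_singleton'.1 hx'
      exact ⟨y, mul_comm _ _⟩
    · rintro ⟨y, rfl⟩
      have h1 : t ∈ RingHom.ker ψ.toRingHom := by
        rw [ht]
        exact Ideal.mem_span_singleton_self t
      show ψ (t * y) = 0
      rw [map_mul]
      have h2 : ψ t = 0 := h1
      rw [h2, zero_mul]

end poly

end InjDimMax
end Groth.Agent.Lib.Helper6
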