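import Groth.Agent.Lib.Helper6.MatlisFL
import Groth.Agent.Lib.Helper6.LocDual
import Groth.Agent.Lib.Helper6.InjDimMax7
import Groth.Agent.Lib.Helper6.InjDimMax6

/-! Existence of dualizing complexes for algebras essentially of finite type (helper6). -/

set_option autoImplicit false
set_option linter.unusedSectionVars false
set_option linter.style.haveILetI false
universe u
open CategoryTheory CategoryTheory.Limits DerivedCategory Pretriangulated Opposite Polynomial
attribute [local instance] HasDerivedCategory.standard

namespace Groth.Agent.Lib.Helper6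
namespace ExistsDual

open Groth.Agent.Lib.Helper35 Groth.Agent.Lib.Helper35.FlatBC HomBC

/-- `HasDual A`: `A` has a dualizing complex. -/
def HasDual (A : Type u) [CommRing A] : Prop := ∃ ω : Dual.D A, Dual.IsDualizing A ω

theorem hasDual_of_finite {A B : Type u} [CommRing A] [CommRing B] [IsNoetherianRing A]
    [IsNoetherianRing B] (φ : A →+* B) (hφ : φ.Finite) (h : HasDual A) : HasDual B := by
  obtain ⟨ω, hω⟩ := h
  exact ⟨(RDual.Rq φ).obj ω, RDual.isDualizing_rightAdjoint φ (RDual.adjq φ) hφ ω hω⟩

theorem hasDual_of_ringEquiv {A B : Type u} [CommRing A] [CommRing B] [IsNoetherianRing A]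
    [IsNoetherianRing B] (e : A ≃+* B) (h : HasDual A) : HasDual B :=
  hasDual_of_finite (e : A →+* B) (RingHom.Finite.of_surjective _ e.surjective) h

theorem hasDual_polynomial {A : Type u} [CommRing A] [IsNoetherianRing A] (h : HasDual A) :
    HasDual A[X] := by
  obtain ⟨ω, hω⟩ := h
  exact ⟨(G A A[X]).obj ω, InjDimMax.isDualizing_G_of_ses ω hω
    (fun n hn => InjDimMax.exists_ses_polynomial A n hn)⟩

theorem hasDual_mvPolynomial (n : ℕ) : ∀ (A : Type u) [CommRing A] [IsNoetherianRing A],
    HasDual A → HasDual (MvPolynomial (Fin n) A) := by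
  induction n with
  | zero =>
    intro A _ _ h
    exact hasDual_of_ringEquiv (MvPolynomial.isEmptyRingEquiv A (Fin 0)).symm h
  | succ n ih =>
    intro A _ _ h
    have h1 := hasDual_polynomial (ih A h)
    exact hasDual_of_ringEquiv (MvPolynomial.finSuccEquiv A n).symm.toRingEquiv h1

theorem hasDual_localization {A : Type u} [CommRing A] [IsNoetherianRing A] (S : Submonoid A)
    (B : Type u) [CommRing B] [Algebra A B] [IsLocalization S B] (h : HasDual A) : HasDual B := by
  obtain ⟨ω, hω⟩ := h
  haveI : IsNoetherianRing (Localization S) :=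
    IsLocalization.isNoetherianRing S (Localization S) inferInstance
  haveI : IsNoetherianRing B := IsLocalization.isNoetherianRing S B inferInstance
  have h1 : HasDual (Localization S) := ⟨_, LocDual.isDualizing_G_localization S ω hω⟩
  exact hasDual_of_ringEquiv (IsLocalization.algEquiv S (Localization S) B).toRingEquiv h1

theorem hasDual_of_essFiniteType {A : Type u} [CommRing A] [IsNoetherianRing A] (B : Type u)
    [CommRing B] [Algebra A B] [Algebra.EssFiniteType A B] (h : HasDual A) : HasDual B := by
  haveI hN0 : IsNoetherianRing (Algebra.EssFiniteType.subalgebra A B) :=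
    Algebra.FiniteType.isNoetherianRing A _
  obtain ⟨n, f, hf⟩ := Algebra.FiniteType.iff_quotient_mvPolynomial''.1
    (inferInstance : Algebra.FiniteType A (Algebra.EssFiniteType.subalgebra A B))
  have h1 := hasDual_mvPolynomial n A h
  have h2 : HasDual (Algebra.EssFiniteType.subalgebra A B) :=
    hasDual_of_finite f.toRingHom (RingHom.Finite.of_surjective _ hf) h1
  exact hasDual_localization (Algebra.EssFiniteType.submonoid A B) B h2

end ExistsDual
end Groth.Agent.Lib.Helper6
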