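import Mathlib

set_option autoImplicit false
universe w w' v u
open CategoryTheory CategoryTheory.Limits Opposite ZeroObject
open CategoryTheory.Triangulated CategoryTheory.Pretriangulated CategoryTheory.Abelian

namespace Groth.Agent.Lib.Helper6
namespace Blend

section Uniq
variable {A : Type u} [Category.{v} A] [Abelian A] [HasDerivedCategory.{w} A]
open DerivedCategory

/-- In `D(A)`, the third morphism of a distinguished triangle `S F ⟶ S X ⟶ S Q ⟶` is determined
by the first two. -/
lemma mor₃_unique {F X Q : A} (i : F ⟶ X) (q : X ⟶ Q)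
    (δ δ' : (singleFunctor A 0).obj Q ⟶ ((singleFunctor A 0).obj F)⟦(1 : ℤ)⟧)
    (h : Triangle.mk ((singleFunctor A 0).map i) ((singleFunctor A 0).map q) δ ∈ distTriang _)
    (h' : Triangle.mk ((singleFunctor A 0).map i) ((singleFunctor A 0).map q) δ' ∈ distTriang _) :
    δ = δ' := by
  have hex0 : ∃ c : (singleFunctor A 0).obj Q ⟶ (singleFunctor A 0).obj Q,
      (singleFunctor A 0).map q ≫ c = 𝟙 _ ≫ (singleFunctor A 0).map q ∧
        δ ≫ (𝟙 ((singleFunctor A 0).obj F))⟦(1 : ℤ)⟧' = c ≫ δ' :=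
    complete_distinguished_triangle_morphism _ _ h h' (𝟙 _) (𝟙 _)
      ((Category.comp_id _).trans (Category.id_comp _).symm)
  obtain ⟨c, hc₁, hc₂⟩ := hex0
  rw [Category.id_comp] at hc₁
  rw [CategoryTheory.Functor.map_id, Category.comp_id] at hc₂
  have h1 : (singleFunctor A 0).map q ≫ (c - 𝟙 _) = 0 := by
    rw [Preadditive.comp_sub, hc₁, Category.comp_id, sub_self]
  have hex : ∃ t : ((singleFunctor A 0).obj F)⟦(1 : ℤ)⟧ ⟶ (singleFunctor A 0).obj Q,
      c - 𝟙 _ = δ ≫ t := Triangle.yoneda_exact₃ _ h (c - 𝟙 _) h1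
  obtain ⟨t, ht⟩ := hex
  have : (((singleFunctor A 0).obj F)⟦(1 : ℤ)⟧).IsLE (-1) :=
    TStructure.t.isLE_shift _ 0 1 (-1)
  have ht0 : t = 0 := TStructure.t.zero t (-1) 0
  rw [ht0, comp_zero, sub_eq_zero] at ht
  rw [hc₂, ht, Category.id_comp]

/-- A distinguished triangle `S F ⟶ S X ⟶ S Q ⟶ (S F)⟦1⟧` comes from a short exact sequence. -/
lemma shortExact_of_distTriang {F X Q : A} (i : F ⟶ X) (q : X ⟶ Q)
    (δ : (singleFunctor A 0).obj Q ⟶ ((singleFunctor A 0).obj F)⟦(1 : ℤ)⟧)
    (h : Triangle.mk ((singleFunctor A 0).map i) ((singleFunctor A 0).map q) δ ∈ distTriang _) :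
    ∃ w : i ≫ q = 0, (ShortComplex.mk i q w).ShortExact := by
  have w : i ≫ q = 0 := by
    apply (singleFunctor A 0).map_injective
    rw [Functor.map_comp, Functor.map_zero]
    exact comp_distTriang_mor_zero₁₂ _ h
  refine ⟨w, ?_⟩
  let η := singleFunctorCompHomologyFunctorIso A 0
  have hi : i = η.inv.app F ≫ (homologyFunctor A 0).map ((singleFunctor A 0).map i) ≫
      η.hom.app X := by
    have := η.hom.naturality i
    dsimp at this
    rw [this, Iso.inv_hom_id_app_assoc]
  have hq : q = η.inv.app X ≫ (homologyFunctor A 0).map ((singleFunctor A 0).map q) ≫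
      η.hom.app Q := by
    have := η.hom.naturality q
    dsimp at this
    rw [this, Iso.inv_hom_id_app_assoc]
  have hmono : Mono ((homologyFunctor A 0).map ((singleFunctor A 0).map i)) := by
    have := (HomologySequence.mono_homologyMap_mor₁_iff _ h (-1) 0 (by omega)).2
      ((isZero_of_isGE ((singleFunctor A 0).obj Q) 0 (-1) (by omega)).eq_of_src _ _)
    exact this
  have hepi : Epi ((homologyFunctor A 0).map ((singleFunctor A 0).map q)) := by
    have := (HomologySequence.epi_homologyMap_mor₂_iff _ h 0 1 (by omega)).2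
      ((isZero_of_isLE ((singleFunctor A 0).obj F) 0 1 (by omega)).eq_of_tgt _ _)
    exact this
  have hex := HomologySequence.exact₂ _ h 0
  have hmi : Mono i := by rw [hi]; infer_instance
  have heq : Epi q := by rw [hq]; infer_instance
  have hexact : (ShortComplex.mk i q w).Exact := by
    refine (ShortComplex.exact_iff_of_iso ?_).1 hex
    refine ShortComplex.isoMk (η.app F) (η.app X) (η.app Q) ?_ ?_
    · exact (η.hom.naturality i).symm
    · exact (η.hom.naturality q).symm
  exact ShortComplex.ShortExact.mk' hexact hmi heq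

end Uniq

section Realize
variable {C : Type u} [Category.{v} C] [Abelian C] [HasExt.{w} C]
open DerivedCategory

/-- Every class in `Ext^1(Q, F)` is the class of a short exact sequence. -/
theorem exists_shortExact_extClass_eq {Q F : C} (x : Ext Q F 1) :
    ∃ (X : C) (i : F ⟶ X) (q : X ⟶ Q) (w : i ≫ q = 0) (h : (ShortComplex.mk i q w).ShortExact),
      h.extClass = x := by
  let _ := HasDerivedCategory.standard C
  let δ : (singleFunctor C 0).obj Q ⟶ ((singleFunctor C 0).obj F)⟦(1 : ℤ)⟧ := x.hom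
  obtain ⟨Y, f, g, hT⟩ := distinguished_cocone_triangle₂ δ
  have h1 : Y.IsLE 0 := TStructure.t.isLE₂ _ hT 0
    (show ((singleFunctor C 0).obj F).IsLE 0 from inferInstance)
    (show ((singleFunctor C 0).obj Q).IsLE 0 from inferInstance)
  have h2 : Y.IsGE 0 := TStructure.t.isGE₂ _ hT 0
    (show ((singleFunctor C 0).obj F).IsGE 0 from inferInstance)
    (show ((singleFunctor C 0).obj Q).IsGE 0 from inferInstance)
  obtain ⟨X, ⟨e⟩⟩ := exists_iso_singleFunctor_obj_of_isGE_of_isLE Y 0
  obtain ⟨i, hi⟩ := (singleFunctor C 0).map_surjective (f ≫ e.hom)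
  obtain ⟨q, hq⟩ := (singleFunctor C 0).map_surjective (e.inv ≫ g)
  have hT' : Triangle.mk ((singleFunctor C 0).map i) ((singleFunctor C 0).map q) δ ∈
      distTriang _ := by
    refine isomorphic_distinguished _ hT _ ?_
    refine Triangle.isoMk _ _ (Iso.refl _) e.symm (Iso.refl _) ?_ ?_ ?_
    · change (singleFunctor C 0).map i ≫ e.inv = 𝟙 _ ≫ f
      rw [hi, Category.assoc, Iso.hom_inv_id, Category.comp_id, Category.id_comp]
    · change (singleFunctor C 0).map q ≫ 𝟙 _ = e.inv ≫ g
      rw [hq, Category.comp_id]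
    · change δ ≫ (𝟙 ((singleFunctor C 0).obj F))⟦(1 : ℤ)⟧' = 𝟙 _ ≫ δ
      rw [CategoryTheory.Functor.map_id, Category.comp_id, Category.id_comp]
  obtain ⟨w, hS⟩ := shortExact_of_distTriang i q δ hT'
  refine ⟨X, i, q, w, hS, ?_⟩
  apply Ext.ext
  rw [ShortComplex.ShortExact.extClass_hom]
  exact mor₃_unique i q _ _ hS.singleTriangle_distinguished hT'

/-- If the class of `0 → F → X → Q → 0` pushed out along `b : F ⟶ R` is the class of
`0 → R → E → Q → 0`, there is a compatible morphism `X ⟶ E`. -/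
theorem exists_map_of_extClass_comp_eq {F X Q R E : C} {i : F ⟶ X} {q : X ⟶ Q} {wX : i ≫ q = 0}
    (hX : (ShortComplex.mk i q wX).ShortExact) {c : R ⟶ E} {d : E ⟶ Q} {wE : c ≫ d = 0}
    (hE : (ShortComplex.mk c d wE).ShortExact) (b : F ⟶ R)
    (h : hX.extClass.comp (Ext.mk₀ b) (add_zero 1) = hE.extClass) :
    ∃ p : X ⟶ E, i ≫ p = b ≫ c ∧ p ≫ d = q := by
  let _ := HasDerivedCategory.standard C
  have h' := congrArg Ext.hom h
  simp only [Ext.comp_hom, Ext.mk₀_hom, ShiftedHom.comp_mk₀] at h'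
  rw [hX.extClass_hom, hE.extClass_hom] at h'
  have hex : ∃ β : (singleFunctor C 0).obj X ⟶ (singleFunctor C 0).obj E,
      (singleFunctor C 0).map i ≫ β = (singleFunctor C 0).map b ≫ (singleFunctor C 0).map c ∧
      (singleFunctor C 0).map q ≫ 𝟙 _ = β ≫ (singleFunctor C 0).map d :=
    complete_distinguished_triangle_morphism₂ _ _ hX.singleTriangle_distinguished
      hE.singleTriangle_distinguished ((singleFunctor C 0).map b) (𝟙 _)
      (h'.trans (Category.id_comp _).symm)
  obtain ⟨β, hβ₁, hβ₂⟩ := hex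
  obtain ⟨p, rfl⟩ := (singleFunctor C 0).map_surjective β
  refine ⟨p, ?_, ?_⟩
  · apply (singleFunctor C 0).map_injective
    rw [Functor.map_comp, Functor.map_comp, hβ₁]
  · apply (singleFunctor C 0).map_injective
    rw [Functor.map_comp, ← hβ₂, Category.comp_id]

end Realize

section Chase
variable {C : Type u} [Category.{v} C] [Abelian C]

/-- Diagram chase: given a morphism `(b, p, 𝟙)` of short exact sequences
`(F → X → Q) ⟶ (R → E → Q)` where `b` is the cokernel of `a : P ⟶ F`, the sequence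
`P → X → E` is short exact. -/
theorem shortExact_of_map {P F R E Q X : C} {a : P ⟶ F} {b : F ⟶ R} {wF : a ≫ b = 0}
    (hF : (ShortComplex.mk a b wF).ShortExact) {c : R ⟶ E} {d : E ⟶ Q} {wE : c ≫ d = 0}
    (hE : (ShortComplex.mk c d wE).ShortExact) {i : F ⟶ X} {q : X ⟶ Q} {wX : i ≫ q = 0}
    (hX : (ShortComplex.mk i q wX).ShortExact) (p : X ⟶ E) (h₁ : i ≫ p = b ≫ c)
    (h₂ : p ≫ d = q) :
    ∃ w : (a ≫ i) ≫ p = 0, (ShortComplex.mk (a ≫ i) p w).ShortExact := by
  have w : (a ≫ i) ≫ p = 0 := by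
    rw [Category.assoc, h₁, reassoc_of% wF, zero_comp]
  refine ⟨w, ?_⟩
  have := hF.mono_f
  have := hF.epi_g
  have := hE.mono_f
  have := hE.epi_g
  have := hX.mono_f
  have := hX.epi_g
  dsimp at *
  have hepi : Epi p := by
    constructor
    intro Z t t' htt
    rw [← sub_eq_zero]
    have h0 : p ≫ (t - t') = 0 := by rw [Preadditive.comp_sub, htt, sub_self]
    have h3 : c ≫ (t - t') = 0 := by
      rw [← cancel_epi b, ← Category.assoc, ← h₁, Category.assoc, h0, comp_zero, comp_zero]
    have h4 : d ≫ hE.exact.desc (t - t') h3 = t - t' := hE.exact.g_desc _ h3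
    have h5 : hE.exact.desc (t - t') h3 = 0 := by
      rw [← cancel_epi q, comp_zero, ← h₂, Category.assoc, h4, h0]
    rw [← h4, h5, comp_zero]
  have hexact : (ShortComplex.mk (a ≫ i) p w).Exact := by
    rw [ShortComplex.exact_iff_exact_up_to_refinements]
    intro Z x hx
    dsimp at x hx ⊢
    have hx1 : x ≫ q = 0 := by rw [← h₂, reassoc_of% hx, zero_comp]
    have e1 : hX.exact.lift x hx1 ≫ i = x := hX.exact.lift_f _ hx1
    have hx2 : hX.exact.lift x hx1 ≫ b = 0 := by
      rw [← cancel_mono c, Category.assoc, ← h₁, reassoc_of% e1, hx, zero_comp]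
    have e2 : hF.exact.lift _ hx2 ≫ a = hX.exact.lift x hx1 := hF.exact.lift_f _ hx2
    refine ⟨Z, 𝟙 Z, inferInstance, hF.exact.lift _ hx2, ?_⟩
    rw [Category.id_comp, reassoc_of% e2, e1]
  exact ShortComplex.ShortExact.mk' hexact inferInstance hepi

end Chase

end Blend
end Groth.Agent.Lib.Helper6
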