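import Groth.Agent.Lib.Helper6.LocDual2

set_option autoImplicit false
set_option linter.unusedSectionVars false
set_option linter.style.haveILetI false
universe u
open CategoryTheory CategoryTheory.Limits DerivedCategory Pretriangulated TensorProduct Pointwise
attribute [local instance] HasDerivedCategory.standard

namespace Groth.Agent.Lib.Helper6
namespace DualShift

variable {A : Type u} [CommRing A]

theorem map_shift_bijective (X Y : Dual.D A) (s : ℤ) :
    Function.Bijective (fun f : X ⟶ Y => (shiftFunctor (Dual.D A) s).map f) :=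
  ⟨fun _ _ h => (shiftFunctor (Dual.D A) s).map_injective h,
    fun g => (shiftFunctor (Dual.D A) s).map_surjective g⟩

theorem isDualizing_shift (ω : Dual.D A) (hω : Dual.IsDualizing A ω) (s : ℤ) :
    Dual.IsDualizing A (ω⟦s⟧) where
  isNoetherianRing := hω.isNoetherianRing
  finite_injective_dimension := by
    obtain ⟨a, b, hab⟩ := hω.finite_injective_dimension
    refine ⟨a - s, b - s, fun M _ _ i hi => ?_⟩
    have := hab M (s + i) (by omega)
    exact (Iso.homCongr (Iso.refl (Dual.inD A M))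
      ((shiftFunctorAdd' (Dual.D A) s i (s + i) rfl).app ω)).symm.subsingleton
  finite_cohomology := by
    intro i
    have h1 : Module.Finite A (Dual.HD A ω (i + s)) := hω.finite_cohomology (i + s)
    let e : Dual.HD A (ω⟦s⟧) i ≃ₗ[A] Dual.HD A ω (i + s) :=
      (((homologyFunctor (ModuleCat.{u} A) 0).shiftIso s i (i + s) (by omega)).app ω).toLinearEquiv
    exact Module.Finite.equiv e.symm
  toEnd_bijective := by
    have h : (fun a : A => a • (𝟙 (ω⟦s⟧))) =
        (fun f : ω ⟶ ω => (shiftFunctor (Dual.D A) s).map f) ∘ (fun a : A => a • 𝟙 ω) := by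
      ext a
      simp only [Function.comp_apply, Functor.map_smul]
      rw [CategoryTheory.Functor.map_id]
    rw [h]
    exact (map_shift_bijective ω ω s).comp hω.toEnd_bijective
  ext_self_subsingleton := by
    intro i hi
    have := hω.ext_self_subsingleton i hi
    have e1 : (ω ⟶ ω⟦i⟧) ≃ (ω⟦s⟧ ⟶ (ω⟦i⟧)⟦s⟧) := Equiv.ofBijective _ (map_shift_bijective ω (ω⟦i⟧) s)
    have e2 : (ω⟦s⟧ ⟶ (ω⟦i⟧)⟦s⟧) ≃ (ω⟦s⟧ ⟶ (ω⟦s⟧)⟦i⟧) :=
      Iso.homCongr (Iso.refl _) (shiftComm ω i s)
    exact (e1.trans e2).symm.subsingleton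

theorem isNormalized_shift [IsLocalRing A] (ω : Dual.D A) (s : ℤ)
    (h : ∀ i : ℤ, i ≠ s → Subsingleton (Dual.inD A (A ⧸ IsLocalRing.maximalIdeal A) ⟶ ω⟦i⟧)) :
    Dual.IsNormalized A (ω⟦s⟧) := by
  intro i hi
  have := h (s + i) (by omega)
  exact (Iso.homCongr (Iso.refl (Dual.inD A (A ⧸ IsLocalRing.maximalIdeal A)))
    ((shiftFunctorAdd' (Dual.D A) s i (s + i) rfl).app ω)).symm.subsingleton


section loc

open LocDual

variable [IsNoetherianRing A]

theorem nonempty_locHomEquiv_shift (ω : Dual.D A) (hω : Dual.IsDualizing A ω)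
    (p : Ideal A) [p.IsPrime] (d : ℤ) (M : Type u) [AddCommGroup M] [Module A M]
    [Module.Finite A M] (t t' : ℤ) (h : t' = t + d) :
    Nonempty (LocalizedModule p.primeCompl (Dual.inD A M ⟶ ω⟦t⟧) ≃
      (Dual.inD (Localization.AtPrime p) (LocalizedModule p.primeCompl M) ⟶
        ((Gat p ω)⟦-d⟧)⟦t'⟧)) := by
  obtain ⟨e⟩ := nonempty_locHomEquiv_localizedModule ω hω p M t
  exact ⟨e.trans (Iso.homCongr (Iso.refl _)
    ((shiftFunctorAdd' (Dual.D (Localization.AtPrime p)) (-d) t' t (by omega)).app (Gat p ω)))⟩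

variable (ω : Dual.D A) (hω : Dual.IsDualizing A ω) (p : Ideal A) [p.IsPrime] (d : ℤ)
  (hd : ∀ i : ℤ, Nontrivial (LocalizedModule p.primeCompl (Dual.inD A (A ⧸ p) ⟶ ω⟦i⟧)) ↔ i = -d)

include hω hd

theorem isDualizing_Gat_shift :
    Dual.IsDualizing (Localization.AtPrime p) ((Gat p ω)⟦-d⟧) :=
  isDualizing_shift _ (isDualizing_Gat p ω hω) (-d)

theorem isNormalized_Gat_shift :
    Dual.IsNormalized (Localization.AtPrime p) ((Gat p ω)⟦-d⟧) := by
  refine isNormalized_shift (Gat p ω) (-d) (fun i hi => ?_)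
  obtain ⟨e⟩ := nonempty_locHomEquiv_residue ω hω p i
  have h1 : ¬ Nontrivial (LocalizedModule p.primeCompl (Dual.inD A (A ⧸ p) ⟶ ω⟦i⟧)) :=
    fun h => hi ((hd i).1 h)
  rw [not_nontrivial_iff_subsingleton] at h1
  exact e.symm.subsingleton

theorem subsingleton_loc_hom_of_gt (M : Type u) [AddCommGroup M] [Module A M]
    [Module.Finite A M] (t : ℤ) (ht : -d < t) :
    Subsingleton (LocalizedModule p.primeCompl (Dual.inD A M ⟶ ω⟦t⟧)) := by
  obtain ⟨e⟩ := nonempty_locHomEquiv_shift ω hω p d M t (t + d) rfl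
  have := InjDimMax.subsingleton_hom_of_isNormalized ((Gat p ω)⟦-d⟧)
    (isDualizing_Gat_shift ω hω p d hd) (isNormalized_Gat_shift ω hω p d hd)
    (Dual.inD (Localization.AtPrime p) (LocalizedModule p.primeCompl M)) (t + d) (by omega)
  exact e.subsingleton

theorem depth_localization_eq_iff (M : Type u) [AddCommGroup M] [Module A M]
    [Module.Finite A M] [Nontrivial (LocalizedModule p.primeCompl M)] (k : ℕ) :
    LocCoh.depth (Localization.AtPrime p) (LocalizedModule p.primeCompl M) = k ↔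
      ((∀ j : ℕ, j < k → Subsingleton (LocalizedModule p.primeCompl
          (Dual.inD A M ⟶ ω⟦-d - (j : ℤ)⟧))) ∧
        Nontrivial (LocalizedModule p.primeCompl (Dual.inD A M ⟶ ω⟦-d - (k : ℤ)⟧))) := by
  have hNB : IsNoetherianRing (Localization.AtPrime p) :=
    IsLocalization.isNoetherianRing p.primeCompl (Localization.AtPrime p) inferInstance
  rw [NormDual.depth_eq_iff ((Gat p ω)⟦-d⟧) (isDualizing_Gat_shift ω hω p d hd)
    (isNormalized_Gat_shift ω hω p d hd) (LocalizedModule p.primeCompl M) k]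
  have he : ∀ j : ℕ, Nonempty (LocalizedModule p.primeCompl (Dual.inD A M ⟶ ω⟦-d - (j : ℤ)⟧) ≃
      (Dual.inD (Localization.AtPrime p) (LocalizedModule p.primeCompl M) ⟶
        ((Gat p ω)⟦-d⟧)⟦-(j : ℤ)⟧)) := fun j =>
    nonempty_locHomEquiv_shift ω hω p d M (-d - (j : ℤ)) (-(j : ℤ)) (by omega)
  constructor
  · rintro ⟨h1, h2⟩
    refine ⟨fun j hj => ?_, ?_⟩
    · obtain ⟨e⟩ := he j
      have := h1 j hj
      exact e.subsingleton
    · obtain ⟨e⟩ := he k
      exact e.nontrivial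
  · rintro ⟨h1, h2⟩
    refine ⟨fun j hj => ?_, ?_⟩
    · obtain ⟨e⟩ := he j
      have := h1 j hj
      exact e.symm.subsingleton
    · obtain ⟨e⟩ := he k
      exact e.symm.nontrivial

end loc

end DualShift
end Groth.Agent.Lib.Helper6
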