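import Groth.Agent.Lib.Helper35.KLHeart
import Groth.Prelude.Def_Wider
import Mathlib

/-! `Hom(A[0], K[j]) ≃ H^j(K)` linearly (helper6). -/

set_option autoImplicit false
set_option linter.unusedSectionVars false
universe u
open CategoryTheory CategoryTheory.Limits DerivedCategory Pretriangulated
attribute [local instance] HasDerivedCategory.standard

namespace Groth.Agent.Lib.Helper6
namespace HomSingle

open Groth.Agent.Lib.Helper35

variable {A : Type u} [CommRing A]

instance : Projective (ModuleCat.of A A) :=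
  (IsProjective.iff_projective (R := A) (P := A)).1 inferInstance

theorem nonempty_homSingleEquiv₀ (K : Dual.D A) :
    Nonempty ((Dual.inD A A ⟶ K) ≃ₗ[A] Dual.HD A K 0) := by
  let K₀ := (TStructure.t.truncGE 0).obj K
  let S := (TStructure.t.truncLT 1).obj K₀
  have hGE'' : TStructure.t.IsGE S 0 := inferInstance
  have hLE'' : TStructure.t.IsLE S 0 := TStructure.t.isLE_truncLT_obj _ 1 0
  obtain ⟨H, ⟨e⟩⟩ := exists_iso_singleFunctor_obj_of_isGE_of_isLE S 0
  have hia := KL.isIso_homology_map_truncGEπ K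
  have hib := KL.isIso_homology_map_truncLTι K₀
  -- the linear maps
  let l1 : (Dual.inD A A ⟶ K) ≃ₗ[A] (Dual.inD A A ⟶ K₀) :=
    LinearEquiv.ofBijective (Linear.rightComp A (Dual.inD A A) ((TStructure.t.truncGEπ 0).app K))
      (KL.postcomp_truncGEπ_bijective (P := ModuleCat.of A A) K)
  let l2 : (Dual.inD A A ⟶ S) ≃ₗ[A] (Dual.inD A A ⟶ K₀) :=
    LinearEquiv.ofBijective (Linear.rightComp A (Dual.inD A A) ((TStructure.t.truncLTι 1).app K₀))
      (KL.postcomp_truncLTι_bijective (Dual.inD A A) K₀)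
  let l3 : (Dual.inD A A ⟶ S) ≃ₗ[A]
      (Dual.inD A A ⟶ (singleFunctor (ModuleCat.{u} A) 0).obj H) :=
    LinearEquiv.ofBijective (Linear.rightComp A (Dual.inD A A) e.hom)
      ⟨fun φ ψ h => by
        have h' : φ ≫ e.hom = ψ ≫ e.hom := h
        exact (cancel_mono e.hom).1 h', fun φ => ⟨φ ≫ e.inv, by
        show (φ ≫ e.inv) ≫ e.hom = φ
        simp⟩⟩
  let l4 : (ModuleCat.of A A ⟶ H) ≃ₗ[A]
      (Dual.inD A A ⟶ (singleFunctor (ModuleCat.{u} A) 0).obj H) :=
    LinearEquiv.ofBijective ((singleFunctor (ModuleCat.{u} A) 0).mapLinearMap A)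
      ((Functor.FullyFaithful.ofFullyFaithful
        (singleFunctor (ModuleCat.{u} A) 0)).map_bijective (ModuleCat.of A A) H)
  let l5 : (ModuleCat.of A A ⟶ H) ≃ₗ[A] H :=
    (ModuleCat.homLinearEquiv (S := A)).trans (LinearMap.ringLmapEquivSelf A A H)
  let i6 : H ≅ (homologyFunctor (ModuleCat.{u} A) 0).obj K :=
    ((singleFunctorCompHomologyFunctorIso (ModuleCat.{u} A) 0).app H).symm ≪≫
    (homologyFunctor (ModuleCat.{u} A) 0).mapIso e.symm ≪≫
    asIso ((homologyFunctor (ModuleCat.{u} A) 0).map ((TStructure.t.truncLTι 1).app K₀)) ≪≫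
    (asIso ((homologyFunctor (ModuleCat.{u} A) 0).map ((TStructure.t.truncGEπ 0).app K))).symm
  exact ⟨l1.trans (l2.symm.trans (l3.trans (l4.symm.trans (l5.trans i6.toLinearEquiv))))⟩

theorem nonempty_homSingleEquiv (K : Dual.D A) (j : ℤ) :
    Nonempty ((Dual.inD A A ⟶ K⟦j⟧) ≃ₗ[A] Dual.HD A K j) := by
  obtain ⟨e⟩ := nonempty_homSingleEquiv₀ (K⟦j⟧)
  exact ⟨e.trans
    (((homologyFunctor (ModuleCat.{u} A) 0).shiftIso j 0 j (add_zero j)).app K).toLinearEquiv⟩

end HomSingle
end Groth.Agent.Lib.Helper6
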