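import Groth.Agent.Lib.Helper6.InjDimMax4
import Groth.Agent.Lib.Helper6.LBCPC
import Groth.Agent.Lib.Helper35.NilTA

/-! Vanishing of `Hom(B ⊗ M, B ⊗ ω [i])` for arbitrary modules `M` (helper6). -/

set_option autoImplicit false
set_option linter.unusedSectionVars false
set_option linter.overlappingInstances false
universe u
open CategoryTheory CategoryTheory.Limits DerivedCategory TensorProduct Pretriangulated
attribute [local instance] HasDerivedCategory.standard

namespace Groth.Agent.Lib.Helper6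
namespace InjDimMax

open Groth.Agent.Lib.Helper35 Groth.Agent.Lib.Helper35.FlatBC HomBC

section adj

variable {A B : Type u} [CommRing A] [CommRing B] (φ : A →+* B) [DRing.HasLBaseChange φ]

/-- adjunction with a shift on the target. -/
noncomputable def adjShiftEquiv (X : Dual.D A) (Y : Dual.D B) (i : ℤ) :
    (X ⟶ ((DRing.restrictD φ).obj Y)⟦i⟧) ≃ ((DRing.LBaseChange φ).obj X ⟶ Y⟦i⟧) :=
  (Iso.homCongr (Iso.refl X) (((DRing.restrictD φ).commShiftIso i).app Y).symm).trans
    ((LBCPC.lbcAdj φ).homEquiv X (Y⟦i⟧)).symm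

end adj

variable {A B : Type u} [CommRing A] [CommRing B] [Algebra A B] [Module.Flat A B]

/-- adjunction for the flat base change functor `G`. -/
noncomputable def adjShiftEquivG (X : Dual.D A) (Y : Dual.D B) (i : ℤ) :
    (X ⟶ ((DRing.restrictD (algebraMap A B)).obj Y)⟦i⟧) ≃ ((G A B).obj X ⟶ Y⟦i⟧) :=
  haveI := TA.hasLBaseChange (algebraMap A B)
  (adjShiftEquiv (algebraMap A B) X Y i).trans
    (Iso.homCongr ((lbcIsoG A B).app X) (Iso.refl (Y⟦i⟧)))

/-- **Lemma R**: if `Hom(A/J, ω[i]) = 0` for all ideals `J` and all `i ∉ [a,b]`, then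
`Hom(B ⊗ M, (B ⊗ ω)[i]) = 0` for ALL `A`-modules `M` and all `i ∉ [a, b]`. -/
theorem subsingleton_G_inD_hom [IsNoetherianRing A] (ω : Dual.D A) (a b : ℤ) [ω.IsGE a]
    (hab : ∀ (J : Ideal A) (i : ℤ), (i < a ∨ b < i) →
      Subsingleton (Dual.inD A (A ⧸ J) ⟶ ω⟦i⟧))
    (M : Type u) [AddCommGroup M] [Module A M] (i : ℤ) (hi : i < a ∨ b < i) :
    Subsingleton (Dual.inD B (B ⊗[A] M) ⟶ ((G A B).obj ω)⟦i⟧) := by
  set L : Dual.D A := (DRing.restrictD (algebraMap A B)).obj ((G A B).obj ω) with hL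
  have h3 : ∀ (J : Ideal A) (i : ℤ), (i < a ∨ b < i) →
      Subsingleton ((singleFunctor (ModuleCat.{u} A) 0).obj (ModuleCat.of A (A ⧸ J)) ⟶ L⟦i⟧) := by
    intro J i hi
    have h1 := subsingleton_G_hom_shift (B := B) (Dual.inD A (A ⧸ J)) ω a i
      (isPC_inD_of_finite _) (hab J i hi)
    exact (adjShiftEquivG (B := B) (Dual.inD A (A ⧸ J)) ((G A B).obj ω) i).subsingleton
  have h32 := (KL.IA_tfae L a b).out 2 1
  have h2 := h32.1 h3
  have h4 : Subsingleton (Dual.inD A M ⟶ L⟦i⟧) := h2 (ModuleCat.of A M) i hi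
  have h5 : Subsingleton ((G A B).obj (Dual.inD A M) ⟶ ((G A B).obj ω)⟦i⟧) :=
    (adjShiftEquivG (B := B) (Dual.inD A M) ((G A B).obj ω) i).symm.subsingleton
  exact (Iso.homCongr (GInDIso (A := A) B M) (Iso.refl (((G A B).obj ω)⟦i⟧))).symm.subsingleton

section ses

variable {R : Type u} [CommRing R]

/-- in a short exact sequence `0 → X₁ → X₂ → X₃ → 0`, if `Hom(X₁, L[i-1]) = 0` and
`Hom(X₂, L[i]) = 0` then `Hom(X₃, L[i]) = 0`. -/
lemma subsingleton_hom_of_shortExact (S : ShortComplex (ModuleCat.{u} R)) (hS : S.ShortExact)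
    (L : Dual.D R) (i j : ℤ) (hij : j + 1 = i)
    (h₁ : Subsingleton ((singleFunctor (ModuleCat.{u} R) 0).obj S.X₁ ⟶ L⟦j⟧))
    (h₂ : Subsingleton ((singleFunctor (ModuleCat.{u} R) 0).obj S.X₂ ⟶ L⟦i⟧)) :
    Subsingleton ((singleFunctor (ModuleCat.{u} R) 0).obj S.X₃ ⟶ L⟦i⟧) := by
  have hT := hS.singleTriangle_distinguished
  have hTr := rot_of_distTriang _ hT
  have hex := HomBC.exact_leftComp₂ R _ hTr (L⟦i⟧)
  have hs : Subsingleton ((singleFunctor (ModuleCat.{u} R) 0).obj S.X₁ ⟶ (L⟦i⟧)⟦(-1 : ℤ)⟧) :=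
    (Iso.homCongr (Iso.refl _)
      ((shiftFunctorAdd' (Dual.D R) i (-1) j (by omega)).app L)).symm.subsingleton
  have hz : ∀ f : hS.singleTriangle.rotate.obj₃ ⟶ L⟦i⟧, f = 0 := fun f =>
    KL.eq_zero_of_subsingleton_hom_shift
      ((singleFunctor (ModuleCat.{u} R) 0).obj S.X₁) (L⟦i⟧) (-1) hs f
  refine ⟨fun f g => ?_⟩
  have hz₃ : ∀ φ : hS.singleTriangle.rotate.obj₂ ⟶ L⟦i⟧, φ = 0 := by
    intro φ
    obtain ⟨ψ, hψ⟩ := (hex φ).1 (h₂.elim _ _)
    rw [← hψ, hz ψ, map_zero]
  exact (hz₃ f).trans (hz₃ g).symm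

end ses

/-- **Ascent of dualizing complexes** along a flat map `A → B` with `B` Noetherian, given a
uniform bound `b'` with `Hom(B/n, (B ⊗ ω)[i]) = 0` for `i > b'` and all maximal ideals `n`. -/
theorem isDualizing_G_of_P [IsNoetherianRing B]
    (ω : Dual.D A) (hω : Dual.IsDualizing A ω) (b' : ℤ)
    (hmax : ∀ n : Ideal B, n.IsMaximal → P ((G A B).obj ω) b' n) :
    Dual.IsDualizing B ((G A B).obj ω) := by
  have := hω.isNoetherianRing
  obtain ⟨a, b, hge, hle, hab⟩ := isDualizing_bounds hω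
  have hpc : ∀ m : ℤ, DRing.IsPseudoCoherent A m ω := isDualizing_isPC hω
  have hGge : ((G A B).obj ω).IsGE a := isGE_G (B := B) ω a
  have hGle : ((G A B).obj ω).IsLE b := isLE_G (B := B) ω b
  have hGle' : ((G A B).obj ω).IsLE (max b b') :=
    TStructure.t.isLE_of_le _ b (max b b') (le_max_left _ _)
  have hfinG : ∀ i : ℤ, Module.Finite B
      ((homologyFunctor (ModuleCat.{u} B) i).obj ((G A B).obj ω)) := fun i => by
    have := hω.finite_cohomology i
    exact finite_homology_G (B := B) ω i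
  refine
    { isNoetherianRing := inferInstance
      finite_injective_dimension := ?_
      finite_cohomology := hfinG
      toEnd_bijective := ?_
      ext_self_subsingleton := fun i hi =>
        subsingleton_G_hom_shift (B := B) ω ω a i hpc (hω.ext_self_subsingleton i hi) }
  · refine ⟨a, max b b', ?_⟩
    have hPall : ∀ J : Ideal B, P ((G A B).obj ω) b' J := by
      refine P_all ((G A B).obj ω) b'
        (fun J i => finite_hom_inD_of_bounded (B ⧸ J) ((G A B).obj ω) a b hfinG i) hmax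
    have h3 : ∀ (J : Ideal B) (i : ℤ), (i < a ∨ max b b' < i) →
        Subsingleton ((singleFunctor (ModuleCat.{u} B) 0).obj (ModuleCat.of B (B ⧸ J)) ⟶
          ((G A B).obj ω)⟦i⟧) := by
      intro J i hi
      rcases hi with hi | hi
      · have h1 : TStructure.t.IsGE (((G A B).obj ω)⟦i⟧) (a - i) :=
          TStructure.t.isGE_shift _ a i (a - i) (by omega)
        refine ⟨fun f g => ?_⟩
        have hz : ∀ φ : (singleFunctor (ModuleCat.{u} B) 0).obj (ModuleCat.of B (B ⧸ J)) ⟶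
            ((G A B).obj ω)⟦i⟧, φ = 0 := fun φ =>
          TStructure.t.zero φ 0 (a - i) (by omega)
        rw [hz f, hz g]
      · exact hPall J i (lt_of_le_of_lt (le_max_right _ _) hi)
    have h32 := (KL.IA_tfae ((G A B).obj ω) a (max b b')).out 2 1
    have h2 := h32.1 h3
    intro M _ _ i hi
    exact h2 (ModuleCat.of B M) i hi
  · have h1 := bijective_Phi_of_isPC (B := B) ω ω a (hpc _)
    have hu : Function.Bijective (LinearMap.toSpanSingleton A (ω ⟶ ω) (𝟙 ω)) := by
      have h0 : ⇑(LinearMap.toSpanSingleton A (ω ⟶ ω) (𝟙 ω)) = fun c : A => c • 𝟙 ω := by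
        funext c
        rfl
      rw [h0]
      exact hω.toEnd_bijective
    have h2 : Function.Bijective (fun x : B ⊗[A] A =>
        Phi A B ω ω (LinearMap.lTensor B (LinearMap.toSpanSingleton A (ω ⟶ ω) (𝟙 ω)) x)) :=
      h1.comp (lTensor_bijective' _ hu)
    have h3 : (fun x : B ⊗[A] A =>
        Phi A B ω ω (LinearMap.lTensor B (LinearMap.toSpanSingleton A (ω ⟶ ω) (𝟙 ω)) x)) =
        (fun c : B => c • 𝟙 ((G A B).obj ω)) ∘ (TensorProduct.rid A B) := by
      funext x
      exact Phi_comp_toEnd ω x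
    rw [h3] at h2
    exact (Function.Bijective.of_comp_iff _ (TensorProduct.rid A B).bijective).1 h2

end InjDimMax
end Groth.Agent.Lib.Helper6
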