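import Groth.Agent.Lib.Helper6.InjDimMax8
import Groth.Agent.Lib.Helper6.InjDimMax5
import Groth.Agent.Lib.Helper6.HomSingle
import Groth.Agent.Lib.Helper29.DepthRees
import Groth.Agent.Lib.Helper29.Depth

/-! Depth via a normalized dualizing complex (helper6). -/

set_option autoImplicit false
set_option linter.unusedSectionVars false
set_option linter.overlappingInstances false
universe u
open CategoryTheory CategoryTheory.Limits DerivedCategory TensorProduct Pretriangulated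
attribute [local instance] HasDerivedCategory.standard

namespace Groth.Agent.Lib.Helper6
namespace NormDual

open Groth.Agent.Lib.Helper35 HomBC InjDimMax

variable {A : Type u} [CommRing A]

/-- extension along the monomorphism of a short exact sequence. -/
lemma exists_extension_of_shortExact (S : ShortComplex (ModuleCat.{u} A)) (hS : S.ShortExact)
    (L : Dual.D A) (i : ℤ)
    (h₃ : Subsingleton ((singleFunctor (ModuleCat.{u} A) 0).obj S.X₃ ⟶ L⟦i + 1⟧))
    (φ : (singleFunctor (ModuleCat.{u} A) 0).obj S.X₁ ⟶ L⟦i⟧) :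
    ∃ ψ : (singleFunctor (ModuleCat.{u} A) 0).obj S.X₂ ⟶ L⟦i⟧,
      (singleFunctor (ModuleCat.{u} A) 0).map S.f ≫ ψ = φ := by
  have hT := hS.singleTriangle_distinguished
  have hTi := inv_rot_of_distTriang _ hT
  have hex := HomBC.exact_leftComp₂ A _ hTi (L⟦i⟧)
  have hs : Subsingleton ((singleFunctor (ModuleCat.{u} A) 0).obj S.X₃ ⟶ (L⟦i⟧)⟦(1 : ℤ)⟧) :=
    (Iso.homCongr (Iso.refl _)
      ((shiftFunctorAdd' (Dual.D A) i 1 (i + 1) rfl).app L)).symm.subsingleton
  have hz : ∀ f : hS.singleTriangle.invRotate.obj₁ ⟶ L⟦i⟧, f = 0 := fun f =>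
    KL.eq_zero_of_subsingleton_hom_shift _ (L⟦i⟧) 1 hs f
  obtain ⟨ψ, hψ⟩ := (hex φ).1 (hz _)
  exact ⟨ψ, hψ⟩

/-- multiplication by a regular element is surjective on `Hom(M, L[i])` if
`Hom(M/xM, L[i+1]) = 0`. -/
lemma smul_surjective_of_regular (M : Type u) [AddCommGroup M] [Module A M] (x : A)
    (hx : IsSMulRegular M x) (L : Dual.D A) (i : ℤ)
    (h : Subsingleton (Dual.inD A (QuotSMulTop x M) ⟶ L⟦i + 1⟧))
    (φ : Dual.inD A M ⟶ L⟦i⟧) : ∃ ψ : Dual.inD A M ⟶ L⟦i⟧, x • ψ = φ := by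
  have hS := IsSMulRegular.smulShortComplex_shortExact (M := ModuleCat.of A M) hx
  obtain ⟨ψ, hψ⟩ : ∃ ψ : Dual.inD A M ⟶ L⟦i⟧,
      (singleFunctor (ModuleCat.{u} A) 0).map (x • 𝟙 (ModuleCat.of A M)) ≫ ψ = φ :=
    exists_extension_of_shortExact _ hS L i h φ
  refine ⟨ψ, ?_⟩
  rw [← hψ, Functor.map_smul, CategoryTheory.Functor.map_id, Linear.smul_comp, Category.id_comp]

/-- Nakayama: `Hom(M, L[i]) = 0` if it is finite and some `x` in the Jacobson radical acts
surjectively. -/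
lemma subsingleton_of_smul_surjective {X Y : Dual.D A} (hfin : Module.Finite A (X ⟶ Y)) (x : A)
    (hx : x ∈ (⊥ : Ideal A).jacobson) (h : ∀ φ : X ⟶ Y, ∃ ψ : X ⟶ Y, x • ψ = φ) :
    Subsingleton (X ⟶ Y) := by
  have hle : (⊤ : Submodule A (X ⟶ Y)) ≤ Ideal.span {x} • (⊤ : Submodule A (X ⟶ Y)) := by
    intro φ _
    obtain ⟨ψ, rfl⟩ := h φ
    exact Submodule.smul_mem_smul (Ideal.mem_span_singleton_self x) Submodule.mem_top
  have h1 := Submodule.eq_bot_of_le_smul_of_le_jacobson_bot (Ideal.span {x}) ⊤ hfin.1 hle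
    ((Ideal.span_singleton_le_iff_mem _).2 hx)
  refine ⟨fun f g => ?_⟩
  have hz : ∀ φ : X ⟶ Y, φ = 0 := fun φ => by
    have : φ ∈ (⊤ : Submodule A (X ⟶ Y)) := Submodule.mem_top
    rw [h1] at this
    exact this
  rw [hz f, hz g]

section normalized

variable [IsNoetherianRing A] [IsLocalRing A] (ω : Dual.D A) (hω : Dual.IsDualizing A ω)
  (hn : Dual.IsNormalized A ω)

include hω hn

/-- `Hom(κ, ω) ≠ 0` for a normalized dualizing complex. -/
lemma nontrivial_hom_residueField :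
    Nontrivial (Dual.inD A (IsLocalRing.ResidueField A) ⟶ ω⟦(0 : ℤ)⟧) := by
  by_contra hcon
  rw [not_nontrivial_iff_subsingleton] at hcon
  obtain ⟨a, b, hge, hle, hab⟩ := isDualizing_bounds hω
  have hall : ∀ i : ℤ, Subsingleton (Dual.inD A (IsLocalRing.ResidueField A) ⟶ ω⟦i⟧) := by
    intro i
    by_cases hi : i = 0
    · subst hi
      exact hcon
    · exact hn i hi
  have hJ : ∀ (J : Ideal A) (i : ℤ), (i < 1 ∨ 0 < i) →
      Subsingleton ((singleFunctor (ModuleCat.{u} A) 0).obj (ModuleCat.of A (A ⧸ J)) ⟶ ω⟦i⟧) := by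
    intro J i _
    refine P_all ω (i - 1)
      (fun J i => finite_hom_inD_of_bounded (A ⧸ J) ω a b hω.finite_cohomology i) ?_ J i (by omega)
    intro m hm k _
    have hm' : m = IsLocalRing.maximalIdeal A := IsLocalRing.eq_maximalIdeal hm
    subst hm'
    exact hall k
  have h31 := (KL.IA_tfae ω 1 0).out 2 0
  have hIA := h31.1 hJ
  have h1 := hIA.isGE
  have h2 := hIA.isLE
  have hz : IsZero ω := TStructure.t.isZero ω 0 1 (by omega)
  have h3 : (1 : A) • 𝟙 ω = (0 : A) • 𝟙 ω := hz.eq_of_src _ _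
  exact one_ne_zero (hω.toEnd_bijective.1 h3)

/-- the key induction. -/
theorem depth_claim (n : ℕ) : ∀ (M : Type u) [AddCommGroup M] [Module A M] [Module.Finite A M]
    [Nontrivial M], LocCoh.depth A M = n →
    (∀ j : ℤ, -(n : ℤ) < j → Subsingleton (Dual.inD A M ⟶ ω⟦j⟧)) ∧
      Nontrivial (Dual.inD A M ⟶ ω⟦-(n : ℤ)⟧) := by
  obtain ⟨a, b, hge, hle, hab⟩ := isDualizing_bounds hω
  induction n with
  | zero =>
    intro M _ _ _ _ hd
    refine ⟨fun j hj => subsingleton_hom_of_isNormalized ω hω hn (Dual.inD A M) j (by simpa using hj),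
      ?_⟩
    have h0 : -((0 : ℕ) : ℤ) = 0 := by simp
    rw [h0]
    have hass : IsLocalRing.maximalIdeal A ∈ associatedPrimes A M :=
      (Lib.Helper29.depth_eq_zero_iff A M).1 (by simpa using hd)
    obtain ⟨-, f, hf⟩ := (isAssociatedPrime_iff_exists_injective_linearMap _ M).1 hass
    let S : ShortComplex (ModuleCat.{u} A) :=
      ModuleCat.shortComplexOfCompEqZero f (LinearMap.range f).mkQ
        f.exact_map_mkQ_range.linearMap_comp_eq_zero
    have hS : S.ShortExact := ModuleCat.shortComplex_shortExact S f.exact_map_mkQ_range hf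
      (Submodule.mkQ_surjective _)
    obtain ⟨φ₀, φ₁, hne⟩ := nontrivial_hom_residueField ω hω hn
    have h₃ : Subsingleton ((singleFunctor (ModuleCat.{u} A) 0).obj S.X₃ ⟶ ω⟦(0 : ℤ) + 1⟧) :=
      subsingleton_hom_of_isNormalized ω hω hn _ _ (by omega)
    obtain ⟨ψ₀, hψ₀⟩ := exists_extension_of_shortExact S hS ω 0 h₃ φ₀
    obtain ⟨ψ₁, hψ₁⟩ := exists_extension_of_shortExact S hS ω 0 h₃ φ₁
    refine ⟨ψ₀, ψ₁, fun h => hne ?_⟩
    rw [← hψ₀, ← hψ₁, h]
  | succ n ih =>
    intro M _ _ _ _ hd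
    have hle' : ((n + 1 : ℕ) : ℕ∞) ≤ LocCoh.depth A M := by rw [hd]
    obtain ⟨rs, hlen, hmem, hreg⟩ := (Lib.Helper29.le_depth_iff A M (n + 1)).1 hle'
    obtain ⟨x, rs', rfl⟩ : ∃ x rs', rs = x :: rs' := by
      cases rs with
      | nil => simp at hlen
      | cons x rs' => exact ⟨x, rs', rfl⟩
    have hxm : x ∈ IsLocalRing.maximalIdeal A := hmem x (by simp)
    have hx : IsSMulRegular M x :=
      ((RingTheory.Sequence.isWeaklyRegular_cons_iff M x rs').1 hreg.toIsWeaklyRegular).1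
    have hd' : LocCoh.depth A (QuotSMulTop x M) = n := by
      have h1 := Lib.Helper29.depth_quotSMulTop_add_one A M hxm hx
      rw [hd] at h1
      have h2 : LocCoh.depth A (QuotSMulTop x M) + 1 = (n : ℕ∞) + 1 := by
        rw [h1]; push_cast; rfl
      exact (ENat.add_left_injective_of_ne_top ENat.one_ne_top) h2
    have hnt : Nontrivial (QuotSMulTop x M) := by
      by_contra hcon
      rw [not_nontrivial_iff_subsingleton] at hcon
      rw [Lib.Helper29.depth_eq_top_of_subsingleton] at hd'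
      exact ENat.top_ne_natCast n hd'
    obtain ⟨ih1, ih2⟩ := ih (QuotSMulTop x M) hd'
    have hxj : x ∈ (⊥ : Ideal A).jacobson := IsLocalRing.maximalIdeal_le_jacobson _ hxm
    have hvan : ∀ j : ℤ, -((n + 1 : ℕ) : ℤ) < j → Subsingleton (Dual.inD A M ⟶ ω⟦j⟧) := by
      intro j hj
      refine subsingleton_of_smul_surjective
        (finite_hom_inD_of_bounded M ω a b hω.finite_cohomology j) x hxj
        (smul_surjective_of_regular M x hx ω j (ih1 (j + 1) (by push_cast at hj; omega)))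
    refine ⟨hvan, ?_⟩
    by_contra hcon
    rw [not_nontrivial_iff_subsingleton] at hcon
    have hS := IsSMulRegular.smulShortComplex_shortExact (M := ModuleCat.of A M) hx
    have h2 : Subsingleton (Dual.inD A M ⟶ ω⟦-(n : ℤ)⟧) := hvan _ (by push_cast; omega)
    have h3 : Subsingleton (Dual.inD A (QuotSMulTop x M) ⟶ ω⟦-(n : ℤ)⟧) :=
      subsingleton_hom_of_shortExact _ hS ω (-(n : ℤ)) (-((n + 1 : ℕ) : ℤ))
        (by push_cast; omega) hcon h2
    exact not_subsingleton _ h3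

/-- **Depth via a normalized dualizing complex**. -/
theorem depth_eq_iff (M : Type u) [AddCommGroup M] [Module A M] [Module.Finite A M]
    [Nontrivial M] (n : ℕ) :
    LocCoh.depth A M = n ↔
      ((∀ δ : ℕ, δ < n → Subsingleton (Dual.inD A M ⟶ ω⟦(-(δ : ℤ))⟧)) ∧
        Nontrivial (Dual.inD A M ⟶ ω⟦(-(n : ℤ))⟧)) := by
  constructor
  · intro hd
    obtain ⟨h1, h2⟩ := depth_claim ω hω hn n M hd
    exact ⟨fun δ hδ => h1 _ (by omega), h2⟩
  · rintro ⟨h1, h2⟩
    obtain ⟨n', hn'⟩ := ENat.ne_top_iff_exists.1 (Lib.Helper29.depth_ne_top A M)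
    obtain ⟨c1, c2⟩ := depth_claim ω hω hn n' M hn'.symm
    rcases lt_trichotomy n' n with hlt | heq | hgt
    · exact absurd (h1 n' hlt) (not_subsingleton _)
    · rw [← hn', heq]
    · have := c1 (-(n : ℤ)) (by omega)
      exact absurd this (not_subsingleton _)

/-- the depth of the ring via the cohomology of a normalized dualizing complex. -/
theorem depth_self_eq_iff (n : ℕ) :
    LocCoh.depth A A = n ↔
      ((∀ δ : ℕ, δ < n → Subsingleton (Dual.HD A ω (-(δ : ℤ)))) ∧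
        Nontrivial (Dual.HD A ω (-(n : ℤ)))) := by
  rw [depth_eq_iff ω hω hn A n]
  have he : ∀ j : ℤ, Nonempty ((Dual.inD A A ⟶ ω⟦j⟧) ≃ Dual.HD A ω j) := fun j => by
    obtain ⟨e⟩ := HomSingle.nonempty_homSingleEquiv ω j
    exact ⟨e.toEquiv⟩
  constructor
  · rintro ⟨h1, h2⟩
    refine ⟨fun δ hδ => ?_, ?_⟩
    · obtain ⟨e⟩ := he (-(δ : ℤ))
      have := h1 δ hδ
      exact e.symm.subsingleton
    · obtain ⟨e⟩ := he (-(n : ℤ))
      exact e.symm.nontrivial
  · rintro ⟨h1, h2⟩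
    refine ⟨fun δ hδ => ?_, ?_⟩
    · obtain ⟨e⟩ := he (-(δ : ℤ))
      have := h1 δ hδ
      exact e.subsingleton
    · obtain ⟨e⟩ := he (-(n : ℤ))
      exact e.nontrivial

end normalized

end NormDual
end Groth.Agent.Lib.Helper6
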