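import Groth.Agent.Lib.Helper6.HomBC2
import Groth.Agent.Lib.Helper6.HomSingle

/-! Hom-vanishing for finite length modules from the residue fields (helper6). -/

set_option autoImplicit false
set_option linter.unusedSectionVars false
universe u
open CategoryTheory CategoryTheory.Limits DerivedCategory Pretriangulated
attribute [local instance] HasDerivedCategory.standard

namespace Groth.Agent.Lib.Helper6
namespace FinLenDual

variable {B : Type u} [CommRing B]

/-- the short exact sequence `0 → N → M → M/N → 0`. -/
lemma shortExact_quot (M : Type u) [AddCommGroup M] [Module B M] (N : Submodule B M) :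
    ∃ h : ModuleCat.ofHom N.subtype ≫ ModuleCat.ofHom N.mkQ = 0,
      (ShortComplex.mk (ModuleCat.ofHom N.subtype) (ModuleCat.ofHom N.mkQ) h).ShortExact := by
  have h : ModuleCat.ofHom N.subtype ≫ ModuleCat.ofHom N.mkQ = 0 := by
    ext x
    simp
  refine ⟨h, ?_⟩
  have : Mono (ModuleCat.ofHom N.subtype) := by
    rw [ModuleCat.mono_iff_injective]
    exact Subtype.val_injective
  have : Epi (ModuleCat.ofHom N.mkQ) := by
    rw [ModuleCat.epi_iff_surjective]
    exact N.mkQ_surjective
  refine ShortComplex.ShortExact.mk' ?_ inferInstance inferInstance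
  rw [ShortComplex.moduleCat_exact_iff]
  intro x hx
  have hx' : N.mkQ x = 0 := hx
  rw [Submodule.mkQ_apply, Submodule.Quotient.mk_eq_zero] at hx'
  exact ⟨⟨x, hx'⟩, rfl⟩

/-- Lemma FL: Hom-vanishing for finite length modules can be tested on residue fields. -/
theorem subsingleton_hom_of_isFiniteLength (L : Dual.D B)
    (hL : ∀ n : Ideal B, n.IsMaximal → Subsingleton (Dual.inD B (B ⧸ n) ⟶ L))
    (N : Type u) [AddCommGroup N] [Module B N] (hN : IsFiniteLength B N) :
    Subsingleton (Dual.inD B N ⟶ L) := by
  induction hN with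
  | of_subsingleton =>
    rename_i M _ _ _
    have hz : IsZero (Dual.inD B M) :=
      (DerivedCategory.singleFunctor (ModuleCat.{u} B) 0).map_isZero
        (ModuleCat.isZero_of_subsingleton _)
    exact ⟨fun f g => hz.eq_of_src f g⟩
  | of_simple_quotient _ ih =>
    rename_i M _ _ N' hsimple _
    obtain ⟨n, hn, ⟨e⟩⟩ := isSimpleModule_iff_quot_maximal.1 hsimple
    have h3 : Subsingleton (Dual.inD B (M ⧸ N') ⟶ L) := by
      have := hL n hn
      exact (Iso.homCongr ((DerivedCategory.singleFunctor (ModuleCat.{u} B) 0).mapIso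
        e.toModuleIso) (Iso.refl L)).subsingleton
    obtain ⟨h, hS⟩ := shortExact_quot M N'
    have hT := hS.singleTriangle_distinguished
    refine ⟨fun f g => ?_⟩
    have hz : ∀ f : Dual.inD B M ⟶ L, f = 0 := by
      intro f
      obtain ⟨g, hg⟩ := Triangle.yoneda_exact₂ _ hT f (ih.elim _ _)
      have hg0 : g = 0 := h3.elim _ _
      rw [hg, hg0]
      exact comp_zero
    rw [hz f, hz g]

end FinLenDual
end Groth.Agent.Lib.Helper6
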