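import Mathlib

/-! Artin–Rees for cocycles of a three term complex of finite free modules (helper6). -/

set_option autoImplicit false
universe u

namespace Groth.Agent.Lib.Helper6
namespace ARExt

variable {A : Type u} [CommRing A] [IsNoetherianRing A] (I : Ideal A)
variable {X Y Z : Type u} [AddCommGroup X] [Module A X] [AddCommGroup Y] [Module A Y]
  [AddCommGroup Z] [Module A Z] [Module.Finite A Y] [Module.Free A Y]
  (u : X →ₗ[A] Y) (v : Y →ₗ[A] Z)
variable (M : Type u) [AddCommGroup M] [Module A M]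

/-- cocycles -/
def Zs : Submodule A (Y →ₗ[A] M) := LinearMap.ker (LinearMap.lcomp A M u)

/-- coboundaries -/
def Bs : Submodule A (Y →ₗ[A] M) := LinearMap.range (LinearMap.lcomp A M v)

variable {M}

lemma mem_Zs (z : Y →ₗ[A] M) : z ∈ Zs u M ↔ z ∘ₗ u = 0 := by
  rw [Zs, LinearMap.mem_ker, LinearMap.lcomp_apply']

lemma mem_Bs (z : Y →ₗ[A] M) : z ∈ Bs v M ↔ ∃ g : Z →ₗ[A] M, g ∘ₗ v = z := by
  rw [Bs, LinearMap.mem_range]
  rfl

omit [IsNoetherianRing A] in
/-- a map with values in `I^n M` lies in `I^n Hom(Y, M)`. -/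
lemma mem_smul_top_of_forall (n : ℕ) (z : Y →ₗ[A] M)
    (hz : ∀ y, z y ∈ I ^ n • (⊤ : Submodule A M)) :
    z ∈ I ^ n • (⊤ : Submodule A (Y →ₗ[A] M)) := by
  classical
  let b := Module.Free.chooseBasis A Y
  have : Fintype (Module.Free.ChooseBasisIndex A Y) := inferInstance
  have hsum : z = ∑ j, (b.coord j).smulRight (z (b j)) := by
    apply b.ext
    intro k
    simp only [LinearMap.sum_apply, LinearMap.smulRight_apply, Module.Basis.coord_apply,
      Module.Basis.repr_self]
    rw [Finset.sum_eq_single k]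
    · simp
    · intro j _ hj
      simp [hj.symm]
    · intro hk
      exact absurd (Finset.mem_univ k) hk
  rw [hsum]
  refine Submodule.sum_mem _ (fun j _ => ?_)
  let T : M →ₗ[A] (Y →ₗ[A] M) :=
    { toFun := fun m => (b.coord j).smulRight m
      map_add' := fun m m' => by
        ext y
        simp only [LinearMap.smulRight_apply, LinearMap.add_apply, smul_add]
      map_smul' := fun a m => by
        ext y
        simp only [LinearMap.smulRight_apply, LinearMap.smul_apply, RingHom.id_apply]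
        exact smul_comm _ _ _ }
  have h1 : T (z (b j)) ∈ (I ^ n • (⊤ : Submodule A M)).map T := Submodule.mem_map_of_mem (hz _)
  rw [Submodule.map_smul''] at h1
  exact Submodule.smul_mono le_rfl le_top h1

theorem claimA [Module.Finite A M]
    (hT : ∀ z ∈ Zs u M, ∃ n : ℕ, ∀ x ∈ I ^ n, x • z ∈ Bs v M) :
    ∃ k : ℕ, ∀ z ∈ Zs u M, (∀ y, z y ∈ I ^ k • (⊤ : Submodule A M)) → z ∈ Bs v M := by
  classical
  have hfin : Module.Finite A (Y →ₗ[A] M) := Module.Finite.linearMap A A Y M
  have hnoeth : IsNoetherian A (Y →ₗ[A] M) := isNoetherian_of_isNoetherianRing_of_finite A _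
  obtain ⟨S, hS⟩ : (Zs u M).FG := IsNoetherian.noetherian _
  choose! n hn using hT
  let t := S.sup n
  have ht : ∀ x ∈ I ^ t, ∀ z ∈ Zs u M, x • z ∈ Bs v M := by
    intro x hx z hz
    rw [← hS] at hz
    induction hz using Submodule.span_induction with
    | mem s hs =>
      have hsZ : s ∈ Zs u M := hS ▸ Submodule.subset_span hs
      exact hn s hsZ x (Ideal.pow_le_pow_right (Finset.le_sup hs) hx)
    | zero => simp
    | add a b _ _ ha hb => rw [smul_add]; exact Submodule.add_mem _ ha hb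
    | smul a b _ hb => rw [smul_comm]; exact Submodule.smul_mem _ a hb
  obtain ⟨k, hk⟩ := Ideal.exists_pow_inf_eq_pow_smul I (Zs u M)
  refine ⟨k + t, fun z hz hzI => ?_⟩
  have h1 : z ∈ I ^ (k + t) • (⊤ : Submodule A (Y →ₗ[A] M)) ⊓ Zs u M :=
    ⟨mem_smul_top_of_forall I _ z hzI, hz⟩
  rw [hk (k + t) (by omega)] at h1
  have h2 : I ^ (k + t - k) • (I ^ k • ⊤ ⊓ Zs u M) ≤ Bs v M := by
    rw [Submodule.smul_le]
    intro r hr w hw
    have : k + t - k = t := by omega
    rw [this] at hr
    exact ht r hr w hw.2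
  exact h2 h1

omit [IsNoetherianRing A] in
lemma mem_smul_top_of_coe_mem (N : Submodule A M) (k : ℕ) (y : N)
    (hy : (y : M) ∈ I ^ k • N) : y ∈ I ^ k • (⊤ : Submodule A N) := by
  have h1 : (I ^ k • (⊤ : Submodule A N)).map N.subtype = I ^ k • N := by
    rw [Submodule.map_smul'', Submodule.map_top, Submodule.range_subtype]
  rw [← h1] at hy
  obtain ⟨y', hy', he⟩ := hy
  have h2 : y' = y := Subtype.ext he
  exact h2 ▸ hy'

omit [IsNoetherianRing A] in
lemma pow_add_smul_top (n k : ℕ) :
    I ^ (n + k) • (⊤ : Submodule A M) = I ^ k • (I ^ n • (⊤ : Submodule A M)) := by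
  rw [add_comm, pow_add, Submodule.mul_smul]

end ARExt
end Groth.Agent.Lib.Helper6
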