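import Mathlib
import Groth.Prelude.Def_DRing2

/-! Morphisms `Q F ⟶ N[i]` in `D(A)` from a K-projective complex via cocycles (helper6). -/

set_option autoImplicit false
universe u

open CategoryTheory Limits DerivedCategory CochainComplex HomComplex

namespace Groth.Agent.Lib.Helper6
namespace ExtCocycle

attribute [local instance] HasDerivedCategory.standard

variable {A : Type u} [CommRing A]

section general

variable (F L : CochainComplex (ModuleCat.{u} A) ℤ) (n : ℤ)

/-- the morphism in the derived category attached to a cocycle. -/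
noncomputable def ext1 (c : Cocycle F L n) : Q.obj F ⟶ (Q.obj L)⟦n⟧ :=
  Q.map (Cocycle.equivHomShift.symm c) ≫ (Q.commShiftIso n).hom.app L

variable {F L n}

lemma exists_map_eq [F.IsKProjective] {Y : CochainComplex (ModuleCat.{u} A) ℤ}
    (e : Q.obj F ⟶ Q.obj Y) : ∃ φ : F ⟶ Y, Q.map φ = e := by
  obtain ⟨g, hg⟩ := (IsKProjective.Qh_map_bijective F
    ((HomotopyCategory.quotient _ _).obj Y)).surjective
    ((quotientCompQhIso _).hom.app F ≫ e ≫ (quotientCompQhIso _).inv.app Y)
  obtain ⟨φ, rfl⟩ := (HomotopyCategory.quotient _ _).map_surjective g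
  refine ⟨φ, ?_⟩
  have := quotientCompQhIso_hom_naturality φ
  rw [hg] at this
  simp only [Category.assoc, Iso.inv_hom_id_app, Category.comp_id] at this
  exact ((cancel_epi ((quotientCompQhIso (ModuleCat.{u} A)).hom.app F)).1 this).symm

lemma map_eq_zero_iff [F.IsKProjective] {Y : CochainComplex (ModuleCat.{u} A) ℤ}
    (φ : F ⟶ Y) : Q.map φ = 0 ↔ (HomotopyCategory.quotient _ _).map φ = 0 := by
  constructor
  · intro h
    apply (IsKProjective.Qh_map_bijective F ((HomotopyCategory.quotient _ _).obj Y)).injective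
    have := quotientCompQhIso_hom_naturality φ
    rw [h, Limits.comp_zero] at this
    rw [Functor.map_zero]
    exact (cancel_mono ((quotientCompQhIso (ModuleCat.{u} A)).hom.app Y)).1 (by
      rw [this, Limits.zero_comp])
  · intro h
    have := quotientCompQhIso_hom_naturality φ
    rw [h, Functor.map_zero, Limits.zero_comp] at this
    exact (cancel_epi ((quotientCompQhIso (ModuleCat.{u} A)).hom.app F)).1 (by
      rw [← this, Limits.comp_zero])

lemma ext1_surjective [F.IsKProjective] (e : Q.obj F ⟶ (Q.obj L)⟦n⟧) :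
    ∃ c : Cocycle F L n, ext1 F L n c = e := by
  obtain ⟨φ, hφ⟩ := exists_map_eq (e ≫ (Q.commShiftIso n).inv.app L)
  refine ⟨Cocycle.equivHomShift φ, ?_⟩
  unfold ext1
  rw [AddEquiv.symm_apply_apply, hφ, Category.assoc, Iso.inv_hom_id_app]
  exact Category.comp_id e

lemma ext1_eq_zero_iff [F.IsKProjective] (c : Cocycle F L n) :
    ext1 F L n c = 0 ↔ c ∈ coboundaries F L n := by
  rw [← CohomologyClass.toHom_mk_eq_zero_iff, CohomologyClass.toHom_mk, ← map_eq_zero_iff]
  unfold ext1
  constructor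
  · intro h
    have := congrArg (fun t => t ≫ (Q.commShiftIso n).inv.app L) h
    simpa using this
  · intro h
    rw [h, Limits.zero_comp]

lemma ext1_postcomp (c : Cocycle F L n) {L' : CochainComplex (ModuleCat.{u} A) ℤ} (g : L ⟶ L') :
    ext1 F L' n (c.postcomp g) = ext1 F L n c ≫ (Q.map g)⟦n⟧' := by
  unfold ext1
  rw [Cocycle.equivHomShift_symm_postcomp, CategoryTheory.Functor.map_comp, Category.assoc, Category.assoc]
  congr 1
  exact (Q.commShiftIso n).hom.naturality g

end general

section single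

variable (F : CochainComplex (ModuleCat.{u} A) ℤ) {p i p' p'' : ℤ} (h : p + i = 0)
  (hp' : p' + 1 = p) (hp'' : p + 1 = p'')

/-- the class in `Ext^i(F, N)` of a cocycle `z : F^p → N`, `p = -i`. -/
noncomputable def extOf {N : ModuleCat.{u} A} (z : F.X p ⟶ N) (hz : F.d p' p ≫ z = 0) :
    Q.obj F ⟶ ((DerivedCategory.singleFunctor (ModuleCat.{u} A) 0).obj N)⟦i⟧ :=
  ext1 F _ i (Cocycle.toSingleMk z h p' hp' hz) ≫
    ((singleFunctorIsoCompQ (ModuleCat.{u} A) 0).inv.app N)⟦i⟧'

variable {F}

include hp'' in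
lemma extOf_eq_zero_iff [F.IsKProjective] {N : ModuleCat.{u} A} (z : F.X p ⟶ N)
    (hz : F.d p' p ≫ z = 0) :
    extOf F h hp' z hz = 0 ↔ ∃ g : F.X p'' ⟶ N, F.d p p'' ≫ g = z := by
  rw [← Cocycle.toSingleMk_mem_coboundaries_iff z h p' hp' hz p'' hp'', ← ext1_eq_zero_iff]
  unfold extOf
  constructor
  · intro h0
    exact Limits.zero_of_comp_mono _ h0
  · intro h0
    rw [h0, Limits.zero_comp]

lemma extOf_surjective [F.IsKProjective] {N : ModuleCat.{u} A}
    (e : Q.obj F ⟶ ((DerivedCategory.singleFunctor (ModuleCat.{u} A) 0).obj N)⟦i⟧) :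
    ∃ (z : F.X p ⟶ N) (hz : F.d p' p ≫ z = 0), extOf F h hp' z hz = e := by
  obtain ⟨c, hc⟩ := ext1_surjective (F := F)
    (L := (CochainComplex.singleFunctor (ModuleCat.{u} A) 0).obj N) (n := i)
    (e ≫ ((singleFunctorIsoCompQ (ModuleCat.{u} A) 0).hom.app N)⟦i⟧')
  obtain ⟨z, hz, rfl⟩ := Cocycle.toSingleMk_surjective c p h p' hp'
  refine ⟨z, hz, ?_⟩
  unfold extOf
  rw [hc, Category.assoc, ← CategoryTheory.Functor.map_comp, Iso.hom_inv_id_app, CategoryTheory.Functor.map_id]
  exact Category.comp_id e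

lemma extOf_comp {N N' : ModuleCat.{u} A} (z : F.X p ⟶ N) (hz : F.d p' p ≫ z = 0) (g : N ⟶ N') :
    extOf F h hp' z hz ≫ ((DerivedCategory.singleFunctor (ModuleCat.{u} A) 0).map g)⟦i⟧' =
      extOf F h hp' (z ≫ g) (by rw [← Category.assoc, hz, Limits.zero_comp]) := by
  unfold extOf
  rw [Cocycle.toSingleMk_postcomp z h p' hp' hz g, ext1_postcomp, Category.assoc, Category.assoc,
    ← CategoryTheory.Functor.map_comp, ← CategoryTheory.Functor.map_comp]
  congr 2

lemma smul_extOf {N : ModuleCat.{u} A} (z : F.X p ⟶ N) (hz : F.d p' p ≫ z = 0) (a : A) :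
    a • extOf F h hp' z hz =
      extOf F h hp' (a • z) (by rw [Linear.comp_smul, hz, smul_zero]) := by
  have h1 : a • extOf F h hp' z hz = extOf F h hp' z hz ≫
      ((DerivedCategory.singleFunctor (ModuleCat.{u} A) 0).map (a • 𝟙 N))⟦i⟧' := by
    rw [Functor.map_smul, Functor.map_smul, Linear.comp_smul, CategoryTheory.Functor.map_id, CategoryTheory.Functor.map_id,
      Category.comp_id]
  rw [h1, extOf_comp]
  congr 1

end single

end ExtCocycle
end Groth.Agent.Lib.Helper6
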