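import Mathlib
import Groth.Prelude.Def_DRing2
import Groth.Agent.Lib.Helper6.ExtCocycle
import Groth.Agent.Lib.Helper6.ARExt
import Groth.Agent.Lib.Helper32.LBC

/-! `Ext^i(K, M/IⁿM)` is essentially constant (helper6). -/

set_option autoImplicit false
universe u

open CategoryTheory Limits DerivedCategory CochainComplex HomComplex

namespace Groth.Agent.Lib.Helper6
namespace ExtConst

attribute [local instance] HasDerivedCategory.standard

open ExtCocycle ARExt

variable {A : Type u} [CommRing A]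

section transport

variable {K : Dual.D A} {F : CochainComplex (ModuleCat.{u} A) ℤ} (ι : Q.obj F ≅ K)
  {p i p' p'' : ℤ} (h : p + i = 0) (hp' : p' + 1 = p) (hp'' : p + 1 = p'')

/-- the class attached to a cocycle, as a morphism out of `K`. -/
noncomputable def EK {N : ModuleCat.{u} A} (z : F.X p ⟶ N) (hz : F.d p' p ≫ z = 0) :
    K ⟶ ((DerivedCategory.singleFunctor (ModuleCat.{u} A) 0).obj N)⟦i⟧ :=
  ι.inv ≫ extOf F h hp' z hz

include hp'' in
lemma EK_eq_zero_iff [F.IsKProjective] {N : ModuleCat.{u} A} (z : F.X p ⟶ N)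
    (hz : F.d p' p ≫ z = 0) :
    EK ι h hp' z hz = 0 ↔ ∃ g : F.X p'' ⟶ N, F.d p p'' ≫ g = z := by
  rw [← extOf_eq_zero_iff h hp' hp'' z hz]
  unfold EK
  constructor
  · intro h0
    exact Limits.zero_of_epi_comp _ h0
  · intro h0
    rw [h0, Limits.comp_zero]

lemma EK_surjective [F.IsKProjective] {N : ModuleCat.{u} A}
    (e : K ⟶ ((DerivedCategory.singleFunctor (ModuleCat.{u} A) 0).obj N)⟦i⟧) :
    ∃ (z : F.X p ⟶ N) (hz : F.d p' p ≫ z = 0), EK ι h hp' z hz = e := by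
  obtain ⟨z, hz, hze⟩ := extOf_surjective h hp' (ι.hom ≫ e)
  refine ⟨z, hz, ?_⟩
  unfold EK
  rw [hze, Iso.inv_hom_id_assoc]

lemma EK_comp {N N' : ModuleCat.{u} A} (z : F.X p ⟶ N) (hz : F.d p' p ≫ z = 0) (g : N ⟶ N') :
    EK ι h hp' z hz ≫ ((DerivedCategory.singleFunctor (ModuleCat.{u} A) 0).map g)⟦i⟧' =
      EK ι h hp' (z ≫ g) (by rw [← Category.assoc, hz, Limits.zero_comp]) := by
  unfold EK
  rw [Category.assoc, extOf_comp]

lemma smul_EK {N : ModuleCat.{u} A} (z : F.X p ⟶ N) (hz : F.d p' p ≫ z = 0) (a : A) :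
    a • EK ι h hp' z hz =
      EK ι h hp' (a • z) (by rw [Linear.comp_smul, hz, smul_zero]) := by
  unfold EK
  rw [← Linear.comp_smul, smul_extOf]

end transport

section core

variable [IsNoetherianRing A] (I : Ideal A) {K : Dual.D A}
  {F : CochainComplex (ModuleCat.{u} A) ℤ} (ι : Q.obj F ≅ K) [F.IsKProjective]
  (hF : DRing.TermwiseFiniteFree F)

include ι hF in
/-- Artin–Rees for `Ext`: cocycles with values in `I^k M` are coboundaries. -/
lemma claimA_cx (M : Type u) [AddCommGroup M] [Module A M] [Module.Finite A M]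
    {p i p' p'' : ℤ} (h : p + i = 0) (hp' : p' + 1 = p) (hp'' : p + 1 = p'')
    (htors : ∀ e : K ⟶ (Dual.inD A M)⟦i⟧, ∃ n : ℕ, ∀ x ∈ I ^ n, x • e = 0) :
    ∃ k : ℕ, ∀ (z : F.X p ⟶ ModuleCat.of A M), F.d p' p ≫ z = 0 →
      (∀ y, z.hom y ∈ I ^ k • (⊤ : Submodule A M)) →
      ∃ g : F.X p'' ⟶ ModuleCat.of A M, F.d p p'' ≫ g = z := by
  have hfin : Module.Finite A (F.X p) := (hF p).1
  have hfree : Module.Free A (F.X p) := (hF p).2
  obtain ⟨k, hk⟩ := claimA I (F.d p' p).hom (F.d p p'').hom (M := M) (by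
    intro z hz
    have hz' : F.d p' p ≫ ModuleCat.ofHom z = 0 := by
      ext x
      have := (mem_Zs _ z).1 hz
      exact LinearMap.congr_fun this x
    obtain ⟨n, hn⟩ := htors (EK ι h hp' (ModuleCat.ofHom z) hz')
    refine ⟨n, fun x hx => ?_⟩
    have h0 := hn x hx
    rw [smul_EK, EK_eq_zero_iff ι h hp' hp''] at h0
    obtain ⟨g, hg⟩ := h0
    rw [mem_Bs]
    refine ⟨g.hom, ?_⟩
    have := congrArg ModuleCat.Hom.hom hg
    exact this)
  refine ⟨k, fun z hz hzI => ?_⟩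
  have hzZ : z.hom ∈ Zs (F.d p' p).hom M := by
    rw [mem_Zs]
    have := congrArg ModuleCat.Hom.hom hz
    exact this
  obtain ⟨g, hg⟩ := (mem_Bs _ _).1 (hk z.hom hzZ hzI)
  exact ⟨ModuleCat.ofHom g, by ext x; exact LinearMap.congr_fun hg x⟩

end core

section main

theorem main (A : Type u) [CommRing A] [IsNoetherianRing A]
    (I : Ideal A) (K : Dual.D A) (hK : DRing.IsPseudoCoherent' A K) (a : ℤ)
    (htors : ∀ (M : Type u) [AddCommGroup M] [Module A M], Module.Finite A M → ∀ i : ℤ, a ≤ i →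
      ∀ e : K ⟶ (Dual.inD A M)⟦i⟧, ∃ n : ℕ, ∀ x ∈ I ^ n, x • e = 0)
    (M : Type u) [AddCommGroup M] [Module A M] [Module.Finite A M] (i : ℤ) (hi : a ≤ i) :
    let Mq : ℕ → Submodule A M := fun n => I ^ n • ⊤
    let c : ∀ n : ℕ, (K ⟶ (Dual.inD A M)⟦i⟧) → (K ⟶ (Dual.inD A (M ⧸ Mq n))⟦i⟧) :=
      fun n e => e ≫ ((DerivedCategory.singleFunctor (ModuleCat.{u} A) 0).map (ModuleCat.ofHom (Mq n).mkQ))⟦i⟧'
    let t : ∀ n m : ℕ, n ≤ m → (K ⟶ (Dual.inD A (M ⧸ Mq m))⟦i⟧) → (K ⟶ (Dual.inD A (M ⧸ Mq n))⟦i⟧) :=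
      fun n m hnm e => e ≫ ((DerivedCategory.singleFunctor (ModuleCat.{u} A) 0).map (ModuleCat.ofHom
        (Submodule.mapQ (Mq m) (Mq n) (LinearMap.id : M →ₗ[A] M) (Submodule.smul_mono_left (Ideal.pow_le_pow_right hnm)))))⟦i⟧'
    (∃ m : ℕ, Function.Injective (c m)) ∧
      ∀ n : ℕ, ∃ (m' : ℕ) (hnm : n ≤ m'), Set.range (t n m' hnm) ⊆ Set.range (c n) := by
  obtain ⟨F, b, hb, hF, ⟨ι⟩⟩ := hK
  have hproj : ∀ j : ℤ, Module.Projective A (F.X j) := fun j => by
    have := (hF j).2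
    infer_instance
  have hKP : F.IsKProjective :=
    Groth.Agent.Lib.Helper32.LBC.isKProjective_of_vanishesAbove F b hb hproj
  intro Mq c t
  have h : (-i) + i = 0 := by omega
  have hp' : (-i - 1) + 1 = -i := by omega
  have hp'' : (-i) + 1 = -i + 1 := rfl
  have h1 : (-i - 1) + (i + 1) = 0 := by omega
  have hq' : (-i - 2) + 1 = -i - 1 := by omega
  constructor
  · obtain ⟨k, hk⟩ := claimA_cx I ι hF M h hp' hp'' (htors M inferInstance i hi)
    refine ⟨k, ?_⟩
    intro e1 e2 he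
    have hsub : c k (e1 - e2) = 0 := by
      show (e1 - e2) ≫ _ = 0
      rw [Preadditive.sub_comp]
      exact sub_eq_zero.2 he
    suffices h0 : e1 - e2 = 0 from sub_eq_zero.1 h0
    obtain ⟨z, hz, hze⟩ := EK_surjective ι h hp' (e1 - e2)
    rw [← hze] at hsub ⊢
    change EK ι h hp' z hz ≫ _ = 0 at hsub
    rw [EK_comp, EK_eq_zero_iff ι h hp' hp''] at hsub
    obtain ⟨g, hg⟩ := hsub
    have : Module.Projective A (F.X (-i + 1)) := hproj _
    obtain ⟨gt, hgt⟩ := Module.projective_lifting_property (Mq k).mkQ g.hom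
      (Submodule.mkQ_surjective _)
    let z₁ : F.X (-i) ⟶ ModuleCat.of A M := z - F.d (-i) (-i + 1) ≫ ModuleCat.ofHom gt
    have hz₁ : F.d (-i - 1) (-i) ≫ z₁ = 0 := by
      simp only [z₁, Preadditive.comp_sub, hz, HomologicalComplex.d_comp_d_assoc,
        Limits.zero_comp, sub_zero]
    have hz₁I : ∀ y, z₁.hom y ∈ I ^ k • (⊤ : Submodule A M) := by
      intro y
      show z₁.hom y ∈ Mq k
      rw [← Submodule.Quotient.mk_eq_zero]
      have e1 : (Mq k).mkQ (z.hom y) = g.hom ((F.d (-i) (-i + 1)).hom y) := by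
        have := congrArg (fun f => f.hom y) hg
        exact this.symm
      have e2 : (Mq k).mkQ (gt ((F.d (-i) (-i + 1)).hom y)) =
          g.hom ((F.d (-i) (-i + 1)).hom y) := LinearMap.congr_fun hgt _
      show (Mq k).mkQ (z.hom y - gt ((F.d (-i) (-i + 1)).hom y)) = 0
      rw [map_sub, e1, e2, sub_self]
    obtain ⟨g₁, hg₁⟩ := hk z₁ hz₁ hz₁I
    rw [EK_eq_zero_iff ι h hp' hp'']
    refine ⟨ModuleCat.ofHom gt + g₁, ?_⟩
    rw [Preadditive.comp_add, hg₁]
    simp [z₁]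
  · intro n
    have hNoeth : IsNoetherian A M := isNoetherian_of_isNoetherianRing_of_finite A M
    have hNfin : Module.Finite A (Mq n) := inferInstance
    obtain ⟨k', hk'⟩ := claimA_cx I ι hF (Mq n) h1 hq' hp'
      (htors (Mq n) hNfin (i + 1) (by omega))
    refine ⟨n + k', Nat.le_add_right _ _, ?_⟩
    rintro _ ⟨e', rfl⟩
    obtain ⟨z', hz', rfl⟩ := EK_surjective ι h hp' e'
    have : Module.Projective A (F.X (-i)) := hproj _
    obtain ⟨zt, hzt⟩ := Module.projective_lifting_property (Mq (n + k')).mkQ z'.hom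
      (Submodule.mkQ_surjective _)
    have hw : ∀ x, zt ((F.d (-i - 1) (-i)).hom x) ∈ Mq (n + k') := by
      intro x
      rw [← Submodule.Quotient.mk_eq_zero]
      have e1 : (Mq (n + k')).mkQ (zt ((F.d (-i - 1) (-i)).hom x)) =
          z'.hom ((F.d (-i - 1) (-i)).hom x) := LinearMap.congr_fun hzt _
      have e2 : z'.hom ((F.d (-i - 1) (-i)).hom x) = 0 := by
        have := congrArg (fun f => f.hom x) hz'
        exact this
      exact e1.trans e2
    have hle : Mq (n + k') ≤ Mq n :=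
      Submodule.smul_mono_left (Ideal.pow_le_pow_right (Nat.le_add_right _ _))
    let wN : F.X (-i - 1) →ₗ[A] Mq n :=
      LinearMap.codRestrict (Mq n) (zt ∘ₗ (F.d (-i - 1) (-i)).hom) (fun x => hle (hw x))
    have hwN_cocycle : F.d (-i - 2) (-i - 1) ≫ ModuleCat.ofHom wN = 0 := by
      ext x
      show zt ((F.d (-i - 1) (-i)).hom ((F.d (-i - 2) (-i - 1)).hom x)) = 0
      have : (F.d (-i - 1) (-i)).hom ((F.d (-i - 2) (-i - 1)).hom x) = 0 := by
        have := congrArg (fun f => f.hom x) (F.d_comp_d (-i - 2) (-i - 1) (-i))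
        exact this
      rw [this, map_zero]
    have hwN_I : ∀ y, (ModuleCat.ofHom wN).hom y ∈ I ^ k' • (⊤ : Submodule A (Mq n)) := by
      intro y
      apply mem_smul_top_of_coe_mem
      have := hw y
      rw [show Mq (n + k') = I ^ k' • Mq n from pow_add_smul_top I n k'] at this
      exact this
    obtain ⟨gN, hgN⟩ := hk' (ModuleCat.ofHom wN) hwN_cocycle hwN_I
    let g : F.X (-i) ⟶ ModuleCat.of A M := gN ≫ ModuleCat.ofHom (Mq n).subtype
    let z₀ : F.X (-i) ⟶ ModuleCat.of A M := ModuleCat.ofHom zt - g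
    have hz₀ : F.d (-i - 1) (-i) ≫ z₀ = 0 := by
      ext x
      have e1 : ((gN.hom ((F.d (-i - 1) (-i)).hom x) : Mq n) : M) =
          zt ((F.d (-i - 1) (-i)).hom x) := by
        have := congrArg (fun f => ((f.hom x : Mq n) : M)) hgN
        exact this
      show zt ((F.d (-i - 1) (-i)).hom x) - ((gN.hom ((F.d (-i - 1) (-i)).hom x) : Mq n) : M) = 0
      rw [e1, sub_self]
    refine ⟨EK ι h hp' z₀ hz₀, ?_⟩
    show EK ι h hp' z₀ hz₀ ≫ _ = EK ι h hp' z' hz' ≫ _
    rw [EK_comp, EK_comp]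
    congr 1
    ext y
    show (Mq n).mkQ (zt y - ((gN.hom y : Mq n) : M)) =
      Submodule.mapQ (Mq (n + k')) (Mq n) LinearMap.id
        (Submodule.smul_mono_left (Ideal.pow_le_pow_right (Nat.le_add_right _ _))) (z'.hom y)
    have e1 : z'.hom y = (Mq (n + k')).mkQ (zt y) := (LinearMap.congr_fun hzt y).symm
    rw [e1, map_sub]
    have e2 : (Mq n).mkQ ((gN.hom y : Mq n) : M) = 0 := by
      rw [Submodule.mkQ_apply, Submodule.Quotient.mk_eq_zero]
      exact (gN.hom y).2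
    rw [e2, sub_zero]
    rfl

end main

end ExtConst
end Groth.Agent.Lib.Helper6
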