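import Mathlib
import Groth.Prelude.Def_DRing2
import Groth.Agent.Lib.Helper6.ExtConst

/-! Artin–Rees for `Ext^p(K, -)` (helper6). -/

set_option autoImplicit false
universe u

open CategoryTheory Limits DerivedCategory CochainComplex HomComplex

namespace Groth.Agent.Lib.Helper6
namespace ExtConst

attribute [local instance] HasDerivedCategory.standard

open ExtCocycle ARExt

variable {A : Type u} [CommRing A]

section add

variable {F L : CochainComplex (ModuleCat.{u} A) ℤ} {n : ℤ}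

lemma ext1_add (c c' : Cocycle F L n) : ext1 F L n (c + c') = ext1 F L n c + ext1 F L n c' := by
  unfold ext1
  rw [map_add, Functor.map_add, Preadditive.add_comp]

variable {p i p' : ℤ} (h : p + i = 0) (hp' : p' + 1 = p)

lemma extOf_add {N : ModuleCat.{u} A} (z z' : F.X p ⟶ N) (hz : F.d p' p ≫ z = 0)
    (hz' : F.d p' p ≫ z' = 0) :
    extOf F h hp' (z + z') (by rw [Preadditive.comp_add, hz, hz', add_zero]) =
      extOf F h hp' z hz + extOf F h hp' z' hz' := by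
  unfold extOf
  rw [Cocycle.toSingleMk_add z z' h p' hp' hz hz', ext1_add, Preadditive.add_comp]

variable {K : Dual.D A} (ι : Q.obj F ≅ K)

lemma EK_add {N : ModuleCat.{u} A} (z z' : F.X p ⟶ N) (hz : F.d p' p ≫ z = 0)
    (hz' : F.d p' p ≫ z' = 0) :
    EK ι h hp' (z + z') (by rw [Preadditive.comp_add, hz, hz', add_zero]) =
      EK ι h hp' z hz + EK ι h hp' z' hz' := by
  unfold EK
  rw [extOf_add h hp' z z' hz hz', Preadditive.comp_add]

lemma EK_congr {N : ModuleCat.{u} A} {z z' : F.X p ⟶ N} (e : z = z') (hz : F.d p' p ≫ z = 0)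
    (hz' : F.d p' p ≫ z' = 0) : EK ι h hp' z hz = EK ι h hp' z' hz' := by
  subst e
  rfl

lemma cocycle_of_mem_Zs {M : Type u} [AddCommGroup M] [Module A M]
    (z : F.X p →ₗ[A] M) (hz : z ∈ Zs (F.d p' p).hom M) :
    F.d p' p ≫ ModuleCat.ofHom z = 0 := by
  ext x
  have h0 : z ∘ₗ (F.d p' p).hom = 0 := LinearMap.mem_ker.1 hz
  exact LinearMap.congr_fun h0 x

/-- `EK` as a linear map on cocycles. -/
noncomputable def EKlin (M : Type u) [AddCommGroup M] [Module A M] :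
    Zs (F.d p' p).hom M →ₗ[A] (K ⟶ (Dual.inD A M)⟦i⟧) where
  toFun z := EK ι h hp' (ModuleCat.ofHom z.1) (cocycle_of_mem_Zs z.1 z.2)
  map_add' z z' := by
    rw [← EK_add h hp' ι (ModuleCat.ofHom z.1) (ModuleCat.ofHom z'.1)
      (cocycle_of_mem_Zs z.1 z.2) (cocycle_of_mem_Zs z'.1 z'.2)]
    exact EK_congr h hp' ι rfl _ _
  map_smul' a z := by
    rw [RingHom.id_apply, smul_EK ι h hp' (ModuleCat.ofHom z.1) (cocycle_of_mem_Zs z.1 z.2) a]
    exact EK_congr h hp' ι rfl _ _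

end add

section ar

theorem artinRees_ext (A : Type u) [CommRing A] [IsNoetherianRing A] (I : Ideal A)
    (K : Dual.D A) (hK : DRing.IsPseudoCoherent' A K) (M : Type u) [AddCommGroup M] [Module A M]
    [Module.Finite A M] (p : ℤ) :
    ∃ c : ℕ, ∀ n : ℕ, c ≤ n →
      ∀ e : K ⟶ (Dual.inD A ↥(I ^ n • ⊤ : Submodule A M))⟦p⟧,
        e ≫ ((DerivedCategory.singleFunctor (ModuleCat.{u} A) 0).map
              (ModuleCat.ofHom (I ^ n • ⊤ : Submodule A M).subtype))⟦p⟧' ∈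
          (I ^ (n - c) • ⊤ : Submodule A (K ⟶ (Dual.inD A M)⟦p⟧)) := by
  obtain ⟨F, b, hb, hF, ⟨ι⟩⟩ := hK
  have hproj : ∀ j : ℤ, Module.Projective A (F.X j) := fun j => by
    have := (hF j).2
    infer_instance
  have hKP : F.IsKProjective :=
    Groth.Agent.Lib.Helper32.LBC.isKProjective_of_vanishesAbove F b hb hproj
  have h : (-p) + p = 0 := by omega
  have hp' : (-p - 1) + 1 = -p := by omega
  have hfin : Module.Finite A (F.X (-p)) := (hF (-p)).1
  have hfree : Module.Free A (F.X (-p)) := (hF (-p)).2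
  have hfinH : Module.Finite A (F.X (-p) →ₗ[A] M) := Module.Finite.linearMap A A _ M
  obtain ⟨k, hk⟩ := Ideal.exists_pow_inf_eq_pow_smul I (Zs (F.d (-p - 1) (-p)).hom M)
  refine ⟨k, fun n hn e => ?_⟩
  obtain ⟨z, hz, rfl⟩ := EK_surjective ι h hp' e
  rw [EK_comp]
  -- the underlying linear map
  let zM : F.X (-p) →ₗ[A] M := (z ≫ ModuleCat.ofHom (I ^ n • ⊤ : Submodule A M).subtype).hom
  have hzZ : zM ∈ Zs (F.d (-p - 1) (-p)).hom M := by
    rw [mem_Zs]
    ext x
    have := congrArg (fun f => ((f.hom x : ↥(I ^ n • ⊤ : Submodule A M)) : M)) hz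
    exact this
  have hzI : zM ∈ I ^ n • (⊤ : Submodule A (F.X (-p) →ₗ[A] M)) :=
    mem_smul_top_of_forall I n zM (fun y => (z.hom y).2)
  have h1 : zM ∈ I ^ n • (⊤ : Submodule A (F.X (-p) →ₗ[A] M)) ⊓ Zs (F.d (-p - 1) (-p)).hom M :=
    ⟨hzI, hzZ⟩
  rw [hk n hn] at h1
  have h2 : zM ∈ I ^ (n - k) • Zs (F.d (-p - 1) (-p)).hom M :=
    Submodule.smul_mono le_rfl inf_le_right h1
  have h3 : (⟨zM, hzZ⟩ : Zs (F.d (-p - 1) (-p)).hom M) ∈
      I ^ (n - k) • (⊤ : Submodule A (Zs (F.d (-p - 1) (-p)).hom M)) :=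
    mem_smul_top_of_coe_mem I _ (n - k) ⟨zM, hzZ⟩ h2
  have h4 : EKlin h hp' ι M ⟨zM, hzZ⟩ ∈
      (I ^ (n - k) • (⊤ : Submodule A (Zs (F.d (-p - 1) (-p)).hom M))).map (EKlin h hp' ι M) :=
    Submodule.mem_map_of_mem h3
  rw [Submodule.map_smul''] at h4
  have h5 := Submodule.smul_mono (le_refl (I ^ (n - k))) (le_top (a := Submodule.map (EKlin h hp' ι M) ⊤)) h4
  exact h5

end ar

end ExtConst
end Groth.Agent.Lib.Helper6
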