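import Groth.Prelude.Def_DRing4
import Groth.Agent.Lib.Helper6.QisCrit
import Groth.Agent.Lib.Helper6.ExtAR

/-!
# `Hom•(P, -)` preserves quasi-isomorphisms for `P` K-projective; `RHom(P, L) ≅ Hom•(P, L)`
(helper6).
-/

set_option autoImplicit false
universe u

open CategoryTheory Limits DerivedCategory CochainComplex HomComplex

namespace Groth.Agent.Lib.Helper6
namespace RHomKProj

attribute [local instance] HasDerivedCategory.standard

open ExtCocycle

variable {A : Type u} [CommRing A]

section qis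

variable (P : DRing.Cx A) [P.IsKProjective] {L L' : DRing.Cx A} (f : L ⟶ L') [QuasiIso f]

omit [P.IsKProjective] in
lemma ext1_sub (n : ℤ) (c c' : Cocycle P L n) :
    ext1 P L n (c - c') = ext1 P L n c - ext1 P L n c' := by
  have h := ExtConst.ext1_add (c - c') c'
  rw [sub_add_cancel] at h
  rw [h, add_sub_cancel_right]

include f in
lemma isIso_shift_Q_map (n : ℤ) : IsIso ((Q.map f)⟦n⟧') := by
  have : IsIso (Q.map f) := by
    rw [isIso_Q_map_iff_quasiIso]
    infer_instance
  infer_instance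

lemma exists_cocycle_lift (n : ℤ) (z' : Cochain P L' n) (hz' : δ n (n + 1) z' = 0) :
    ∃ z : Cochain P L n, δ n (n + 1) z = 0 ∧
      ∃ w' : Cochain P L' (n - 1), z.comp (Cochain.ofHom f) (add_zero n) - z' = δ (n - 1) n w' := by
  have hiso := isIso_shift_Q_map f n
  let c' : Cocycle P L' n := Cocycle.mk z' (n + 1) rfl hz'
  obtain ⟨c, hc⟩ := ext1_surjective (F := P) (L := L) (n := n)
    (ext1 P L' n c' ≫ inv ((Q.map f)⟦n⟧'))
  have h1 : ext1 P L' n (c.postcomp f) = ext1 P L' n c' := by
    rw [ext1_postcomp, hc, Category.assoc, IsIso.inv_hom_id, Category.comp_id]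
  have h2 : ext1 P L' n (c.postcomp f - c') = 0 := by
    rw [ext1_sub, h1, sub_self]
  rw [ext1_eq_zero_iff, mem_coboundaries_iff _ (n - 1) (by omega)] at h2
  obtain ⟨β, hβ⟩ := h2
  exact ⟨c.1, Cocycle.δ_eq_zero c (n + 1), β, hβ.symm⟩

lemma exists_coboundary (n : ℤ) (z : Cochain P L n) (hz : δ n (n + 1) z = 0)
    (h : ∃ w' : Cochain P L' (n - 1), z.comp (Cochain.ofHom f) (add_zero n) = δ (n - 1) n w') :
    ∃ w : Cochain P L (n - 1), z = δ (n - 1) n w := by
  have hiso := isIso_shift_Q_map f n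
  let c : Cocycle P L n := Cocycle.mk z (n + 1) rfl hz
  obtain ⟨w', hw'⟩ := h
  have h1 : ext1 P L' n (c.postcomp f) = 0 := by
    rw [ext1_eq_zero_iff, mem_coboundaries_iff _ (n - 1) (by omega)]
    exact ⟨w', hw'.symm⟩
  rw [ext1_postcomp] at h1
  have h2 : ext1 P L n c = 0 := by
    rw [← cancel_mono ((Q.map f)⟦n⟧'), h1, zero_comp]
  rw [ext1_eq_zero_iff, mem_coboundaries_iff _ (n - 1) (by omega)] at h2
  obtain ⟨β, hβ⟩ := h2
  exact ⟨β, hβ.symm⟩

/-- `Hom•(P, -)` preserves quasi-isomorphisms when `P` is K-projective. -/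
theorem quasiIso_homCxMap : QuasiIso (DRing.homCxMap P f) := by
  apply QisCrit.quasiIso_of_elementwise
  · intro n z' hz'
    exact exists_cocycle_lift P f n z' hz'
  · intro n z hz h
    exact exists_coboundary P f n z hz h

end qis


section derived

variable (P : DRing.Cx A) [P.IsKProjective]

lemma isInvertedBy_homCxQ :
    (HomologicalComplex.quasiIso (ModuleCat.{u} A) (ComplexShape.up ℤ)).IsInvertedBy
      (DRing.homCxQ P) := by
  intro L L' f hf
  have hq : QuasiIso f := (HomologicalComplex.mem_quasiIso_iff _).1 hf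
  have := quasiIso_homCxMap P f
  change IsIso (Q.map (DRing.homCxMap P f))
  rw [isIso_Q_map_iff_quasiIso]
  infer_instance

variable [DRing.HasRHomCx P]

lemma isIso_totalRightDerivedUnit :
    IsIso ((DRing.homCxQ P).totalRightDerivedUnit Q
      (HomologicalComplex.quasiIso (ModuleCat.{u} A) (ComplexShape.up ℤ))) :=
  Functor.isIso_of_isRightDerivedFunctor_of_inverts (DRing.RHomCx P) _ (isInvertedBy_homCxQ P)

/-- `RHom(P, L) ≅ Hom•(P, L)` for `P` K-projective. -/
noncomputable def rhomIso (L : DRing.Cx A) :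
    (DRing.RHomCx P).obj (DRing.toD L) ≅ DRing.toD (DRing.homCx P L) :=
  haveI := isIso_totalRightDerivedUnit P
  (asIso (((DRing.homCxQ P).totalRightDerivedUnit Q
    (HomologicalComplex.quasiIso (ModuleCat.{u} A) (ComplexShape.up ℤ))).app L)).symm

end derived

end RHomKProj
end Groth.Agent.Lib.Helper6
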