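import Groth.Agent.Lib.Helper6.Bidual1
import Groth.Agent.Lib.Helper6.ExtAR
import Groth.Agent.Lib.Helper35.RHomKInj

/-! Biduality for dualizing complexes, part 4: `H^j(Hom_A(M, I•)) ≃ Hom(M[0], Q(I)[j])`
(helper6). -/

set_option autoImplicit false
set_option linter.unusedSectionVars false
universe u
open CategoryTheory CategoryTheory.Limits DerivedCategory Pretriangulated Opposite
  CochainComplex HomComplex
attribute [local instance] HasDerivedCategory.standard

namespace Groth.Agent.Lib.Helper6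
namespace Bidual

open Groth.Agent.Lib.Helper35 ExtCocycle

variable {A : Type u} [CommRing A] {M : ModuleCat.{u} A} {I : DRing.Cx A} {j j' j'' : ℤ}
  (hj' : j + 1 = j') (hj'' : j'' + 1 = j)

/-- the morphism `M[0] ⟶ Q(I)[j]` attached to a cocycle `f : M ⟶ I^j`. -/
noncomputable def extFrom (f : M ⟶ I.X j) (hf : f ≫ I.d j j' = 0) :
    (DerivedCategory.singleFunctor (ModuleCat.{u} A) 0).obj M ⟶
      (DerivedCategory.Q.obj I : Dual.D A)⟦j⟧ :=
  (singleFunctorIsoCompQ (ModuleCat.{u} A) 0).hom.app M ≫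
    ext1 _ I j (Cocycle.fromSingleMk f (zero_add j) j' hj' hf)

include hj'' in
lemma extFrom_eq_zero_iff [I.IsKInjective] (f : M ⟶ I.X j) (hf : f ≫ I.d j j' = 0) :
    extFrom hj' f hf = 0 ↔ ∃ g : M ⟶ I.X j'', g ≫ I.d j'' j = f := by
  rw [← Cocycle.fromSingleMk_mem_coboundaries_iff f (zero_add j) j' hj' hf j'' hj'',
    ← RHomKInj.ext1_eq_zero_iff_inj]
  unfold extFrom
  constructor
  · intro h0
    exact (cancel_epi ((singleFunctorIsoCompQ (ModuleCat.{u} A) 0).hom.app M)).1
      (h0.trans comp_zero.symm)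
  · intro h0
    rw [h0, comp_zero]

lemma extFrom_surjective [I.IsKInjective]
    (e : (DerivedCategory.singleFunctor (ModuleCat.{u} A) 0).obj M ⟶
      (DerivedCategory.Q.obj I : Dual.D A)⟦j⟧) :
    ∃ (f : M ⟶ I.X j) (hf : f ≫ I.d j j' = 0), extFrom hj' f hf = e := by
  obtain ⟨c, hc⟩ := RHomKInj.ext1_surjective_inj
    (F := (CochainComplex.singleFunctor (ModuleCat.{u} A) 0).obj M) (L := I) (n := j)
    ((singleFunctorIsoCompQ (ModuleCat.{u} A) 0).inv.app M ≫ e)
  obtain ⟨f, hf, rfl⟩ := Cocycle.fromSingleMk_surjective c j (zero_add j) j' hj'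
  refine ⟨f, hf, ?_⟩
  unfold extFrom
  rw [hc, Iso.hom_inv_id_app_assoc]

lemma extFrom_add (f g : M ⟶ I.X j) (hf : f ≫ I.d j j' = 0) (hg : g ≫ I.d j j' = 0) :
    extFrom hj' (f + g) (by rw [Preadditive.add_comp, hf, hg, add_zero]) =
      extFrom hj' f hf + extFrom hj' g hg := by
  unfold extFrom
  rw [Cocycle.fromSingleMk_add f g (zero_add j) j' hj' hf hg, ExtConst.ext1_add,
    Preadditive.comp_add]

lemma extFrom_precomp {M' : ModuleCat.{u} A} (g : M' ⟶ M) (f : M ⟶ I.X j)
    (hf : f ≫ I.d j j' = 0) :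
    extFrom hj' (g ≫ f) (by rw [Category.assoc, hf, comp_zero]) =
      (DerivedCategory.singleFunctor (ModuleCat.{u} A) 0).map g ≫ extFrom hj' f hf := by
  unfold extFrom
  rw [Cocycle.fromSingleMk_precomp g f (zero_add j) j' hj' hf, RHomKInj.ext1_precomp,
    ← Category.assoc, ← Category.assoc]
  congr 1

lemma extFrom_smul (a : A) (f : M ⟶ I.X j) (hf : f ≫ I.d j j' = 0) :
    extFrom hj' (a • f) (by rw [Linear.smul_comp, hf, smul_zero]) = a • extFrom hj' f hf := by
  have h1 : a • extFrom hj' f hf =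
      (DerivedCategory.singleFunctor (ModuleCat.{u} A) 0).map (a • 𝟙 M) ≫ extFrom hj' f hf := by
    rw [Functor.map_smul, Linear.smul_comp, CategoryTheory.Functor.map_id, Category.id_comp]
  rw [h1, ← extFrom_precomp]
  congr 1
  rw [Linear.smul_comp, Category.id_comp]


section lin

variable (M I) (j)

/-- the short complex computing `H^j(Hom_A(M, I•))`. -/
noncomputable abbrev scDc : ShortComplex (ModuleCat.{u} A) :=
  ((Dc I).obj (op M)).sc' (j - 1) j (j + 1)

/-- elements of the terms of `Hom_A(M, I•)` are morphisms. -/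
def asHom (i : ℤ) (x : ((Dc I).obj (op M)).X i) : M ⟶ I.X i := x

lemma asHom_comp_d (x : LinearMap.ker (scDc M I j).g.hom) :
    asHom M I j x.1 ≫ I.d j (j + 1) = 0 := LinearMap.mem_ker.1 x.2

/-- `extFrom` as a linear map on cocycles. -/
noncomputable def extFromLin :
    LinearMap.ker (scDc M I j).g.hom →ₗ[A]
      ((DerivedCategory.singleFunctor (ModuleCat.{u} A) 0).obj M ⟶
        (DerivedCategory.Q.obj I : Dual.D A)⟦j⟧) where
  toFun x := extFrom (j' := j + 1) rfl (asHom M I j x.1) (asHom_comp_d M I j x)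
  map_add' x y := extFrom_add (j' := j + 1) rfl (asHom M I j x.1) (asHom M I j y.1)
    (asHom_comp_d M I j x) (asHom_comp_d M I j y)
  map_smul' a x := extFrom_smul (j' := j + 1) rfl a (asHom M I j x.1) (asHom_comp_d M I j x)

lemma extFromLin_apply (x : LinearMap.ker (scDc M I j).g.hom) :
    extFromLin M I j x = extFrom (j' := j + 1) rfl (asHom M I j x.1) (asHom_comp_d M I j x) := rfl

lemma extFromLin_surjective [I.IsKInjective] : Function.Surjective (extFromLin M I j) := by
  intro e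
  obtain ⟨f, hf, rfl⟩ := extFrom_surjective (j' := j + 1) rfl e
  exact ⟨⟨f, LinearMap.mem_ker.2 hf⟩, rfl⟩

lemma ker_extFromLin [I.IsKInjective] :
    LinearMap.ker (extFromLin M I j) = LinearMap.range (scDc M I j).moduleCatToCycles := by
  ext x
  rw [LinearMap.mem_ker, LinearMap.mem_range, extFromLin_apply]
  have h := extFrom_eq_zero_iff (j' := j + 1) (j'' := j - 1) rfl (by omega) (asHom M I j x.1)
    (asHom_comp_d M I j x)
  rw [h]
  constructor
  · rintro ⟨g, hg⟩
    exact ⟨g, Subtype.ext hg⟩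
  · rintro ⟨g, hg⟩
    exact ⟨g, congrArg Subtype.val hg⟩

/-- `H^j(Hom_A(M, I•)) ≃ Hom(M[0], Q(I)[j])` for a K-injective complex `I`. -/
noncomputable def homologyDcEquiv [I.IsKInjective] :
    ((Dc I).obj (op M)).homology j ≃ₗ[A]
      ((DerivedCategory.singleFunctor (ModuleCat.{u} A) 0).obj M ⟶
        (DerivedCategory.Q.obj I : Dual.D A)⟦j⟧) :=
  (((Dc I).obj (op M)).homologyIsoSc' (j - 1) j (j + 1) (by simp) (by simp)).toLinearEquiv ≪≫ₗ
    (scDc M I j).moduleCatHomologyIso.toLinearEquiv ≪≫ₗ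
    (Submodule.quotEquivOfEq _ _ (ker_extFromLin M I j).symm) ≪≫ₗ
    (extFromLin M I j).quotKerEquivOfSurjective (extFromLin_surjective M I j)

end lin

end Bidual
end Groth.Agent.Lib.Helper6
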