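import Groth.Agent.Lib.Helper6.Bidual3
import Groth.Agent.Lib.Helper6.Bidual4
import Groth.Agent.Lib.Helper35.DevNoShift
import Groth.Agent.Lib.Helper35.TwoTerm

/-! Biduality for dualizing complexes, part 5: auxiliary lemmas on Hom groups out of single
objects (helper6). -/

set_option autoImplicit false
set_option linter.unusedSectionVars false
universe u
open CategoryTheory CategoryTheory.Limits DerivedCategory Pretriangulated Opposite
attribute [local instance] HasDerivedCategory.standard

namespace Groth.Agent.Lib.Helper6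
namespace Bidual

open Groth.Agent.Lib.Helper35

variable {A : Type u} [CommRing A]

/-- D1: a finite module killed by a maximal ideal is a finite product of copies of the residue
field. -/
lemma exists_pi_equiv (m : Ideal A) [m.IsMaximal] (V : Type u) [AddCommGroup V] [Module A V]
    [Module.Finite A V] (hV : ∀ a ∈ m, ∀ v : V, a • v = 0) :
    ∃ e : ℕ, Nonempty (V ≃ₗ[A] (Fin e → A ⧸ m)) := by
  have htors : Module.IsTorsionBySet A V (m : Set A) := by
    intro v a
    exact hV a.1 a.2 v
  letI : Module (A ⧸ m) V := htors.module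
  letI : Field (A ⧸ m) := Ideal.Quotient.field m
  haveI : IsScalarTower A (A ⧸ m) V := htors.isScalarTower
  haveI : Module.Finite (A ⧸ m) V := Module.Finite.of_restrictScalars_finite A (A ⧸ m) V
  let bas := Module.finBasis (A ⧸ m) V
  exact ⟨Module.finrank (A ⧸ m) V, ⟨(bas.equivFun).restrictScalars A⟩⟩


section pi

variable (N : ModuleCat.{u} A) (e : ℕ)

/-- inclusion of the `i`-th coordinate. -/
noncomputable abbrev ιN (i : Fin e) : N ⟶ ModuleCat.of A (Fin e → N) :=
  ModuleCat.ofHom (LinearMap.single A (fun _ : Fin e => N) i)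

/-- projection onto the `i`-th coordinate. -/
noncomputable abbrev πN (i : Fin e) : ModuleCat.of A (Fin e → N) ⟶ N :=
  ModuleCat.ofHom (LinearMap.proj (R := A) (φ := fun _ : Fin e => N) i)

lemma sum_πN_ιN : ∑ i : Fin e, πN N e i ≫ ιN N e i = 𝟙 (ModuleCat.of A (Fin e → N)) := by
  refine ModuleCat.hom_ext (LinearMap.ext fun x => funext fun k => ?_)
  simp only [ModuleCat.hom_sum, ModuleCat.hom_comp, ModuleCat.hom_ofHom, LinearMap.coe_sum,
    Finset.sum_apply, LinearMap.comp_apply, LinearMap.proj_apply, LinearMap.single_apply,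
    ModuleCat.hom_id, LinearMap.id_apply]
  rw [Finset.sum_eq_single k]
  · simp
  · intro b _ hb
    simp [hb.symm]
  · simp

lemma ιN_πN_self (i : Fin e) : ιN N e i ≫ πN N e i = 𝟙 N := by
  refine ModuleCat.hom_ext (LinearMap.ext fun x => ?_)
  simp

lemma ιN_πN_ne (i k : Fin e) (h : i ≠ k) : ιN N e i ≫ πN N e k = 0 := by
  refine ModuleCat.hom_ext (LinearMap.ext fun x => ?_)
  simp [h.symm]

/-- D2. -/
lemma subsingleton_hom_pi (L : Dual.D A)
    (h : Subsingleton ((DerivedCategory.singleFunctor (ModuleCat.{u} A) 0).obj N ⟶ L)) :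
    Subsingleton ((DerivedCategory.singleFunctor (ModuleCat.{u} A) 0).obj
      (ModuleCat.of A (Fin e → N)) ⟶ L) := by
  have hz : ∀ t : (DerivedCategory.singleFunctor (ModuleCat.{u} A) 0).obj
      (ModuleCat.of A (Fin e → N)) ⟶ L, t = 0 := by
    intro t
    rw [← Category.id_comp t, ← CategoryTheory.Functor.map_id, ← sum_πN_ιN N e, Functor.map_sum,
      Preadditive.sum_comp]
    apply Finset.sum_eq_zero
    intro i _
    rw [Functor.map_comp, Category.assoc]
    have : (DerivedCategory.singleFunctor (ModuleCat.{u} A) 0).map (ιN N e i) ≫ t = 0 :=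
      Subsingleton.elim _ _
    rw [this, comp_zero]
  exact ⟨fun t t' => by rw [hz t, hz t']⟩

/-- D2': the converse for a nonempty product. -/
lemma subsingleton_hom_of_pi (L : Dual.D A) (he : 0 < e)
    (h : Subsingleton ((DerivedCategory.singleFunctor (ModuleCat.{u} A) 0).obj
      (ModuleCat.of A (Fin e → N)) ⟶ L)) :
    Subsingleton ((DerivedCategory.singleFunctor (ModuleCat.{u} A) 0).obj N ⟶ L) := by
  have hz : ∀ t : (DerivedCategory.singleFunctor (ModuleCat.{u} A) 0).obj N ⟶ L, t = 0 := by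
    intro t
    rw [← Category.id_comp t, ← CategoryTheory.Functor.map_id, ← ιN_πN_self N e ⟨0, he⟩,
      Functor.map_comp, Category.assoc]
    have : (DerivedCategory.singleFunctor (ModuleCat.{u} A) 0).map (πN N e ⟨0, he⟩) ≫ t = 0 :=
      Subsingleton.elim _ _
    rw [this, comp_zero]
  exact ⟨fun t t' => by rw [hz t, hz t']⟩

end pi

/-- D3: `Hom(N[-i], K[l]) ≃ Hom(N[0], K[l+i])`. -/
noncomputable def singleShiftHomEquiv (N : ModuleCat.{u} A) (K : Dual.D A) (i l m : ℤ)
    (h : l + i = m) :
    ((DerivedCategory.singleFunctor (ModuleCat.{u} A) i).obj N ⟶ K⟦l⟧) ≃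
      ((DerivedCategory.singleFunctor (ModuleCat.{u} A) 0).obj N ⟶ K⟦m⟧) :=
  (Iso.homCongr (((DerivedCategory.singleFunctors (ModuleCat.{u} A)).shiftIso (-i) i 0
    (by omega)).app N).symm (Iso.refl (K⟦l⟧))).trans
    (((shiftEquiv' (Dual.D A) (-i) i (by omega)).toAdjunction.homEquiv
      ((DerivedCategory.singleFunctor (ModuleCat.{u} A) 0).obj N) (K⟦l⟧)).trans
      (Iso.homCongr (Iso.refl _) ((shiftFunctorAdd' (Dual.D A) l i m h).app K).symm))

/-- D4: the dévissage property of `Hom(-, L) = 0`. -/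
lemma devissage_hom_zero (L : Dual.D A) :
    KL.Devissage' (fun Y : Dual.D A => Subsingleton (Y ⟶ L)) where
  iso e h := (Iso.homCongr e.symm (Iso.refl L)).subsingleton
  mid T hT h₁ h₃ := by
    refine ⟨fun f g => ?_⟩
    have hz : ∀ f : T.obj₂ ⟶ L, f = 0 := by
      intro f
      obtain ⟨g, hg⟩ := Triangle.yoneda_exact₂ T hT f (h₁.elim _ _)
      rw [hg, h₃.elim g 0, comp_zero]
    rw [hz f, hz g]
  zero K hK := ⟨fun f g => hK.eq_of_src f g⟩

end Bidual
end Groth.Agent.Lib.Helper6
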