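import Groth.Agent.Lib.Helper6.RDual3
import Groth.Agent.Lib.Helper6.Bidual5

/-! Right adjoint of restriction along a finite local ring map preserves normalized dualizing
complexes (helper6). -/

set_option autoImplicit false
set_option linter.unusedSectionVars false
set_option linter.style.haveILetI false
universe u
open CategoryTheory CategoryTheory.Limits DerivedCategory Pretriangulated Opposite
attribute [local instance] HasDerivedCategory.standard

namespace Groth.Agent.Lib.Helper6
namespace RDual

open Groth.Agent.Lib.Helper35 Bidual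

variable {A B : Type u} [CommRing A] [CommRing B] (φ : A →+* B)
  {R : Dual.D A ⥤ Dual.D B} (adj : DRing.restrictD φ ⊣ R)

variable [IsNoetherianRing A] [IsNoetherianRing B] [IsLocalRing A] [IsLocalRing B]

include adj in
theorem isNormalized_rightAdjoint [IsLocalHom φ] (hφ : φ.Finite) (ω : Dual.D A)
    (hn : Dual.IsNormalized A ω) : Dual.IsNormalized B (R.obj ω) := by
  intro i hi
  let N : ModuleCat.{u} A :=
    (ModuleCat.restrictScalars φ).obj (ModuleCat.of B (IsLocalRing.ResidueField B))
  let e1 := homEquivShift φ adj (Dual.inD B (IsLocalRing.ResidueField B)) ω i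
  let e2 : (DRing.restrictD φ).obj (Dual.inD B (IsLocalRing.ResidueField B)) ≅ Dual.inD A N :=
    ((ModuleCat.restrictScalars φ).mapDerivedCategorySingleFunctor 0).app
      (ModuleCat.of B (IsLocalRing.ResidueField B))
  -- `N` is a finite `A`-module killed by the maximal ideal
  letI : Algebra A B := φ.toAlgebra
  haveI hfinB : Module.Finite A (BA φ) := hφ
  have hfin : Module.Finite A N := by
    let q : (ModuleCat.of B B) ⟶ ModuleCat.of B (IsLocalRing.ResidueField B) :=
      ModuleCat.ofHom (Submodule.mkQ (IsLocalRing.maximalIdeal B))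
    refine Module.Finite.of_surjective ((ModuleCat.restrictScalars φ).map q).hom ?_
    intro x
    obtain ⟨y, hy⟩ := Submodule.mkQ_surjective (IsLocalRing.maximalIdeal B) x
    exact ⟨y, hy⟩
  have hV : ∀ a ∈ IsLocalRing.maximalIdeal A, ∀ v : N, a • v = 0 := by
    intro a ha v
    have h1 : φ a ∈ IsLocalRing.maximalIdeal B := _root_.map_nonunit φ a ha
    obtain ⟨y, hy⟩ := Submodule.mkQ_surjective (IsLocalRing.maximalIdeal B) v
    change φ a • (v : IsLocalRing.ResidueField B) = 0
    rw [← hy]
    change Submodule.Quotient.mk (φ a • y) = 0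
    rw [Submodule.Quotient.mk_eq_zero]
    exact Ideal.mul_mem_right _ _ h1
  obtain ⟨e, ⟨l⟩⟩ := exists_pi_equiv (IsLocalRing.maximalIdeal A) N hV
  have h0 : Subsingleton (Dual.inD A (A ⧸ IsLocalRing.maximalIdeal A) ⟶ ω⟦i⟧) := hn i hi
  have h1 := subsingleton_hom_pi (ModuleCat.of A (A ⧸ IsLocalRing.maximalIdeal A)) e (ω⟦i⟧) h0
  let e3 : Dual.inD A N ≅ Dual.inD A (Fin e → A ⧸ IsLocalRing.maximalIdeal A) :=
    (DerivedCategory.singleFunctor (ModuleCat.{u} A) 0).mapIso l.toModuleIso
  exact (e1.trans (Iso.homCongr (e2 ≪≫ e3) (Iso.refl _))).subsingleton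

end RDual
end Groth.Agent.Lib.Helper6
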