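import Groth.Agent.S0375
import Groth.Agent.Lib.Helper83.DerivedPush
import Groth.Agent.Lib.Helper35.RHomKInj
import Groth.Agent.Lib.Helper26.InjHullQuot
import Groth.Agent.Lib.Helper6.RDual4

/-! Duality for finite length modules via the quotient rings `A/m^n` (helper6). -/

set_option autoImplicit false
set_option linter.unusedSectionVars false
set_option linter.style.haveILetI false
universe u
open CategoryTheory CategoryTheory.Limits DerivedCategory Pretriangulated Opposite
attribute [local instance] HasDerivedCategory.standard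

namespace Groth.Agent.Lib.Helper6
namespace RDual

section adjoint

variable {A B : Type u} [CommRing A] [CommRing B] (φ : A →+* B)

/-- a right adjoint of restriction of scalars on derived categories. -/
noncomputable def Rq : Dual.D A ⥤ Dual.D B :=
  Groth.Agent.Lib.Helper83.DerivedPush.RG (ModuleCat.coextendScalars.{u, u, u} φ)
    (Groth.Agent.Lib.Helper35.RHomKInj.hasKInjRes A)

/-- the adjunction. -/
noncomputable def adjq : DRing.restrictD φ ⊣ Rq φ :=
  Groth.Agent.Lib.Helper83.DerivedPush.adjD (ModuleCat.restrictCoextendScalarsAdj.{u, u, u} φ)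
    (Groth.Agent.Lib.Helper35.RHomKInj.hasKInjRes A)

end adjoint

end RDual

namespace MatlisFL

theorem exists_pow_smul_eq_zero (A : Type u) [CommRing A] [IsLocalRing A] (N : Type u)
    [AddCommGroup N] [Module A N] (hN : IsFiniteLength A N) :
    ∃ n : ℕ, ∀ a ∈ (IsLocalRing.maximalIdeal A) ^ n, ∀ x : N, a • x = 0 := by
  induction hN with
  | of_subsingleton =>
    exact ⟨0, fun a _ x => Subsingleton.elim _ _⟩
  | of_simple_quotient hN' ih =>
    rename_i M _ _ N' hs
    obtain ⟨n, hn⟩ := ih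
    refine ⟨n + 1, fun a ha x => ?_⟩
    have hann : Module.annihilator A (M ⧸ N') = IsLocalRing.maximalIdeal A :=
      IsLocalRing.eq_maximalIdeal (IsSimpleModule.annihilator_isMaximal (R := A) (M := M ⧸ N'))
    have hc : ∀ c ∈ IsLocalRing.maximalIdeal A, ∀ y : M, c • y ∈ N' := by
      intro c hc y
      rw [← hann] at hc
      have h1 := Module.mem_annihilator.1 hc (Submodule.Quotient.mk y)
      rw [← Submodule.Quotient.mk_smul, Submodule.Quotient.mk_eq_zero] at h1
      exact h1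
    rw [pow_succ] at ha
    refine Submodule.mul_induction_on ha ?_ ?_
    · intro b hb c hc'
      have h1 := hn b hb ⟨c • x, hc c hc' x⟩
      have h2 : b • (c • x) = 0 := congrArg Subtype.val h1
      rw [mul_smul]
      exact h2
    · intro a₁ a₂ h₁ h₂
      rw [add_smul, h₁, h₂, add_zero]

variable (A : Type u) [CommRing A] [IsLocalRing A] [IsNoetherianRing A] (n : ℕ)

/-- the ideal `m^(n+1)`. -/
abbrev qI : Ideal A := (IsLocalRing.maximalIdeal A) ^ (n + 1)

lemma qI_le : qI A n ≤ IsLocalRing.maximalIdeal A :=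
  Ideal.pow_le_self (Nat.succ_ne_zero n)

lemma qI_ne_top : qI A n ≠ ⊤ := fun h =>
  (IsLocalRing.maximalIdeal.isMaximal A).ne_top (top_le_iff.1 (h ▸ qI_le A n))

instance : Nontrivial (A ⧸ qI A n) := Ideal.Quotient.nontrivial_iff.2 (qI_ne_top A n)

instance : IsLocalRing (A ⧸ qI A n) :=
  IsLocalRing.of_surjective' (Ideal.Quotient.mk (qI A n)) Ideal.Quotient.mk_surjective

instance : IsLocalHom (Ideal.Quotient.mk (qI A n)) :=
  IsLocalHom.of_surjective (Ideal.Quotient.mk (qI A n)) Ideal.Quotient.mk_surjective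

lemma ringKrullDim_quot : ringKrullDim (A ⧸ qI A n) = 0 := by
  rw [← ringKrullDimZero_iff_ringKrullDim_eq_zero,
    Ideal.krullDimLE_zero_quotient_iff_forall_minimalPrimes_isMaximal]
  intro J hJ
  have h1 : IsLocalRing.maximalIdeal A ≤ J := hJ.1.1.le_of_pow_le hJ.1.2
  have h2 : IsLocalRing.maximalIdeal A = J :=
    (IsLocalRing.maximalIdeal.isMaximal A).eq_of_le hJ.1.1.ne_top h1
  rw [← h2]
  exact IsLocalRing.maximalIdeal.isMaximal A

lemma finite_mk : (Ideal.Quotient.mk (qI A n)).Finite :=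
  RingHom.Finite.of_surjective _ Ideal.Quotient.mk_surjective

section theta6
variable {A : Type u} [CommRing A] (I : Ideal A) (N E : Type u) [AddCommGroup N] [Module A N]
  [Module (A ⧸ I) N] [IsScalarTower A (A ⧸ I) N] [AddCommGroup E] [Module A E]

omit [Module (A ⧸ I) N] [IsScalarTower A (A ⧸ I) N] in
lemma smul_eq_zero_of_mem [Module (A ⧸ I) N] [IsScalarTower A (A ⧸ I) N] (a : A) (ha : a ∈ I) (x : N) : a • x = 0 := by
  rw [← algebraMap_smul (A ⧸ I) a x]
  have : algebraMap A (A ⧸ I) a = 0 := Ideal.Quotient.eq_zero_iff_mem.2 ha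
  rw [this, zero_smul]

/-- `Hom_{A/I}(N, E[I]) ≃ Hom_A(N, E)` -/
noncomputable def homTorsionEquiv : (N →ₗ[A ⧸ I] LocCoh.torsionBy I E) ≃+ (N →ₗ[A] E) where
  toFun g := (Submodule.subtype _).comp (g.restrictScalars A)
  invFun h :=
    { toFun := fun x => ⟨h x, by
        rw [Submodule.mem_torsionBySet_iff]
        rintro ⟨a, ha⟩
        change a • h x = 0
        rw [← map_smul, smul_eq_zero_of_mem I N a ha x, map_zero]⟩
      map_add' := fun x y => Subtype.ext (map_add h x y)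
      map_smul' := fun b x => by
        obtain ⟨a, rfl⟩ := Ideal.Quotient.mk_surjective b
        apply Subtype.ext
        change h (Ideal.Quotient.mk I a • x) = a • h x
        rw [← map_smul]
        congr 1
        exact algebraMap_smul (A ⧸ I) a x }
  left_inv g := by
    ext x
    rfl
  right_inv h := by
    ext x
    rfl
  map_add' g g' := by
    ext x
    rfl

lemma homTorsionEquiv_smul (a : A) (g : N →ₗ[A ⧸ I] LocCoh.torsionBy I E) :
    homTorsionEquiv I N E (Ideal.Quotient.mk I a • g) = a • homTorsionEquiv I N E g := by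
  ext x
  rfl

end theta6


section main

variable (A : Type u) [CommRing A] [IsLocalRing A] [IsNoetherianRing A]

theorem main (ω : Dual.D A)
    (hω : Dual.IsDualizing A ω) (hn : Dual.IsNormalized A ω) (E : Type u) [AddCommGroup E]
    [Module A E] (f : IsLocalRing.ResidueField A →ₗ[A] E) (hf : InjHull.IsInjectiveHull f)
    (N : Type u) [AddCommGroup N] [Module A N] (hN : IsFiniteLength A N) :
    Nonempty ((Dual.inD A N ⟶ ω) ≃ₗ[A] (N →ₗ[A] E)) := by
  obtain ⟨n', hn'⟩ := exists_pow_smul_eq_zero A N hN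
  have htors : Module.IsTorsionBySet A N (qI A n' : Set A) := by
    intro x a
    exact hn' a.1 (Ideal.pow_le_pow_right (Nat.le_succ n') a.2) x
  letI : Module (A ⧸ qI A n') N := htors.module
  haveI : IsScalarTower A (A ⧸ qI A n') N := htors.isScalarTower
  let φ : A →+* (A ⧸ qI A n') := Ideal.Quotient.mk (qI A n')
  have hφ : φ.Finite := finite_mk A n'
  let ωB : Dual.D (A ⧸ qI A n') := (RDual.Rq φ).obj ω
  have hωB : Dual.IsDualizing (A ⧸ qI A n') ωB :=
    RDual.isDualizing_rightAdjoint φ (RDual.adjq φ) hφ ω hω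
  have hnB : Dual.IsNormalized (A ⧸ qI A n') ωB :=
    RDual.isNormalized_rightAdjoint φ (RDual.adjq φ) hφ ω hn
  obtain ⟨g, hg⟩ := Groth.Agent.Lib.Helper26.InjHullQuot.main A (qI A n') E f hf
  obtain ⟨ψ⟩ := Groth.Agent.S0375.result (A ⧸ qI A n') (ringKrullDim_quot A n') ωB hωB hnB
    (LocCoh.torsionBy (qI A n') E) g hg
  let NB : ModuleCat.{u} (A ⧸ qI A n') := ModuleCat.of (A ⧸ qI A n') N
  let EB : ModuleCat.{u} (A ⧸ qI A n') := ModuleCat.of (A ⧸ qI A n') (LocCoh.torsionBy (qI A n') E)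
  let l0 : N ≃ₗ[A] ((ModuleCat.restrictScalars φ).obj NB) :=
    { toFun := fun x => x
      invFun := fun x => x
      left_inv := fun _ => rfl
      right_inv := fun _ => rfl
      map_add' := fun _ _ => rfl
      map_smul' := fun _ _ => rfl }
  let e0 : ModuleCat.of A N ≅ (ModuleCat.restrictScalars φ).obj NB := l0.toModuleIso
  let e1 : (DRing.restrictD φ).obj (Dual.inD (A ⧸ qI A n') N) ≅ Dual.inD A N :=
    ((ModuleCat.restrictScalars φ).mapDerivedCategorySingleFunctor 0).app NB ≪≫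
      (DerivedCategory.singleFunctor (ModuleCat.{u} A) 0).mapIso e0.symm
  let θ1 : (Dual.inD A N ⟶ ω) ≃ₗ[A] ((DRing.restrictD φ).obj (Dual.inD (A ⧸ qI A n') N) ⟶ ω) :=
    Linear.homCongr A e1.symm (Iso.refl ω)
  let θ2 : ((DRing.restrictD φ).obj (Dual.inD (A ⧸ qI A n') N) ⟶ ω) ≃+
      (Dual.inD (A ⧸ qI A n') N ⟶ ωB) :=
    (RDual.adjq φ).homAddEquiv (Dual.inD (A ⧸ qI A n') N) ω
  let θ3 : (Dual.inD (A ⧸ qI A n') N ⟶ ωB) ≃ₗ[A ⧸ qI A n']
      (Dual.inD (A ⧸ qI A n') N ⟶ Dual.inD (A ⧸ qI A n') (LocCoh.torsionBy (qI A n') E)) :=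
    Linear.homCongr (A ⧸ qI A n') (Iso.refl _) ψ
  let θ4 : (NB ⟶ EB) ≃ₗ[A ⧸ qI A n']
      (Dual.inD (A ⧸ qI A n') N ⟶ Dual.inD (A ⧸ qI A n') (LocCoh.torsionBy (qI A n') E)) :=
    LinearEquiv.ofBijective
      ((DerivedCategory.singleFunctor (ModuleCat.{u} (A ⧸ qI A n')) 0).mapLinearMap (A ⧸ qI A n'))
      ((Functor.FullyFaithful.ofFullyFaithful
        (DerivedCategory.singleFunctor (ModuleCat.{u} (A ⧸ qI A n')) 0)).map_bijective NB EB)
  let θ5 : (NB ⟶ EB) ≃ₗ[A ⧸ qI A n'] (N →ₗ[A ⧸ qI A n'] LocCoh.torsionBy (qI A n') E) :=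
    ModuleCat.homLinearEquiv (S := A ⧸ qI A n')
  let θB : (Dual.inD (A ⧸ qI A n') N ⟶ ωB) ≃ₗ[A ⧸ qI A n']
      (N →ₗ[A ⧸ qI A n'] LocCoh.torsionBy (qI A n') E) :=
    θ3.trans (θ4.symm.trans θ5)
  let θ6 := homTorsionEquiv (qI A n') N E
  let Θ : (Dual.inD A N ⟶ ω) ≃+ (N →ₗ[A] E) :=
    (θ1.toAddEquiv.trans θ2).trans (θB.toAddEquiv.trans θ6)
  have h2 : ∀ (a : A) (y : (DRing.restrictD φ).obj (Dual.inD (A ⧸ qI A n') N) ⟶ ω),
      θ2 (a • y) = φ a • θ2 y := by
    intro a y
    apply θ2.symm.injective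
    rw [AddEquiv.symm_apply_apply]
    have h4 : θ2.symm (φ a • θ2 y) = a • θ2.symm (θ2 y) :=
      RestrLin.homEquiv_symm_smul (RDual.adjq φ) (Dual.inD (A ⧸ qI A n') N) ω a (θ2 y)
    have h3 : θ2.symm (θ2 y) = y := AddEquiv.symm_apply_apply θ2 y
    rw [h4, h3]
  refine ⟨{ Θ with map_smul' := fun a x => ?_ }⟩
  change θ6 (θB (θ2 (θ1 (a • x)))) = a • θ6 (θB (θ2 (θ1 x)))
  rw [map_smul, h2, map_smul]
  exact homTorsionEquiv_smul (qI A n') N E a _

end main


end MatlisFL
end Groth.Agent.Lib.Helper6
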