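import Groth.Agent.Lib.Helper6.HomSingle
import Groth.Agent.Lib.Helper6.InjDimMax3
import Groth.Agent.Lib.Helper35.TwoTerm
import Groth.Prelude.Def_DDual2

/-! Right adjoints of restriction of scalars: linearity and finiteness of cohomology (helper6). -/

set_option autoImplicit false
set_option linter.unusedSectionVars false
set_option linter.overlappingInstances false
universe u
open CategoryTheory CategoryTheory.Limits DerivedCategory Pretriangulated
attribute [local instance] HasDerivedCategory.standard

namespace Groth.Agent.Lib.Helper6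
namespace RestrLin

open Groth.Agent.Lib.Helper35

section lin

variable {A B : Type u} [CommRing A] [CommRing B] (φ : A →+* B)

lemma restrictScalars_map_smul_id (M : ModuleCat.{u} B) (a : A) :
    (ModuleCat.restrictScalars φ).map (φ a • 𝟙 M) = a • 𝟙 _ := by
  ext x
  rfl

lemma restrictCx_map_smul_id (E : DRing.Cx B) (a : A) :
    ((ModuleCat.restrictScalars φ).mapHomologicalComplex (ComplexShape.up ℤ)).map (φ a • 𝟙 E) =
      a • 𝟙 _ := by
  apply HomologicalComplex.hom_ext
  intro i
  simp only [Functor.mapHomologicalComplex_map_f, HomologicalComplex.smul_f_apply,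
    HomologicalComplex.id_f]
  exact restrictScalars_map_smul_id φ (E.X i) a

lemma restrictD_map_smul_id (L : Dual.D B) (a : A) :
    (DRing.restrictD φ).map (φ a • 𝟙 L) = a • 𝟙 _ := by
  have e : Q.obj (Q.objPreimage L) ≅ L := Q.objObjPreimageIso L
  have h1 : φ a • 𝟙 L = e.inv ≫ Q.map (φ a • 𝟙 (Q.objPreimage L)) ≫ e.hom := by
    rw [Functor.map_smul, CategoryTheory.Functor.map_id, Linear.smul_comp, Linear.comp_smul,
      Category.id_comp, e.inv_hom_id]
  rw [h1, Functor.map_comp, Functor.map_comp]
  have h2 := (ModuleCat.restrictScalars φ).mapDerivedCategoryFactors_hom_naturality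
    (φ a • 𝟙 (Q.objPreimage L))
  have h3 : (DRing.restrictD φ).map (Q.map (φ a • 𝟙 (Q.objPreimage L))) = a • 𝟙 _ := by
    rw [← cancel_mono ((ModuleCat.restrictScalars φ).mapDerivedCategoryFactors.hom.app
      (Q.objPreimage L))]
    erw [h2]
    rw [restrictCx_map_smul_id, Functor.map_smul, CategoryTheory.Functor.map_id, Linear.comp_smul,
      Linear.smul_comp]
    erw [Category.comp_id, Category.id_comp]
  rw [h3, Linear.smul_comp, Linear.comp_smul, Category.id_comp, ← Functor.map_comp, e.inv_hom_id,
    CategoryTheory.Functor.map_id]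

lemma restrictD_map_smul {K L : Dual.D B} (f : K ⟶ L) (a : A) :
    (DRing.restrictD φ).map (φ a • f) = a • (DRing.restrictD φ).map f := by
  have : φ a • f = f ≫ (φ a • 𝟙 L) := by rw [Linear.comp_smul, Category.comp_id]
  rw [this, Functor.map_comp, restrictD_map_smul_id, Linear.comp_smul, Category.comp_id]

variable {φ} {R : Dual.D A ⥤ Dual.D B} (adj : DRing.restrictD φ ⊣ R)

/-- the adjunction bijection is semilinear. -/
lemma homEquiv_symm_smul (X : Dual.D B) (Y : Dual.D A) (a : A) (h : X ⟶ R.obj Y) :
    (adj.homEquiv X Y).symm (φ a • h) = a • (adj.homEquiv X Y).symm h := by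
  rw [Adjunction.homEquiv_counit, Adjunction.homEquiv_counit, restrictD_map_smul,
    Linear.smul_comp]

end lin

/-- transfer of finiteness along a semilinear additive bijection. -/
lemma finite_of_semilinear_addEquiv {A B : Type u} [CommRing A] [CommRing B] [Algebra A B]
    {EA : Type*} {EB : Type*} [AddCommGroup EA] [Module A EA] [AddCommGroup EB] [Module B EB]
    [Module.Finite A EA] (θ : EB ≃+ EA)
    (h : ∀ (a : A) (f : EB), θ (algebraMap A B a • f) = a • θ f) : Module.Finite B EB := by
  letI : Module A EB := Module.compHom EB (algebraMap A B)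
  haveI : IsScalarTower A B EB := IsScalarTower.of_algebraMap_smul (fun r x => rfl)
  let θ' : EB ≃ₗ[A] EA := { θ with map_smul' := fun a f => h a f }
  haveI : Module.Finite A EB := Module.Finite.equiv θ'.symm
  exact Module.Finite.of_restrictScalars_finite A B EB

section fin

variable {A : Type u} [CommRing A] [IsNoetherianRing A]

/-- `Hom(M[0], K[i])` is finite for `M` finite and `K` bounded below with finite cohomology. -/
theorem finite_hom_inD_of_boundedBelow (M : Type u) [AddCommGroup M] [Module A M]
    [Module.Finite A M] (K : Dual.D A) (a : ℤ)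
    (hKa : ∀ i : ℤ, i < a → Subsingleton (Dual.HD A K i))
    (hK : ∀ i : ℤ, Module.Finite A (Dual.HD A K i)) (i : ℤ) :
    Module.Finite A (Dual.inD A M ⟶ K⟦i⟧) := by
  set K' : Dual.D A := K⟦i⟧ with hK'
  set L : Dual.D A := (TStructure.t.truncLT 1).obj K' with hL
  have hLle : L.IsLE 0 := TStructure.t.isLE_truncLT_obj K' 1 0
  -- homology of L
  have hiso : ∀ j : ℤ, j < 1 → Nonempty ((homologyFunctor (ModuleCat.{u} A) j).obj L ≅
      (homologyFunctor (ModuleCat.{u} A) (j + i)).obj K) := by
    intro j hj
    have h1 := KL.isIso_homology_map_truncLTι' K' 1 j hj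
    exact ⟨asIso ((homologyFunctor (ModuleCat.{u} A) j).map ((TStructure.t.truncLTι 1).app K')) ≪≫
      ((homologyFunctor (ModuleCat.{u} A) 0).shiftIso i j (j + i) (by omega)).app K⟩
  have hLz : ∀ j : ℤ, (j < a - i ∨ 0 < j) →
      Subsingleton ((homologyFunctor (ModuleCat.{u} A) j).obj L) := by
    intro j hj
    by_cases hj0 : 0 < j
    · exact ModuleCat.subsingleton_of_isZero (DerivedCategory.isZero_of_isLE L 0 j hj0)
    · have hj' : j < a - i := by omega
      obtain ⟨e⟩ := hiso j (by omega)
      have := hKa (j + i) (by omega)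
      exact e.toLinearEquiv.toEquiv.subsingleton
  have hLfin : ∀ j : ℤ, Module.Finite A ((homologyFunctor (ModuleCat.{u} A) j).obj L) := by
    intro j
    by_cases hj0 : 0 < j
    · have := hLz j (Or.inr hj0)
      infer_instance
    · obtain ⟨e⟩ := hiso j (by omega)
      have := hK (j + i)
      exact Module.Finite.equiv e.symm.toLinearEquiv
  have hLge : L.IsGE (a - i) := by
    rw [DerivedCategory.isGE_iff]
    intro j hj
    have := hLz j (Or.inl hj)
    exact ModuleCat.isZero_of_subsingleton _
  have h1 := InjDimMax.finite_hom_inD_of_bounded M L (a - i) 0 hLfin 0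
  have h2 : Module.Finite A (Dual.inD A M ⟶ L) :=
    Module.Finite.equiv (Linear.homCongr A (Iso.refl (Dual.inD A M))
      ((shiftFunctorZero (Dual.D A) ℤ).app L))
  let l2 : (Dual.inD A M ⟶ L) ≃ₗ[A] (Dual.inD A M ⟶ K') :=
    LinearEquiv.ofBijective (Linear.rightComp A (Dual.inD A M) ((TStructure.t.truncLTι 1).app K'))
      (KL.postcomp_truncLTι_bijective (Dual.inD A M) K')
  exact Module.Finite.equiv l2

end fin

end RestrLin
end Groth.Agent.Lib.Helper6
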