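import Groth.Agent.Lib.Helper32.GammaColim
import Groth.Agent.Lib.Helper60.LocalCohLES
import Groth.Prelude.Def_DualLC
import Groth.Prelude.Def_Wider

/-! Bridge between Mathlib's local cohomology of a module (`LocCoh.H`, colimit of old `Ext`) and
the derived-category local cohomology `Dual2.HDI` (colimit of `Hom_{D(A)}(A/I^n, M[i])`)
(helper6). -/

set_option autoImplicit false
universe u
open CategoryTheory CategoryTheory.Limits DerivedCategory Opposite
attribute [local instance] HasDerivedCategory.standard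

namespace Groth.Agent.Lib.Helper6
namespace LcHDI

open Groth.Agent.Lib.Helper60 Groth.Agent.Lib.Helper32.GammaColim

variable {A : Type u} [CommRing A] (I : Ideal A) (i : ℕ) (M : ModuleCat.{u} A)

/-- `M[i]` in `D(A)`. -/
noncomputable abbrev X : Dual.D A :=
  ((DerivedCategory.singleFunctor (ModuleCat.{u} A) 0).obj M)⟦(i : ℤ)⟧

/-- `Ext^i(A/I^n, M) ≃ Hom_{D(A)}(A/I^n, M[i])`. -/
noncomputable def extEquiv (n : ℕ) :
    Abelian.Ext (quotPow I n) M i ≃ₗ[A]
      ((DerivedCategory.singleFunctor (ModuleCat.{u} A) 0).obj (S I n) ⟶ X i M) :=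
  Abelian.Ext.homLinearEquiv

lemma extEquiv_lcRes {n k : ℕ} (h : n ≤ k) (x : Abelian.Ext (quotPow I n) M i) :
    extEquiv I i M k (lcRes I h x) =
      (DerivedCategory.singleFunctor (ModuleCat.{u} A) 0).map (tr I h) ≫ extEquiv I i M n x := by
  change (lcRes I h x).hom = _ ≫ x.hom
  unfold lcRes
  rw [Abelian.Ext.comp_hom, Abelian.Ext.mk₀_hom, ShiftedHom.mk₀_comp]
  rfl

/-- the cocone with point `H^i_I(M)`. -/
noncomputable def cocone : Cocone (Fd I (X i M)) where
  pt := ModuleCat.of A (ULift.{u + 1} ((localCohomology I i).obj M))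
  ι :=
    { app := fun j => ModuleCat.ofHom
        ((ULift.moduleEquiv (R := A)).symm.toLinearMap ∘ₗ lcMkₗ I i M j.unop.unop ∘ₗ
          (extEquiv I i M j.unop.unop).symm.toLinearMap)
      naturality := by
        intro j j' f
        apply ModuleCat.hom_ext
        apply LinearMap.ext
        intro φ
        obtain ⟨x, rfl⟩ := (extEquiv I i M j.unop.unop).surjective φ
        change ULift.up (lcMk I i M j'.unop.unop ((extEquiv I i M j'.unop.unop).symm
          (((Fd I (X i M)).map f).hom _))) =
          ULift.up (lcMk I i M j.unop.unop ((extEquiv I i M j.unop.unop).symm _))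
        rw [Fd_map_apply, ← extEquiv_lcRes I i M (leOfHom f.unop.unop),
          LinearEquiv.symm_apply_apply, LinearEquiv.symm_apply_apply, lcMk_res] }

lemma cocone_ι_apply (j : ℕᵒᵖᵒᵖ) (x : Abelian.Ext (quotPow I j.unop.unop) M i) :
    ((cocone I i M).ι.app j).hom (extEquiv I i M j.unop.unop x) =
      ULift.up (lcMk I i M j.unop.unop x) := by
  change ULift.up (lcMk I i M j.unop.unop ((extEquiv I i M j.unop.unop).symm _)) = _
  rw [LinearEquiv.symm_apply_apply]

theorem desc_bijective :
    Function.Bijective (colimit.desc (Fd I (X i M)) (cocone I i M)).hom := by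
  constructor
  · rw [injective_iff_map_eq_zero]
    intro x hx
    obtain ⟨j, φ, rfl⟩ := Concrete.colimit_exists_rep (Fd I (X i M)) x
    obtain ⟨y, rfl⟩ := (extEquiv I i M j.unop.unop).surjective φ
    have h1 : (colimit.desc (Fd I (X i M)) (cocone I i M)).hom
        ((colimit.ι (Fd I (X i M)) j) (extEquiv I i M j.unop.unop y)) =
        ((cocone I i M).ι.app j).hom (extEquiv I i M j.unop.unop y) :=
      ConcreteCategory.congr_hom (colimit.ι_desc (cocone I i M) j) _
    rw [h1, cocone_ι_apply] at hx
    have h2 : lcMk I i M j.unop.unop y = 0 := congrArg ULift.down hx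
    obtain ⟨k, hk, hres⟩ := (lcMk_eq_zero_iff I i M y).1 h2
    let j' : ℕᵒᵖᵒᵖ := Opposite.op (Opposite.op k)
    let f : j ⟶ j' := (homOfLE hk).op.op
    have h3 := ConcreteCategory.congr_hom (colimit.w (Fd I (X i M)) f)
      (extEquiv I i M j.unop.unop y)
    rw [ConcreteCategory.comp_apply] at h3
    rw [← h3]
    have h4 : ((Fd I (X i M)).map f).hom (extEquiv I i M j.unop.unop y) = 0 := by
      rw [Fd_map_apply, ← extEquiv_lcRes I i M hk, hres]
      exact map_zero _
    change (colimit.ι (Fd I (X i M)) j').hom (((Fd I (X i M)).map f).hom _) = 0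
    rw [h4, map_zero]
  · intro y
    obtain ⟨n, x, hx⟩ := lcMk_surj I i M y.down
    refine ⟨(colimit.ι (Fd I (X i M)) (Opposite.op (Opposite.op n))) (extEquiv I i M n x), ?_⟩
    have h1 : (colimit.desc (Fd I (X i M)) (cocone I i M)).hom
        ((colimit.ι (Fd I (X i M)) (Opposite.op (Opposite.op n))) (extEquiv I i M n x)) =
        ((cocone I i M).ι.app (Opposite.op (Opposite.op n))).hom (extEquiv I i M n x) :=
      ConcreteCategory.congr_hom (colimit.ι_desc (cocone I i M) (Opposite.op (Opposite.op n))) _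
    rw [h1]
    have := cocone_ι_apply I i M (Opposite.op (Opposite.op n)) x
    rw [this]
    change ULift.up _ = y
    rw [hx]
    rfl

/-- **Bridge**: `H^i_I(M) ≃ colim_n Hom_{D(A)}(A/Iⁿ, M[i])`. -/
theorem main :
    Nonempty ((localCohomology I i).obj M ≃ₗ[A]
      (colimit (Fd I (X i M)) : ModuleCat.{u + 1} A)) :=
  ⟨((LinearEquiv.ofBijective (colimit.desc (Fd I (X i M)) (cocone I i M)).hom
    (desc_bijective I i M)).trans (ULift.moduleEquiv (R := A))).symm⟩

/-- The bridge in the Prelude's vocabulary. -/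
theorem nonempty_lcHDIEquiv (N : Type u) [AddCommGroup N] [Module A N] :
    Nonempty (LocCoh.H I i N ≃ₗ[A] Dual2.HDI A I (Dual.inD A N) (i : ℤ)) :=
  main I i (ModuleCat.of A N)

end LcHDI
end Groth.Agent.Lib.Helper6
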