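import Groth.Agent.Lib.Helper6.LD3
import Groth.Agent.Lib.Helper6.LcHDI
import Groth.Agent.Lib.Helper6.InjDimMax3
import Groth.Agent.Lib.Helper35.LDInj
import Groth.Agent.Lib.Helper35.LDBase
import Groth.Agent.S1812

/-! Local duality (helper6), part 4: `H^i_m(M) ≃ Hom_A(Ext^{-i}(M, ω), E)` over any Noetherian
local ring with a normalized dualizing complex. -/

set_option autoImplicit false
set_option linter.unusedSectionVars false
universe u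
open CategoryTheory CategoryTheory.Limits DerivedCategory Pretriangulated Opposite
  CochainComplex HomComplex
attribute [local instance] HasDerivedCategory.standard

namespace Groth.Agent.Lib.Helper6
namespace LD

open Groth.Agent.Lib.Helper32 Groth.Agent.Lib.Helper32.GammaNoethD

variable {A : Type u} [CommRing A]

section shift

/-- `Hom(Y, (E[0])[i]) ≃ Hom(H^{-i}(Y), E)` for an injective module `E`. -/
theorem nonempty_hom_shift_single_injective_equiv (E : Type u) [AddCommGroup E] [Module A E]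
    [Module.Injective A E] (Y : Dual.D A) (i : ℤ) :
    Nonempty ((Y ⟶ (Dual.inD A E)⟦i⟧) ≃ₗ[A] (Dual.HD A Y (-i) →ₗ[A] E)) := by
  haveI : Injective (ModuleCat.of A E) :=
    Module.injective_object_of_injective_module (R := A) (M := E)
  let α1 : (Y ⟶ (Dual.inD A E)⟦i⟧) ≃ₗ[A] (Y⟦-i⟧ ⟶ ((Dual.inD A E)⟦i⟧)⟦-i⟧) :=
    LinearEquiv.ofBijective ((CategoryTheory.shiftFunctor (Dual.D A) (-i)).mapLinearMap A)
      ⟨Functor.map_injective _, Functor.map_surjective _⟩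
  let α2 : (Y⟦-i⟧ ⟶ ((Dual.inD A E)⟦i⟧)⟦-i⟧) ≃ₗ[A] (Y⟦-i⟧ ⟶ Dual.inD A E) :=
    Linear.homCongr A (Iso.refl _) (shiftShiftNeg (Dual.inD A E) i)
  obtain ⟨α3⟩ := Groth.Agent.Lib.Helper35.LDInj.nonempty_hom_single_injective_equiv
    (ModuleCat.of A E) (Y⟦-i⟧)
  let e4 : (DerivedCategory.homologyFunctor (ModuleCat.{u} A) 0).obj (Y⟦-i⟧) ≅
      (DerivedCategory.homologyFunctor (ModuleCat.{u} A) (-i)).obj Y :=
    ((DerivedCategory.homologyFunctor (ModuleCat.{u} A) 0).shiftIso (-i) 0 (-i) (by simp)).app Y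
  let α4 : ((DerivedCategory.homologyFunctor (ModuleCat.{u} A) 0).obj (Y⟦-i⟧) ⟶ ModuleCat.of A E)
      ≃ₗ[A] (Dual.HD A Y (-i) →ₗ[A] E) :=
    (ModuleCat.homLinearEquiv (S := A)).trans (LinearEquiv.congrLeft E A e4.toLinearEquiv)
  exact ⟨α1 ≪≫ₗ α2 ≪≫ₗ α3 ≪≫ₗ α4⟩

end shift

variable [IsLocalRing A] [IsNoetherianRing A]
  (ω : Dual.D A) (hω : Dual.IsDualizing A ω) (hn : Dual.IsNormalized A ω)
  {E : Type u} [AddCommGroup E] [Module A E]
  (f : IsLocalRing.ResidueField A →ₗ[A] E) (hf : InjHull.IsInjectiveHull f)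
  (M : Type u) [AddCommGroup M] [Module A M] [Module.Finite A M]

include hω hn hf in
/-- **Local duality** for finite modules over a Noetherian local ring (not necessarily
complete) in terms of `RΓ_m`. -/
theorem nonempty_hd_Rgamma_equiv [DRing.HasRgammaI (IsLocalRing.maximalIdeal A)] (i : ℤ) :
    Nonempty (Dual.HD A ((DRing.RgammaI (IsLocalRing.maximalIdeal A)).obj (Dual.inD A M)) i ≃ₗ[A]
      ((Dual.inD A M ⟶ ω⟦(-i)⟧) →ₗ[A] E)) := by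
  obtain ⟨I, a, b, hv, hinj, hKI, ⟨ι⟩⟩ := DqTri.exists_model ω hω
  haveI := hKI
  have hωI : Dual.IsDualizing A (Q.obj I : Dual.D A) := HomBC.isDualizing_of_iso ι hω
  let MM : ModuleCat.{u} A := ModuleCat.of A M
  let X : DRing.Cx A := (Bidual.Dc I).obj (op MM)
  let K : Dual.D A := (Bidual.Dq I).obj (op MM)
  haveI : X.IsStrictlyLE b := Bidual.isStrictlyLE_Dc I a b hv MM
  haveI : K.IsLE b := (inferInstance : (Q.obj X : Dual.D A).IsLE b)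
  obtain ⟨a', b', hge, hle, -⟩ := HomBC.isDualizing_bounds hωI
  have hfinK : ∀ j : ℤ, Module.Finite A (Dual.HD A K j) := by
    intro j
    have e1 : Dual.HD A K j ≃ₗ[A] (Dual.inD A M ⟶ (Q.obj I : Dual.D A)⟦j⟧) :=
      Bidual.hdQEquiv X j ≪≫ₗ Bidual.homologyDcEquiv MM I j
    haveI : Module.Finite A (Dual.inD A M ⟶ (Q.obj I : Dual.D A)⟦j⟧) :=
      InjDimMax.finite_hom_inD_of_bounded (B := A) M (Q.obj I) a' b' hωI.finite_cohomology j
    exact Module.Finite.equiv e1.symm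
  obtain ⟨P, hPb, hPff, ⟨e⟩⟩ := exists_finFree_resolution K b hfinK
  have hPfin : ∀ p : ℤ, Module.Finite A (P.X p) := fun p => (hPff p).1
  let J : DRing.Cx A := DRing.homCx P I
  haveI : J.IsKInjective :=
    isKInjective_homCx P I a b hPb hPff (fun q hq => hv q (Or.inl hq)) hinj
  obtain ⟨θ⟩ := nonempty_inD_iso_homCx I a b hv hinj hωI.toEnd_bijective
    hωI.ext_self_subsingleton M P e
  set 𝔪 := IsLocalRing.maximalIdeal A with h𝔪
  let RΓ := DRing.RgammaI 𝔪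
  -- (c)
  let ec : Dual.HD A (RΓ.obj (Dual.inD A M)) i ≃ₗ[A] Dual.HD A (RΓ.obj (Q.obj J)) i :=
    ((DerivedCategory.homologyFunctor (ModuleCat.{u} A) i).mapIso (RΓ.mapIso θ)).toLinearEquiv
  -- (d)
  haveI : IsIso (βΓ 𝔪 J) := TriRF.isIso_β _ _ _ hasKInjRes J
  let ed : Dual.HD A (RΓ.obj (Q.obj J)) i ≃ₗ[A] Dual.HD A (Q.obj (Gam 𝔪 J)) i :=
    ((DerivedCategory.homologyFunctor (ModuleCat.{u} A) i).mapIso
      (asIso (βΓ 𝔪 J))).symm.toLinearEquiv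
  let ed' : Dual.HD A (Q.obj (Gam 𝔪 J)) i ≃ₗ[A] (Gam 𝔪 J).homology i :=
    Bidual.hdQEquiv (Gam 𝔪 J) i
  -- (e)
  let ee : (Gam 𝔪 J).homology i ≃ₗ[A] (DRing.homCx P (Gam 𝔪 I)).homology i :=
    ((HomologicalComplex.homologyFunctor (ModuleCat.{u} A) (ComplexShape.up ℤ) i).mapIso
      (gamHomIso 𝔪 P I hPfin a b hv)).symm.toLinearEquiv
  -- (f)
  haveI : (Gam 𝔪 I).IsKInjective := isKInjective_gam 𝔪 I a b hv hinj
  let ef : (DRing.homCx P (Gam 𝔪 I)).homology i ≃ₗ[A]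
      ((Q.obj P : Dual.D A) ⟶ (Q.obj (Gam 𝔪 I) : Dual.D A)⟦i⟧) :=
    HomCxH.homologyEquiv P (Gam 𝔪 I) i
  -- (g)
  haveI : IsIso (βΓ 𝔪 I) := TriRF.isIso_β _ _ _ hasKInjRes I
  obtain ⟨g3⟩ := Groth.Agent.Lib.Helper35.LD.nonempty_Rgamma_dualizing_iso ω hω hn f hf
  let g : (Q.obj (Gam 𝔪 I) : Dual.D A) ≅ Dual.inD A E :=
    asIso (βΓ 𝔪 I) ≪≫ RΓ.mapIso ι.symm ≪≫ g3
  let eg : ((Q.obj P : Dual.D A) ⟶ (Q.obj (Gam 𝔪 I) : Dual.D A)⟦i⟧) ≃ₗ[A]
      ((Q.obj P : Dual.D A) ⟶ (Dual.inD A E)⟦i⟧) :=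
    Linear.homCongr A (Iso.refl _) ((CategoryTheory.shiftFunctor (Dual.D A) i).mapIso g)
  -- (h)
  haveI : Module.Injective A E := hf.isInjective
  obtain ⟨eh⟩ := nonempty_hom_shift_single_injective_equiv E (Q.obj P : Dual.D A) i
  -- (i)
  let ei : Dual.HD A (Q.obj P : Dual.D A) (-i) ≃ₗ[A] (Dual.inD A M ⟶ ω⟦(-i)⟧) :=
    ((DerivedCategory.homologyFunctor (ModuleCat.{u} A) (-i)).mapIso e).toLinearEquiv ≪≫ₗ
      Bidual.hdQEquiv X (-i) ≪≫ₗ Bidual.homologyDcEquiv MM I (-i) ≪≫ₗ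
      Linear.homCongr A (Iso.refl _) ((CategoryTheory.shiftFunctor (Dual.D A) (-i)).mapIso ι.symm)
  exact ⟨ec ≪≫ₗ ed ≪≫ₗ ed' ≪≫ₗ ee ≪≫ₗ ef ≪≫ₗ eg ≪≫ₗ eh ≪≫ₗ (LinearEquiv.congrLeft E A ei)⟩

include hω hn hf in
/-- **Local duality** (Stacks 0A84-type statement for modules): for a finite module `M` over a
Noetherian local ring with normalized dualizing complex `ω`,
`H^i_m(M) ≃ Hom_A(Hom_{D(A)}(M, ω[-i]), E)`. -/
theorem nonempty_lc_equiv (i : ℕ) :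
    Nonempty (LocCoh.H (IsLocalRing.maximalIdeal A) i M ≃ₗ[A]
      ((Dual.inD A M ⟶ ω⟦(-(i : ℤ))⟧) →ₗ[A] E)) := by
  haveI := Groth.Agent.Lib.Helper35.LD.hasRgammaI (IsLocalRing.maximalIdeal A)
  obtain ⟨ea⟩ := LcHDI.nonempty_lcHDIEquiv (IsLocalRing.maximalIdeal A) i M
  obtain ⟨eb⟩ := Groth.Agent.S1812.result A (IsLocalRing.maximalIdeal A)
    ((isNoetherianRing_iff_ideal_fg A).1 inferInstance _) (Dual.inD A M) (i : ℤ)
  obtain ⟨ec⟩ := nonempty_hd_Rgamma_equiv ω hω hn f hf M (i : ℤ)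
  exact ⟨ea ≪≫ₗ eb.symm ≪≫ₗ ec⟩

end LD
end Groth.Agent.Lib.Helper6
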