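import Groth.Agent.Lib.Helper6.Bidual6
import Groth.Agent.Lib.Helper6.NormDual1
import Groth.Agent.Lib.Helper35.ExtFin
import Groth.Agent.S0364
import Groth.Agent.Lib.Helper6.DualShift
import Groth.Agent.Lib.Helper6.FinLenDual

/-! Uniqueness of dualizing complexes over a Noetherian local ring (helper6). -/

set_option autoImplicit false
set_option linter.unusedSectionVars false
set_option linter.style.haveILetI false
universe u
open CategoryTheory CategoryTheory.Limits DerivedCategory Pretriangulated Opposite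
attribute [local instance] HasDerivedCategory.standard

namespace Groth.Agent.Lib.Helper6
namespace UniqDual

open Groth.Agent.Lib.Helper35 Bidual

variable {A : Type u} [CommRing A] (I : DRing.Cx A)

lemma Dc_map_smul_id (M : ModuleCat.{u} A) (x : A) :
    (Dc I).map (x • 𝟙 M).op = x • 𝟙 ((Dc I).obj (op M)) := by
  ext i y
  change (x • 𝟙 M) ≫ (show M ⟶ I.X i from y) = x • (show M ⟶ I.X i from y)
  rw [Linear.smul_comp, Category.id_comp]

lemma Dq_map_smul_id (M : ModuleCat.{u} A) (x : A) :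
    (Dq I).map (x • 𝟙 M).op = x • 𝟙 ((Dq I).obj (op M)) := by
  change DerivedCategory.Q.map ((Dc I).map (x • 𝟙 M).op) = _
  rw [Dc_map_smul_id, Functor.map_smul, CategoryTheory.Functor.map_id]
  rfl

variable (W : Dual.D A)

/-- the vanishing predicate. -/
def P (M : Type u) [AddCommGroup M] [Module A M] : Prop :=
  ∀ j : ℤ, j ≠ 0 → Subsingleton ((Dq I).obj (op (ModuleCat.of A M)) ⟶ W⟦j⟧)

lemma P_of_subsingleton (M : Type u) [AddCommGroup M] [Module A M] [Subsingleton M] :
    P I W M := by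
  intro j _
  have hz : IsZero (ModuleCat.of A M) := ModuleCat.isZero_of_subsingleton _
  have hz' : IsZero ((Dq I).obj (op (ModuleCat.of A M))) := (Dq I).map_isZero hz.op
  exact ⟨fun f g => hz'.eq_of_src f g⟩

lemma P_of_shortExact (hinj : ∀ i : ℤ, Injective (I.X i)) (S : ShortComplex (ModuleCat.{u} A))
    (hS : S.ShortExact) (h₁ : P I W S.X₁) (h₃ : P I W S.X₃) : P I W S.X₂ := by
  intro j hj
  have hT := triangleOfSES_distinguished (DcSC_shortExact I hinj S hS)
  have h1 := h₁ j hj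
  have h3 := h₃ j hj
  have hz : ∀ f : (Dq I).obj (op (ModuleCat.of A S.X₂)) ⟶ W⟦j⟧, f = 0 := by
    intro f
    obtain ⟨g, hg⟩ := Triangle.yoneda_exact₂ _ hT f (h3.elim _ _)
    have hg0 : g = 0 := h1.elim g 0
    rw [hg, hg0]
    exact comp_zero
  exact ⟨fun f g => by rw [hz f, hz g]⟩

lemma P_of_linearEquiv {M N : Type u} [AddCommGroup M] [Module A M] [AddCommGroup N] [Module A N]
    (e : M ≃ₗ[A] N) (h : P I W M) : P I W N := by
  intro j hj
  have := h j hj
  exact (Iso.homCongr ((Dq I).mapIso e.toModuleIso.op) (Iso.refl (W⟦j⟧))).subsingleton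


section local_

variable [IsNoetherianRing A] [IsLocalRing A]

/-- for a normalized dualizing complex, `Hom(κ, ω) ≅ κ`. -/
lemma nonempty_hom_residueField_equiv (ω : Dual.D A) (hω : Dual.IsDualizing A ω)
    (hn : Dual.IsNormalized A ω) :
    Nonempty ((Dual.inD A (IsLocalRing.ResidueField A) ⟶ ω⟦(0 : ℤ)⟧) ≃ₗ[A]
      IsLocalRing.ResidueField A) := by
  obtain ⟨n, h1, ⟨e⟩⟩ := Groth.Agent.S0364.result A ω hω (IsLocalRing.maximalIdeal A)
  by_cases hn0 : n = 0
  · subst hn0
    exact ⟨e⟩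
  · exfalso
    have hs : Subsingleton (Dual.inD A (IsLocalRing.ResidueField A) ⟶ ω⟦n⟧) := hn n hn0
    have hs' : Subsingleton (A ⧸ IsLocalRing.maximalIdeal A) :=
      @Equiv.subsingleton _ _ e.symm.toEquiv hs
    have : Nontrivial (A ⧸ IsLocalRing.maximalIdeal A) :=
      Ideal.Quotient.nontrivial_iff.2 (IsLocalRing.maximalIdeal.isMaximal A).ne_top
    exact not_subsingleton _ hs'

variable [I.IsKInjective] (hI : Dual.IsDualizing A (DerivedCategory.Q.obj I : Dual.D A))
  (hnI : Dual.IsNormalized A (DerivedCategory.Q.obj I : Dual.D A))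

include hI hnI in
/-- `D(κ) ≅ κ[0]`. -/
lemma nonempty_Dq_residueField_iso :
    Nonempty ((Dq I).obj (op (ModuleCat.of A (IsLocalRing.ResidueField A))) ≅
      Dual.inD A (IsLocalRing.ResidueField A)) := by
  set κ : ModuleCat.{u} A := ModuleCat.of A (IsLocalRing.ResidueField A) with hκ
  set Y : Dual.D A := (Dq I).obj (op κ) with hY
  have hcoh : ∀ j : ℤ, Nonempty (Dual.HD A Y j ≃ₗ[A]
      (Dual.inD A (IsLocalRing.ResidueField A) ⟶
        (DerivedCategory.Q.obj I : Dual.D A)⟦j⟧)) := fun j =>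
    ⟨(hdQEquiv ((Dc I).obj (op κ)) j).trans (homologyDcEquiv κ I j)⟩
  have hz : ∀ j : ℤ, j ≠ 0 → IsZero ((homologyFunctor (ModuleCat.{u} A) j).obj Y) := by
    intro j hj
    obtain ⟨e⟩ := hcoh j
    have := hnI j hj
    have : Subsingleton (Dual.HD A Y j) := e.toEquiv.subsingleton
    exact ModuleCat.isZero_of_subsingleton _
  haveI : Y.IsGE 0 := by
    rw [DerivedCategory.isGE_iff]
    intro j hj
    exact hz j (by omega)
  haveI : Y.IsLE 0 := by
    rw [DerivedCategory.isLE_iff]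
    intro j hj
    exact hz j (by omega)
  obtain ⟨e0⟩ := hcoh 0
  obtain ⟨e1⟩ := nonempty_hom_residueField_equiv _ hI hnI
  exact nonempty_iso_single Y 0 (IsLocalRing.ResidueField A) (e0.trans e1)

variable (ω' : Dual.D A) (hω' : Dual.IsDualizing A ω') (hn' : Dual.IsNormalized A ω')

include hI hnI hn' in
lemma P_residueField : P I ω' (IsLocalRing.ResidueField A) := by
  intro j hj
  obtain ⟨e⟩ := nonempty_Dq_residueField_iso I hI hnI
  have := hn' j hj
  exact (Iso.homCongr e (Iso.refl (ω'⟦j⟧))).subsingleton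

include hI hω' in
lemma finite_T (M : Type u) [AddCommGroup M] [Module A M] [Module.Finite A M] (j : ℤ) :
    Module.Finite A ((Dq I).obj (op (ModuleCat.of A M)) ⟶ ω'⟦j⟧) := by
  obtain ⟨a, b, hge, hle, hab⟩ := HomBC.isDualizing_bounds hI
  refine KL.finite_hom_shift _ ω' (fun i => ?_) hω'.finite_cohomology ?_ j
  · have h1 := InjDimMax.finite_hom_inD_of_bounded (B := A) M
      (DerivedCategory.Q.obj I : Dual.D A) a b hI.finite_cohomology i
    exact Module.Finite.equiv
      ((hdQEquiv ((Dc I).obj (op (ModuleCat.of A M))) i).trans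
        (homologyDcEquiv (ModuleCat.of A M) I i)).symm
  · obtain ⟨a', b', hab'⟩ := hω'.finite_injective_dimension
    have h21 := (KL.IA_tfae ω' a' b').out 1 0
    have hIA : KL.IA a' b' ω' := h21.1 (fun (N : ModuleCat.{u} A) i hi => hab' N i hi)
    exact ⟨a', b', (KL.IA_iff a' b' ω').1 hIA⟩

end local_


section induction_

variable [IsNoetherianRing A] [IsLocalRing A]

lemma smul_surjective_T (hinj : ∀ i : ℤ, Injective (I.X i)) (M : Type u) [AddCommGroup M]
    [Module A M] (x : A) (hx : IsSMulRegular M x) (j : ℤ)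
    (h : Subsingleton ((Dq I).obj (op (ModuleCat.of A (QuotSMulTop x M))) ⟶ W⟦j⟧))
    (f : (Dq I).obj (op (ModuleCat.of A M)) ⟶ W⟦j⟧) :
    ∃ f' : (Dq I).obj (op (ModuleCat.of A M)) ⟶ W⟦j⟧, x • f' = f := by
  have hS := IsSMulRegular.smulShortComplex_shortExact (M := ModuleCat.of A M) hx
  have hT := triangleOfSES_distinguished (DcSC_shortExact I hinj _ hS)
  obtain ⟨g, hg⟩ := Triangle.yoneda_exact₂ _ hT f (h.elim _ _)
  have h2 : (triangleOfSES (DcSC_shortExact I hinj _ hS)).mor₂ =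
      x • 𝟙 ((Dq I).obj (op (ModuleCat.of A M))) := Dq_map_smul_id I (ModuleCat.of A M) x
  let g' : (Dq I).obj (op (ModuleCat.of A M)) ⟶ W⟦j⟧ := g
  refine ⟨g', ?_⟩
  have h3 : f = (x • 𝟙 ((Dq I).obj (op (ModuleCat.of A M)))) ≫ g' := by
    rw [← h2]
    exact hg
  rw [h3, Linear.smul_comp, Category.id_comp]

variable [I.IsKInjective] (hinj : ∀ i : ℤ, Injective (I.X i))
  (hI : Dual.IsDualizing A (DerivedCategory.Q.obj I : Dual.D A))
  (hnI : Dual.IsNormalized A (DerivedCategory.Q.obj I : Dual.D A))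
  (ω' : Dual.D A) (hω' : Dual.IsDualizing A ω') (hn' : Dual.IsNormalized A ω')

include hinj hI hnI hω' hn' in
theorem P_all : ∀ (J : Ideal A) (M : Type u) [AddCommGroup M] [Module A M] [Module.Finite A M],
    (∀ a ∈ J, ∀ m : M, a • m = 0) → P I ω' M := by
  intro J
  refine IsNoetherian.induction (P := fun J : Ideal A => ∀ (M : Type u) [AddCommGroup M]
    [Module A M] [Module.Finite A M], (∀ a ∈ J, ∀ m : M, a • m = 0) → P I ω' M) ?_ J
  intro J ih M _ _ hfin hJM
  refine IsNoetherianRing.induction_on_isQuotientEquivQuotientPrime A hfin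
    (motive := fun N _ _ _ => (∀ a ∈ J, ∀ m : N, a • m = 0) → P I ω' N) ?_ ?_ ?_ hJM
  · intro N _ _ _ _ _
    exact P_of_subsingleton I ω' N
  · intro N _ _ _ p e hJN
    have hJp : J ≤ p.asIdeal := by
      intro a ha
      have h1 := hJN a ha (e.symm (Ideal.Quotient.mk _ 1))
      rw [← map_smul, LinearEquiv.map_eq_zero_iff] at h1
      have h2 : Ideal.Quotient.mk p.asIdeal a = 0 := by
        rw [← h1, Algebra.smul_def, map_one, mul_one]
        rfl
      exact Ideal.Quotient.eq_zero_iff_mem.1 h2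
    refine P_of_linearEquiv I ω' e.symm ?_
    have hkill : ∀ (K : Ideal A), K ≤ p.asIdeal → ∀ a ∈ K, ∀ m : A ⧸ p.asIdeal, a • m = 0 := by
      intro K hK a ha m
      obtain ⟨b, rfl⟩ := Ideal.Quotient.mk_surjective m
      rw [Algebra.smul_def]
      have h2 : algebraMap A (A ⧸ p.asIdeal) a = 0 := Ideal.Quotient.eq_zero_iff_mem.2 (hK ha)
      rw [h2, zero_mul]
    by_cases hlt : J < p.asIdeal
    · exact ih p.asIdeal hlt (A ⧸ p.asIdeal) (hkill p.asIdeal le_rfl)
    · have hJeq : J = p.asIdeal := by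
        by_contra hne
        exact hlt (lt_of_le_of_ne hJp hne)
      by_cases hpm : p.asIdeal = IsLocalRing.maximalIdeal A
      · rw [hpm]
        exact P_residueField I hI hnI ω' hn'
      · obtain ⟨x, hxm, hxp⟩ : ∃ x ∈ IsLocalRing.maximalIdeal A, x ∉ p.asIdeal := by
          by_contra hcon
          push Not at hcon
          exact hpm (le_antisymm (IsLocalRing.le_maximalIdeal p.isPrime.ne_top) hcon)
        have hreg : IsSMulRegular (A ⧸ p.asIdeal) x := by
          intro m m' hmm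
          obtain ⟨b, rfl⟩ := Ideal.Quotient.mk_surjective m
          obtain ⟨b', rfl⟩ := Ideal.Quotient.mk_surjective m'
          have h1 : Ideal.Quotient.mk p.asIdeal (x * b) = Ideal.Quotient.mk p.asIdeal (x * b') := by
            simpa [Algebra.smul_def] using hmm
          rw [Ideal.Quotient.eq, ← mul_sub] at h1
          rw [Ideal.Quotient.eq]
          exact (p.isPrime.mem_or_mem h1).resolve_left hxp
        have hPbar : P I ω' (QuotSMulTop x (A ⧸ p.asIdeal)) := by
          refine ih (p.asIdeal ⊔ Ideal.span {x}) ?_ _ ?_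
          · rw [hJeq]
            refine lt_of_le_of_ne le_sup_left (fun h => hxp ?_)
            rw [h]
            exact Ideal.mem_sup_right (Ideal.mem_span_singleton_self x)
          · intro a ha m
            obtain ⟨m0, rfl⟩ := Submodule.mkQ_surjective _ m
            obtain ⟨a1, ha1, a2, ha2, rfl⟩ := Submodule.mem_sup.1 ha
            obtain ⟨c, rfl⟩ := Ideal.mem_span_singleton'.1 ha2
            rw [← map_smul, add_smul, hkill p.asIdeal le_rfl a1 ha1 m0, zero_add]
            rw [Submodule.mkQ_apply, Submodule.Quotient.mk_eq_zero, mul_comm, mul_smul]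
            exact Submodule.smul_mem_pointwise_smul _ _ _ Submodule.mem_top
        intro j hj
        refine NormDual.subsingleton_of_smul_surjective
          (finite_T I hI ω' hω' (A ⧸ p.asIdeal) j) x ?_
          (fun f => smul_surjective_T I ω' hinj (A ⧸ p.asIdeal) x hreg j (hPbar j hj) f)
        rw [IsLocalRing.jacobson_eq_maximalIdeal ⊥ bot_ne_top]
        exact hxm
  · intro N₁ _ _ _ N₂ _ _ _ N₃ _ _ _ f g hf hg hfg h1 h3 hJN2
    let S : ShortComplex (ModuleCat.{u} A) :=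
      ModuleCat.shortComplexOfCompEqZero f g hfg.linearMap_comp_eq_zero
    have hS : S.ShortExact := ModuleCat.shortComplex_shortExact S hfg hf hg
    refine P_of_shortExact I ω' hinj S hS (h1 ?_) (h3 ?_)
    · intro a ha m
      apply hf
      rw [map_smul, hJN2 a ha, map_zero]
    · intro a ha m
      obtain ⟨m0, rfl⟩ := hg m
      rw [← map_smul, hJN2 a ha, map_zero]

include hinj hI hnI hω' hn' in
theorem P_of_finite (M : Type u) [AddCommGroup M] [Module A M] [Module.Finite A M] :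
    P I ω' M :=
  P_all I hinj hI hnI ω' hω' hn' ⊥ M (fun a ha m => by
    rw [Ideal.mem_bot.1 ha, zero_smul])

end induction_


section lift

variable [IsNoetherianRing A] [IsLocalRing A]
variable [I.IsKInjective] (hinj : ∀ i : ℤ, Injective (I.X i))
  (hI : Dual.IsDualizing A (DerivedCategory.Q.obj I : Dual.D A))
  (hnI : Dual.IsNormalized A (DerivedCategory.Q.obj I : Dual.D A))
  (ω' : Dual.D A) (hω' : Dual.IsDualizing A ω') (hn' : Dual.IsNormalized A ω')

include hinj hI hnI hω' hn' in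
/-- Lemma W: there is a map `Q(I) ⟶ ω'` which is nonzero on the socle. -/
theorem exists_map :
    ∃ (ε : Dual.inD A (IsLocalRing.ResidueField A) ⟶ (DerivedCategory.Q.obj I : Dual.D A))
      (g : (DerivedCategory.Q.obj I : Dual.D A) ⟶ ω'), ε ≫ g ≠ 0 := by
  obtain ⟨h, hS⟩ := FinLenDual.shortExact_quot A (IsLocalRing.maximalIdeal A)
  have hT := triangleOfSES_distinguished (DcSC_shortExact I hinj _ hS)
  have hP : Subsingleton ((Dq I).obj (op (ModuleCat.of A (IsLocalRing.maximalIdeal A))) ⟶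
      ω'⟦(1 : ℤ)⟧) :=
    P_of_finite I hinj hI hnI ω' hω' hn' (IsLocalRing.maximalIdeal A) 1 one_ne_zero
  obtain ⟨β⟩ := nonempty_Dq_residueField_iso I hI hnI
  obtain ⟨e'⟩ := nonempty_hom_residueField_equiv ω' hω' hn'
  let t : Dual.inD A (IsLocalRing.ResidueField A) ⟶ ω'⟦(0 : ℤ)⟧ := e'.symm 1
  have ht : t ≠ 0 := by
    intro h0
    have h1 : e' t = 0 := by rw [h0, map_zero]
    rw [LinearEquiv.apply_symm_apply] at h1
    exact one_ne_zero h1
  let t0 : Dual.inD A (IsLocalRing.ResidueField A) ⟶ ω' :=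
    t ≫ (shiftFunctorZero (Dual.D A) ℤ).hom.app ω'
  have ht0 : t0 ≠ 0 := by
    intro h0
    apply ht
    have : t = t0 ≫ (shiftFunctorZero (Dual.D A) ℤ).inv.app ω' := by
      simp [t0]
    rw [this, h0, zero_comp]
  obtain ⟨g1', hg1'⟩ := surjective_comp_mor₁ _ hT ω' hP (β.hom ≫ t0)
  let μ : (Dq I).obj (op (ModuleCat.of A (IsLocalRing.ResidueField A))) ⟶
      (Dq I).obj (op (ModuleCat.of A A)) :=
    (Dq I).map (ModuleCat.ofHom (Submodule.mkQ (IsLocalRing.maximalIdeal A))).op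
  let g1 : (Dq I).obj (op (ModuleCat.of A A)) ⟶ ω' := g1'
  have hg1 : μ ≫ g1 = β.hom ≫ t0 := hg1'
  let α : (Dq I).obj (op (ModuleCat.of A A)) ≅ (DerivedCategory.Q.obj I : Dual.D A) :=
    DerivedCategory.Q.mapIso (evIso I)
  refine ⟨β.inv ≫ μ ≫ α.hom, α.inv ≫ g1, ?_⟩
  intro h0
  apply ht0
  have h1 : (β.inv ≫ μ ≫ α.hom) ≫ α.inv ≫ g1 = β.inv ≫ μ ≫ g1 := by
    simp only [Category.assoc, Iso.hom_inv_id_assoc]
  rw [h1, hg1, Iso.inv_hom_id_assoc] at h0
  exact h0

end lift


section final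

variable [IsNoetherianRing A] [IsLocalRing A]

/-- maps out of `κ[0]` are killed by the maximal ideal. -/
lemma smul_hom_residueField_eq_zero (X : Dual.D A) (a : A) (ha : a ∈ IsLocalRing.maximalIdeal A)
    (ε : Dual.inD A (IsLocalRing.ResidueField A) ⟶ X) : a • ε = 0 := by
  have h1 : a • 𝟙 (ModuleCat.of A (IsLocalRing.ResidueField A)) = 0 := by
    ext x
    obtain ⟨y, rfl⟩ := Ideal.Quotient.mk_surjective x
    change a • (Ideal.Quotient.mk (IsLocalRing.maximalIdeal A) y) = 0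
    rw [Algebra.smul_def]
    have h2 : algebraMap A (A ⧸ IsLocalRing.maximalIdeal A) a = 0 :=
      Ideal.Quotient.eq_zero_iff_mem.2 ha
    rw [h2, zero_mul]
  have h3 : a • ε = (DerivedCategory.singleFunctor (ModuleCat.{u} A) 0).map
      (a • 𝟙 (ModuleCat.of A (IsLocalRing.ResidueField A))) ≫ ε := by
    rw [Functor.map_smul, CategoryTheory.Functor.map_id, Linear.smul_comp, Category.id_comp]
  rw [h3, h1, Functor.map_zero, zero_comp]

/-- Lemma W for arbitrary normalized dualizing complexes. -/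
theorem exists_map' (ω ω' : Dual.D A) (hω : Dual.IsDualizing A ω) (hn : Dual.IsNormalized A ω)
    (hω' : Dual.IsDualizing A ω') (hn' : Dual.IsNormalized A ω') :
    ∃ (ε : Dual.inD A (IsLocalRing.ResidueField A) ⟶ ω) (g : ω ⟶ ω'), ε ≫ g ≠ 0 := by
  obtain ⟨a, b, hab⟩ := hω.finite_injective_dimension
  have h21 := (KL.IA_tfae ω a b).out 1 0
  have hIA : KL.IA a b ω := h21.1 (fun (N : ModuleCat.{u} A) i hi => hab N i hi)
  obtain ⟨I, hv, hinj, ⟨ι⟩⟩ := hIA
  haveI : I.IsKInjective := KL.IA.isKInjective I hv hinj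
  have hI : Dual.IsDualizing A (DerivedCategory.Q.obj I : Dual.D A) :=
    HomBC.isDualizing_of_iso ι.symm hω
  have hnI : Dual.IsNormalized A (DerivedCategory.Q.obj I : Dual.D A) := by
    intro i hi
    have := hn i hi
    exact (Iso.homCongr (Iso.refl (Dual.inD A (IsLocalRing.ResidueField A)))
      ((shiftFunctor (Dual.D A) i).mapIso ι)).subsingleton
  obtain ⟨ε, g, hεg⟩ := exists_map I hinj hI hnI ω' hω' hn'
  refine ⟨ε ≫ ι.hom, ι.inv ≫ g, ?_⟩
  intro h0
  apply hεg
  simpa using h0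

lemma notMem_of_comp (ω ω' : Dual.D A)
    (hω' : Dual.IsDualizing A ω') (hn' : Dual.IsNormalized A ω')
    (ε : Dual.inD A (IsLocalRing.ResidueField A) ⟶ ω) (G : ω ⟶ ω') (hεG : ε ≫ G ≠ 0)
    (ε' : Dual.inD A (IsLocalRing.ResidueField A) ⟶ ω') (G' : ω' ⟶ ω) (hεG' : ε' ≫ G' ≠ 0)
    (a : A) (ha : G ≫ G' = a • 𝟙 ω) : a ∉ IsLocalRing.maximalIdeal A := by
  intro ham
  obtain ⟨e0⟩ := nonempty_hom_residueField_equiv ω' hω' hn'
  let e' : (Dual.inD A (IsLocalRing.ResidueField A) ⟶ ω') ≃ₗ[A] IsLocalRing.ResidueField A :=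
    (Linear.homCongr A (Iso.refl (Dual.inD A (IsLocalRing.ResidueField A)))
      ((shiftFunctorZero (Dual.D A) ℤ).app ω').symm).trans e0
  have hu : e' (ε ≫ G) ≠ 0 := by
    intro h0
    exact hεG (e'.map_eq_zero_iff.1 h0)
  obtain ⟨c, hc⟩ := IsLocalRing.residue_surjective (e' ε' * (e' (ε ≫ G))⁻¹)
  have h1 : ε' = c • (ε ≫ G) := by
    apply e'.injective
    rw [map_smul, Algebra.smul_def, IsLocalRing.ResidueField.algebraMap_eq, hc, mul_assoc,
      inv_mul_cancel₀ hu, mul_one]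
  apply hεG'
  rw [h1, Linear.smul_comp, Category.assoc, ha, Linear.comp_smul, Category.comp_id,
    smul_hom_residueField_eq_zero ω a ham ε, smul_zero]

/-- **Uniqueness of normalized dualizing complexes over a local ring.** -/
theorem nonempty_iso_of_normalized (ω ω' : Dual.D A) (hω : Dual.IsDualizing A ω)
    (hn : Dual.IsNormalized A ω) (hω' : Dual.IsDualizing A ω') (hn' : Dual.IsNormalized A ω') :
    Nonempty (ω ≅ ω') := by
  obtain ⟨ε, G, hεG⟩ := exists_map' ω ω' hω hn hω' hn'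
  obtain ⟨ε', G', hεG'⟩ := exists_map' ω' ω hω' hn' hω hn
  obtain ⟨a, ha⟩ := hω.toEnd_bijective.2 (G ≫ G')
  obtain ⟨a', ha'⟩ := hω'.toEnd_bijective.2 (G' ≫ G)
  have hau : IsUnit a := IsLocalRing.notMem_maximalIdeal.1
    (notMem_of_comp ω ω' hω' hn' ε G hεG ε' G' hεG' a ha.symm)
  have hau' : IsUnit a' := IsLocalRing.notMem_maximalIdeal.1
    (notMem_of_comp ω' ω hω hn ε' G' hεG' ε G hεG a' ha'.symm)
  obtain ⟨b, hb⟩ := hau.exists_right_inv
  obtain ⟨b', hb'⟩ := hau'.exists_right_inv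
  have hR : G ≫ (b • G') = 𝟙 ω := by
    rw [Linear.comp_smul, ← ha]
    change b • a • 𝟙 ω = 𝟙 ω
    rw [smul_smul, mul_comm, hb, one_smul]
  have hL : (b' • G') ≫ G = 𝟙 ω' := by
    rw [Linear.smul_comp, ← ha']
    change b' • a' • 𝟙 ω' = 𝟙 ω'
    rw [smul_smul, mul_comm, hb', one_smul]
  have hLR : b' • G' = b • G' := by
    calc b' • G' = (b' • G') ≫ 𝟙 ω := (Category.comp_id _).symm
      _ = (b' • G') ≫ G ≫ (b • G') := by rw [hR]
      _ = ((b' • G') ≫ G) ≫ (b • G') := (Category.assoc _ _ _).symm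
      _ = b • G' := by rw [hL, Category.id_comp]
  exact ⟨⟨G, b • G', hR, by rw [← hLR]; exact hL⟩⟩

end final


section shift

variable [IsNoetherianRing A] [IsLocalRing A]

/-- **Uniqueness of dualizing complexes over a local ring, up to shift.** -/
theorem exists_iso_shift (ω ω' : Dual.D A) (hω : Dual.IsDualizing A ω)
    (hω' : Dual.IsDualizing A ω') : ∃ n : ℤ, Nonempty (ω' ≅ ω⟦n⟧) := by
  obtain ⟨n₁, h1, -⟩ := Groth.Agent.S0364.result A ω hω (IsLocalRing.maximalIdeal A)
  obtain ⟨n₂, h2, -⟩ := Groth.Agent.S0364.result A ω' hω' (IsLocalRing.maximalIdeal A)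
  have hd1 := DualShift.isDualizing_shift ω hω n₁
  have hd2 := DualShift.isDualizing_shift ω' hω' n₂
  have hn1 := DualShift.isNormalized_shift ω n₁ h1
  have hn2 := DualShift.isNormalized_shift ω' n₂ h2
  obtain ⟨e⟩ := nonempty_iso_of_normalized (ω⟦n₁⟧) (ω'⟦n₂⟧) hd1 hn1 hd2 hn2
  refine ⟨n₁ - n₂, ⟨?_⟩⟩
  exact ((shiftFunctorCompIsoId (Dual.D A) n₂ (-n₂) (by omega)).app ω').symm ≪≫
    (shiftFunctor (Dual.D A) (-n₂)).mapIso e.symm ≪≫
    ((shiftFunctorAdd' (Dual.D A) n₁ (-n₂) (n₁ - n₂) (by omega)).app ω).symm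

end shift

end UniqDual
end Groth.Agent.Lib.Helper6
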