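import Groth.Agent.Lib.Helper6.RDual3
import Groth.Agent.Lib.Helper6.UniqDual

/-! Distinguished triangles obtained by applying `RHom(-, ω)` to short exact sequences, and the
identification of `RHom_A(B, ω)` (helper6). -/

set_option autoImplicit false
set_option linter.unusedSectionVars false
set_option linter.style.haveILetI false
universe u
open CategoryTheory CategoryTheory.Limits DerivedCategory Pretriangulated Opposite
attribute [local instance] HasDerivedCategory.standard

namespace Groth.Agent.Lib.Helper6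
namespace DqTri

open Groth.Agent.Lib.Helper35 Bidual

variable {A B : Type u} [CommRing A] [CommRing B]

/-- `restr (R (Q I)) ≅ RHom_A(B, I)` for any right adjoint `R` of restriction. -/
theorem nonempty_restrict_rightAdjoint_iso (φ : A →+* B) {R : Dual.D A ⥤ Dual.D B}
    (adj : DRing.restrictD φ ⊣ R) (I : DRing.Cx A) [I.IsKInjective] :
    Nonempty ((DRing.restrictD φ).obj (R.obj (Q.obj I : Dual.D A)) ≅
      (Dq I).obj (op (RDual.BA φ))) := by
  obtain ⟨θ, -⟩ := RDual.exists_iso_of_universal adj (Q.obj I : Dual.D A)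
    (Q.obj (RDual.coextC φ I)) (RDual.eI φ I) (RDual.bijective_Phi φ I)
  exact ⟨(DRing.restrictD φ).mapIso θ.symm ≪≫ RDual.sigma φ I⟩

/-- a bounded K-injective model of a dualizing complex. -/
theorem exists_model [IsNoetherianRing A] (ω : Dual.D A) (hω : Dual.IsDualizing A ω) :
    ∃ (I : DRing.Cx A) (a b : ℤ), DRing.VanishesOutside I a b ∧ (∀ n : ℤ, Injective (I.X n)) ∧
      I.IsKInjective ∧ Nonempty (ω ≅ (Q.obj I : Dual.D A)) := by
  obtain ⟨a, b, hab⟩ := hω.finite_injective_dimension
  have h21 := (KL.IA_tfae ω a b).out 1 0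
  have hIA : KL.IA a b ω := h21.1 (fun (N : ModuleCat.{u} A) i hi => hab N i hi)
  obtain ⟨I, hv, hinj, ⟨ι⟩⟩ := hIA
  haveI : I.IsStrictlyGE a := by
    rw [CochainComplex.isStrictlyGE_iff]
    intro i hi
    exact hv i (Or.inl hi)
  haveI : ∀ n : ℤ, Injective (I.X n) := hinj
  exact ⟨I, a, b, hv, hinj, CochainComplex.isKInjective_of_injective I a, ⟨ι.symm⟩⟩

/-- `RHom(A, I) ≅ I`. -/
noncomputable def DqSelfIso (I : DRing.Cx A) :
    (Dq I).obj (op (ModuleCat.of A A)) ≅ (Q.obj I : Dual.D A) :=
  Q.mapIso (evIso I)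

end DqTri
end Groth.Agent.Lib.Helper6
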