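import Groth.Agent.Lib.Helper6.Bidual4

/-! `H^n(Hom•(F, L)) ≃ Hom_{D(A)}(Q F, Q L[n])` for a K-injective complex `L` (helper6). -/

set_option autoImplicit false
set_option linter.unusedSectionVars false
universe u
open CategoryTheory CategoryTheory.Limits DerivedCategory Pretriangulated Opposite
  CochainComplex HomComplex
attribute [local instance] HasDerivedCategory.standard

namespace Groth.Agent.Lib.Helper6
namespace HomCxH

open Groth.Agent.Lib.Helper35 ExtCocycle

variable {A : Type u} [CommRing A] (F L : DRing.Cx A) (n : ℤ)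

/-- the short complex computing `H^n(Hom•(F, L))`. -/
noncomputable abbrev sc : ShortComplex (ModuleCat.{u} A) :=
  (DRing.homCx F L).sc' (n - 1) n (n + 1)

/-- an element of the kernel as a cocycle. -/
noncomputable def toCocycle (x : LinearMap.ker (sc F L n).g.hom) : Cocycle F L n :=
  Cocycle.mk (x.1 : Cochain F L n) (n + 1) rfl (LinearMap.mem_ker.1 x.2)

lemma toCocycle_add (x y : LinearMap.ker (sc F L n).g.hom) :
    toCocycle F L n (x + y) = toCocycle F L n x + toCocycle F L n y := rfl

lemma ext1_smul (a : A) (c : Cocycle F L n) : ext1 F L n (a • c) = a • ext1 F L n c := by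
  have h1 : a • ext1 F L n c = Q.map (a • 𝟙 F) ≫ ext1 F L n c := by
    rw [Functor.map_smul, Linear.smul_comp, CategoryTheory.Functor.map_id, Category.id_comp]
  rw [h1, ← RHomKInj.ext1_precomp]
  congr 1
  ext p q hpq
  simp [Cochain.smul_v]

/-- `ext1` as a linear map on the kernel. -/
noncomputable def extLin :
    LinearMap.ker (sc F L n).g.hom →ₗ[A] (Q.obj F ⟶ (Q.obj L : Dual.D A)⟦n⟧) where
  toFun x := ext1 F L n (toCocycle F L n x)
  map_add' x y := by
    rw [toCocycle_add]
    exact ExtConst.ext1_add _ _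
  map_smul' a x := by
    have : toCocycle F L n (a • x) = a • toCocycle F L n x := rfl
    rw [this, ext1_smul]
    rfl

lemma extLin_apply (x : LinearMap.ker (sc F L n).g.hom) :
    extLin F L n x = ext1 F L n (toCocycle F L n x) := rfl

lemma extLin_surjective [L.IsKInjective] : Function.Surjective (extLin F L n) := by
  intro e
  obtain ⟨c, hc⟩ := RHomKInj.ext1_surjective_inj (F := F) (L := L) (n := n) e
  refine ⟨⟨c.1, LinearMap.mem_ker.2 (c.δ_eq_zero (n + 1))⟩, ?_⟩
  rw [extLin_apply]
  exact hc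

lemma ker_extLin [L.IsKInjective] :
    LinearMap.ker (extLin F L n) = LinearMap.range (sc F L n).moduleCatToCycles := by
  ext x
  rw [LinearMap.mem_ker, LinearMap.mem_range, extLin_apply, RHomKInj.ext1_eq_zero_iff_inj,
    mem_coboundaries_iff _ (n - 1) (by omega)]
  constructor
  · rintro ⟨β, hβ⟩
    exact ⟨β, Subtype.ext hβ⟩
  · rintro ⟨β, hβ⟩
    exact ⟨β, congrArg Subtype.val hβ⟩

/-- `H^n(Hom•(F, L)) ≃ Hom(Q F, Q L[n])` for a K-injective complex `L`. -/
noncomputable def homologyEquiv [L.IsKInjective] :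
    (DRing.homCx F L).homology n ≃ₗ[A] (Q.obj F ⟶ (Q.obj L : Dual.D A)⟦n⟧) :=
  ((DRing.homCx F L).homologyIsoSc' (n - 1) n (n + 1) (by simp) (by simp)).toLinearEquiv ≪≫ₗ
    (sc F L n).moduleCatHomologyIso.toLinearEquiv ≪≫ₗ
    (Submodule.quotEquivOfEq _ _ (ker_extLin F L n).symm) ≪≫ₗ
    (extLin F L n).quotKerEquivOfSurjective (extLin_surjective F L n)

end HomCxH
end Groth.Agent.Lib.Helper6
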