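import Mathlib

/-! # Adic completeness lemmas (helper6) -/

set_option autoImplicit false
universe u

open TensorProduct

namespace Groth.Agent.Lib.Helper6

/-- On an `I`-adically complete module, `1 - g` is bijective if `g` maps into `I • ⊤`. -/
lemma bijective_one_sub_of_isAdicComplete {R : Type*} [CommRing R] (I : Ideal R) {N : Type*}
    [AddCommGroup N] [Module R N] [IsAdicComplete I N] (g : N →ₗ[R] N)
    (hg : ∀ x, g x ∈ (I • ⊤ : Submodule R N)) : Function.Bijective ((LinearMap.id : N →ₗ[R] N) - g) := by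
  -- g maps I^n • ⊤ into I^(n+1) • ⊤
  have hstep : ∀ n : ℕ, ∀ x ∈ (I ^ n • ⊤ : Submodule R N), g x ∈ (I ^ (n + 1) • ⊤ : Submodule R N) := by
    intro n x hx
    have h1 : (I ^ n • ⊤ : Submodule R N).map g ≤ I ^ n • (I • ⊤ : Submodule R N) := by
      rw [Submodule.map_smul'']
      refine Submodule.smul_mono le_rfl ?_
      rintro _ ⟨y, -, rfl⟩
      exact hg y
    have h2 : I ^ n • (I • ⊤ : Submodule R N) = (I ^ (n + 1) • ⊤ : Submodule R N) := by
      rw [← Submodule.mul_smul, ← pow_succ]
    rw [← h2]
    exact h1 ⟨x, hx, rfl⟩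
  have hpow : ∀ n : ℕ, ∀ x, (g ^ n) x ∈ (I ^ n • ⊤ : Submodule R N) := by
    intro n
    induction n with
    | zero => intro x; simp
    | succ n ih =>
      intro x
      have : (g ^ (n + 1)) x = g ((g ^ n) x) := by
        rw [pow_succ', Module.End.mul_apply]
      rw [this]
      exact hstep n _ (ih x)
  have hsub : ∀ n : ℕ, ∀ x ∈ (I ^ n • ⊤ : Submodule R N), ((LinearMap.id : N →ₗ[R] N) - g) x ∈ (I ^ n • ⊤ : Submodule R N) := by
    intro n x hx
    simp only [LinearMap.sub_apply, LinearMap.id_coe, id_eq]
    refine Submodule.sub_mem _ hx ?_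
    exact Submodule.smul_mono_left (Ideal.pow_le_pow_right (Nat.le_succ n)) (hstep n x hx)
  constructor
  · rw [← LinearMap.ker_eq_bot, eq_bot_iff]
    intro x hx
    rw [LinearMap.mem_ker, LinearMap.sub_apply, LinearMap.id_apply, sub_eq_zero] at hx
    have hx' : ∀ n : ℕ, x = (g ^ n) x := by
      intro n
      induction n with
      | zero => simp
      | succ n ih => rw [pow_succ, Module.End.mul_apply, ← hx, ← ih]
    rw [Submodule.mem_bot]
    refine IsHausdorff.haus (I := I) inferInstance x fun n => ?_
    rw [SModEq.zero]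
    rw [hx' n]
    exact hpow n x
  · intro y
    let S : ℕ → N := fun n => ∑ k ∈ Finset.range n, (g ^ k) y
    have hS : ∀ {m n}, m ≤ n → S m ≡ S n [SMOD (I ^ m • ⊤ : Submodule R N)] := by
      intro m n hmn
      rw [SModEq.sub_mem]
      have : S m - S n = - ∑ k ∈ Finset.Ico m n, (g ^ k) y := by
        simp only [S]
        rw [Finset.sum_Ico_eq_sub _ hmn]
        abel
      rw [this]
      refine Submodule.neg_mem _ (Submodule.sum_mem _ fun k hk => ?_)
      exact Submodule.smul_mono_left (Ideal.pow_le_pow_right (Finset.mem_Ico.mp hk).1) (hpow k y)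
    obtain ⟨L, hL⟩ := IsPrecomplete.prec (I := I) inferInstance hS
    refine ⟨L, ?_⟩
    rw [← sub_eq_zero]
    refine IsHausdorff.haus (I := I) inferInstance _ fun n => ?_
    rw [SModEq.zero]
    have h1 : ((LinearMap.id : N →ₗ[R] N) - g) (L - S n) ∈ (I ^ n • ⊤ : Submodule R N) := by
      refine hsub n _ ?_
      have := (hL n).symm
      rwa [SModEq.sub_mem] at this
    have h2 : ((LinearMap.id : N →ₗ[R] N) - g) (S n) = y - (g ^ n) y := by
      simp only [S]
      induction n with
      | zero => simp
      | succ n ih =>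
        rw [Finset.sum_range_succ, map_add, ih (by
          have := (hL n).symm
          refine hsub n _ ?_
          rwa [SModEq.sub_mem] at this)]
        simp only [LinearMap.sub_apply, LinearMap.id_coe, id_eq, pow_succ', Module.End.mul_apply]
        abel
    have h3 : ((LinearMap.id : N →ₗ[R] N) - g) L - y = ((LinearMap.id : N →ₗ[R] N) - g) (L - S n) - (g ^ n) y := by
      rw [map_sub, h2]; abel
    rw [h3]
    exact Submodule.sub_mem _ h1 (hpow n y)

end Groth.Agent.Lib.Helper6
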