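import Groth.Agent.Lib.Helper6.HomBC3
import Groth.Agent.Lib.Helper35.KLHeart

/-! Flat base change of Hom groups, part 4: the base case `K = A[b]` (helper6). -/

set_option autoImplicit false
set_option linter.unusedSectionVars false
universe u
open CategoryTheory CategoryTheory.Limits DerivedCategory TensorProduct Pretriangulated
attribute [local instance] HasDerivedCategory.standard

namespace Groth.Agent.Lib.Helper6
namespace HomBC

open Groth.Agent.Lib.Helper35 Groth.Agent.Lib.Helper35.FlatBC

variable {A B : Type u} [CommRing A] [CommRing B] [Algebra A B] [Module.Flat A B]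

lemma isLE_G (X : DerivedCategory (ModuleCat.{u} A)) (n : ℤ) [X.IsLE n] :
    ((G A B).obj X).IsLE n := by
  rw [DerivedCategory.isLE_iff]
  intro i hi
  have h0 : IsZero ((homologyFunctor (ModuleCat.{u} A) i).obj X) := isZero_of_isLE X n i hi
  exact ((ext A B).map_isZero h0).of_iso ((homologyIso A B i).app X)

lemma isGE_G (X : DerivedCategory (ModuleCat.{u} A)) (n : ℤ) [X.IsGE n] :
    ((G A B).obj X).IsGE n := by
  rw [DerivedCategory.isGE_iff]
  intro i hi
  have h0 : IsZero ((homologyFunctor (ModuleCat.{u} A) i).obj X) := isZero_of_isGE X n i hi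
  exact ((ext A B).map_isZero h0).of_iso ((homologyIso A B i).app X)

lemma bijective_of_comm {X X' Y Y' : Type*} (α : X → X') (β : Y → Y') (φ : X → Y) (φ' : X' → Y')
    (comm : ∀ x, φ' (α x) = β (φ x)) (hα : Function.Bijective α) (hβ : Function.Bijective β)
    (h : Function.Bijective φ') : Function.Bijective φ := by
  have h1 : β ∘ φ = φ' ∘ α := funext fun x => (comm x).symm
  have h2 : Function.Bijective (β ∘ φ) := by rw [h1]; exact h.comp hα
  exact (Function.Bijective.of_comp_iff' hβ φ).1 h2

lemma bijective_of_comm' {X X' Y Y' : Type*} (α : X → X') (β : Y → Y') (φ : X → Y) (φ' : X' → Y')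
    (comm : ∀ x, φ' (α x) = β (φ x)) (hα : Function.Bijective α) (hβ : Function.Bijective β)
    (h : Function.Bijective φ) : Function.Bijective φ' := by
  have h1 : β ∘ φ = φ' ∘ α := funext fun x => (comm x).symm
  have h2 : Function.Bijective (φ' ∘ α) := by rw [← h1]; exact hβ.comp h
  exact (Function.Bijective.of_comp_iff φ' hα).1 h2

lemma lTensor_bijective' {M N : Type*} [AddCommGroup M] [Module A M] [AddCommGroup N] [Module A N]
    (f : M →ₗ[A] N) (hf : Function.Bijective f) : Function.Bijective (LinearMap.lTensor B f) := by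
  have := (LinearEquiv.lTensor B (LinearEquiv.ofBijective f hf)).bijective
  exact this

/-- Reduction of the second variable along `L → τ≥b L`, for sources killed by `D^{≤ b-1}`. -/
lemma bijective_Phi_of_truncGE (S L : DerivedCategory (ModuleCat.{u} A)) (b : ℤ)
    (hS : ∀ (X : DerivedCategory (ModuleCat.{u} A)) [X.IsLE (b - 1)] (φ : S ⟶ X), φ = 0)
    (hS' : ∀ (Y : DerivedCategory (ModuleCat.{u} B)) [Y.IsLE (b - 1)]
      (φ : (G A B).obj S ⟶ Y), φ = 0)
    (h : Function.Bijective (Phi A B S ((TStructure.t.truncGE b).obj L))) :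
    Function.Bijective (Phi A B S L) := by
  have hT := TStructure.t.triangleLTGE_distinguished b L
  have hGT := (G A B).map_distinguished _ hT
  have h1 : TStructure.t.IsLE ((TStructure.t.triangleLTGE b).obj L).obj₁ (b - 1) :=
    TStructure.t.isLE_truncLT_obj L b (b - 1)
  have h2' : TStructure.t.IsLE (((TStructure.t.triangleLTGE b).obj L).obj₁⟦(1 : ℤ)⟧) (b - 2) :=
    TStructure.t.isLE_shift _ (b - 1) 1 (b - 2) (by omega)
  have h2 : TStructure.t.IsLE (((TStructure.t.triangleLTGE b).obj L).obj₁⟦(1 : ℤ)⟧) (b - 1) :=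
    TStructure.t.isLE_of_le _ (b - 2) (b - 1) (by omega)
  have hα : Function.Bijective (Linear.rightComp A S ((TStructure.t.truncGEπ b).app L)) :=
    KL.postcomp_mor₂_bijective _ hT S (fun φ => hS _ φ) (fun φ => hS _ φ)
  have h3 : ((G A B).obj ((TStructure.t.triangleLTGE b).obj L).obj₁).IsLE (b - 1) := isLE_G _ _
  have h4' : TStructure.t.IsLE (((G A B).obj ((TStructure.t.triangleLTGE b).obj L).obj₁)⟦(1 : ℤ)⟧)
      (b - 2) :=
    TStructure.t.isLE_shift _ (b - 1) 1 (b - 2) (by omega)
  have h4 : TStructure.t.IsLE (((G A B).obj ((TStructure.t.triangleLTGE b).obj L).obj₁)⟦(1 : ℤ)⟧)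
      (b - 1) :=
    TStructure.t.isLE_of_le _ (b - 2) (b - 1) (by omega)
  have hβ : Function.Bijective (fun ψ : (G A B).obj S ⟶ (G A B).obj L =>
      ψ ≫ (G A B).map ((TStructure.t.truncGEπ b).app L)) :=
    KL.postcomp_mor₂_bijective _ hGT ((G A B).obj S) (fun φ => @hS' _ h3 φ) (fun φ => @hS' _ h4 φ)
  exact bijective_of_comm _ _ _ _ (fun x => Phi_comp_right _ x)
    (lTensor_bijective' _ hα) hβ h


/-- Reduction of the second variable along `τ<b+1 L → L`, for sources in `D^{≤ b}`. -/
lemma bijective_Phi_of_truncLT (S L : DerivedCategory (ModuleCat.{u} A)) (b : ℤ) [S.IsLE b]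
    (h : Function.Bijective (Phi A B S ((TStructure.t.truncLT (b + 1)).obj L))) :
    Function.Bijective (Phi A B S L) := by
  have hT := TStructure.t.triangleLTGE_distinguished (b + 1) L
  have hGT := (G A B).map_distinguished _ hT
  have h1 : TStructure.t.IsGE ((TStructure.t.triangleLTGE (b + 1)).obj L).obj₃ (b + 1) :=
    inferInstance
  have h2 : TStructure.t.IsGE (((TStructure.t.triangleLTGE (b + 1)).obj L).obj₃⟦(-1 : ℤ)⟧)
      (b + 2) :=
    TStructure.t.isGE_shift _ (b + 1) (-1) (b + 2) (by omega)
  have hα : Function.Bijective (Linear.rightComp A S ((TStructure.t.truncLTι (b + 1)).app L)) :=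
    KL.postcomp_mor₁_bijective _ hT S
      (fun φ => TStructure.t.zero φ b (b + 1) (by omega))
      (fun φ => TStructure.t.zero φ b (b + 2) (by omega))
  have h0 : TStructure.t.IsLE ((G A B).obj S) b := isLE_G S b
  have h3 : TStructure.t.IsGE ((G A B).mapTriangle.obj
      ((TStructure.t.triangleLTGE (b + 1)).obj L)).obj₃ (b + 1) :=
    isGE_G ((TStructure.t.triangleLTGE (b + 1)).obj L).obj₃ (b + 1)
  have h4 : TStructure.t.IsGE
      (((G A B).mapTriangle.obj ((TStructure.t.triangleLTGE (b + 1)).obj L)).obj₃⟦(-1 : ℤ)⟧)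
      (b + 2) :=
    TStructure.t.isGE_shift _ (b + 1) (-1) (b + 2) (by omega)
  have hβ : Function.Bijective (fun ψ : (G A B).obj S ⟶
        (G A B).obj ((TStructure.t.truncLT (b + 1)).obj L) =>
      ψ ≫ (G A B).map ((TStructure.t.truncLTι (b + 1)).app L)) :=
    KL.postcomp_mor₁_bijective _ hGT ((G A B).obj S)
      (fun φ => TStructure.t.zero φ b (b + 1) (by omega))
      (fun φ => TStructure.t.zero φ b (b + 2) (by omega))
  exact bijective_of_comm' _ _ _ _ (fun x => Phi_comp_right _ x)
    (lTensor_bijective' _ hα) hβ h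

lemma ext_map_smul {M N : ModuleCat.{u} A} (f : M ⟶ N) (a : A) :
    (ext A B).map (a • f) = (algebraMap A B a) • (ext A B).map f := by
  have : a • f = f ≫ (a • 𝟙 N) := by rw [Linear.comp_smul, Category.comp_id]
  rw [this, Functor.map_comp, ext_map_smul_id, Linear.comp_smul, Category.comp_id]

/-- module-level comparison map `B ⊗ Hom_A(M, N) → Hom_B(B ⊗ M, B ⊗ N)`. -/
noncomputable def phi₀ (M N : ModuleCat.{u} A) :
    B ⊗[A] (M ⟶ N) →+ ((ext A B).obj M ⟶ (ext A B).obj N) :=
  TensorProduct.liftAddHom
    { toFun := fun b =>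
        { toFun := fun f => b • (ext A B).map f
          map_zero' := by rw [Functor.map_zero, smul_zero]
          map_add' := fun f g => by rw [Functor.map_add, smul_add] }
      map_zero' := by ext f; simp
      map_add' := fun b b' => by ext f; simp [add_smul] }
    (fun a b f => by
      simp only [AddMonoidHom.coe_mk, ZeroHom.coe_mk]
      rw [ext_map_smul, smul_smul, Algebra.smul_def, mul_comm])

@[simp]
lemma phi₀_tmul (M N : ModuleCat.{u} A) (b : B) (f : M ⟶ N) :
    phi₀ (B := B) M N (b ⊗ₜ f) = b • (ext A B).map f := rfl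

/-- evaluation at `1`: `Hom_A(A, N) ≃ N`. -/
noncomputable def evA (N : ModuleCat.{u} A) : (ModuleCat.of A A ⟶ N) ≃ₗ[A] N :=
  (ModuleCat.homLinearEquiv (S := A)).trans (LinearMap.ringLmapEquivSelf A A N)

lemma evA_apply (N : ModuleCat.{u} A) (f : ModuleCat.of A A ⟶ N) : evA N f = f.hom (1 : A) := rfl

set_option backward.isDefEq.respectTransparency false in
open ChangeOfRings in
lemma one_tmul_eq (m : (ModuleCat.of A A : ModuleCat.{u} A)) :
    ((1 : B) ⊗ₜ[A,algebraMap A B] m : (ext A B).obj (ModuleCat.of A A)) =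
      (algebraMap A B m) •
        ((1 : B) ⊗ₜ[A,algebraMap A B] (1 : A) : (ext A B).obj (ModuleCat.of A A)) := by
  refine Eq.trans ?_ (ModuleCat.ExtendScalars.smul_tmul (f := algebraMap A B)
    (M := ModuleCat.of A A) (algebraMap A B m) 1 (1 : A)).symm
  have h := (TensorProduct.smul_tmul (R := A) (R' := A)
    (M := ((ModuleCat.restrictScalars (algebraMap A B)).obj (ModuleCat.of B B)))
    (N := (ModuleCat.of A A)) m
      (show ((ModuleCat.restrictScalars (algebraMap A B)).obj (ModuleCat.of B B)) from (1 : B))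
      (1 : A))
  rw [ModuleCat.restrictScalars.smul_def] at h
  refine Eq.trans ?_ h.symm
  congr 1
  exact (mul_one m).symm

set_option backward.isDefEq.respectTransparency false in
lemma phi₀_bijective (N : ModuleCat.{u} A) :
    Function.Bijective (phi₀ (B := B) (ModuleCat.of A A) N) := by
  -- evaluation on the `B`-side
  let evB : ((ext A B).obj (ModuleCat.of A A) ⟶ (ext A B).obj N) → (ext A B).obj N :=
    fun g => g.hom ((1 : B) ⊗ₜ[A] (1 : A))
  have hevB : Function.Injective evB := by
    intro g g' h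
    apply ModuleCat.ExtendScalars.hom_ext
    intro m
    rw [one_tmul_eq]
    erw [map_smul, map_smul]
    exact congrArg _ h
  let Θ : B ⊗[A] (ModuleCat.of A A ⟶ N) → (ext A B).obj N := fun x =>
    (extLinearEquivA B N).symm (LinearMap.lTensor B (evA N).toLinearMap x)
  have hΘ : Function.Bijective Θ :=
    (extLinearEquivA B N).symm.bijective.comp (lTensor_bijective' _ (evA N).bijective)
  have hc : ∀ x, evB (phi₀ (B := B) (ModuleCat.of A A) N x) = Θ x := by
    intro x
    induction x using TensorProduct.induction_on with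
    | zero => simp [evB, Θ]
    | tmul b f =>
      simp only [evB, Θ, phi₀_tmul, LinearMap.lTensor_tmul]
      rw [ModuleCat.hom_smul, LinearMap.smul_apply]
      erw [ModuleCat.ExtendScalars.map_tmul]
      rw [ModuleCat.ExtendScalars.smul_tmul, mul_one]
      simp only [extLinearEquivA, TensorProduct.congr_symm_tmul]
      rfl
    | add x y hx hy =>
      simp only [evB, Θ] at hx hy ⊢
      rw [map_add, map_add, map_add, ← hx, ← hy]
      rfl
  constructor
  · intro x y hxy
    apply hΘ.1
    rw [← hc, ← hc, hxy]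
  · intro g
    obtain ⟨x, hx⟩ := hΘ.2 (evB g)
    exact ⟨x, hevB (by rw [hc, hx])⟩


end HomBC
end Groth.Agent.Lib.Helper6
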