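import Groth.Agent.Lib.Helper6.HomSingle
import Groth.Agent.Lib.Helper6.HomBC4
import Groth.Agent.Lib.Helper35.IALib3

/-! Biduality for dualizing complexes, part 1: the contravariant functor `M ↦ Hom_A(M, I•)`
(helper6). -/

set_option autoImplicit false
set_option linter.unusedSectionVars false
universe u
open CategoryTheory CategoryTheory.Limits DerivedCategory Pretriangulated Opposite
attribute [local instance] HasDerivedCategory.standard

namespace Groth.Agent.Lib.Helper6
namespace Bidual

variable {A : Type u} [CommRing A]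

/-- termwise `Hom_A(M, -)` on complexes. -/
noncomputable abbrev homTerm (M : ModuleCat.{u} A) : DRing.Cx A ⥤ DRing.Cx A :=
  ((linearCoyoneda A (ModuleCat.{u} A)).obj (op M)).mapHomologicalComplex (ComplexShape.up ℤ)

/-- `M ↦ Hom_A(M, I•)` as a contravariant functor to complexes. -/
noncomputable def Dc (I : DRing.Cx A) : (ModuleCat.{u} A)ᵒᵖ ⥤ DRing.Cx A where
  obj M := (homTerm M.unop).obj I
  map {M N} f := (NatTrans.mapHomologicalComplex ((linearCoyoneda A (ModuleCat.{u} A)).map f)
    (ComplexShape.up ℤ)).app I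
  map_id M := by
    ext i x
    simp
  map_comp f g := by
    ext i x
    simp

variable (I : DRing.Cx A)

lemma Dc_map_f_apply {M N : ModuleCat.{u} A} (g : M ⟶ N) (i : ℤ) (x : N ⟶ I.X i) :
    (((Dc I).map g.op).f i).hom x = g ≫ x := rfl

lemma Dc_obj_d_apply (M : ModuleCat.{u} A) (i j : ℤ) (x : M ⟶ I.X i) :
    ((((Dc I).obj (op M)).d i j).hom x : M ⟶ I.X j) = x ≫ I.d i j := rfl

instance : (Dc I).Additive where
  map_add {M N f g} := by
    ext i x
    exact Preadditive.add_comp _ _ _ f.unop g.unop (show M.unop ⟶ I.X i from x)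

/-- evaluation at `m : M`, as a morphism of complexes `Hom_A(M, I•) ⟶ I•`. -/
noncomputable def ev (M : ModuleCat.{u} A) (m : M) : (Dc I).obj (op M) ⟶ I where
  f i := ModuleCat.ofHom
    { toFun := fun x => (show M ⟶ I.X i from x).hom m
      map_add' := fun x y => rfl
      map_smul' := fun a x => rfl }
  comm' i j _ := by
    ext x
    rfl

lemma ev_f_apply (M : ModuleCat.{u} A) (m : M) (i : ℤ) (x : M ⟶ I.X i) :
    ((ev I M m).f i).hom x = x.hom m := rfl

lemma ev_add (M : ModuleCat.{u} A) (m m' : M) : ev I M (m + m') = ev I M m + ev I M m' := by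
  ext i x
  exact map_add (show M ⟶ I.X i from x).hom m m'

lemma ev_smul (M : ModuleCat.{u} A) (a : A) (m : M) : ev I M (a • m) = a • ev I M m := by
  ext i x
  exact map_smul (show M ⟶ I.X i from x).hom a m

lemma ev_naturality {M N : ModuleCat.{u} A} (g : M ⟶ N) (m : M) :
    (Dc I).map g.op ≫ ev I M m = ev I N (g.hom m) := by
  ext i x
  rfl

/-- `Hom_A(A, I•) ≅ I•`. -/
noncomputable def evIso : (Dc I).obj (op (ModuleCat.of A A)) ≅ I :=
  HomologicalComplex.Hom.isoOfComponents (fun i => (HomBC.evA (I.X i)).toModuleIso) (by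
    intro i j _
    ext x
    rfl)

lemma evIso_hom : (evIso I).hom = ev I (ModuleCat.of A A) (1 : A) := by
  ext i x
  rfl

/-- The short complex of complexes attached to a short complex of modules. -/
noncomputable def DcSC (S : ShortComplex (ModuleCat.{u} A)) : ShortComplex (DRing.Cx A) :=
  ShortComplex.mk ((Dc I).map S.g.op) ((Dc I).map S.f.op) (by
    rw [← Functor.map_comp, ← op_comp, S.zero, op_zero, Functor.map_zero])

lemma DcSC_shortExact (hI : ∀ i : ℤ, Injective (I.X i)) (S : ShortComplex (ModuleCat.{u} A))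
    (hS : S.ShortExact) : (DcSC I S).ShortExact := by
  apply HomologicalComplex.shortExact_of_degreewise_shortExact
  intro i
  have := hS.mono_f
  have := hS.epi_g
  have := hI i
  refine ShortComplex.ShortExact.mk' ?_ ?_ ?_
  · rw [ShortComplex.moduleCat_exact_iff]
    intro x hx
    have hx' : S.f ≫ (show S.X₂ ⟶ I.X i from x) = 0 := hx
    exact ⟨hS.exact.desc (show S.X₂ ⟶ I.X i from x) hx', hS.exact.g_desc _ hx'⟩
  · rw [ModuleCat.mono_iff_injective]
    intro x y hxy
    have h : S.g ≫ (show S.X₃ ⟶ I.X i from x) = S.g ≫ (show S.X₃ ⟶ I.X i from y) := hxy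
    exact (cancel_epi S.g).1 h
  · rw [ModuleCat.epi_iff_surjective]
    intro y
    refine ⟨Injective.factorThru (show S.X₁ ⟶ I.X i from y) S.f, ?_⟩
    exact Injective.comp_factorThru (show S.X₁ ⟶ I.X i from y) S.f

end Bidual
end Groth.Agent.Lib.Helper6
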