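import Groth.Agent.Lib.Helper6.HomBC2
import Groth.Agent.Lib.Helper35.IALib3

/-! Biduality for dualizing complexes, part 2: the abstract way-out argument (helper6). -/

set_option autoImplicit false
set_option linter.unusedSectionVars false
universe u
open CategoryTheory CategoryTheory.Limits DerivedCategory Pretriangulated Opposite
attribute [local instance] HasDerivedCategory.standard

namespace Groth.Agent.Lib.Helper6
namespace Bidual

open Groth.Agent.Lib.Helper35

section tri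

variable {A : Type u} [CommRing A]

/-- V1: in a distinguished triangle `X → Y → Z → X[1]`, if `Hom(Y, L) = 0` and
`Hom(Z, L[1]) = 0` then `Hom(X, L) = 0`. -/
lemma subsingleton_hom_obj₁ (T : Triangle (Dual.D A)) (hT : T ∈ distTriang _) (L : Dual.D A)
    (h₂ : Subsingleton (T.obj₂ ⟶ L)) (h₃ : Subsingleton (T.obj₃ ⟶ L⟦(1 : ℤ)⟧)) :
    Subsingleton (T.obj₁ ⟶ L) := by
  have hz : ∀ f : T.obj₁ ⟶ L, f = 0 := by
    intro f
    have h0 : T.mor₃ ≫ f⟦(1 : ℤ)⟧' = 0 := h₃.elim _ _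
    obtain ⟨g, hg⟩ := Triangle.yoneda_exact₃ T.rotate (rot_of_distTriang _ hT) (f⟦(1 : ℤ)⟧') h0
    have hg0 : g = 0 := by
      have h1 : (shiftFunctor (Dual.D A) (1 : ℤ)).preimage g = 0 := h₂.elim _ _
      have h2 := (shiftFunctor (Dual.D A) (1 : ℤ)).map_preimage g
      rw [h1, Functor.map_zero] at h2
      exact h2.symm
    rw [hg0, comp_zero] at hg
    exact (shiftFunctor (Dual.D A) (1 : ℤ)).map_injective (hg.trans (Functor.map_zero _ _ _).symm)
  exact ⟨fun f g => by rw [hz f, hz g]⟩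

/-- V2. -/
lemma subsingleton_hom_shift_obj₁ (T : Triangle (Dual.D A)) (hT : T ∈ distTriang _)
    (L : Dual.D A) (h₂ : Subsingleton (T.obj₂⟦(1 : ℤ)⟧ ⟶ L))
    (hinj : ∀ x : T.obj₃ ⟶ L, T.mor₂ ≫ x = 0 → x = 0) :
    Subsingleton (T.obj₁⟦(1 : ℤ)⟧ ⟶ L) := by
  have hz : ∀ f : T.obj₁⟦(1 : ℤ)⟧ ⟶ L, f = 0 := by
    intro f
    have h0 : T.mor₃ ≫ f = 0 := by
      apply hinj
      rw [← Category.assoc, comp_distTriang_mor_zero₂₃ T hT, zero_comp]
    obtain ⟨g, hg⟩ := Triangle.yoneda_exact₃ T.rotate (rot_of_distTriang _ hT) f h0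
    have hg0 : g = 0 := h₂.elim _ _
    rw [hg0, comp_zero] at hg
    exact hg
  exact ⟨fun f g => by rw [hz f, hz g]⟩

/-- V3. -/
lemma surjective_comp_mor₁ (T : Triangle (Dual.D A)) (hT : T ∈ distTriang _)
    (L : Dual.D A) (h₃ : Subsingleton (T.obj₃ ⟶ L⟦(1 : ℤ)⟧)) (f : T.obj₁ ⟶ L) :
    ∃ g : T.obj₂ ⟶ L, T.mor₁ ≫ g = f := by
  have h0 : T.invRotate.mor₁ ≫ f = 0 :=
    KL.eq_zero_of_subsingleton_hom_shift T.obj₃ L 1 h₃ _
  obtain ⟨g, hg⟩ := Triangle.yoneda_exact₂ T.invRotate (inv_rot_of_distTriang _ hT) f h0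
  exact ⟨g, hg.symm⟩

end tri

variable {A : Type u} [CommRing A]

/-- a finite module over a Noetherian ring is a quotient of a finite free module by a finite
submodule. -/
lemma exists_ses [IsNoetherianRing A] (M : Type u) [AddCommGroup M] [Module A M]
    [Module.Finite A M] :
    ∃ (r : ℕ) (K : Submodule A (Fin r → A)) (g : (Fin r → A) →ₗ[A] M)
      (h : ModuleCat.ofHom K.subtype ≫ ModuleCat.ofHom g = 0),
      (ShortComplex.mk (ModuleCat.ofHom K.subtype) (ModuleCat.ofHom g) h).ShortExact := by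
  obtain ⟨r, g, hg⟩ := Module.Finite.exists_fin' A M
  have h : ModuleCat.ofHom (LinearMap.ker g).subtype ≫ ModuleCat.ofHom g = 0 := by
    ext x
    exact x.2
  refine ⟨r, LinearMap.ker g, g, h, ?_⟩
  have : Mono (ModuleCat.ofHom (LinearMap.ker g).subtype) := by
    rw [ModuleCat.mono_iff_injective]
    exact Subtype.val_injective
  have : Epi (ModuleCat.ofHom g) := by
    rw [ModuleCat.epi_iff_surjective]
    exact hg
  refine ShortComplex.ShortExact.mk' ?_ inferInstance inferInstance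
  rw [ShortComplex.moduleCat_exact_iff]
  intro x hx
  exact ⟨⟨x, hx⟩, rfl⟩

/-- The abstract data for the way-out argument. -/
structure WayOutData (A : Type u) [CommRing A] where
  Dq : (ModuleCat.{u} A)ᵒᵖ ⥤ Dual.D A
  additive : Dq.Additive
  W : Dual.D A
  tri : ∀ (S : ShortComplex (ModuleCat.{u} A)), S.ShortExact →
    ∃ δ : Dq.obj (op S.X₁) ⟶ (Dq.obj (op S.X₃))⟦(1 : ℤ)⟧,
      Triangle.mk (Dq.map S.g.op) (Dq.map S.f.op) δ ∈ distTriang (Dual.D A)
  η : ∀ M : ModuleCat.{u} A, M →ₗ[A] (Dq.obj (op M) ⟶ W)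
  η_nat : ∀ {M N : ModuleCat.{u} A} (g : M ⟶ N) (m : M), Dq.map g.op ≫ η M m = η N (g.hom m)
  vanish_A : ∀ j : ℤ, j ≠ 0 → Subsingleton (Dq.obj (op (ModuleCat.of A A)) ⟶ W⟦j⟧)
  η_A_bij : Function.Bijective (η (ModuleCat.of A A))
  bound : ∃ c : ℤ, ∀ j : ℤ, c < j → ∀ M : ModuleCat.{u} A, Subsingleton (Dq.obj (op M) ⟶ W⟦j⟧)

namespace WayOutData

variable (d : WayOutData A)

attribute [instance] WayOutData.additive

/-- the vanishing predicate. -/
def Tv (j : ℤ) (M : Type u) [AddCommGroup M] [Module A M] : Prop :=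
  Subsingleton (d.Dq.obj (op (ModuleCat.of A M)) ⟶ d.W⟦j⟧)

section free

variable (r : ℕ)

/-- inclusion of the `i`-th coordinate. -/
noncomputable abbrev ι (i : Fin r) : ModuleCat.of A A ⟶ ModuleCat.of A (Fin r → A) :=
  ModuleCat.ofHom (LinearMap.single A (fun _ : Fin r => A) i)

/-- projection onto the `i`-th coordinate. -/
noncomputable abbrev π (i : Fin r) : ModuleCat.of A (Fin r → A) ⟶ ModuleCat.of A A :=
  ModuleCat.ofHom (LinearMap.proj (R := A) (φ := fun _ : Fin r => A) i)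

lemma sum_π_ι : ∑ i : Fin r, π (A := A) r i ≫ ι r i = 𝟙 (ModuleCat.of A (Fin r → A)) := by
  refine ModuleCat.hom_ext (LinearMap.ext fun x => funext fun k => ?_)
  simp only [ModuleCat.hom_sum, ModuleCat.hom_comp, ModuleCat.hom_ofHom, LinearMap.coe_sum,
    Finset.sum_apply, LinearMap.comp_apply, LinearMap.proj_apply, LinearMap.single_apply,
    ModuleCat.hom_id, LinearMap.id_apply]
  rw [Finset.sum_eq_single k]
  · simp
  · intro b _ hb
    simp [hb.symm]
  · simp

lemma id_eq_sum : 𝟙 (d.Dq.obj (op (ModuleCat.of A (Fin r → A)))) =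
    ∑ i : Fin r, d.Dq.map (ι r i).op ≫ d.Dq.map (π r i).op := by
  rw [← d.Dq.map_id, ← op_id, ← sum_π_ι r, op_sum, Functor.map_sum]
  simp only [op_comp, Functor.map_comp]

lemma free_vanish (j : ℤ) (hj : j ≠ 0) : d.Tv j (Fin r → A) := by
  have := d.vanish_A j hj
  refine ⟨fun t t' => ?_⟩
  have hz : ∀ t : d.Dq.obj (op (ModuleCat.of A (Fin r → A))) ⟶ d.W⟦j⟧, t = 0 := by
    intro t
    rw [← Category.id_comp t, id_eq_sum, Preadditive.sum_comp]
    apply Finset.sum_eq_zero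
    intro i _
    rw [Category.assoc]
    have : d.Dq.map (π r i).op ≫ t = 0 := Subsingleton.elim _ _
    rw [this, comp_zero]
  rw [hz t, hz t']

lemma free_injective : Function.Injective (d.η (ModuleCat.of A (Fin r → A))) := by
  rw [← LinearMap.ker_eq_bot, LinearMap.ker_eq_bot']
  intro x hx
  funext i
  have h1 := d.η_nat (π r i) x
  rw [hx, comp_zero] at h1
  have h2 : d.η (ModuleCat.of A A) ((π (A := A) r i).hom x) = d.η (ModuleCat.of A A) 0 := by
    rw [← h1, map_zero]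
  exact d.η_A_bij.1 h2

lemma free_surjective : Function.Surjective (d.η (ModuleCat.of A (Fin r → A))) := by
  intro t
  have hi : ∀ i : Fin r, ∃ a : A, d.η (ModuleCat.of A A) a = d.Dq.map (π r i).op ≫ t :=
    fun i => d.η_A_bij.2 _
  choose a ha using hi
  refine ⟨∑ i : Fin r, (ι (A := A) r i).hom (a i), ?_⟩
  rw [map_sum]
  conv_rhs => rw [← Category.id_comp t, id_eq_sum, Preadditive.sum_comp]
  apply Finset.sum_congr rfl
  intro i _
  rw [Category.assoc, ← ha i, d.η_nat]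

end free


section main

variable [IsNoetherianRing A]

/-- the basic step: from a presentation `0 → K → A^r → M → 0`. -/
lemma step (j : ℤ) (r : ℕ) (K : Submodule A (Fin r → A)) (M : Type u) [AddCommGroup M]
    [Module A M] (g : (Fin r → A) →ₗ[A] M)
    (h : ModuleCat.ofHom K.subtype ≫ ModuleCat.ofHom g = 0)
    (hS : (ShortComplex.mk (ModuleCat.ofHom K.subtype) (ModuleCat.ofHom g) h).ShortExact)
    (h₂ : d.Tv j (Fin r → A)) (h₃ : d.Tv (j + 1) K) : d.Tv j M := by
  obtain ⟨δ, hδ⟩ := d.tri _ hS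
  have h₃'' : Subsingleton (d.Dq.obj (op (ModuleCat.of A K)) ⟶ d.W⟦j + 1⟧) := h₃
  have h₃' : Subsingleton (d.Dq.obj (op (ModuleCat.of A K)) ⟶ (d.W⟦j⟧)⟦(1 : ℤ)⟧) :=
    (Iso.homCongr (Iso.refl _)
      ((shiftFunctorAdd' (Dual.D A) j 1 (j + 1) rfl).app d.W)).symm.subsingleton
  exact subsingleton_hom_obj₁ _ hδ (d.W⟦j⟧) h₂ h₃'

lemma upper : ∀ (n : ℕ) (c : ℤ), (∀ j : ℤ, c < j → ∀ M : ModuleCat.{u} A,
      Subsingleton (d.Dq.obj (op M) ⟶ d.W⟦j⟧)) →
    ∀ j : ℤ, 1 ≤ j → c < j + n → ∀ (M : Type u) [AddCommGroup M] [Module A M]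
      [Module.Finite A M], d.Tv j M := by
  intro n
  induction n with
  | zero =>
    intro c hc j _ hj M _ _ _
    exact hc j (by simpa using hj) _
  | succ n ih =>
    intro c hc j hj1 hj M _ _ _
    obtain ⟨r, K, g, h, hS⟩ := exists_ses (A := A) M
    exact d.step j r K M g h hS (d.free_vanish r j (by omega))
      (ih c hc (j + 1) (by omega) (by push_cast at hj; omega) K)

lemma vanish_pos (j : ℤ) (hj : 1 ≤ j) (M : Type u) [AddCommGroup M] [Module A M]
    [Module.Finite A M] : d.Tv j M := by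
  obtain ⟨c, hc⟩ := d.bound
  exact d.upper (c - j + 1).toNat c hc j hj (by omega) M

lemma η_surjective (M : Type u) [AddCommGroup M] [Module A M] [Module.Finite A M] :
    Function.Surjective (d.η (ModuleCat.of A M)) := by
  intro t
  obtain ⟨r, K, g, h, hS⟩ := exists_ses (A := A) M
  obtain ⟨δ, hδ⟩ := d.tri _ hS
  have h₃ : Subsingleton (d.Dq.obj (op (ModuleCat.of A K)) ⟶ d.W⟦(1 : ℤ)⟧) :=
    d.vanish_pos 1 le_rfl K
  obtain ⟨t', ht'⟩ := surjective_comp_mor₁ _ hδ d.W h₃ t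
  obtain ⟨x, hx⟩ := d.free_surjective r t'
  refine ⟨g x, ?_⟩
  have := d.η_nat (ModuleCat.ofHom g) x
  rw [hx] at this
  exact this.symm.trans ht'

lemma η_injective (M : Type u) [AddCommGroup M] [Module A M] [Module.Finite A M] :
    Function.Injective (d.η (ModuleCat.of A M)) := by
  rw [← LinearMap.ker_eq_bot, LinearMap.ker_eq_bot']
  intro m hm
  obtain ⟨r, K, g, h, hS⟩ := exists_ses (A := A) M
  obtain ⟨δ, hδ⟩ := d.tri _ hS
  have hg : Function.Surjective g := by
    have := hS.epi_g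
    exact (ModuleCat.epi_iff_surjective (ModuleCat.ofHom g)).1 this
  obtain ⟨x, rfl⟩ := hg m
  have h1 := d.η_nat (ModuleCat.ofHom g) x
  have h1' : d.Dq.map (ModuleCat.ofHom g).op ≫ d.η (ModuleCat.of A (Fin r → A)) x = 0 :=
    h1.trans hm
  obtain ⟨t', ht'⟩ := Triangle.yoneda_exact₂ _ hδ _ h1'
  obtain ⟨k, hk⟩ := d.η_surjective K t'
  have h2 := d.η_nat (ModuleCat.ofHom K.subtype) k
  rw [hk] at h2
  have h3 : x = K.subtype k := d.free_injective r (ht'.trans h2)
  rw [h3]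
  exact congr($(h).hom k)

lemma vanish_neg_one (M : Type u) [AddCommGroup M] [Module A M] [Module.Finite A M] :
    d.Tv (-1) M := by
  obtain ⟨r, K, g, h, hS⟩ := exists_ses (A := A) M
  obtain ⟨δ, hδ⟩ := d.tri _ hS
  have hfree := d.free_vanish r (-1) (by omega)
  have h₂ : Subsingleton ((d.Dq.obj (op (ModuleCat.of A (Fin r → A))))⟦(1 : ℤ)⟧ ⟶ d.W) :=
    ⟨fun f f' => by
      rw [KL.eq_zero_of_subsingleton_hom_shift _ d.W (-1) hfree f,
        KL.eq_zero_of_subsingleton_hom_shift _ d.W (-1) hfree f']⟩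
  have hinj : ∀ x : d.Dq.obj (op (ModuleCat.of A K)) ⟶ d.W,
      d.Dq.map (ModuleCat.ofHom K.subtype).op ≫ x = 0 → x = 0 := by
    intro x hx
    obtain ⟨k, rfl⟩ := d.η_surjective K x
    have h2 := d.η_nat (ModuleCat.ofHom K.subtype) k
    rw [hx] at h2
    have h3 : (K.subtype k) = 0 := d.free_injective r (h2.symm.trans (map_zero _).symm)
    have h4 : k = 0 := Subtype.val_injective h3
    rw [h4, map_zero]
  have h5 : Subsingleton ((d.Dq.obj (op (ModuleCat.of A M)))⟦(1 : ℤ)⟧ ⟶ d.W) :=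
    subsingleton_hom_shift_obj₁ _ hδ d.W h₂ hinj
  have h6 : Subsingleton ((shiftEquiv (Dual.D A) (1 : ℤ)).functor.obj
      (d.Dq.obj (op (ModuleCat.of A M))) ⟶ d.W) := h5
  exact ((shiftEquiv (Dual.D A) (1 : ℤ)).toAdjunction.homEquiv
    (d.Dq.obj (op (ModuleCat.of A M))) d.W).symm.subsingleton

lemma lower : ∀ (n : ℕ) (M : Type u) [AddCommGroup M] [Module A M] [Module.Finite A M],
    d.Tv (-1 - n) M := by
  intro n
  induction n with
  | zero =>
    intro M _ _ _
    simpa using d.vanish_neg_one M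
  | succ n ih =>
    intro M _ _ _
    obtain ⟨r, K, g, h, hS⟩ := exists_ses (A := A) M
    have h3 := ih K
    have e : (-1 - ((n + 1 : ℕ) : ℤ)) + 1 = -1 - (n : ℤ) := by push_cast; ring
    rw [← e] at h3
    exact d.step _ r K M g h hS (d.free_vanish r _ (by omega)) h3

/-- **The way-out theorem**: vanishing of `T^j(M)` for `j ≠ 0` and bijectivity of `η_M`, for all
finite modules `M`. -/
theorem main (M : Type u) [AddCommGroup M] [Module A M] [Module.Finite A M] :
    (∀ j : ℤ, j ≠ 0 → Subsingleton (d.Dq.obj (op (ModuleCat.of A M)) ⟶ d.W⟦j⟧)) ∧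
      Function.Bijective (d.η (ModuleCat.of A M)) := by
  refine ⟨fun j hj => ?_, d.η_injective M, d.η_surjective M⟩
  rcases lt_or_gt_of_ne hj with h | h
  · have := d.lower (-1 - j).toNat M
    have e : -1 - (((-1 - j).toNat : ℕ) : ℤ) = j := by
      rw [Int.toNat_of_nonneg (by omega)]
      ring
    rw [e] at this
    exact this
  · exact d.vanish_pos j (by omega) M

end main

end WayOutData

end Bidual
end Groth.Agent.Lib.Helper6
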