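import Groth.Agent.Lib.Helper6.Bidual1
import Groth.Agent.Lib.Helper6.Bidual2

/-! Biduality for dualizing complexes, part 3: the way-out data of a bounded complex of
injectives (helper6). -/

set_option autoImplicit false
set_option linter.unusedSectionVars false
universe u
open CategoryTheory CategoryTheory.Limits DerivedCategory Pretriangulated Opposite
attribute [local instance] HasDerivedCategory.standard

namespace Groth.Agent.Lib.Helper6
namespace Bidual

open Groth.Agent.Lib.Helper35

variable {A : Type u} [CommRing A] (I : DRing.Cx A)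

/-- `M ↦ Q(Hom_A(M, I•))`. -/
noncomputable abbrev Dq : (ModuleCat.{u} A)ᵒᵖ ⥤ Dual.D A := Dc I ⋙ DerivedCategory.Q

/-- the evaluation map `M → Hom(D(M), Q(I))`. -/
noncomputable def etaLin (M : ModuleCat.{u} A) :
    M →ₗ[A] ((Dq I).obj (op M) ⟶ (DerivedCategory.Q.obj I : Dual.D A)) where
  toFun m := DerivedCategory.Q.map (ev I M m)
  map_add' m m' := by rw [ev_add, Functor.map_add]
  map_smul' a m := by rw [ev_smul, Functor.map_smul, RingHom.id_apply]

lemma etaLin_apply (M : ModuleCat.{u} A) (m : M) :
    etaLin I M m = DerivedCategory.Q.map (ev I M m) := rfl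

lemma isStrictlyGE_Dc (a b : ℤ) (hv : DRing.VanishesOutside I a b) (M : ModuleCat.{u} A) :
    ((Dc I).obj (op M)).IsStrictlyGE a := by
  rw [CochainComplex.isStrictlyGE_iff]
  intro i hi
  have hz : IsZero (I.X i) := hv i (Or.inl hi)
  have hs : Subsingleton (M ⟶ I.X i) := ⟨fun f g => hz.eq_of_tgt f g⟩
  exact ModuleCat.isZero_of_subsingleton (ModuleCat.of A (M ⟶ I.X i))

lemma isStrictlyLE_Dc (a b : ℤ) (hv : DRing.VanishesOutside I a b) (M : ModuleCat.{u} A) :
    ((Dc I).obj (op M)).IsStrictlyLE b := by
  rw [CochainComplex.isStrictlyLE_iff]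
  intro i hi
  have hz : IsZero (I.X i) := hv i (Or.inr hi)
  have hs : Subsingleton (M ⟶ I.X i) := ⟨fun f g => hz.eq_of_tgt f g⟩
  exact ModuleCat.isZero_of_subsingleton (ModuleCat.of A (M ⟶ I.X i))

/-- the way-out data attached to a bounded complex of injectives with `A ≅ REnd(I)`. -/
noncomputable def wayOutData (a b : ℤ) (hv : DRing.VanishesOutside I a b)
    (hinj : ∀ i : ℤ, Injective (I.X i))
    (hend : Function.Bijective (fun x : A => x • 𝟙 (DerivedCategory.Q.obj I : Dual.D A)))
    (hext : ∀ j : ℤ, j ≠ 0 →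
      Subsingleton ((DerivedCategory.Q.obj I : Dual.D A) ⟶ (DerivedCategory.Q.obj I)⟦j⟧)) :
    WayOutData A where
  Dq := Dq I
  additive := inferInstance
  W := DerivedCategory.Q.obj I
  tri S hS := ⟨triangleOfSESδ (DcSC_shortExact I hinj S hS),
    triangleOfSES_distinguished (DcSC_shortExact I hinj S hS)⟩
  η := etaLin I
  η_nat g m := by
    rw [etaLin_apply, etaLin_apply, ← ev_naturality, Functor.map_comp]
    rfl
  vanish_A j hj := by
    have := hext j hj
    exact (Iso.homCongr (DerivedCategory.Q.mapIso (evIso I)) (Iso.refl _)).subsingleton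
  η_A_bij := by
    have h1 : ∀ x : A, etaLin I (ModuleCat.of A A) x =
        DerivedCategory.Q.map (evIso I).hom ≫ (x • 𝟙 (DerivedCategory.Q.obj I : Dual.D A)) := by
      intro x
      rw [etaLin_apply, Linear.comp_smul, Category.comp_id, evIso_hom, ← Functor.map_smul,
        ← ev_smul]
      congr 2
      exact (mul_one x).symm
    have h2 : Function.Bijective (fun t : (DerivedCategory.Q.obj I : Dual.D A) ⟶
        DerivedCategory.Q.obj I => DerivedCategory.Q.map (evIso I).hom ≫ t) := by
      constructor
      · intro t t' h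
        exact (cancel_epi (DerivedCategory.Q.map (evIso I).hom)).1 h
      · intro t
        refine ⟨DerivedCategory.Q.map (evIso I).inv ≫ t, ?_⟩
        simp only [← Category.assoc, ← Functor.map_comp, Iso.hom_inv_id,
          CategoryTheory.Functor.map_id, Category.id_comp]
    have h3 : (etaLin I (ModuleCat.of A A) : A → _) =
        (fun t => DerivedCategory.Q.map (evIso I).hom ≫ t) ∘
          (fun x : A => x • 𝟙 (DerivedCategory.Q.obj I : Dual.D A)) := funext h1
    rw [h3]
    exact h2.comp hend
  bound := by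
    refine ⟨b - a, fun j hj M => ?_⟩
    have hIA : KL.IA a b (DerivedCategory.Q.obj I : Dual.D A) := ⟨I, hv, hinj, ⟨Iso.refl _⟩⟩
    have := isStrictlyGE_Dc I a b hv M
    have hge : (DerivedCategory.Q.obj ((Dc I).obj (op M)) : Dual.D A).IsGE a := inferInstance
    have hge0 : TStructure.t.IsGE ((Dq I).obj (op M)) a := hge
    have hge' : DerivedCategory.IsGE ((Dq I).obj (op M)) (b - j + 1) :=
      TStructure.t.isGE_of_ge _ (b - j + 1) a (by omega)
    exact ⟨fun f g => by
      rw [KL.hom_eq_zero_of_injAmp (a - j) (b - j) _ (hIA.shift j) _ f,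
        KL.hom_eq_zero_of_injAmp (a - j) (b - j) _ (hIA.shift j) _ g]⟩

end Bidual
end Groth.Agent.Lib.Helper6
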