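import Groth.Agent.Lib.Helper6.Bidual5
import Groth.Agent.Lib.Helper6.InjDimMax3

/-! Biduality for dualizing complexes, part 6: Hom(κ, ω[i]) is one-dimensional in one degree
(helper6). -/

set_option autoImplicit false
set_option linter.unusedSectionVars false
set_option linter.style.haveILetI false
universe u
open CategoryTheory CategoryTheory.Limits DerivedCategory Pretriangulated Opposite
attribute [local instance] HasDerivedCategory.standard

namespace Groth.Agent.Lib.Helper6
namespace Bidual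

open Groth.Agent.Lib.Helper35

variable {A : Type u} [CommRing A]

/-- Lemma H: an object concentrated in degree `n` is the single object of its `n`-th
cohomology. -/
lemma nonempty_iso_single (Y : Dual.D A) (n : ℤ) [Y.IsGE n] [Y.IsLE n] (N : Type u)
    [AddCommGroup N] [Module A N] (e : Dual.HD A Y n ≃ₗ[A] N) :
    Nonempty (Y ≅ (DerivedCategory.singleFunctor (ModuleCat.{u} A) n).obj (ModuleCat.of A N)) := by
  obtain ⟨H, ⟨e0⟩⟩ := exists_iso_singleFunctor_obj_of_isGE_of_isLE Y n
  let i1 : H ≅ (homologyFunctor (ModuleCat.{u} A) n).obj Y :=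
    ((DerivedCategory.singleFunctorCompHomologyFunctorIso (ModuleCat.{u} A) n).app H).symm ≪≫
      (homologyFunctor (ModuleCat.{u} A) n).mapIso e0.symm
  let i2 : (homologyFunctor (ModuleCat.{u} A) n).obj Y ≅ ModuleCat.of A N := e.toModuleIso
  exact ⟨e0 ≪≫ (DerivedCategory.singleFunctor (ModuleCat.{u} A) n).mapIso (i1 ≪≫ i2)⟩

/-- the cohomology of `Q(X)` is the homology of `X`. -/
noncomputable def hdQEquiv (X : DRing.Cx A) (j : ℤ) :
    Dual.HD A (DerivedCategory.Q.obj X) j ≃ₗ[A] X.homology j :=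
  ((DerivedCategory.homologyFunctorFactors (ModuleCat.{u} A) j).app X).toLinearEquiv


/-- Lemma K: top-degree detection. -/
lemma subsingleton_top (Y : Dual.D A) (a n : ℤ) [hGE : Y.IsGE a] [hLE : Y.IsLE n] (L : Dual.D A)
    (h₁ : ∀ i : ℤ, i < n → Subsingleton ((DerivedCategory.singleFunctor (ModuleCat.{u} A) i).obj
      ((homologyFunctor (ModuleCat.{u} A) i).obj Y) ⟶ L⟦(-1 : ℤ)⟧))
    (h₂ : Subsingleton (Y ⟶ L)) :
    Subsingleton ((DerivedCategory.singleFunctor (ModuleCat.{u} A) n).obj
      ((homologyFunctor (ModuleCat.{u} A) n).obj Y) ⟶ L) := by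
  have hT := TStructure.t.triangleLTGE_distinguished n Y
  set T := (TStructure.t.triangleLTGE n).obj Y with hTdef
  have hXL : TStructure.t.IsLE ((TStructure.t.truncLT n).obj Y) (n - 1) :=
    TStructure.t.isLE_truncLT_obj Y n (n - 1)
  have hXG : TStructure.t.IsGE ((TStructure.t.truncLT n).obj Y) a := inferInstance
  have hZG : TStructure.t.IsGE ((TStructure.t.truncGE n).obj Y) n := inferInstance
  have hZL : TStructure.t.IsLE ((TStructure.t.truncGE n).obj Y) n := inferInstance
  -- (1)
  have h1 : Subsingleton ((TStructure.t.truncLT n).obj Y ⟶ L⟦(-1 : ℤ)⟧) := by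
    refine (devissage_hom_zero (L⟦(-1 : ℤ)⟧)).of_bounded_homology _ ⟨a, n - 1, ?_⟩ ?_
    · intro i hi
      rcases hi with hi | hi
      · exact ModuleCat.subsingleton_of_isZero (DerivedCategory.isZero_of_isGE _ a i hi)
      · exact ModuleCat.subsingleton_of_isZero (DerivedCategory.isZero_of_isLE _ (n - 1) i hi)
    · intro i
      by_cases hi : i < n
      · have := KL.isIso_homology_map_truncLTι' Y n i hi
        have hs := h₁ i hi
        let ι : (DerivedCategory.singleFunctor (ModuleCat.{u} A) i).obj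
            ((homologyFunctor (ModuleCat.{u} A) i).obj ((TStructure.t.truncLT n).obj Y)) ≅
            (DerivedCategory.singleFunctor (ModuleCat.{u} A) i).obj
              ((homologyFunctor (ModuleCat.{u} A) i).obj Y) :=
          (DerivedCategory.singleFunctor (ModuleCat.{u} A) i).mapIso
            (asIso ((homologyFunctor (ModuleCat.{u} A) i).map
              ((TStructure.t.truncLTι n).app Y)))
        exact (Iso.homCongr ι (Iso.refl (L⟦(-1 : ℤ)⟧))).subsingleton
      · have hz : IsZero ((DerivedCategory.singleFunctor (ModuleCat.{u} A) i).obj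
            ((homologyFunctor (ModuleCat.{u} A) i).obj ((TStructure.t.truncLT n).obj Y))) :=
          (DerivedCategory.singleFunctor (ModuleCat.{u} A) i).map_isZero
            (isZero_of_isLE ((TStructure.t.truncLT n).obj Y) (n - 1) i (by omega))
        exact ⟨fun f g => hz.eq_of_src f g⟩
  -- (3)
  have h3 : ∀ f : (TStructure.t.truncGE n).obj Y ⟶ L, f = 0 := by
    intro f
    have h0 : T.mor₂ ≫ f = 0 := h₂.elim _ _
    obtain ⟨g, hg⟩ := Triangle.yoneda_exact₃ T hT f h0
    have hg0 : g = 0 := KL.eq_zero_of_subsingleton_hom_shift _ L (-1) h1 g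
    rw [hg, hg0]
    exact comp_zero
  -- (4)
  have := KL.isIso_homology_map_truncGEπ' Y n n le_rfl
  let e : Dual.HD A ((TStructure.t.truncGE n).obj Y) n ≃ₗ[A] Dual.HD A Y n :=
    (asIso ((homologyFunctor (ModuleCat.{u} A) n).map
      ((TStructure.t.truncGEπ n).app Y))).symm.toLinearEquiv
  obtain ⟨φ⟩ := nonempty_iso_single ((TStructure.t.truncGE n).obj Y) n _ e
  refine ⟨fun f g => ?_⟩
  have hf := h3 (φ.hom ≫ f)
  have hg := h3 (φ.hom ≫ g)
  rw [← cancel_epi φ.hom, hf, hg]

section S

variable (κ : ModuleCat.{u} A) (N' : ModuleCat.{u} A) (e : ℕ) (ψ : N' ≃ₗ[A] (Fin e → κ))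
  (K : Dual.D A) (i l m : ℤ) (h : l + i = m)

include ψ h in
/-- Lemma S. -/
lemma subsingleton_single_of_pi
    (hs : Subsingleton ((DerivedCategory.singleFunctor (ModuleCat.{u} A) 0).obj κ ⟶ K⟦m⟧)) :
    Subsingleton ((DerivedCategory.singleFunctor (ModuleCat.{u} A) i).obj N' ⟶ K⟦l⟧) := by
  have h1 := subsingleton_hom_pi κ e (K⟦m⟧) hs
  have h2 : Subsingleton ((DerivedCategory.singleFunctor (ModuleCat.{u} A) i).obj
      (ModuleCat.of A (Fin e → κ)) ⟶ K⟦l⟧) :=
    (singleShiftHomEquiv (ModuleCat.of A (Fin e → κ)) K i l m h).subsingleton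
  exact (Iso.homCongr ((DerivedCategory.singleFunctor (ModuleCat.{u} A) i).mapIso
    ψ.toModuleIso) (Iso.refl _)).subsingleton

include ψ h in
/-- Lemma S'. -/
lemma subsingleton_of_single_pi (he : 0 < e)
    (hs : Subsingleton ((DerivedCategory.singleFunctor (ModuleCat.{u} A) i).obj N' ⟶ K⟦l⟧)) :
    Subsingleton ((DerivedCategory.singleFunctor (ModuleCat.{u} A) 0).obj κ ⟶ K⟦m⟧) := by
  have h2 : Subsingleton ((DerivedCategory.singleFunctor (ModuleCat.{u} A) i).obj
      (ModuleCat.of A (Fin e → κ)) ⟶ K⟦l⟧) :=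
    (Iso.homCongr ((DerivedCategory.singleFunctor (ModuleCat.{u} A) i).mapIso
      ψ.toModuleIso) (Iso.refl _)).symm.subsingleton
  have h1 : Subsingleton ((DerivedCategory.singleFunctor (ModuleCat.{u} A) 0).obj
      (ModuleCat.of A (Fin e → κ)) ⟶ K⟦m⟧) :=
    (singleShiftHomEquiv (ModuleCat.of A (Fin e → κ)) K i l m h).symm.subsingleton
  exact subsingleton_hom_of_pi κ e (K⟦m⟧) he h1

end S

end Bidual
end Groth.Agent.Lib.Helper6
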