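import Groth.Agent.S1722
import Groth.Agent.Lib.Helper6.DualShift
import Groth.Agent.Lib.Helper6.DimFun
import Groth.Agent.Lib.Helper29.Depth
import Groth.Agent.Lib.Helper29.DepthRees

set_option autoImplicit false
set_option linter.unusedSectionVars false
set_option linter.style.haveILetI false
universe u
open CategoryTheory CategoryTheory.Limits DerivedCategory Pretriangulated TensorProduct Pointwise
attribute [local instance] HasDerivedCategory.standard

namespace Groth.Agent.Lib.Helper6
namespace CMChar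

open LocDual

section general

variable {A : Type u} [CommRing A] [IsNoetherianRing A]

theorem subsingleton_localizedModule_of_subsingleton (S : Submonoid A) (M : Type*)
    [AddCommGroup M] [Module A M] [Subsingleton M] : Subsingleton (LocalizedModule S M) := by
  rw [LocalizedModule.subsingleton_iff]
  intro m
  exact ⟨1, Submonoid.one_mem _, by rw [Subsingleton.elim m 0, smul_zero]⟩

/-- a minimal prime of the support realizing the dimension. -/
theorem exists_minimal_support (N : Type u) [AddCommGroup N] [Module A N] [Module.Finite A N]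
    (d : ℕ) (hd : Module.supportDim A N = d) :
    ∃ q : PrimeSpectrum A, q.asIdeal ∈ (Module.annihilator A N).minimalPrimes ∧
      ringKrullDim (A ⧸ q.asIdeal) = d := by
  have h1 : (d : WithBot ℕ∞) ≤ Order.krullDim (Module.support A N) := hd.ge
  obtain ⟨s, hs⟩ := Order.le_krullDim_iff.1 h1
  have hsupp : ∀ x : PrimeSpectrum A, x ∈ Module.support A N ↔ Module.annihilator A N ≤ x.asIdeal := by
    intro x
    rw [Module.support_eq_zeroLocus, PrimeSpectrum.mem_zeroLocus, SetLike.coe_subset_coe]
  have hp0 : Module.annihilator A N ≤ (s.head : PrimeSpectrum A).asIdeal := (hsupp _).1 s.head.2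
  obtain ⟨q, hqmin, hqle⟩ := Ideal.exists_minimalPrimes_le hp0
  have hqprime : q.IsPrime := hqmin.1.1
  let Q : PrimeSpectrum A := ⟨q, hqprime⟩
  have hQ : Q ∈ Module.support A N := (hsupp Q).2 hqmin.1.2
  have hQeq : Q = (s.head : PrimeSpectrum A) := by
    by_contra hne
    have hlt : (⟨Q, hQ⟩ : Module.support A N) < s.head :=
      lt_of_le_of_ne hqle (fun h => hne (congrArg Subtype.val h))
    have h2 := Order.LTSeries.length_le_krullDim (s.cons ⟨Q, hQ⟩ hlt)
    have h3 : (s.cons ⟨Q, hQ⟩ hlt).length = d + 1 := by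
      simp [hs]
    rw [h3] at h2
    have h4 : ((d + 1 : ℕ) : WithBot ℕ∞) ≤ (d : WithBot ℕ∞) := h2.trans hd.le
    have h5 : d + 1 ≤ d := by exact_mod_cast h4
    omega
  refine ⟨Q, hqmin, ?_⟩
  rw [DimFun.ringKrullDim_quotient_eq_coheight]
  apply le_antisymm
  · rw [Order.coheight_eq_krullDim_Ici, ← hd]
    unfold Module.supportDim
    refine Order.krullDim_le_of_strictMono (fun x : Set.Ici Q => (⟨x.1, ?_⟩ : Module.support A N))
      (fun _ _ h => h)
    exact (hsupp x.1).2 (hqmin.1.2.trans x.2)
  · have h2 : ((s.map (fun x => (x : PrimeSpectrum A)) (fun _ _ h => h)).length : ℕ∞) ≤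
        Order.coheight (s.map (fun x => (x : PrimeSpectrum A)) (fun _ _ h => h)).head :=
      Order.length_le_coheight_head
    have h3 : (s.map (fun x => (x : PrimeSpectrum A)) (fun _ _ h => h)).head = Q := hQeq.symm
    rw [h3] at h2
    have h4 : (s.map (fun x => (x : PrimeSpectrum A)) (fun _ _ h => h)).length = d := hs
    rw [h4] at h2
    exact_mod_cast h2

/-- depth zero at a minimal prime of the support. -/
theorem depth_localization_eq_zero_of_minimal (N : Type u) [AddCommGroup N] [Module A N]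
    [Module.Finite A N] (q : Ideal A) [q.IsPrime]
    (hq : q ∈ (Module.annihilator A N).minimalPrimes) :
    LocCoh.depth (Localization.AtPrime q) (LocalizedModule q.primeCompl N) = 0 := by
  have hNB : IsNoetherianRing (Localization.AtPrime q) :=
    IsLocalization.isNoetherianRing q.primeCompl (Localization.AtPrime q) inferInstance
  rw [Lib.Helper29.depth_eq_zero_iff]
  have h1 := Module.associatedPrimes.minimalPrimes_annihilator_subset_associatedPrimes A N hq
  have h2 := Module.associatedPrimes.preimage_comap_associatedPrimes_eq_associatedPrimes_of_isLocalizedModule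
    q.primeCompl (Localization.AtPrime q) (LocalizedModule.mkLinearMap q.primeCompl N)
  rw [← h2, Set.mem_preimage]
  have h3 : Ideal.comap (algebraMap A (Localization.AtPrime q))
      (IsLocalRing.maximalIdeal (Localization.AtPrime q)) = q :=
    Localization.AtPrime.under_maximalIdeal
  rw [h3]
  exact h1

end general

section localcase

variable {B : Type u} [CommRing B] [IsLocalRing B] [IsNoetherianRing B]
  (ω : Dual.D B) (hω : Dual.IsDualizing B ω) (hn : Dual.IsNormalized B ω)

include hω hn

theorem exists_dimFun_local (p : PrimeSpectrum B) :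
    ∃ n : ℕ, ringKrullDim (B ⧸ p.asIdeal) = n ∧ ∀ i : ℤ,
      Nontrivial (LocalizedModule p.asIdeal.primeCompl
        (Dual.inD B (B ⧸ p.asIdeal) ⟶ ω⟦i⟧)) ↔ i = -(n : ℤ) := by
  classical
  obtain ⟨δ, hδ1, hδ2⟩ := Groth.Agent.S1722.result B ω hω
  have htop : δ ⊤ = 0 := by
    by_contra hne
    have hnt := (hδ1 ⊤ (-δ ⊤)).2 rfl
    have hs : Subsingleton (Dual.inD B (B ⧸ (⊤ : PrimeSpectrum B).asIdeal) ⟶ ω⟦-δ ⊤⟧) :=
      hn (-δ ⊤) (by omega)
    have hs' := subsingleton_localizedModule_of_subsingleton
      (⊤ : PrimeSpectrum B).asIdeal.primeCompl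
      (Dual.inD B (B ⧸ (⊤ : PrimeSpectrum B).asIdeal) ⟶ ω⟦-δ ⊤⟧)
    exact not_subsingleton _ hs'
  obtain ⟨n, hn1, hn2⟩ := DimFun.exists_nat δ hδ2 p
  have hδp : δ p = n := by rw [hn2, htop, zero_add]
  exact ⟨n, hn1, fun i => by rw [hδ1 p i, hδp]⟩

theorem nontrivial_hom_supportDim (N : Type u) [AddCommGroup N] [Module B N] [Module.Finite B N]
    (d : ℕ) (hd : Module.supportDim B N = d) :
    Nontrivial (Dual.inD B N ⟶ ω⟦-(d : ℤ)⟧) := by
  obtain ⟨q, hqmin, hqdim⟩ := exists_minimal_support N d hd
  obtain ⟨n, hn1, hn2⟩ := exists_dimFun_local ω hω hn q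
  have hnd : n = d := by
    have h1 : ((n : ℕ) : WithBot ℕ∞) = (d : WithBot ℕ∞) := hn1.symm.trans hqdim
    exact_mod_cast h1
  subst hnd
  have h0 := depth_localization_eq_zero_of_minimal N q.asIdeal hqmin
  have hnt : Nontrivial (LocalizedModule q.asIdeal.primeCompl N) := by
    rw [← Module.mem_support_iff, Module.support_eq_zeroLocus, PrimeSpectrum.mem_zeroLocus,
      SetLike.coe_subset_coe]
    exact hqmin.1.2
  have h1 := ((DualShift.depth_localization_eq_iff ω hω q.asIdeal n hn2 N 0).1
    (by exact_mod_cast h0)).2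
  by_contra hcon
  rw [not_nontrivial_iff_subsingleton] at hcon
  have h2 : (-(n : ℤ) - ((0 : ℕ) : ℤ)) = -(n : ℤ) := by simp
  rw [h2] at h1
  have := subsingleton_localizedModule_of_subsingleton q.asIdeal.primeCompl
    (Dual.inD B N ⟶ ω⟦-(n : ℤ)⟧)
  exact not_subsingleton _ this

theorem isCohenMacaulayModule_iff_exists (N : Type u) [AddCommGroup N] [Module B N]
    [Module.Finite B N] [Nontrivial N] :
    LocCoh.IsCohenMacaulayModule B N ↔
      ∃ j : ℤ, ∀ j' : ℤ, j' ≠ j → Subsingleton (Dual.inD B N ⟶ ω⟦j'⟧) := by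
  obtain ⟨d, hd⟩ : ∃ d : ℕ, Module.supportDim B N = d := by
    have h1 : Module.supportDim B N ≠ ⊥ := Module.supportDim_ne_bot_of_nontrivial B N
    have h2 : Module.supportDim B N < ⊤ :=
      lt_of_le_of_lt (Module.supportDim_le_ringKrullDim B N) ringKrullDim_lt_top
    obtain ⟨x, hx⟩ := WithBot.ne_bot_iff_exists.1 h1
    rw [← hx] at h2
    have h3 : x ≠ ⊤ := by
      intro h
      rw [h] at h2
      exact lt_irrefl _ h2
    obtain ⟨d, hd⟩ := ENat.ne_top_iff_exists.1 h3
    exact ⟨d, by rw [← hx, ← hd]; rfl⟩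
  rw [NormDual.isCohenMacaulayModule_iff ω hω hn N d hd]
  constructor
  · intro h
    refine ⟨-(d : ℤ), fun j' hj' => ?_⟩
    have := h (-j') (by omega)
    rwa [neg_neg] at this
  · rintro ⟨j, hj⟩ i hi
    have hnt := nontrivial_hom_supportDim ω hω hn N d hd
    have hjd : -(d : ℤ) = j := by
      by_contra hne
      have := hj (-(d : ℤ)) hne
      exact not_subsingleton _ this
    exact hj (-i) (by omega)

end localcase

section globalcase

variable {A : Type u} [CommRing A] [IsNoetherianRing A]
  (ω : Dual.D A) (hω : Dual.IsDualizing A ω)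

include hω

theorem isCohenMacaulayModule_localization_iff (p : Ideal A) [p.IsPrime] (M : Type u)
    [AddCommGroup M] [Module A M] [Module.Finite A M]
    [Nontrivial (LocalizedModule p.primeCompl M)] :
    LocCoh.IsCohenMacaulayModule (Localization.AtPrime p) (LocalizedModule p.primeCompl M) ↔
      ∃ j : ℤ, ∀ j' : ℤ, j' ≠ j →
        Subsingleton (LocalizedModule p.primeCompl (Dual.inD A M ⟶ ω⟦j'⟧)) := by
  have hNB : IsNoetherianRing (Localization.AtPrime p) :=
    IsLocalization.isNoetherianRing p.primeCompl (Localization.AtPrime p) inferInstance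
  obtain ⟨δ, hδ1, -⟩ := Groth.Agent.S1722.result A ω hω
  let P : PrimeSpectrum A := ⟨p, inferInstance⟩
  have hd : ∀ i : ℤ, Nontrivial (LocalizedModule p.primeCompl (Dual.inD A (A ⧸ p) ⟶ ω⟦i⟧)) ↔
      i = -δ P := fun i => hδ1 P i
  rw [isCohenMacaulayModule_iff_exists ((Gat p ω)⟦-δ P⟧)
    (DualShift.isDualizing_Gat_shift ω hω p (δ P) hd)
    (DualShift.isNormalized_Gat_shift ω hω p (δ P) hd) (LocalizedModule p.primeCompl M)]
  constructor
  · rintro ⟨j, hj⟩
    refine ⟨j - δ P, fun j' hj' => ?_⟩
    obtain ⟨e⟩ := DualShift.nonempty_locHomEquiv_shift ω hω p (δ P) M j' (j' + δ P) rfl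
    have := hj (j' + δ P) (by omega)
    exact e.subsingleton
  · rintro ⟨j, hj⟩
    refine ⟨j + δ P, fun j' hj' => ?_⟩
    obtain ⟨e⟩ := DualShift.nonempty_locHomEquiv_shift ω hω p (δ P) M (j' - δ P) j' (by omega)
    have := hj (j' - δ P) (by omega)
    exact e.symm.subsingleton

end globalcase

end CMChar
end Groth.Agent.Lib.Helper6
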