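import Groth.Agent.Lib.Helper6.CMChar
import Groth.Agent.Lib.Helper6.DimFun2
import Groth.Agent.S1722

/-! Cohen–Macaulay rings with all minimal primes of the same coheight, in terms of a dualizing
complex whose dimension function vanishes at the maximal ideals (helper6). -/

set_option autoImplicit false
set_option linter.unusedSectionVars false
set_option linter.style.haveILetI false
universe u
open CategoryTheory CategoryTheory.Limits DerivedCategory Pretriangulated TensorProduct
attribute [local instance] HasDerivedCategory.standard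

namespace Groth.Agent.Lib.Helper6
namespace CMFib

open LocDual

section Poset

theorem eq_coheight_of_isMax {α : Type*} [PartialOrder α] (δ : α → ℤ)
    (hδ : ∀ p q : α, p ⋖ q → δ p = δ q + 1) (hmax : ∀ m : α, IsMax m → δ m = 0) :
    ∀ (n : ℕ) (p : α), Order.coheight p = n → δ p = n := by
  intro n
  induction n with
  | zero =>
    intro p hp
    have h0 : Order.coheight p = 0 := by simpa using hp
    rw [Order.coheight_eq_zero] at h0
    rw [hmax p h0]
    simp
  | succ n ih =>
    intro p hp
    have hp' : Order.coheight p = (n : ℕ∞) + 1 := by simpa using hp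
    rw [Order.coheight_eq_coe_add_one_iff] at hp'
    obtain ⟨-, ⟨y, hy, hyn⟩, hall⟩ := hp'
    have hcov : p ⋖ y := by
      refine ⟨hy, fun r hpr hry => ?_⟩
      have h1 := hall r hpr
      have h2 := Order.coheight_add_one_le hry
      rw [hyn] at h2
      have h3 : ((n : ℕ∞) + 1) ≤ n := h2.trans h1
      have h4 : ((n + 1 : ℕ) : ℕ∞) ≤ (n : ℕ∞) := by exact_mod_cast h3
      have h5 : n + 1 ≤ n := by exact_mod_cast h4
      omega
    rw [hδ p y hcov, ih y hyn]
    push_cast
    ring

end Poset

section Loc

variable {F : Type u} [CommRing F]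

theorem subsingleton_localizedModule_of_le {P Q : Ideal F} [P.IsPrime] [Q.IsPrime] (hQP : Q ≤ P)
    (M : Type*) [AddCommGroup M] [Module F M]
    (h : Subsingleton (LocalizedModule P.primeCompl M)) :
    Subsingleton (LocalizedModule Q.primeCompl M) := by
  rw [LocalizedModule.subsingleton_iff] at h ⊢
  intro m
  obtain ⟨r, hr, hrm⟩ := h m
  exact ⟨r, fun hrQ => hr (hQP hrQ), hrm⟩

theorem subsingleton_localizedModule_congr (S : Submonoid F) {M M' : Type*} [AddCommGroup M]
    [Module F M] [AddCommGroup M'] [Module F M'] (e : M ≃ₗ[F] M')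
    (h : Subsingleton (LocalizedModule S M)) : Subsingleton (LocalizedModule S M') := by
  rw [LocalizedModule.subsingleton_iff] at h ⊢
  intro m
  obtain ⟨r, hr, hrm⟩ := h (e.symm m)
  refine ⟨r, hr, ?_⟩
  have : e (r • e.symm m) = 0 := by rw [hrm, map_zero]
  rwa [map_smul, e.apply_symm_apply] at this

end Loc

section Main

variable {F : Type u} [CommRing F] [IsNoetherianRing F] (D : Dual.D F)
  (hD : Dual.IsDualizing F D) (δ : PrimeSpectrum F → ℤ)
  (hδ1 : ∀ (p : PrimeSpectrum F) (i : ℤ), Nontrivial (LocalizedModule p.asIdeal.primeCompl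
    (Dual.inD F (F ⧸ p.asIdeal) ⟶ D⟦i⟧)) ↔ i = -δ p)
  (hδ2 : ∀ p q : PrimeSpectrum F, p ⋖ q → δ p = δ q + 1)
  (hmax : ∀ p : PrimeSpectrum F, p.asIdeal.IsMaximal → δ p = 0)

include hD hδ1 hδ2 in
theorem ringKrullDim_lt_top : ringKrullDim F < ⊤ := by
  obtain ⟨a, b, hab⟩ := hD.finite_injective_dimension
  refine DimFun.ringKrullDim_lt_top_of_dimFun δ hδ2 (-b) (-a) (fun p => ?_)
  have hnt := (hδ1 p (-δ p)).2 rfl
  by_contra hcon
  have hs : Subsingleton (Dual.inD F (F ⧸ p.asIdeal) ⟶ D⟦-δ p⟧) :=
    hab (F ⧸ p.asIdeal) (-δ p) (by omega)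
  have := CMChar.subsingleton_localizedModule_of_subsingleton p.asIdeal.primeCompl
    (Dual.inD F (F ⧸ p.asIdeal) ⟶ D⟦-δ p⟧)
  exact not_subsingleton _ this

include hD hδ1 hδ2 hmax in
/-- the dimension function is the coheight. -/
theorem exists_coheight_eq (p : PrimeSpectrum F) :
    ∃ n : ℕ, Order.coheight p = (n : ℕ∞) ∧ δ p = n := by
  have hfin : Order.coheight p < ⊤ := by
    have h1 := ringKrullDim_lt_top D hD δ hδ1 hδ2
    have h2 : ((Order.coheight p : ℕ∞) : WithBot ℕ∞) ≤ ringKrullDim F :=
      Order.coheight_le_krullDim p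
    by_contra hcon
    rw [not_lt, top_le_iff] at hcon
    rw [hcon] at h2
    exact absurd (lt_of_le_of_lt h2 h1) (lt_irrefl _)
  obtain ⟨n, hn⟩ := ENat.ne_top_iff_exists.1 hfin.ne
  refine ⟨n, hn.symm, ?_⟩
  refine eq_coheight_of_isMax δ hδ2 (fun m hm => hmax m ?_) n p hn.symm
  exact (PrimeSpectrum.isMax_iff).1 hm

include hD hδ1 in
/-- at a minimal prime, the cohomology is concentrated in degree `-δ`. -/
theorem minimal_HD_nontrivial_iff (Q : PrimeSpectrum F) (hQ : Q.asIdeal ∈ minimalPrimes F)
    (i : ℤ) :
    Nontrivial (LocalizedModule Q.asIdeal.primeCompl (Dual.HD F D i)) ↔ i = -δ Q := by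
  refine minimalPrime_HD_nontrivial_iff D hD Q.asIdeal hQ (-δ Q) (fun j hj => ?_) i
  obtain ⟨e⟩ := nonempty_locHomEquiv_residue D hD Q.asIdeal j
  have h1 : ¬ Nontrivial (LocalizedModule Q.asIdeal.primeCompl
      (Dual.inD F (F ⧸ Q.asIdeal) ⟶ D⟦j⟧)) := fun h => hj ((hδ1 Q j).1 h)
  rw [not_nontrivial_iff_subsingleton] at h1
  exact e.symm.subsingleton

include hD hδ1 hδ2 hmax in
/-- Cohen–Macaulay with all minimal primes of coheight `n` iff the dualizing complex is
concentrated in degree `-n`. -/
theorem isCohenMacaulayRing_and_coheight_iff (n : ℕ) :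
    (LocCoh.IsCohenMacaulayRing F ∧ ∀ Q : PrimeSpectrum F, Q.asIdeal ∈ minimalPrimes F →
      Order.coheight Q = (n : ℕ∞)) ↔
    ∀ i : ℤ, i ≠ -(n : ℤ) → Subsingleton (Dual.HD F D i) := by
  constructor
  · rintro ⟨hCM, hdim⟩ i hi
    classical
    refine Module.subsingleton_of_localization_maximal
      (fun (P : Ideal F) [P.IsMaximal] => LocalizedModule P.primeCompl (Dual.HD F D i))
      (fun (P : Ideal F) [P.IsMaximal] => LocalizedModule.mkLinearMap P.primeCompl
        (Dual.HD F D i)) ?_
    intro P hP
    haveI : P.IsPrime := hP.isPrime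
    have hNB : IsNoetherianRing (Localization.AtPrime P) :=
      IsLocalization.isNoetherianRing P.primeCompl (Localization.AtPrime P) inferInstance
    let e : LocalizedModule P.primeCompl F ≃ₗ[Localization.AtPrime P] Localization.AtPrime P :=
      (LocalizedModule.equivTensorProduct P.primeCompl F).trans
        (TensorProduct.AlgebraTensorModule.rid F (Localization.AtPrime P) (Localization.AtPrime P))
    haveI : Nontrivial (LocalizedModule P.primeCompl F) := e.toEquiv.nontrivial
    have hloc := hCM.isCohenMacaulayLocalRing_localization P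
    have hCMm : LocCoh.IsCohenMacaulayModule (Localization.AtPrime P)
        (LocalizedModule P.primeCompl F) := by
      unfold LocCoh.IsCohenMacaulayModule
      rw [Module.supportDim_eq_of_equiv e]
      exact hloc.supportDim_eq_depth
    rw [CMChar.isCohenMacaulayModule_localization_iff D hD P F] at hCMm
    obtain ⟨j, hj⟩ := hCMm
    have hj' : ∀ j' : ℤ, j' ≠ j → Subsingleton (LocalizedModule P.primeCompl (Dual.HD F D j')) := by
      intro j' hne
      obtain ⟨l⟩ := HomSingle.nonempty_homSingleEquiv D j'
      exact subsingleton_localizedModule_congr P.primeCompl l (hj j' hne)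
    by_cases hij : i = j
    · exfalso
      subst hij
      obtain ⟨Q, hQmin, hQP⟩ := Ideal.exists_minimalPrimes_le (bot_le : (⊥ : Ideal F) ≤ P)
      haveI : Q.IsPrime := hQmin.1.1
      let Q' : PrimeSpectrum F := ⟨Q, inferInstance⟩
      obtain ⟨m, hm1, hm2⟩ := exists_coheight_eq D hD δ hδ1 hδ2 hmax Q'
      have hmn : m = n := by
        have := hdim Q' hQmin
        rw [hm1] at this
        exact_mod_cast this
      have hnt := (minimal_HD_nontrivial_iff D hD δ hδ1 Q' hQmin (-(n : ℤ))).2 (by
        rw [hm2, hmn])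
      have hs := hj' (-(n : ℤ)) (fun h => hi h.symm)
      have hs' := subsingleton_localizedModule_of_le hQP (Dual.HD F D (-(n : ℤ))) hs
      exact not_subsingleton _ hs'
    · exact hj' i hij
  · intro hvan
    refine ⟨{ isCohenMacaulayLocalRing_localization := fun P _ => ?_ }, fun Q hQ => ?_⟩
    · have hNB : IsNoetherianRing (Localization.AtPrime P) :=
        IsLocalization.isNoetherianRing P.primeCompl (Localization.AtPrime P) inferInstance
      let e : LocalizedModule P.primeCompl F ≃ₗ[Localization.AtPrime P] Localization.AtPrime P :=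
        (LocalizedModule.equivTensorProduct P.primeCompl F).trans
          (TensorProduct.AlgebraTensorModule.rid F (Localization.AtPrime P)
            (Localization.AtPrime P))
      haveI : Nontrivial (LocalizedModule P.primeCompl F) := e.toEquiv.nontrivial
      have hCMm : LocCoh.IsCohenMacaulayModule (Localization.AtPrime P)
          (LocalizedModule P.primeCompl F) := by
        rw [CMChar.isCohenMacaulayModule_localization_iff D hD P F]
        refine ⟨-(n : ℤ), fun j' hj' => ?_⟩
        obtain ⟨l⟩ := HomSingle.nonempty_homSingleEquiv D j'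
        have := hvan j' hj'
        have : Subsingleton (Dual.inD F F ⟶ D⟦j'⟧) := l.toEquiv.subsingleton
        exact CMChar.subsingleton_localizedModule_of_subsingleton _ _
      refine { supportDim_eq_depth := ?_ }
      unfold LocCoh.IsCohenMacaulayModule at hCMm
      rw [← Module.supportDim_eq_of_equiv e]
      rw [hCMm]
    · obtain ⟨m, hm1, hm2⟩ := exists_coheight_eq D hD δ hδ1 hδ2 hmax Q
      have hnt := (minimal_HD_nontrivial_iff D hD δ hδ1 Q hQ (-δ Q)).2 rfl
      have hmn : -δ Q = -(n : ℤ) := by
        by_contra hne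
        have := hvan (-δ Q) hne
        have := CMChar.subsingleton_localizedModule_of_subsingleton Q.asIdeal.primeCompl
          (Dual.HD F D (-δ Q))
        exact not_subsingleton _ this
      rw [hm1]
      have : (m : ℤ) = n := by omega
      exact_mod_cast this

end Main

end CMFib
end Groth.Agent.Lib.Helper6
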