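import Groth.Agent.Lib.Helper6.Coherent
import Groth.Agent.Lib.Helper6.HomCxH

/-! Local duality (helper6), part 1: finite free resolutions; injectivity of the terms of
`Hom•(P, I)`. -/

set_option autoImplicit false
set_option linter.unusedSectionVars false
universe u
open CategoryTheory CategoryTheory.Limits DerivedCategory Pretriangulated Opposite
  CochainComplex HomComplex
attribute [local instance] HasDerivedCategory.standard

namespace Groth.Agent.Lib.Helper6
namespace LD

variable {A : Type u} [CommRing A]

/-- Over a Noetherian ring, a bounded above object of `D(A)` with finite cohomology modules is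
represented by a bounded above complex of finite free modules. -/
theorem exists_finFree_resolution [IsNoetherianRing A] (K : Dual.D A) (b : ℤ) [K.IsLE b]
    (hfin : ∀ i : ℤ, Module.Finite A (Dual.HD A K i)) :
    ∃ P : DRing.Cx A, DRing.VanishesAbove P b ∧ DRing.TermwiseFiniteFree P ∧
      Nonempty (DRing.toD P ≅ K) := by
  have hR : ∀ I : Ideal A, I.FG → Module.FinitePresentation A I := fun I _ =>
    Module.finitePresentation_of_finite A I
  have hfp := fun (M : ModuleCat.{u} A) (hM : Module.FinitePresentation A M) =>
    Coh.allPC_of_fp (Coh.cohMod_self hR) M hM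
  refine Resol.exists_finFree_of_forall_isPC K b (fun m => ?_)
  refine Coh.isPC_of_homology_fp hfp K b m (hfin m) (fun i _ => ?_)
  have := hfin i
  exact Module.finitePresentation_of_finite A _

section inj

variable (P I : DRing.Cx A)

lemma injective_of_linearEquiv {M N : Type u} [AddCommGroup M] [Module A M] [AddCommGroup N]
    [Module A N] (e : N ≃ₗ[A] M) [hM : Module.Injective A M] : Module.Injective A N where
  out X Y _ _ _ _ f hf g := by
    obtain ⟨h, hh⟩ := hM.out f hf (e.toLinearMap ∘ₗ g)
    refine ⟨e.symm.toLinearMap ∘ₗ h, fun x => ?_⟩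
    simp [hh x]

/-- `Hom(P^p, I^q)` is an injective module for `P^p` finite free and `I^q` injective. -/
lemma injective_hom (X Y : ModuleCat.{u} A) [Module.Finite A X] [Module.Free A X]
    [Injective Y] : Module.Injective A (X ⟶ Y) := by
  haveI : Module.Injective A Y := Module.injective_module_of_injective_object A Y
  let b := Module.Free.chooseBasis A X
  haveI : Fintype (Module.Free.ChooseBasisIndex A X) := Module.Free.ChooseBasisIndex.fintype A X
  let e : (X ⟶ Y) ≃ₗ[A] (Module.Free.ChooseBasisIndex A X → Y) :=
    (ModuleCat.homLinearEquiv (S := A)).trans (b.constr A).symm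
  exact injective_of_linearEquiv e

/-- the terms of `Hom•(P, I)` are injective for `P` termwise finite free and `I` termwise
injective. -/
lemma injective_homCx_X (hP : DRing.TermwiseFiniteFree P) (hI : ∀ q : ℤ, Injective (I.X q))
    (k : ℤ) : Injective ((DRing.homCx P I).X k) := by
  have h : ∀ T : Triplet k, Module.Injective A (P.X T.p ⟶ I.X T.q) := fun T => by
    haveI := (hP T.p).1
    haveI := (hP T.p).2
    haveI := hI T.q
    exact injective_hom _ _
  haveI : Module.Injective A (Cochain P I k) :=
    inferInstanceAs (Module.Injective A (∀ T : Triplet k, P.X T.p ⟶ I.X T.q))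
  exact Module.injective_object_of_injective_module A (Cochain P I k)

/-- `Hom•(P, I)` is bounded below when `P` is bounded above and `I` is bounded below. -/
lemma isStrictlyGE_homCx (a c : ℤ) (hP : DRing.VanishesAbove P c)
    (hI : ∀ q : ℤ, q < a → IsZero (I.X q)) : (DRing.homCx P I).IsStrictlyGE (a - c) := by
  rw [CochainComplex.isStrictlyGE_iff]
  intro k hk
  have hs : Subsingleton (Cochain P I k) := by
    refine ⟨fun z w => ?_⟩
    refine Cochain.ext _ _ (fun p q hpq => ?_)
    by_cases hp : c < p
    · exact (hP p hp).eq_of_src _ _
    · exact (hI q (by omega)).eq_of_tgt _ _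
  exact @ModuleCat.isZero_of_subsingleton A _ (ModuleCat.of A (Cochain P I k)) hs

/-- `Hom•(P, I)` is K-injective for `P` a bounded above complex of finite free modules and `I` a
bounded below complex of injectives. -/
lemma isKInjective_homCx (a c : ℤ) (hPc : DRing.VanishesAbove P c)
    (hP : DRing.TermwiseFiniteFree P) (hIa : ∀ q : ℤ, q < a → IsZero (I.X q))
    (hI : ∀ q : ℤ, Injective (I.X q)) : (DRing.homCx P I).IsKInjective := by
  haveI := isStrictlyGE_homCx P I a c hPc hIa
  haveI : ∀ k : ℤ, Injective ((DRing.homCx P I).X k) := injective_homCx_X P I hP hI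
  exact CochainComplex.isKInjective_of_injective _ (a - c)

end inj

end LD
end Groth.Agent.Lib.Helper6
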