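import Groth.Agent.Lib.Helper6.KT2
import Mathlib.Algebra.Homology.BifunctorShift

/-! `A[n] ⊗^L E ≅ E[n]` (helper6). -/

set_option autoImplicit false
universe u
open CategoryTheory CategoryTheory.Limits MonoidalCategory DerivedCategory TensorProduct
attribute [local instance] HasDerivedCategory.standard

namespace Groth.Agent.Lib.Helper6
namespace KT

open Groth.Agent.Lib.Helper35

variable (A : Type u) [CommRing A] (E : DRing.Cx A)

/-- `X[n] ⊗ E ≅ (X ⊗ E)[n]`. -/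
noncomputable def shiftTensorIso (X : DRing.Cx A) (n : ℤ) :
    (X⟦n⟧ ⊗ E : DRing.Cx A) ≅ (X ⊗ E)⟦n⟧ :=
  CochainComplex.mapBifunctorShift₁Iso X E (curriedTensor (ModuleCat.{u} A)) n

instance isKProjective_unit : (𝟙_ (DRing.Cx A)).IsKProjective := by
  refine KL.isKProjective_of_vanishesAbove _ 0 ?_ ?_
  · intro i hi
    exact HomologicalComplex.isZero_single_obj_X (ComplexShape.up ℤ) 0 _ i (by omega)
  · intro i
    by_cases hi : i = 0
    · subst hi
      exact Module.Projective.of_equiv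
        ((HomologicalComplex.singleObjXSelf (ComplexShape.up ℤ) 0
          (ModuleCat.of A A)).toLinearEquiv).symm
    · have hz : IsZero ((𝟙_ (DRing.Cx A)).X i) :=
        HomologicalComplex.isZero_single_obj_X (ComplexShape.up ℤ) 0 _ i hi
      haveI := ModuleCat.subsingleton_of_isZero hz
      infer_instance

/-- the unit complex represents `A[0]`. -/
noncomputable def unitIso : Dual.inD A A ≅ DRing.toD (𝟙_ (DRing.Cx A)) :=
  (singleFunctorIsoCompQ (ModuleCat.{u} A) 0).app (ModuleCat.of A A)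

variable [DRing.HasLTensorCx A E]

/-- `A[n] ⊗^L E ≅ E[n]`. -/
theorem nonempty_LTensorCx_shift_unit (n : ℤ) :
    Nonempty ((DRing.LTensorCx A E).obj ((Dual.inD A A)⟦n⟧) ≅ (DRing.toD E)⟦n⟧) := by
  let U : DRing.Cx A := 𝟙_ (DRing.Cx A)
  let e0 : (Dual.inD A A)⟦n⟧ ≅ DRing.toD (U⟦n⟧) :=
    (CategoryTheory.shiftFunctor (Dual.D A) n).mapIso (unitIso A) ≪≫
      ((Q.commShiftIso n).app U).symm
  let e1 := LTCx.ltcIso A E (U⟦n⟧)
  let e2 : DRing.toD (U⟦n⟧ ⊗ E) ≅ DRing.toD ((U ⊗ E)⟦n⟧) := Q.mapIso (shiftTensorIso A E U n)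
  let e3 : DRing.toD ((U ⊗ E)⟦n⟧) ≅ DRing.toD (E⟦n⟧) :=
    Q.mapIso ((CategoryTheory.shiftFunctor (DRing.Cx A) n).mapIso (λ_ E))
  let e4 : DRing.toD (E⟦n⟧) ≅ (DRing.toD E)⟦n⟧ := (Q.commShiftIso n).app E
  exact ⟨(DRing.LTensorCx A E).mapIso e0 ≪≫ e1 ≪≫ e2 ≪≫ e3 ≪≫ e4⟩

end KT
end Groth.Agent.Lib.Helper6
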