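import Groth.Agent.Lib.Helper6.ShP1
import Groth.Agent.Lib.Helper90.Shriek.Chain
import Groth.Agent.Lib.Helper6.FlatPC
import Groth.Agent.Lib.Helper6.KT3
import Groth.Prelude.Def_DualSh

/-! `φ^!(K) ≅ (K ⊗^L_R A) ⊗^L_A ω` for `R → A` flat of finite type, `R` Noetherian (helper6). -/

set_option autoImplicit false
set_option linter.style.haveILetI false
set_option linter.unusedSectionVars false
universe u
open CategoryTheory CategoryTheory.Limits MonoidalCategory DerivedCategory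
attribute [local instance] HasDerivedCategory.standard

namespace Groth.Agent.Lib.Helper6
namespace ShP

open _root_.DTen

section Shift2

variable {A : Type u} [CommRing A]

/-- `X ⊗ E[n] ≅ (X ⊗ E)[n]`. -/
noncomputable def tensorShiftIso (X E : DRing.Cx A) (n : ℤ) :
    (X ⊗ E⟦n⟧ : DRing.Cx A) ≅ (X ⊗ E)⟦n⟧ :=
  CochainComplex.mapBifunctorShift₂Iso X E (curriedTensor (ModuleCat.{u} A)) n

end Shift2

section Main

variable (R A : Type u) [CommRing R] [CommRing A] [IsNoetherianRing R] [Algebra R A]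
  [Module.Flat R A] (n : ℕ) (ψ : MvPolynomial (Fin n) R →ₐ[R] A) (hψ : Function.Surjective ψ)
  [DRing.HasLBaseChange (algebraMap R (MvPolynomial (Fin n) R))]
  (Rψ : Dual.D (MvPolynomial (Fin n) R) ⥤ Dual.D A) (adj : DRing.restrictD ψ.toRingHom ⊣ Rψ)

include hψ adj in
/-- the model: a K-projective `W₀` over `A` with `Q W₀ ≅ Rψ (unit)` and
`φ^!(Q K₀) ≅ Q (ext K₀ ⊗ W₀)[n]` for all K-projective `K₀` over `R`. -/
theorem exists_shriek_model :
    ∃ (W₀ : DRing.Cx A), W₀.IsKProjective ∧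
      Nonempty (Q.obj W₀ ≅ Rψ.obj (unit (MvPolynomial (Fin n) R))) ∧
      ∀ (K : Dual.D R) (K₀ : DRing.Cx R) [K₀.IsKProjective] (_ : Q.obj K₀ ≅ K),
        Nonempty (Dual2.shriekVia n Rψ K ≅
          (Q.obj ((extCx (algebraMap R A)).obj K₀ ⊗ W₀))⟦(n : ℤ)⟧) := by
  obtain ⟨W₀, hW₀, ⟨eW₀⟩, hform⟩ := exists_model adj (isPerfect_restrict_unit R A n ψ hψ)
  refine ⟨W₀, hW₀, ⟨eW₀⟩, ?_⟩
  intro K K₀ _ eK
  haveI : ((extCx (algebraMap R (MvPolynomial (Fin n) R))).obj K₀).IsKProjective :=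
    Groth.Agent.Lib.Helper26.AdjKProj.isKProjective_map
      (ModuleCat.extendRestrictScalarsAdj.{u, u, u} (algebraMap R (MvPolynomial (Fin n) R))) K₀
  let e1 : (DRing.LBaseChange (algebraMap R (MvPolynomial (Fin n) R))).obj K ≅
      Q.obj ((extCx (algebraMap R (MvPolynomial (Fin n) R))).obj K₀) :=
    (DRing.LBaseChange (algebraMap R (MvPolynomial (Fin n) R))).mapIso eK.symm ≪≫
      Groth.Agent.Lib.Helper32.LBC.lbcIso (algebraMap R (MvPolynomial (Fin n) R)) K₀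
  obtain ⟨e2⟩ := hform ((extCx (algebraMap R (MvPolynomial (Fin n) R))).obj K₀)
  have hcomp : ψ.toRingHom.comp (algebraMap R (MvPolynomial (Fin n) R)) = algebraMap R A := by
    ext r
    exact ψ.commutes r
  let e3 : (extCx ψ.toRingHom).obj ((extCx (algebraMap R (MvPolynomial (Fin n) R))).obj K₀) ≅
      (extCx (algebraMap R A)).obj K₀ :=
    Groth.Agent.Lib.Helper90.Shriek.extCompIso K₀ (algebraMap R (MvPolynomial (Fin n) R))
      ψ.toRingHom ≪≫ eqToIso (by rw [hcomp])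
  let e4 : (extCx ψ.toRingHom).obj ((extCx (algebraMap R (MvPolynomial (Fin n) R))).obj K₀) ⊗ W₀ ≅
      (extCx (algebraMap R A)).obj K₀ ⊗ W₀ := whiskerRightIso e3 W₀
  exact ⟨(shiftFunctor (Dual.D A) (n : ℤ)).mapIso (Rψ.mapIso e1 ≪≫ e2 ≪≫ Q.mapIso e4)⟩

end Main

section Final

variable (R A : Type u) [CommRing R] [CommRing A] [IsNoetherianRing R] [Algebra R A]
  [Module.Flat R A] (n : ℕ) (ψ : MvPolynomial (Fin n) R →ₐ[R] A) (hψ : Function.Surjective ψ)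
  [DRing.HasLBaseChange (algebraMap R (MvPolynomial (Fin n) R))]
  (Rψ : Dual.D (MvPolynomial (Fin n) R) ⥤ Dual.D A) (adj : DRing.restrictD ψ.toRingHom ⊣ Rψ)

include hψ adj in
/-- `φ^!(K) ≅ (K ⊗^L_R A) ⊗^L_A W` for `W` a complex representing `ω = φ^!(R)`. -/
theorem nonempty_shriek_iso_tensor (W : DRing.Cx A)
    (hW : Nonempty (DRing.toD W ≅ Dual2.shriekVia n Rψ (Dual.inD R R)))
    [DRing.HasLBaseChange (algebraMap R A)] [DRing.HasLTensorCx A W] (K : Dual.D R) :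
    Nonempty (Dual2.shriekVia n Rψ K ≅
      (DRing.LTensorCx A W).obj ((DRing.LBaseChange (algebraMap R A)).obj K)) := by
  obtain ⟨W₀, hW₀, ⟨eW₀⟩, hform⟩ := exists_shriek_model R A n ψ hψ Rψ adj
  haveI := hW₀
  obtain ⟨K₀, hK₀, ⟨eK⟩⟩ := Groth.Agent.Lib.Helper32.LBC.exists_kproj_iso K
  haveI := hK₀
  obtain ⟨eL⟩ := hform K K₀ eK
  obtain ⟨hW⟩ := hW
  -- the unit
  obtain ⟨eU⟩ := FlatPC.nonempty_lbc_unit_iso (A := R) (B := MvPolynomial (Fin n) R)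
  let eU' : (DRing.LBaseChange (algebraMap R (MvPolynomial (Fin n) R))).obj (Dual.inD R R) ≅
      unit (MvPolynomial (Fin n) R) := eU ≪≫ KT.unitIso (MvPolynomial (Fin n) R)
  -- `W ≃ W₀[n]`
  let eWW : DRing.toD (W₀⟦(n : ℤ)⟧) ≅ DRing.toD W :=
    (Q.commShiftIso (n : ℤ)).app W₀ ≪≫
      (shiftFunctor (Dual.D A) (n : ℤ)).mapIso (eW₀ ≪≫ Rψ.mapIso eU'.symm) ≪≫ hW.symm
  obtain ⟨w, hw, -⟩ := LTCx.exists_quasiIso_of_iso (W₀⟦(n : ℤ)⟧) W eWW
  haveI := hw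
  -- the right hand side
  haveI hX : ((extCx (algebraMap R A)).obj K₀).IsKProjective :=
    Groth.Agent.Lib.Helper26.AdjKProj.isKProjective_map
      (ModuleCat.extendRestrictScalarsAdj.{u, u, u} (algebraMap R A)) K₀
  let r1 : (DRing.LBaseChange (algebraMap R A)).obj K ≅
      Q.obj ((extCx (algebraMap R A)).obj K₀) :=
    (DRing.LBaseChange (algebraMap R A)).mapIso eK.symm ≪≫
      Groth.Agent.Lib.Helper32.LBC.lbcIso (algebraMap R A) K₀
  let r2 := LTCx.ltcIso A W ((extCx (algebraMap R A)).obj K₀)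
  let r3 := LTCx.tensorQIso ((extCx (algebraMap R A)).obj K₀) w
  let r4 : DRing.toD ((extCx (algebraMap R A)).obj K₀ ⊗ W₀⟦(n : ℤ)⟧) ≅
      DRing.toD (((extCx (algebraMap R A)).obj K₀ ⊗ W₀)⟦(n : ℤ)⟧) :=
    Q.mapIso (tensorShiftIso _ W₀ (n : ℤ))
  let r5 := (Q.commShiftIso (n : ℤ)).app ((extCx (algebraMap R A)).obj K₀ ⊗ W₀)
  exact ⟨eL ≪≫ r5.symm ≪≫ r4.symm ≪≫ r3 ≪≫ r2.symm ≪≫ (DRing.LTensorCx A W).mapIso r1.symm⟩

end Final

end ShP
end Groth.Agent.Lib.Helper6
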