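import Groth.Agent.Lib.Helper6.ShP5
import Groth.Agent.Lib.Helper6.ShP2
import Groth.Agent.Lib.Helper6.RestrPC
import Groth.Agent.Lib.Helper6.LD1
import Groth.Agent.Lib.Helper35.ConeRep2
import Groth.Agent.Lib.Helper35.RegPerf
import Groth.Agent.Lib.Helper35.BCIso
import Groth.Agent.Lib.Helper90.Shriek.ResD

/-! Finiteness properties of `ω = φ^!(R)` for `R → A` flat of finite type, `R` Noetherian
(helper6): the restriction of `ω` to the polynomial ring is perfect; `ω` is bounded with finite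
cohomology, pseudo-coherent over `A`, and of finite tor dimension over `R`. -/

set_option autoImplicit false
set_option linter.style.haveILetI false
set_option linter.unusedSectionVars false
universe u
open CategoryTheory CategoryTheory.Limits MonoidalCategory DerivedCategory
attribute [local instance] HasDerivedCategory.standard

namespace Groth.Agent.Lib.Helper6
namespace ShP

open _root_.DTen Groth.Agent.Lib.Helper35.KL

variable (R A : Type u) [CommRing R] [CommRing A] [IsNoetherianRing R] [Algebra R A]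
  [Module.Flat R A] (n : ℕ) (ψ : MvPolynomial (Fin n) R →ₐ[R] A) (hψ : Function.Surjective ψ)
  [DRing.HasLBaseChange (algebraMap R (MvPolynomial (Fin n) R))]
  (Rψ : Dual.D (MvPolynomial (Fin n) R) ⥤ Dual.D A) (adj : DRing.restrictD ψ.toRingHom ⊣ Rψ)

/-- `ω ≅ Rψ(unit)[n]`. -/
theorem nonempty_omega_iso :
    Nonempty (Dual2.shriekVia n Rψ (Dual.inD R R) ≅
      (Rψ.obj (unit (MvPolynomial (Fin n) R)))⟦(n : ℤ)⟧) := by
  obtain ⟨eU⟩ := FlatPC.nonempty_lbc_unit_iso (A := R) (B := MvPolynomial (Fin n) R)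
  exact ⟨(shiftFunctor (Dual.D A) (n : ℤ)).mapIso
    (Rψ.mapIso (eU ≪≫ KT.unitIso (MvPolynomial (Fin n) R)))⟩

include hψ adj in
/-- the restriction of `ω` to the polynomial ring is perfect. -/
theorem isPerfect_restrict_omega :
    DRing.IsPerfect (MvPolynomial (Fin n) R)
      ((DRing.restrictD ψ.toRingHom).obj (Dual2.shriekVia n Rψ (Dual.inD R R))) := by
  obtain ⟨F, a, b, hF, hfp, ⟨e⟩⟩ :=
    exists_perfect_restrict adj (isPerfect_restrict_unit R A n ψ hψ)
  have h1 : DRing.IsPerfect (MvPolynomial (Fin n) R)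
      ((DRing.restrictD ψ.toRingHom).obj (Rψ.obj (unit (MvPolynomial (Fin n) R)))) :=
    ⟨F, a, b, hF, hfp, ⟨e⟩⟩
  have h2 := isPerfect_shift h1 (n : ℤ)
  obtain ⟨eω⟩ := nonempty_omega_iso R A n Rψ
  refine isPerfect_of_iso ?_ h2
  exact (((DRing.restrictD ψ.toRingHom).commShiftIso (n : ℤ)).app _).symm ≪≫
    (DRing.restrictD ψ.toRingHom).mapIso eω.symm

include hψ adj in
/-- `ω` has bounded cohomology. -/
theorem omega_bounded :
    ∃ a b : ℤ, ∀ i : ℤ, (i < a ∨ b < i) →
      Subsingleton (Dual.HD A (Dual2.shriekVia n Rψ (Dual.inD R R)) i) := by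
  obtain ⟨a, b, h⟩ := bounded_homology_of_isPerfect _ (isPerfect_restrict_omega R A n ψ hψ Rψ adj)
  refine ⟨a, b, fun i hi => ?_⟩
  have h1 := h i hi
  have e := ((ExactDC.homologyIso (RestrPC.Φ ψ.toRingHom) i).app
    (Dual2.shriekVia n Rψ (Dual.inD R R)))
  have h2 : Subsingleton ((RestrPC.Φ ψ.toRingHom).obj
      ((homologyFunctor (ModuleCat.{u} A) i).obj (Dual2.shriekVia n Rψ (Dual.inD R R)))) :=
    @Equiv.subsingleton _ _ e.toLinearEquiv.symm.toEquiv h1
  exact h2

include hψ adj in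
/-- the cohomology modules of `ω` are finite. -/
theorem omega_finite (i : ℤ) :
    Module.Finite A (Dual.HD A (Dual2.shriekVia n Rψ (Dual.inD R R)) i) := by
  have h1 := finite_homology_of_isPerfect _ (isPerfect_restrict_omega R A n ψ hψ Rψ adj) i
  have e := ((ExactDC.homologyIso (RestrPC.Φ ψ.toRingHom) i).app
    (Dual2.shriekVia n Rψ (Dual.inD R R)))
  have h2 : Module.Finite (MvPolynomial (Fin n) R) ((RestrPC.Φ ψ.toRingHom).obj
      ((homologyFunctor (ModuleCat.{u} A) i).obj (Dual2.shriekVia n Rψ (Dual.inD R R)))) :=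
    @Module.Finite.equiv _ _ _ _ _ _ _ _ h1 e.toLinearEquiv
  exact RestrPC.finite_of_finite_restr ψ.toRingHom _ h2

include hψ adj in
/-- `ω` has finite tor dimension over `R`. -/
theorem omega_finiteTorDim :
    DRing.HasFiniteTorDimCx R
      ((DRing.restrictD (algebraMap R A)).obj (Dual2.shriekVia n Rψ (Dual.inD R R))) := by
  obtain ⟨F, a, b, hF, hfp, ⟨e⟩⟩ := isPerfect_restrict_omega R A n ψ hψ Rψ adj
  refine ⟨a, b, (resCx (algebraMap R (MvPolynomial (Fin n) R))).obj F, ?_, ?_, ⟨?_⟩⟩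
  · intro i hi
    exact (ModuleCat.restrictScalars.{u} (algebraMap R (MvPolynomial (Fin n) R))).map_isZero
      (hF i hi)
  · intro i
    haveI := (hfp i).2
    exact Groth.Agent.Lib.Helper35.TA.flat_restrictScalars_of_flat (F.X i)
  · have hcomp : algebraMap R A = ψ.toRingHom.comp (algebraMap R (MvPolynomial (Fin n) R)) := by
      ext r
      exact (ψ.commutes r).symm
    exact ((resFactors (algebraMap R (MvPolynomial (Fin n) R))).app F).symm ≪≫
      (DRing.restrictD (algebraMap R (MvPolynomial (Fin n) R))).mapIso e ≪≫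
      (Groth.Agent.Lib.Helper90.Shriek.resDComp (algebraMap R (MvPolynomial (Fin n) R))
        ψ.toRingHom (algebraMap R A) hcomp).app _

include hψ adj in
/-- `ω` is pseudo-coherent over `A`. -/
theorem omega_pseudoCoherent [IsNoetherianRing A] :
    DRing.IsPseudoCoherent' A (Dual2.shriekVia n Rψ (Dual.inD R R)) := by
  obtain ⟨a, b, h⟩ := omega_bounded R A n ψ hψ Rψ adj
  haveI : (Dual2.shriekVia n Rψ (Dual.inD R R)).IsLE b := by
    rw [DerivedCategory.isLE_iff]
    intro i hi
    haveI := h i (Or.inr hi)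
    exact ModuleCat.isZero_of_subsingleton _
  obtain ⟨P, hP, hfree, he⟩ := LD.exists_finFree_resolution
    (Dual2.shriekVia n Rψ (Dual.inD R R)) b (omega_finite R A n ψ hψ Rψ adj)
  exact ⟨P, b, hP, hfree, he⟩

end ShP
end Groth.Agent.Lib.Helper6
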