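import Groth.Agent.Lib.Helper6.ShP12
import Groth.Agent.Lib.Helper6.ShP6
import Groth.Agent.Lib.Helper6.HomBC6
import Groth.Agent.Lib.Helper90.Shriek.FlatBC
import Groth.Agent.S1807

/-! `ω = φ^!(R)` for `R → A` flat of finite type: endomorphisms, and the base change to a field is
dualizing (helper6). -/

set_option autoImplicit false
set_option linter.style.haveILetI false
set_option linter.unusedSectionVars false
universe u
open CategoryTheory CategoryTheory.Limits MonoidalCategory DerivedCategory TensorProduct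
attribute [local instance] HasDerivedCategory.standard

namespace Groth.Agent.Lib.Helper6
namespace ShP

open _root_.DTen Groth.Agent.Lib.Helper90.Shriek

section Transfer

variable {A : Type u} [CommRing A]

lemma bijective_smul_id_of_iso {X Y : Dual.D A} (e : X ≅ Y)
    (h : Function.Bijective (fun a : A => a • 𝟙 X)) :
    Function.Bijective (fun a : A => a • 𝟙 Y) := by
  have h1 : (fun a : A => a • 𝟙 Y) = (Iso.homCongr e e) ∘ (fun a : A => a • 𝟙 X) := by
    funext a
    simp only [Function.comp_apply, Iso.homCongr_apply, Linear.smul_comp, Linear.comp_smul,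
      Category.id_comp, Iso.inv_hom_id]
  rw [h1]
  exact (Iso.homCongr e e).bijective.comp h

lemma bijective_smul_id_shift (X : Dual.D A) (s : ℤ)
    (h : Function.Bijective (fun a : A => a • 𝟙 X)) :
    Function.Bijective (fun a : A => a • 𝟙 (X⟦s⟧)) := by
  have h1 : (fun a : A => a • (𝟙 (X⟦s⟧))) =
      (fun f : X ⟶ X => (shiftFunctor (Dual.D A) s).map f) ∘ (fun a : A => a • 𝟙 X) := by
    ext a
    simp only [Function.comp_apply, Functor.map_smul]
    rw [CategoryTheory.Functor.map_id]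
  rw [h1]
  exact (DualShift.map_shift_bijective X X s).comp h

lemma subsingleton_hom_shift_shift (X : Dual.D A) (s i : ℤ) (h : Subsingleton (X ⟶ X⟦i⟧)) :
    Subsingleton (X⟦s⟧ ⟶ (X⟦s⟧)⟦i⟧) := by
  have e1 : (X ⟶ X⟦i⟧) ≃ (X⟦s⟧ ⟶ (X⟦i⟧)⟦s⟧) :=
    Equiv.ofBijective _ (DualShift.map_shift_bijective X (X⟦i⟧) s)
  have e2 : (X⟦s⟧ ⟶ (X⟦i⟧)⟦s⟧) ≃ (X⟦s⟧ ⟶ (X⟦s⟧)⟦i⟧) :=
    Iso.homCongr (Iso.refl _) (shiftComm X i s)
  exact (e1.trans e2).symm.subsingleton

lemma subsingleton_hom_of_iso {X Y : Dual.D A} (e : X ≅ Y) (i : ℤ)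
    (h : Subsingleton (X ⟶ X⟦i⟧)) : Subsingleton (Y ⟶ Y⟦i⟧) :=
  (Iso.homCongr e ((shiftFunctor (Dual.D A) i).mapIso e)).symm.subsingleton

end Transfer

section OmegaEnd

variable (R A : Type u) [CommRing R] [CommRing A] [IsNoetherianRing R] [Algebra R A]
  [Module.Flat R A] (n : ℕ) (ψ : MvPolynomial (Fin n) R →ₐ[R] A) (hψ : Function.Surjective ψ)
  [DRing.HasLBaseChange (algebraMap R (MvPolynomial (Fin n) R))]
  (Rψ : Dual.D (MvPolynomial (Fin n) R) ⥤ Dual.D A) (adj : DRing.restrictD ψ.toRingHom ⊣ Rψ)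

include hψ adj in
/-- `A ≃ End(ω)`. -/
theorem omega_toEnd_bijective :
    Function.Bijective (fun a : A => a • 𝟙 (Dual2.shriekVia n Rψ (Dual.inD R R))) := by
  obtain ⟨eω⟩ := nonempty_omega_iso R A n Rψ
  have hA := isPerfect_restrict_unit R A n ψ hψ
  have h1 := bijective_smul_id_omega ψ.toRingHom adj hψ hA
  exact bijective_smul_id_of_iso eω.symm (bijective_smul_id_shift _ (n : ℤ) h1)

include hψ adj in
/-- `ω` has no self-maps of nonzero degree. -/
theorem omega_ext_self_subsingleton (i : ℤ) (hi : i ≠ 0) :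
    Subsingleton (Dual2.shriekVia n Rψ (Dual.inD R R) ⟶
      (Dual2.shriekVia n Rψ (Dual.inD R R))⟦i⟧) := by
  obtain ⟨eω⟩ := nonempty_omega_iso R A n Rψ
  have hA := isPerfect_restrict_unit R A n ψ hψ
  have h1 := subsingleton_hom_shift ψ.toRingHom adj hA i hi
  exact subsingleton_hom_of_iso eω.symm i (subsingleton_hom_shift_shift _ (n : ℤ) i h1)

end OmegaEnd

section Field

variable (k : Type u) [Field k]

/-- the polynomial ring over a field is a dualizing complex for itself. -/
theorem isDualizing_mvPolynomial_field (n : ℕ) :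
    Dual.IsDualizing (MvPolynomial (Fin n) k)
      (Dual.inD (MvPolynomial (Fin n) k) (MvPolynomial (Fin n) k)) := by
  apply Groth.Agent.S11185.result
  · intro p
    haveI : IsRegularRing (MvPolynomial (Fin n) k) := inferInstance
    exact IsRegularRing.isRegularLocalRing_localization p.asIdeal
  · rw [MvPolynomial.ringKrullDim_of_isNoetherianRing, ringKrullDim_eq_zero_of_field, zero_add]
    exact WithBot.coe_lt_coe.2 (ENat.natCast_lt_top _)

variable (A' : Type u) [CommRing A'] [IsNoetherianRing A'] [Algebra k A'] (n : ℕ)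
  (ψ' : MvPolynomial (Fin n) k →ₐ[k] A') (hψ' : Function.Surjective ψ')
  [DRing.HasLBaseChange (algebraMap k (MvPolynomial (Fin n) k))]
  (Rψ' : Dual.D (MvPolynomial (Fin n) k) ⥤ Dual.D A') (adj' : DRing.restrictD ψ'.toRingHom ⊣ Rψ')

include hψ' adj' in
/-- over a field, `φ^!(k)` is a dualizing complex. -/
theorem isDualizing_shriek_field :
    Dual.IsDualizing A' (Dual2.shriekVia n Rψ' (Dual.inD k k)) := by
  obtain ⟨eU⟩ := FlatPC.nonempty_lbc_unit_iso (A := k) (B := MvPolynomial (Fin n) k)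
  have h0 := isDualizing_mvPolynomial_field k n
  have h1 := RDual.isDualizing_rightAdjoint ψ'.toRingHom adj'
    (RingHom.Finite.of_surjective _ hψ') _ h0
  have h2 := DualShift.isDualizing_shift _ h1 (n : ℤ)
  exact HomBC.isDualizing_of_iso
    ((shiftFunctor (Dual.D A') (n : ℤ)).mapIso (Rψ'.mapIso eU)).symm h2

end Field

section BC

variable (R A : Type u) [CommRing R] [CommRing A] [IsNoetherianRing R] [IsNoetherianRing A]
  [Algebra R A]
  [Module.Flat R A] (n : ℕ) (ψ : MvPolynomial (Fin n) R →ₐ[R] A) (hψ : Function.Surjective ψ)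
  [DRing.HasLBaseChange (algebraMap R (MvPolynomial (Fin n) R))]
  (Rψ : Dual.D (MvPolynomial (Fin n) R) ⥤ Dual.D A) (adj : DRing.restrictD ψ.toRingHom ⊣ Rψ)

include hψ adj in
/-- the base change of `ω` to a field is a dualizing complex. -/
theorem omega_baseChange_isDualizing (k : Type u) [Field k] [Algebra R k]
    [DRing.HasLBaseChange
      (Algebra.TensorProduct.includeRight : A →ₐ[R] k ⊗[R] A).toRingHom] :
    Dual.IsDualizing (k ⊗[R] A)
      ((DRing.LBaseChange (Algebra.TensorProduct.includeRight : A →ₐ[R] k ⊗[R] A).toRingHom).obj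
        (Dual2.shriekVia n Rψ (Dual.inD R R))) := by
  have hψ' := psiBC_surjective R k A n ψ hψ
  haveI : IsNoetherianRing (k ⊗[R] A) :=
    isNoetherianRing_of_surjective _ _ (psiBC R k A n ψ).toRingHom hψ'
  haveI := hasLBaseChange (algebraMap k (MvPolynomial (Fin n) k))
  haveI := hasLBaseChange (algebraMap R k)
  obtain ⟨Rψ', ⟨adj'⟩⟩ := exists_rightAdjoint_restrictD (psiBC R k A n ψ).toRingHom
  obtain ⟨e⟩ := Groth.Agent.S1807.result R k A n ψ hψ Rψ adj n (psiBC R k A n ψ) hψ' Rψ' adj'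
    (Dual.inD R R)
  obtain ⟨eU⟩ := FlatPC.nonempty_lbc_unit_iso (A := R) (B := k)
  have h := isDualizing_shriek_field k (k ⊗[R] A) n (psiBC R k A n ψ) hψ' Rψ' adj'
  let e2 : Dual2.shriekVia n Rψ' ((DRing.LBaseChange (algebraMap R k)).obj (Dual.inD R R)) ≅
      Dual2.shriekVia n Rψ' (Dual.inD k k) :=
    (shiftFunctor (Dual.D (k ⊗[R] A)) (n : ℤ)).mapIso (Rψ'.mapIso
      ((DRing.LBaseChange (algebraMap k (MvPolynomial (Fin n) k))).mapIso eU))
  exact HomBC.isDualizing_of_iso (e ≪≫ e2).symm h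

end BC

end ShP
end Groth.Agent.Lib.Helper6
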