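import Groth.Agent.Lib.Helper6.ShP3

/-! Upper shriek of an open immersion of affine Noetherian schemes is derived base change
(helper6): the statement. -/

set_option autoImplicit false
set_option linter.style.haveILetI false
set_option linter.unusedSectionVars false
universe u
open CategoryTheory CategoryTheory.Limits DerivedCategory
open scoped TensorProduct
attribute [local instance] HasDerivedCategory.standard

namespace Groth.Agent.Lib.Helper6
namespace ShP

open Groth.Agent.Lib.Helper90.Shriek AlgebraicGeometry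

variable (R R' : Type u) [CommRing R] [CommRing R'] [IsNoetherianRing R] [IsNoetherianRing R']
  [Algebra R R']

theorem nonempty_shriek_openImmersion
    (hopen : IsOpenImmersion (Spec.map (CommRingCat.ofHom (algebraMap R R'))))
    (n : ℕ) (ψ : MvPolynomial (Fin n) R →ₐ[R] R') (hψ : Function.Surjective ψ)
    [DRing.HasLBaseChange (algebraMap R (MvPolynomial (Fin n) R))]
    (Rψ : Dual.D (MvPolynomial (Fin n) R) ⥤ Dual.D R') (adj : DRing.restrictD ψ.toRingHom ⊣ Rψ)
    [DRing.HasLBaseChange (algebraMap R R')] (K : Dual.D R) :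
    Nonempty (Dual2.shriekVia n Rψ K ≅ (DRing.LBaseChange (algebraMap R R')).obj K) := by
  haveI : Module.Flat R R' := flat_of_isOpenImmersion R R' hopen
  haveI : Algebra.IsEpi R R' := isEpi_of_isOpenImmersion R R' hopen
  have hepi : ∀ a : R', (1 : R') ⊗ₜ[R] a = a ⊗ₜ[R] (1 : R') :=
    (Algebra.isEpi_iff_forall_one_tmul_eq R R').1 inferInstance
  -- the ring isomorphisms
  let ι : R' →+* R' ⊗[R] R' :=
    (Algebra.TensorProduct.includeRight : R' →ₐ[R] R' ⊗[R] R').toRingHom
  have hιb : Function.Bijective ι := by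
    have h := (TensorProduct.lid' R R' R').symm.bijective
    convert h using 1
    funext x
    exact (TensorProduct.lid'_symm_apply R R' R' x).symm
  let ει : R' ≃+* R' ⊗[R] R' := RingEquiv.ofBijective ι hιb
  haveI : IsNoetherianRing (R' ⊗[R] R') := isNoetherianRing_of_ringEquiv R' ει
  let εα : R' ≃+* MvPolynomial (Fin 0) R' :=
    (MvPolynomial.isEmptyAlgEquiv R' (Fin 0)).symm.toRingEquiv
  have hα : algebraMap R' (MvPolynomial (Fin 0) R') = εα.toRingHom := by
    ext x
    rfl
  let εψ : MvPolynomial (Fin 0) R' ≃+* R' ⊗[R] R' := εα.symm.trans ει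
  let ψ' : MvPolynomial (Fin 0) R' →ₐ[R'] (R' ⊗[R] R') :=
    { εψ.toRingHom with
      commutes' := by
        intro r
        change ι (εα.symm (algebraMap R' (MvPolynomial (Fin 0) R') r)) = _
        rw [hα]
        change ι (εα.symm (εα r)) = _
        rw [RingEquiv.symm_apply_apply]
        change (1 : R') ⊗ₜ[R] r = r ⊗ₜ[R] (1 : R')
        exact hepi r }
  have hψ'eq : ψ'.toRingHom = εψ.toRingHom := rfl
  have hψ's : Function.Surjective ψ' := εψ.surjective
  haveI := hasLBaseChange (algebraMap R' (MvPolynomial (Fin 0) R'))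
  haveI : DRing.HasLBaseChange
      (Algebra.TensorProduct.includeRight : R' →ₐ[R] R' ⊗[R] R').toRingHom :=
    hasLBaseChange _
  obtain ⟨Rψ', ⟨adj'⟩⟩ := exists_rightAdjoint_restrictD ψ'.toRingHom
  obtain ⟨e⟩ := Groth.Agent.S1807.result R R' R' n ψ hψ Rψ adj 0 ψ' hψ's Rψ' adj' K
  let e' : (DRing.LBaseChange ι).obj (Dual2.shriekVia n Rψ K) ≅
      Rψ'.obj ((DRing.LBaseChange (algebraMap R' (MvPolynomial (Fin 0) R'))).obj
        ((DRing.LBaseChange (algebraMap R R')).obj K)) :=
    e ≪≫ (shiftFunctorZero' (Dual.D (R' ⊗[R] R')) (((0 : ℕ) : ℤ)) (by simp)).app _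
  exact nonempty_iso_of_ringEquiv ει εα εψ (fun x => by
      change ι (εα.symm (εα x)) = ι x
      rw [RingEquiv.symm_apply_apply]) ι
    (algebraMap R' (MvPolynomial (Fin 0) R')) ψ'.toRingHom rfl hα hψ'eq Rψ' adj' _ _ e'

end ShP
end Groth.Agent.Lib.Helper6
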