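import Groth.Agent.Lib.Helper35.CoextAdj
import Groth.Agent.Lib.Helper26.AdjKProj
import Groth.Prelude

set_option autoImplicit false
set_option linter.unusedSectionVars false
set_option linter.style.haveILetI false
universe u
open CategoryTheory CategoryTheory.Limits DerivedCategory Pretriangulated
attribute [local instance] HasDerivedCategory.standard

namespace Groth.Agent.Lib.Helper6
namespace RDual

section Yoneda

variable {C D : Type*} [Category C] [Category D] {ρ : D ⥤ C} {R : C ⥤ D} (adj : ρ ⊣ R)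

include adj in
theorem exists_iso_of_universal (K : C) (Z : D) (e : ρ.obj Z ⟶ K)
    (h : ∀ Y : D, Function.Bijective (fun g : Y ⟶ Z => ρ.map g ≫ e)) :
    ∃ θ : Z ≅ R.obj K, ρ.map θ.hom ≫ adj.counit.app K = e := by
  let θh : Z ⟶ R.obj K := adj.homEquiv Z K e
  have hθ : ρ.map θh ≫ adj.counit.app K = e := by
    have h0 := adj.homEquiv_counit (g := θh)
    rw [← h0]
    exact (adj.homEquiv Z K).symm_apply_apply e
  obtain ⟨ψ, hψ⟩ := (h (R.obj K)).2 (adj.counit.app K)
  have hψ' : ρ.map ψ ≫ e = adj.counit.app K := hψ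
  have h1 : ψ ≫ θh = 𝟙 _ := by
    apply (adj.homEquiv _ _).symm.injective
    rw [Adjunction.homEquiv_counit, Adjunction.homEquiv_counit, Functor.map_comp, Category.assoc,
      hθ, hψ', CategoryTheory.Functor.map_id, Category.id_comp]
  have h2 : θh ≫ ψ = 𝟙 _ := by
    apply (h Z).1
    change ρ.map (θh ≫ ψ) ≫ e = ρ.map (𝟙 Z) ≫ e
    rw [Functor.map_comp, Category.assoc, hψ', hθ, CategoryTheory.Functor.map_id, Category.id_comp]
  exact ⟨⟨θh, ψ, h2, h1⟩, hθ⟩

end Yoneda

section U1

open Groth.Agent.Lib.Helper35.CoextAdj Groth.Agent.Lib.Helper26.AdjKProj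
  Groth.Agent.Lib.Helper6.DerivedAdj

variable {A B : Type u} [CommRing A] [CommRing B] (φ : A →+* B)
  (I : CochainComplex (ModuleCat.{u} A) ℤ)

/-- the restriction-coextension adjunction -/
noncomputable abbrev adj0 := ModuleCat.restrictCoextendScalarsAdj.{u, u, u} φ

/-- `Hom_A(B, I•)` as a complex of `B`-modules. -/
noncomputable abbrev coextC : CochainComplex (ModuleCat.{u} B) ℤ :=
  ((ModuleCat.coextendScalars.{u, u, u} φ).mapHomologicalComplex (ComplexShape.up ℤ)).obj I

/-- the underived counit `restr (coext I) ⟶ I`. -/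
noncomputable abbrev epsC :
    ((ModuleCat.restrictScalars.{u} φ).mapHomologicalComplex (ComplexShape.up ℤ)).obj (coextC φ I) ⟶ I :=
  (counitC (adj0 φ) (ComplexShape.up ℤ)).app I

instance [I.IsKInjective] : (coextC φ I).IsKInjective := isKInjective_map (adj0 φ) I

/-- the derived counit `ρ(Q(coext I)) ⟶ Q(I)`. -/
noncomputable def eI : (DRing.restrictD φ).obj (Q.obj (coextC φ I)) ⟶ Q.obj I :=
  (ModuleCat.restrictScalars.{u} φ).mapDerivedCategoryFactors.hom.app (coextC φ I) ≫
    Q.map (epsC φ I)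

variable [I.IsKInjective]

theorem bijective_Phi_Q (X : CochainComplex (ModuleCat.{u} B) ℤ) :
    Function.Bijective (fun g : Q.obj X ⟶ Q.obj (coextC φ I) =>
      (DRing.restrictD φ).map g ≫ eI φ I) := by
  have key : ∀ g'' : X ⟶ coextC φ I,
      (DRing.restrictD φ).map (Q.map g'') ≫ eI φ I =
        (ModuleCat.restrictScalars.{u} φ).mapDerivedCategoryFactors.hom.app X ≫
          Q.map (adjunctInv (adj0 φ) g'') := by
    intro g''
    have hnat := (ModuleCat.restrictScalars.{u} φ).mapDerivedCategoryFactors.hom.naturality g''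
    dsimp only [Functor.comp_map] at hnat
    dsimp only [eI, adjunctInv]
    rw [← Category.assoc, hnat, Category.assoc, ← Functor.map_comp]
  constructor
  · -- injective
    intro g₁ g₂ hg
    obtain ⟨g₁'', rfl⟩ := Q_map_surjective_of_isKInjective X (coextC φ I) g₁
    obtain ⟨g₂'', rfl⟩ := Q_map_surjective_of_isKInjective X (coextC φ I) g₂
    have hg' : (DRing.restrictD φ).map (Q.map g₁'') ≫ eI φ I =
        (DRing.restrictD φ).map (Q.map g₂'') ≫ eI φ I := hg
    rw [key, key] at hg'
    have h1 : Q.map (adjunctInv (adj0 φ) g₁'') = Q.map (adjunctInv (adj0 φ) g₂'') :=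
      (cancel_epi _).1 hg'
    obtain ⟨H⟩ := nonempty_homotopy_of_Q_map_eq_of_isKInjective _ _ h1
    have H' := adjunctHomotopy (adj0 φ) H
    rw [adjunct_adjunctInv, adjunct_adjunctInv] at H'
    exact Q_map_eq_of_homotopy _ H'
  · -- surjective
    intro h
    let h' := (ModuleCat.restrictScalars.{u} φ).mapDerivedCategoryFactors.inv.app X ≫ h
    obtain ⟨h'', hh''⟩ := Q_map_surjective_of_isKInjective _ I h'
    refine ⟨Q.map (adjunct (adj0 φ) h''), ?_⟩
    change (DRing.restrictD φ).map (Q.map (adjunct (adj0 φ) h'')) ≫ eI φ I = h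
    rw [key, adjunctInv_adjunct, hh'']
    dsimp only [h']
    rw [← Category.assoc, Iso.hom_inv_id_app, Category.id_comp]

theorem bijective_Phi (Y : Dual.D B) :
    Function.Bijective (fun g : Y ⟶ Q.obj (coextC φ I) =>
      (DRing.restrictD φ).map g ≫ eI φ I) := by
  let α : Q.obj (Q.objPreimage Y) ≅ Y := Q.objObjPreimageIso Y
  have hb := bijective_Phi_Q φ I (Q.objPreimage Y)
  constructor
  · intro g₁ g₂ hg
    have hg' : (DRing.restrictD φ).map g₁ ≫ eI φ I = (DRing.restrictD φ).map g₂ ≫ eI φ I := hg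
    have h1 : α.hom ≫ g₁ = α.hom ≫ g₂ := by
      apply hb.1
      change (DRing.restrictD φ).map (α.hom ≫ g₁) ≫ eI φ I =
        (DRing.restrictD φ).map (α.hom ≫ g₂) ≫ eI φ I
      rw [Functor.map_comp, Functor.map_comp, Category.assoc, Category.assoc, hg']
    exact (cancel_epi α.hom).1 h1
  · intro h
    obtain ⟨g, hg⟩ := hb.2 ((DRing.restrictD φ).map α.hom ≫ h)
    have hg' : (DRing.restrictD φ).map g ≫ eI φ I = (DRing.restrictD φ).map α.hom ≫ h := hg
    refine ⟨α.inv ≫ g, ?_⟩
    change (DRing.restrictD φ).map (α.inv ≫ g) ≫ eI φ I = h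
    rw [Functor.map_comp, Category.assoc, hg', ← Category.assoc, ← Functor.map_comp,
      Iso.inv_hom_id, CategoryTheory.Functor.map_id, Category.id_comp]

end U1

end RDual
end Groth.Agent.Lib.Helper6
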