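import Groth.Agent.Lib.Helper6.InjDimMax4

/-! The injective amplitude of a normalized dualizing complex over a local ring is `≤ 0`
(helper6). -/

set_option autoImplicit false
set_option linter.unusedSectionVars false
set_option linter.overlappingInstances false
universe u
open CategoryTheory CategoryTheory.Limits DerivedCategory TensorProduct Pretriangulated
attribute [local instance] HasDerivedCategory.standard

namespace Groth.Agent.Lib.Helper6
namespace InjDimMax

open Groth.Agent.Lib.Helper35 HomBC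

variable {A : Type u} [CommRing A]

/-- A dualizing complex with `Hom(A/m, ω[i]) = 0` for `i > c` and all maximal `m` has injective
amplitude in `[a, c]` for some `a`. -/
theorem IA_of_isDualizing_of_max (ω : Dual.D A) (hω : Dual.IsDualizing A ω) (c : ℤ)
    (hmax : ∀ m : Ideal A, m.IsMaximal → P ω c m) : ∃ a : ℤ, KL.IA a c ω := by
  have := hω.isNoetherianRing
  obtain ⟨a, b, hge, hle, hab⟩ := isDualizing_bounds hω
  refine ⟨a, ?_⟩
  have hPall : ∀ J : Ideal A, P ω c J :=
    P_all ω c (fun J i => finite_hom_inD_of_bounded (A ⧸ J) ω a b hω.finite_cohomology i) hmax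
  have h3 : ∀ (J : Ideal A) (i : ℤ), (i < a ∨ c < i) →
      Subsingleton ((singleFunctor (ModuleCat.{u} A) 0).obj (ModuleCat.of A (A ⧸ J)) ⟶ ω⟦i⟧) := by
    intro J i hi
    rcases hi with hi | hi
    · exact hab (A ⧸ J) i (Or.inl hi)
    · exact hPall J i hi
  have h31 := (KL.IA_tfae ω a c).out 2 0
  exact h31.1 h3

/-- normalized dualizing complexes have injective amplitude `≤ 0`. -/
theorem IA_of_isNormalized [IsLocalRing A] (ω : Dual.D A) (hω : Dual.IsDualizing A ω)
    (hn : Dual.IsNormalized A ω) : ∃ a : ℤ, KL.IA a 0 ω := by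
  refine IA_of_isDualizing_of_max ω hω 0 ?_
  intro m hm i hi
  have hm' : m = IsLocalRing.maximalIdeal A := IsLocalRing.eq_maximalIdeal hm
  subst hm'
  exact hn i (by omega)

/-- `Hom(N, ω[i]) = 0` for `i > 0`, `N ∈ D^{≥ 0}`, `ω` normalized dualizing. -/
theorem subsingleton_hom_of_isNormalized [IsLocalRing A] (ω : Dual.D A)
    (hω : Dual.IsDualizing A ω) (hn : Dual.IsNormalized A ω) (N : Dual.D A) [N.IsGE 0]
    (i : ℤ) (hi : 0 < i) : Subsingleton (N ⟶ ω⟦i⟧) := by
  obtain ⟨a, hIA⟩ := IA_of_isNormalized ω hω hn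
  have h1 : KL.IA (a - i) (0 - i) (ω⟦i⟧) := hIA.shift i
  have h2 : N.IsGE (0 - i + 1) := TStructure.t.isGE_of_ge N (0 - i + 1) 0 (by omega)
  refine ⟨fun f g => ?_⟩
  rw [KL.hom_eq_zero_of_injAmp (a - i) (0 - i) (ω⟦i⟧) h1 N f,
    KL.hom_eq_zero_of_injAmp (a - i) (0 - i) (ω⟦i⟧) h1 N g]

end InjDimMax
end Groth.Agent.Lib.Helper6
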