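import Groth.Agent.Lib.Helper6.FlatGor9

/-! Auxiliary: quotient by a comap ideal as a restricted module (helper6). -/

set_option autoImplicit false
set_option linter.unusedSectionVars false
set_option linter.style.haveILetI false
universe u
open CategoryTheory CategoryTheory.Limits DerivedCategory Pretriangulated TensorProduct
attribute [local instance] HasDerivedCategory.standard

namespace Groth.Agent.Lib.Helper6
namespace FlatGor

variable {B C : Type u} [CommRing B] [CommRing C] (φ : B →+* C) (hφ : Function.Surjective φ)

include hφ in
theorem nonempty_quot_linearEquiv (m : Ideal C) :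
    Nonempty ((B ⧸ m.comap φ) ≃ₗ[B]
      ((ModuleCat.restrictScalars φ).obj (ModuleCat.of C (C ⧸ m)))) := by
  let f : B →ₗ[B] ((ModuleCat.restrictScalars φ).obj (ModuleCat.of C (C ⧸ m))) :=
    { toFun := fun b => (Ideal.Quotient.mk m (φ b) : C ⧸ m)
      map_add' := fun x y => by
        rw [map_add, map_add]
        rfl
      map_smul' := fun b x => by
        rw [smul_eq_mul, map_mul, map_mul]
        rfl }
  have hf : Function.Surjective f := by
    intro y
    obtain ⟨c, rfl⟩ := Ideal.Quotient.mk_surjective (I := m) (show C ⧸ m from y)
    obtain ⟨b, rfl⟩ := hφ c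
    exact ⟨b, rfl⟩
  have hker : LinearMap.ker f = m.comap φ := by
    ext b
    rw [LinearMap.mem_ker, Ideal.mem_comap]
    exact Ideal.Quotient.eq_zero_iff_mem
  exact ⟨(Submodule.quotEquivOfEq _ _ hker.symm).trans (f.quotKerEquivOfSurjective hf)⟩

theorem subsingleton_localizedModule {R : Type*} [CommRing R] (S : Submonoid R) (M : Type*)
    [AddCommGroup M] [Module R M] [Subsingleton M] : Subsingleton (LocalizedModule S M) := by
  refine ⟨fun x y => ?_⟩
  induction x using LocalizedModule.induction_on with
  | _ a s =>
    induction y using LocalizedModule.induction_on with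
    | _ b t =>
      rw [Subsingleton.elim a 0, Subsingleton.elim b 0, LocalizedModule.zero_mk,
        LocalizedModule.zero_mk]

end FlatGor
end Groth.Agent.Lib.Helper6
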