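import Groth.Agent.Lib.Helper6.RestrLin

set_option autoImplicit false
set_option linter.unusedSectionVars false
set_option linter.style.haveILetI false
universe u
open CategoryTheory CategoryTheory.Limits DerivedCategory Pretriangulated
attribute [local instance] HasDerivedCategory.standard

namespace Groth.Agent.Lib.Helper6
namespace RestrLin

variable {A B : Type u} [CommRing A] [CommRing B] (φ : A →+* B)
  {R : Dual.D A ⥤ Dual.D B} (adj : DRing.restrictD φ ⊣ R)

/-- `restrictD φ (B[0]) ≅ (B as an A-module)[0]`. -/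
noncomputable def restrictDSingleIso :
    (DRing.restrictD φ).obj (Dual.inD B B) ≅
      Dual.inD A ((ModuleCat.restrictScalars φ).obj (ModuleCat.of B B)) :=
  ((ModuleCat.restrictScalars φ).mapDerivedCategorySingleFunctor 0).app (ModuleCat.of B B)

include adj in
/-- the semilinear adjunction bijection `Hom(B[0], R(K)[i]) ≃ Hom(restr B[0], K[i])`. -/
lemma exists_semilinear_addEquiv (K : Dual.D A) (i : ℤ) :
    ∃ θ : (Dual.inD B B ⟶ (R.obj K)⟦i⟧) ≃+
        (Dual.inD A ((ModuleCat.restrictScalars φ).obj (ModuleCat.of B B)) ⟶ K⟦i⟧),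
      ∀ (a : A) (f : Dual.inD B B ⟶ (R.obj K)⟦i⟧), θ (φ a • f) = a • θ f := by
  letI := adj.rightAdjointCommShift ℤ
  let c : R.obj (K⟦i⟧) ≅ (R.obj K)⟦i⟧ := (R.commShiftIso i).app K
  let e1 := restrictDSingleIso φ
  -- Hom(B[0], R(K)[i]) ≃ Hom(B[0], R(K[i])) ≃ Hom(restr B[0], K[i]) ≃ Hom(inD A B, K[i])
  let θ1 : (Dual.inD B B ⟶ (R.obj K)⟦i⟧) ≃+ (Dual.inD B B ⟶ R.obj (K⟦i⟧)) :=
    (Linear.homCongr B (Iso.refl (Dual.inD B B)) c.symm).toAddEquiv
  let θ2 : (Dual.inD B B ⟶ R.obj (K⟦i⟧)) ≃+ ((DRing.restrictD φ).obj (Dual.inD B B) ⟶ K⟦i⟧) :=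
    (adj.homAddEquiv (Dual.inD B B) (K⟦i⟧)).symm
  let θ3 : ((DRing.restrictD φ).obj (Dual.inD B B) ⟶ K⟦i⟧) ≃+
      (Dual.inD A ((ModuleCat.restrictScalars φ).obj (ModuleCat.of B B)) ⟶ K⟦i⟧) :=
    (Linear.homCongr A e1 (Iso.refl (K⟦i⟧))).toAddEquiv
  refine ⟨(θ1.trans θ2).trans θ3, ?_⟩
  intro a f
  have h1 : θ1 (φ a • f) = φ a • θ1 f := (Linear.homCongr B (Iso.refl (Dual.inD B B)) c.symm).map_smul _ _
  have h2 : θ2 (φ a • θ1 f) = a • θ2 (θ1 f) := homEquiv_symm_smul adj _ _ a (θ1 f)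
  have h3 : θ3 (a • θ2 (θ1 f)) = a • θ3 (θ2 (θ1 f)) := (Linear.homCongr A e1 (Iso.refl (K⟦i⟧))).map_smul _ _
  simp only [AddEquiv.trans_apply]
  rw [h1, h2, h3]

include adj in
/-- the right adjoint of restriction preserves bounded-belowness (with the same bound). -/
theorem subsingleton_HD_rightAdjoint (K : Dual.D A) (a : ℤ)
    (hKa : ∀ i : ℤ, i < a → Subsingleton (Dual.HD A K i)) (i : ℤ) (hi : i < a) :
    Subsingleton (Dual.HD B (R.obj K) i) := by
  obtain ⟨θ, -⟩ := exists_semilinear_addEquiv φ adj K i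
  obtain ⟨e⟩ := HomSingle.nonempty_homSingleEquiv (R.obj K) i
  have hKge : K.IsGE a := by
    rw [DerivedCategory.isGE_iff]
    intro j hj
    have := hKa j hj
    exact ModuleCat.isZero_of_subsingleton _
  have hKs : (K⟦i⟧).IsGE (a - i) := TStructure.t.isGE_shift K a i (a - i) (by omega)
  have h0 : Subsingleton
      (Dual.inD A ((ModuleCat.restrictScalars φ).obj (ModuleCat.of B B)) ⟶ K⟦i⟧) :=
    ⟨fun f g => by
      rw [TStructure.t.zero_of_isLE_of_isGE f 0 (a - i) (by omega) inferInstance hKs,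
        TStructure.t.zero_of_isLE_of_isGE g 0 (a - i) (by omega) inferInstance hKs]⟩
  have h1 : Subsingleton (Dual.inD B B ⟶ (R.obj K)⟦i⟧) := θ.toEquiv.subsingleton
  exact e.symm.toEquiv.subsingleton

include adj in
/-- the right adjoint of restriction along a finite ring map preserves "bounded below with
finite cohomology". -/
theorem finite_HD_rightAdjoint [IsNoetherianRing A] (hφ : φ.Finite) (K : Dual.D A) (a : ℤ)
    (hKa : ∀ i : ℤ, i < a → Subsingleton (Dual.HD A K i))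
    (hK : ∀ i : ℤ, Module.Finite A (Dual.HD A K i)) (i : ℤ) :
    Module.Finite B (Dual.HD B (R.obj K) i) := by
  obtain ⟨θ, hθ⟩ := exists_semilinear_addEquiv φ adj K i
  obtain ⟨e⟩ := HomSingle.nonempty_homSingleEquiv (R.obj K) i
  letI : Algebra A B := φ.toAlgebra
  have hfin : Module.Finite A ((ModuleCat.restrictScalars φ).obj (ModuleCat.of B B)) := hφ
  have h0 : Module.Finite A
      (Dual.inD A ((ModuleCat.restrictScalars φ).obj (ModuleCat.of B B)) ⟶ K⟦i⟧) :=
    finite_hom_inD_of_boundedBelow _ K a hKa hK i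
  have h1 : Module.Finite B (Dual.inD B B ⟶ (R.obj K)⟦i⟧) :=
    finite_of_semilinear_addEquiv (A := A) (B := B) θ hθ
  exact Module.Finite.equiv e

end RestrLin
end Groth.Agent.Lib.Helper6
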