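import Groth.Agent.Lib.Helper6.RDual2
import Groth.Agent.Lib.Helper6.RestrLin2
import Groth.Agent.Lib.Helper6.HomBC8

/-! Right adjoint of restriction along a finite ring map sends dualizing complexes to dualizing
complexes (helper6). -/

set_option autoImplicit false
set_option linter.unusedSectionVars false
set_option linter.style.haveILetI false
universe u
open CategoryTheory CategoryTheory.Limits DerivedCategory Pretriangulated Opposite
attribute [local instance] HasDerivedCategory.standard

namespace Groth.Agent.Lib.Helper6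
namespace RDual

open Groth.Agent.Lib.Helper35 Bidual

variable {A B : Type u} [CommRing A] [CommRing B] (φ : A →+* B)
  {R : Dual.D A ⥤ Dual.D B} (adj : DRing.restrictD φ ⊣ R)

/-- the shifted adjunction bijection. -/
noncomputable def homEquivShift (Y : Dual.D B) (K : Dual.D A) (i : ℤ) :
    (Y ⟶ (R.obj K)⟦i⟧) ≃ ((DRing.restrictD φ).obj Y ⟶ K⟦i⟧) :=
  letI := adj.rightAdjointCommShift ℤ
  (Iso.homCongr (Iso.refl Y) ((R.commShiftIso i).app K).symm).trans (adj.homEquiv Y (K⟦i⟧)).symm

variable [IsNoetherianRing A] [IsNoetherianRing B]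

include adj in
theorem isDualizing_rightAdjoint (hφ : φ.Finite) (ω : Dual.D A) (hω : Dual.IsDualizing A ω) :
    Dual.IsDualizing B (R.obj ω) := by
  obtain ⟨a, b, hab⟩ := hω.finite_injective_dimension
  have h21 := (KL.IA_tfae ω a b).out 1 0
  have hIA : KL.IA a b ω := h21.1 (fun (N : ModuleCat.{u} A) i hi => hab N i hi)
  obtain ⟨I, hv, hinj, ⟨ι⟩⟩ := hIA
  haveI : I.IsStrictlyGE a := by
    rw [CochainComplex.isStrictlyGE_iff]
    intro i hi
    exact hv i (Or.inl hi)
  haveI : ∀ n : ℤ, Injective (I.X n) := hinj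
  haveI : I.IsKInjective := CochainComplex.isKInjective_of_injective I a
  have hωI : Dual.IsDualizing A (Q.obj I : Dual.D A) := HomBC.isDualizing_of_iso ι.symm hω
  suffices h : Dual.IsDualizing B (R.obj (Q.obj I : Dual.D A)) from
    HomBC.isDualizing_of_iso (R.mapIso ι) h
  set K : Dual.D A := Q.obj I with hK
  let W := wayOutData I a b hv hinj hωI.toEnd_bijective hωI.ext_self_subsingleton
  letI : Algebra A B := φ.toAlgebra
  haveI hfin : Module.Finite A (BA φ) := hφ
  have hmain := W.main (BA φ)
  have hvanM : ∀ j : ℤ, j ≠ 0 → Subsingleton ((Dq I).obj (op (BA φ)) ⟶ K⟦j⟧) := hmain.1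
  have hbijM : Function.Bijective (etaLin I (BA φ)) := hmain.2
  obtain ⟨θ, hθ⟩ := exists_iso_of_universal adj K (Q.obj (coextC φ I)) (eI φ I)
    (bijective_Phi φ I)
  -- bounds for `K`
  obtain ⟨a', b', hge, hle, hab'⟩ := HomBC.isDualizing_bounds hωI
  refine ⟨inferInstance, ?_, ?_, ?_, ?_⟩
  · -- finite injective dimension
    refine ⟨a', b', fun N _ _ i hi => ?_⟩
    let e1 := homEquivShift φ adj (Dual.inD B N) K i
    let e2 : (DRing.restrictD φ).obj (Dual.inD B N) ≅
        Dual.inD A ((ModuleCat.restrictScalars φ).obj (ModuleCat.of B N)) :=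
      ((ModuleCat.restrictScalars φ).mapDerivedCategorySingleFunctor 0).app (ModuleCat.of B N)
    have := hab' ((ModuleCat.restrictScalars φ).obj (ModuleCat.of B N)) i hi
    exact (e1.trans (Iso.homCongr e2 (Iso.refl _))).subsingleton
  · -- finite cohomology
    intro i
    refine RestrLin.finite_HD_rightAdjoint φ adj hφ K a' (fun j hj => ?_) hωI.finite_cohomology i
    exact ModuleCat.subsingleton_of_isZero (DerivedCategory.isZero_of_isGE K a' j hj)
  · -- endomorphisms
    have hΨ : Function.Bijective (fun b : B =>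
        (DRing.restrictD φ).map (b • 𝟙 (Q.obj (coextC φ I))) ≫ eI φ I) := by
      have h1 : (fun b : B => (DRing.restrictD φ).map (b • 𝟙 (Q.obj (coextC φ I))) ≫ eI φ I) =
          (fun t => (sigma φ I).hom ≫ t) ∘ (etaLin I (BA φ)) ∘ (toBA φ) := by
        funext b
        exact restrict_smul_eI φ I b
      rw [h1]
      refine Function.Bijective.comp ?_ (hbijM.comp (toBA_bijective φ))
      constructor
      · intro t t' h
        exact (cancel_epi (sigma φ I).hom).1 h
      · intro t
        exact ⟨(sigma φ I).inv ≫ t, by simp⟩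
    have hZ : Function.Bijective (fun b : B => b • 𝟙 (Q.obj (coextC φ I) : Dual.D B)) := by
      have h2 : (fun b : B => (DRing.restrictD φ).map (b • 𝟙 (Q.obj (coextC φ I))) ≫ eI φ I) =
          (fun g : (Q.obj (coextC φ I) : Dual.D B) ⟶ Q.obj (coextC φ I) =>
            (DRing.restrictD φ).map g ≫ eI φ I) ∘
          (fun b : B => b • 𝟙 (Q.obj (coextC φ I) : Dual.D B)) := rfl
      rw [h2] at hΨ
      exact (Function.Bijective.of_comp_iff' (bijective_Phi φ I _) _).1 hΨ
    have h3 : (fun b : B => b • 𝟙 (R.obj K)) =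
        (fun g : (Q.obj (coextC φ I) : Dual.D B) ⟶ Q.obj (coextC φ I) => θ.inv ≫ g ≫ θ.hom) ∘
          (fun b : B => b • 𝟙 (Q.obj (coextC φ I) : Dual.D B)) := by
      funext b
      simp only [Function.comp_apply, Linear.smul_comp, Linear.comp_smul, Category.id_comp,
        Iso.inv_hom_id]
    rw [h3]
    refine Function.Bijective.comp ?_ hZ
    constructor
    · intro g g' h
      have h4 : θ.inv ≫ g ≫ θ.hom = θ.inv ≫ g' ≫ θ.hom := h
      have h5 := (cancel_epi θ.inv).1 h4
      exact (cancel_mono θ.hom).1 h5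
    · intro g
      exact ⟨θ.hom ≫ g ≫ θ.inv, by simp⟩
  · -- no self-extensions
    intro i hi
    let e1 := homEquivShift φ adj (R.obj K) K i
    let e2 : (DRing.restrictD φ).obj (R.obj K) ≅ (Dq I).obj (op (BA φ)) :=
      (DRing.restrictD φ).mapIso θ.symm ≪≫ sigma φ I
    have := hvanM i hi
    exact (e1.trans (Iso.homCongr e2 (Iso.refl _))).subsingleton

end RDual
end Groth.Agent.Lib.Helper6
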