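import Groth.Agent.Lib.Helper6.FlatGor4
import Groth.Agent.Lib.Helper6.InjDimMax6
import Groth.Agent.Lib.Helper24.GorenFibre

/-! **Ascent of dualizing complexes** along flat maps of finite type with Gorenstein fibres
(helper6). -/

set_option autoImplicit false
set_option linter.unusedSectionVars false
set_option linter.style.haveILetI false
universe u
open CategoryTheory CategoryTheory.Limits DerivedCategory Pretriangulated TensorProduct
attribute [local instance] HasDerivedCategory.standard

namespace Groth.Agent.Lib.Helper6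
namespace FlatGor

open Groth.Agent.Lib.Helper35 Groth.Agent.Lib.Helper35.FlatBC HomBC LocDual InjDimMax

section dim

variable {A B : Type u} [CommRing A] [CommRing B] [Algebra A B]

/-- the fibre rings of an algebra generated by `N` elements have dimension at most `N`. -/
theorem ringKrullDim_fiber_le (p : Ideal A) [p.IsPrime] (N : ℕ)
    (f : MvPolynomial (Fin N) A →ₐ[A] B) (hf : Function.Surjective f) :
    ringKrullDim (p.Fiber B) ≤ (N : WithBot ℕ∞) := by
  let g : p.ResidueField ⊗[A] MvPolynomial (Fin N) A →ₐ[p.ResidueField] p.ResidueField ⊗[A] B :=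
    Algebra.TensorProduct.map (AlgHom.id p.ResidueField p.ResidueField) f
  have hg : Function.Surjective g := by
    intro x
    induction x using TensorProduct.induction_on with
    | zero => exact ⟨0, map_zero _⟩
    | tmul a b =>
      obtain ⟨q, rfl⟩ := hf b
      exact ⟨a ⊗ₜ q, by simp [g]⟩
    | add x y hx hy =>
      obtain ⟨x', rfl⟩ := hx
      obtain ⟨y', rfl⟩ := hy
      exact ⟨x' + y', map_add _ _ _⟩
  have h1 : ringKrullDim (p.Fiber B) ≤
      ringKrullDim (p.ResidueField ⊗[A] MvPolynomial (Fin N) A) :=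
    ringKrullDim_le_of_surjective g.toRingHom hg
  have h2 : ringKrullDim (p.ResidueField ⊗[A] MvPolynomial (Fin N) A) =
      ringKrullDim (MvPolynomial (Fin N) p.ResidueField) :=
    ringKrullDim_eq_of_ringEquiv
      (MvPolynomial.algebraTensorAlgEquiv A p.ResidueField).toRingEquiv
  have h3 : ringKrullDim (MvPolynomial (Fin N) p.ResidueField) = (N : WithBot ℕ∞) := by
    rw [MvPolynomial.ringKrullDim_of_isNoetherianRing, ringKrullDim_eq_zero_of_field, zero_add,
      Nat.card_eq_fintype_card, Fintype.card_fin]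
  rw [h2, h3] at h1
  exact h1

end dim

variable {A B : Type u} [CommRing A] [CommRing B] [Algebra A B] [Module.Flat A B]
  [IsNoetherianRing A] [IsNoetherianRing B]

open Groth.Agent.Lib.Helper24 Groth.Agent.Lib.Helper29 in
theorem max_aux (p : Ideal A) [p.IsPrime] (N : ℕ)
    (hFib : LocCoh.IsGorensteinRing (p.Fiber B))
    (hdimF : ringKrullDim (p.Fiber B) ≤ (N : WithBot ℕ∞))
    (q' : Ideal (p.Fiber B)) [q'.IsPrime]
    [hmax : (q'.comap (Algebra.TensorProduct.includeRight : B →ₐ[A] p.Fiber B)).IsMaximal]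
    (ω : Dual.D A) (hω : Dual.IsDualizing A ω) (a b : ℤ) [ω.IsGE a]
    (hb : ∀ i : ℤ, b < i → Subsingleton (Dual.inD A (A ⧸ p) ⟶ ω⟦i⟧))
    (i : ℤ) (hi : b + N < i) :
    Subsingleton (Dual.inD B
      (B ⧸ q'.comap (Algebra.TensorProduct.includeRight : B →ₐ[A] p.Fiber B)) ⟶
        ((G A B).obj ω)⟦i⟧) := by
  haveI hlies : (q'.comap (Algebra.TensorProduct.includeRight : B →ₐ[A] p.Fiber B)).LiesOver p := by
    infer_instance
  letI := Localization.AtPrime.algebraOfLiesOver p
    (q'.comap (Algebra.TensorProduct.includeRight : B →ₐ[A] p.Fiber B))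
  let e := fiberLocalizationEquiv p q'
  have hmap : (IsLocalRing.maximalIdeal (Localization.AtPrime p)).map
      (algebraMap (Localization.AtPrime p) (Localization.AtPrime
        (q'.comap (Algebra.TensorProduct.includeRight : B →ₐ[A] p.Fiber B)))) =
      p.map (algebraMap A (Localization.AtPrime
        (q'.comap (Algebra.TensorProduct.includeRight : B →ₐ[A] p.Fiber B)))) := by
    rw [← Localization.AtPrime.map_eq_maximalIdeal, Ideal.map_map,
      ← IsScalarTower.algebraMap_eq]
  have hG' := isGorensteinLocalRing_of_ringEquiv e (hFib.isGorensteinLocalRing_localization q')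
  have hG := (isGorensteinLocalRing_quotient_congr hmap).2 hG'
  have hd1 : ringKrullDim (Localization.AtPrime q') ≤ (N : WithBot ℕ∞) := by
    rw [IsLocalization.AtPrime.ringKrullDim_eq_height q' (Localization.AtPrime q')]
    exact le_trans (Ideal.height_le_ringKrullDim_of_ne_top Ideal.IsPrime.ne_top') hdimF
  have hdim : ringKrullDim (Localization.AtPrime
      (q'.comap (Algebra.TensorProduct.includeRight : B →ₐ[A] p.Fiber B)) ⧸
      (IsLocalRing.maximalIdeal (Localization.AtPrime p)).map
      (algebraMap (Localization.AtPrime p) (Localization.AtPrime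
        (q'.comap (Algebra.TensorProduct.includeRight : B →ₐ[A] p.Fiber B))))) ≤
      (N : WithBot ℕ∞) := by
    rw [ringKrullDim_eq_of_ringEquiv (Ideal.quotEquivOfEq hmap),
      ← ringKrullDim_eq_of_ringEquiv e]
    exact hd1
  exact subsingleton_hom_max p
    (q'.comap (Algebra.TensorProduct.includeRight : B →ₐ[A] p.Fiber B)) ω hω a b hb N hG hdim i hi

open Groth.Agent.Lib.Helper24 Groth.Agent.Lib.Helper29 in
theorem isDualizing_G_of_gorenstein_fibres [Algebra.FiniteType A B]
    (hfib : ∀ (p : Ideal A) [p.IsPrime], LocCoh.IsGorensteinRing (p.Fiber B))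
    (ω : Dual.D A) (hω : Dual.IsDualizing A ω) : Dual.IsDualizing B ((G A B).obj ω) := by
  obtain ⟨a, b, hge, hle, hab⟩ := isDualizing_bounds hω
  obtain ⟨N, f, hf⟩ := Algebra.FiniteType.iff_quotient_mvPolynomial''.mp
    (inferInstance : Algebra.FiniteType A B)
  refine isDualizing_G_of_P (B := B) ω hω (b + N) ?_
  intro n hn i hi
  haveI := hn
  obtain ⟨p, hp, hlies⟩ : ∃ p : Ideal A, p.IsPrime ∧ n.LiesOver p :=
    ⟨n.under A, inferInstance, ⟨rfl⟩⟩
  obtain ⟨q', hq', hq'n⟩ := exists_fiber_prime p n
  subst hq'n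
  exact max_aux p N (hfib p) (ringKrullDim_fiber_le p N f hf) q' ω hω a b
    (fun i hi => hab (A ⧸ p) i (Or.inr hi)) i hi

end FlatGor
end Groth.Agent.Lib.Helper6
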