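import Groth.Agent.Lib.Helper6.CMFib1
import Groth.Agent.Lib.Helper6.ShP13
import Groth.Agent.Lib.Helper90.QF.OmegaField
import Groth.Agent.S1789

/-! A finite type algebra over a field is Cohen–Macaulay with all minimal primes of coheight `n`
iff its relative dualizing complex is concentrated in degree `-n` (helper6). -/

set_option autoImplicit false
set_option linter.unusedSectionVars false
set_option linter.style.haveILetI false
universe u
open CategoryTheory CategoryTheory.Limits DerivedCategory Pretriangulated TensorProduct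
attribute [local instance] HasDerivedCategory.standard

namespace Groth.Agent.Lib.Helper6
namespace CMFib

open LocDual Groth.Agent.Lib.Helper35 Groth.Agent.Lib.Helper35.FlatBC

section Field

variable (k : Type u) [Field k] (F : Type u) [CommRing F] [IsNoetherianRing F] [Algebra k F]
  (m : ℕ) (ψ' : MvPolynomial (Fin m) k →ₐ[k] F) (hψ' : Function.Surjective ψ')
  [DRing.HasLBaseChange (algebraMap k (MvPolynomial (Fin m) k))]
  (Rψ' : Dual.D (MvPolynomial (Fin m) k) ⥤ Dual.D F) (adj' : DRing.restrictD ψ'.toRingHom ⊣ Rψ')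

include hψ' adj' in
theorem fibre_cm_iff (n : ℕ) :
    (LocCoh.IsCohenMacaulayRing F ∧ ∀ Q : PrimeSpectrum F, Q.asIdeal ∈ minimalPrimes F →
      Order.coheight Q = (n : ℕ∞)) ↔
    ∀ i : ℤ, i ≠ -(n : ℤ) →
      Subsingleton (Dual.HD F (Dual2.shriekVia m Rψ' (Dual.inD k k)) i) := by
  have hD := ShP.isDualizing_shriek_field k F m ψ' hψ' Rψ' adj'
  obtain ⟨δ, hδ1, hδ2⟩ := Groth.Agent.S1722.result F _ hD
  refine isCohenMacaulayRing_and_coheight_iff _ hD δ hδ1 hδ2 (fun p hp => ?_) n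
  set 𝔫 : Ideal F := p.asIdeal with h𝔫
  haveI : 𝔫.IsMaximal := hp
  haveI := Groth.Agent.Lib.Helper90.Shriek.hasLBaseChange (algebraMap F (Localization.AtPrime 𝔫))
  have hm : 𝔫.comap (algebraMap k F) = IsLocalRing.maximalIdeal k := by
    have h1 : IsLocalRing.maximalIdeal k = ⊥ := IsLocalRing.maximalIdeal_eq_bot
    rw [h1]
    rcases Ideal.eq_bot_or_top (𝔫.comap (algebraMap k F)) with h | h
    · exact h
    · exfalso
      exact (Ideal.comap_ne_top (algebraMap k F) hp.ne_top) h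
  obtain ⟨-, hn⟩ := Groth.Agent.S1789.result k F m ψ' hψ' Rψ' adj' 𝔫 hm (Dual.inD k k)
    (Groth.Agent.Lib.Helper90.QF.isDualizing_field k)
    (Groth.Agent.Lib.Helper90.QF.isNormalized_field k)
  by_contra hne
  have hnt := (hδ1 p (-δ p)).2 rfl
  obtain ⟨e⟩ := nonempty_locHomEquiv_residue _ hD 𝔫 (-δ p)
  have hs : Subsingleton (Dual.inD (Localization.AtPrime 𝔫) (Localization.AtPrime 𝔫 ⧸
      IsLocalRing.maximalIdeal (Localization.AtPrime 𝔫)) ⟶
      ((DRing.LBaseChange (algebraMap F (Localization.AtPrime 𝔫))).obj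
        (Dual2.shriekVia m Rψ' (Dual.inD k k)))⟦-δ p⟧) := hn (-δ p) (by omega)
  have eG : (DRing.LBaseChange (algebraMap F (Localization.AtPrime 𝔫))).obj
      (Dual2.shriekVia m Rψ' (Dual.inD k k)) ≅ Gat 𝔫 (Dual2.shriekVia m Rψ' (Dual.inD k k)) :=
    (HomBC.lbcIsoG (A := F) (B := Localization.AtPrime 𝔫)).app _
  have hs2 : Subsingleton (Dual.inD (Localization.AtPrime 𝔫) (Localization.AtPrime 𝔫 ⧸
      IsLocalRing.maximalIdeal (Localization.AtPrime 𝔫)) ⟶
      (Gat 𝔫 (Dual2.shriekVia m Rψ' (Dual.inD k k)))⟦-δ p⟧) :=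
    (Iso.homCongr (Iso.refl _) ((shiftFunctor _ (-δ p)).mapIso eG)).symm.subsingleton
  have hs3 : Subsingleton (LocalizedModule 𝔫.primeCompl
      (Dual.inD F (F ⧸ 𝔫) ⟶ (Dual2.shriekVia m Rψ' (Dual.inD k k))⟦-δ p⟧)) :=
    e.subsingleton
  exact not_subsingleton _ hs3

end Field

end CMFib
end Groth.Agent.Lib.Helper6
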