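import Groth.Agent.Lib.Helper35.NilTA
import Groth.Agent.Lib.Helper35.GlobalPerf

/-! Fibrewise criterion (lower bound): for a bounded below complex `E` of flat modules over a
Noetherian ring, if `E ⊗ κ(p)` is exact in degrees `< c` for all primes `p`, then `E ⊗ N` is exact
in degrees `< c` for all finite modules `N` (helper6). -/

set_option autoImplicit false
set_option linter.unusedSectionVars false
set_option linter.style.haveILetI false
universe u
open CategoryTheory CategoryTheory.Limits TensorProduct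

namespace Groth.Agent.Lib.Helper6
namespace CMFib

open Groth.Agent.Lib.Helper35.TA

section LES

variable {R : Type u} [CommRing R]
  {W X Y : Type u} [AddCommGroup W] [Module R W] [AddCommGroup X] [Module R X]
  [AddCommGroup Y] [Module R Y]

/-- injectivity part of the long exact sequence, elementwise. -/
theorem exists_lTensor_eq_of_exact [Module.Flat R Y] (e : W →ₗ[R] X) (f : X →ₗ[R] Y)
    (hfe : f ∘ₗ e = 0)
    {M₁ M₂ M₃ : Type u} [AddCommGroup M₁] [Module R M₁] [AddCommGroup M₂] [Module R M₂]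
    [AddCommGroup M₃] [Module R M₃] (ι : M₁ →ₗ[R] M₂) (π : M₂ →ₗ[R] M₃)
    (hι : Function.Injective ι) (hπ : Function.Surjective π) (hex : Function.Exact ι π)
    (h₃ : Function.Exact (e.lTensor M₃) (f.lTensor M₃))
    (y₁ : M₁ ⊗[R] Y) (x₂ : M₂ ⊗[R] X) (h : ι.rTensor Y y₁ = f.lTensor M₂ x₂) :
    ∃ x₁ : M₁ ⊗[R] X, f.lTensor M₁ x₁ = y₁ := by
  have c1 : ∀ (U V : Type u) [AddCommGroup U] [Module R U] [AddCommGroup V] [Module R V]
      (k : U →ₗ[R] V) {N₁ N₂ : Type u} [AddCommGroup N₁] [Module R N₁] [AddCommGroup N₂]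
      [Module R N₂] (j : N₁ →ₗ[R] N₂) (x : N₁ ⊗[R] U),
      k.lTensor N₂ (j.rTensor U x) = j.rTensor V (k.lTensor N₁ x) := by
    intro U V _ _ _ _ k N₁ N₂ _ _ _ _ j x
    rw [← LinearMap.comp_apply, ← LinearMap.comp_apply, LinearMap.lTensor_comp_rTensor,
      LinearMap.rTensor_comp_lTensor]
  have hπι : π ∘ₗ ι = 0 := by
    ext m
    exact hex.apply_apply_eq_zero m
  have h1 : f.lTensor M₃ (π.rTensor X x₂) = 0 := by
    rw [c1, ← h, ← LinearMap.comp_apply, ← LinearMap.rTensor_comp, hπι, LinearMap.rTensor_zero,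
      LinearMap.zero_apply]
  obtain ⟨w₃, hw₃⟩ := (h₃ _).1 h1
  obtain ⟨w₂, rfl⟩ := LinearMap.rTensor_surjective W hπ w₃
  have h2 : π.rTensor X (x₂ - e.lTensor M₂ w₂) = 0 := by
    rw [map_sub, ← c1, hw₃, sub_self]
  obtain ⟨x₁, hx₁⟩ := (rTensor_exact X hex hπ _).1 h2
  refine ⟨x₁, ?_⟩
  apply Module.Flat.rTensor_preserves_injective_linearMap ι hι
  rw [← c1, hx₁, map_sub, ← h, ← LinearMap.comp_apply, ← LinearMap.lTensor_comp, hfe,
    LinearMap.lTensor_zero, LinearMap.zero_apply, sub_zero]

end LES

section Residue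

variable {R : Type u} [CommRing R] (p : Ideal R) [p.IsPrime]

/-- the inclusion `R/p → κ(p)` as an `R`-linear map. -/
noncomputable def resIncl : (R ⧸ p) →ₗ[R] p.ResidueField :=
  (IsScalarTower.toAlgHom R (R ⧸ p) p.ResidueField).toLinearMap

theorem resIncl_injective : Function.Injective (resIncl p) :=
  p.injective_algebraMap_quotient_residueField

theorem resIncl_denominator (k : p.ResidueField) :
    ∃ s : R, s ∉ p ∧ ∃ n : R ⧸ p, s • k = resIncl p n := by
  obtain ⟨⟨a, b⟩, hab⟩ := IsLocalization.surj (nonZeroDivisors (R ⧸ p)) k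
  obtain ⟨s, hs⟩ := Ideal.Quotient.mk_surjective (b : R ⧸ p)
  refine ⟨s, ?_, a, ?_⟩
  · intro hsp
    have h0 : (b : R ⧸ p) = 0 := by
      rw [← hs]
      exact Ideal.Quotient.eq_zero_iff_mem.2 hsp
    exact (nonZeroDivisors.ne_zero b.2) h0
  · have h1 : s • k = algebraMap (R ⧸ p) p.ResidueField (Ideal.Quotient.mk p s) * k := by
      rw [Algebra.smul_def, IsScalarTower.algebraMap_apply R (R ⧸ p) p.ResidueField]
      rfl
    rw [h1, hs, mul_comm]
    exact hab

variable {X : Type u} [AddCommGroup X] [Module R X]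

theorem exists_smul_eq_rTensor_resIncl (x' : p.ResidueField ⊗[R] X) :
    ∃ s : R, s ∉ p ∧ ∃ x : (R ⧸ p) ⊗[R] X, s • x' = (resIncl p).rTensor X x := by
  induction x' using TensorProduct.induction_on with
  | zero => exact ⟨1, fun h => (Ideal.IsPrime.ne_top inferInstance)
      ((Ideal.eq_top_iff_one p).2 h), 0, by simp⟩
  | tmul k x =>
    obtain ⟨s, hs, n, hn⟩ := resIncl_denominator p k
    refine ⟨s, hs, n ⊗ₜ x, ?_⟩
    rw [LinearMap.rTensor_tmul, ← hn, TensorProduct.smul_tmul']
  | add a b ha hb =>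
    obtain ⟨s₁, hs₁, x₁, h₁⟩ := ha
    obtain ⟨s₂, hs₂, x₂, h₂⟩ := hb
    refine ⟨s₁ * s₂, fun h => (Ideal.IsPrime.mem_or_mem inferInstance h).elim hs₁ hs₂,
      s₂ • x₁ + s₁ • x₂, ?_⟩
    rw [smul_add, map_add, map_smul, map_smul, ← h₁, ← h₂, smul_smul, smul_smul, mul_comm s₂ s₁]

end Residue

section Main

variable {R : Type u} [CommRing R] [IsNoetherianRing R]
  (E : CochainComplex (ModuleCat.{u} R) ℤ) (hfl : ∀ i : ℤ, Module.Flat R (E.X i))

/-- exactness of `N ⊗ E` at `j`. -/
def ExAt (j : ℤ) (N : Type u) [AddCommGroup N] [Module R N] : Prop :=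
  ∀ i k : ℤ, i + 1 = j → j + 1 = k →
    Function.Exact ((E.d i j).hom.lTensor N) ((E.d j k).hom.lTensor N)

theorem d_comp_d_hom (i j k : ℤ) : (E.d j k).hom ∘ₗ (E.d i j).hom = 0 := by
  ext x
  rw [LinearMap.comp_apply, ← ModuleCat.comp_apply, E.d_comp_d]
  rfl

include hfl in
theorem exAt_quotient_prime (c : ℤ) (p : PrimeSpectrum R)
    (hκ : ExAt E c p.asIdeal.ResidueField)
    (hprev : ∀ (N : Type u) [AddCommGroup N] [Module R N] [Module.Finite R N],
      ExAt E (c - 1) N) :
    ExAt E c (R ⧸ p.asIdeal) := by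
  intro i k hi hk
  subst hk
  obtain rfl : i = c - 1 := by omega
  haveI := hfl c
  intro y
  constructor
  · intro hy
    -- pass to the residue field
    have h1 : (E.d c (c + 1)).hom.lTensor p.asIdeal.ResidueField
        ((resIncl p.asIdeal).rTensor (E.X c) y) = 0 := by
      rw [← LinearMap.comp_apply, LinearMap.lTensor_comp_rTensor, ← LinearMap.rTensor_comp_lTensor,
        LinearMap.comp_apply, hy, map_zero]
    obtain ⟨x', hx'⟩ := (hκ (c - 1) (c + 1) (by omega) rfl _).1 h1
    obtain ⟨s, hs, x, hx⟩ := exists_smul_eq_rTensor_resIncl p.asIdeal x'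
    -- `f x = s • y`
    have h2 : (E.d (c - 1) c).hom.lTensor (R ⧸ p.asIdeal) x = s • y := by
      apply Module.Flat.rTensor_preserves_injective_linearMap (resIncl p.asIdeal)
        (resIncl_injective p.asIdeal)
      rw [← LinearMap.comp_apply, LinearMap.rTensor_comp_lTensor, ← LinearMap.lTensor_comp_rTensor,
        LinearMap.comp_apply, ← hx, map_smul, map_smul, hx']
    -- multiplication by `s`
    let ι : (R ⧸ p.asIdeal) →ₗ[R] (R ⧸ p.asIdeal) := s • LinearMap.id
    let π : (R ⧸ p.asIdeal) →ₗ[R] (R ⧸ p.asIdeal) ⧸ (LinearMap.range ι) :=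
      (LinearMap.range ι).mkQ
    have hι : Function.Injective ι := by
      rw [injective_iff_map_eq_zero]
      intro n hn
      obtain ⟨r, rfl⟩ := Ideal.Quotient.mk_surjective n
      have h3 : Ideal.Quotient.mk p.asIdeal (s * r) = 0 := by
        have : ι (Ideal.Quotient.mk p.asIdeal r) = Ideal.Quotient.mk p.asIdeal (s * r) := by
          change s • (Ideal.Quotient.mk p.asIdeal r) = _
          rw [map_mul, Algebra.smul_def]
          rfl
        rw [← this, hn]
      rw [Ideal.Quotient.eq_zero_iff_mem] at h3 ⊢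
      exact (Ideal.IsPrime.mem_or_mem inferInstance h3).resolve_left hs
    have hex : Function.Exact ι π := LinearMap.exact_map_mkQ_range ι
    have hιy : ι.rTensor (E.X c) y = s • y := by
      change (s • LinearMap.id).rTensor (E.X c) y = _
      rw [LinearMap.rTensor_smul, LinearMap.rTensor_id, LinearMap.smul_apply, LinearMap.id_apply]
    exact exists_lTensor_eq_of_exact (E.d (c - 1 - 1) (c - 1)).hom (E.d (c - 1) c).hom
      (d_comp_d_hom E _ _ _) ι π hι (Submodule.mkQ_surjective _) hex
      (hprev _ (c - 1 - 1) c (by omega) (by omega)) y x (by rw [hιy, h2])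
  · rintro ⟨x, rfl⟩
    rw [← LinearMap.comp_apply, ← LinearMap.lTensor_comp, d_comp_d_hom, LinearMap.lTensor_zero,
      LinearMap.zero_apply]

include hfl in
/-- the fibrewise criterion, lower bound. -/
theorem exAt_of_fibres (a₀ : ℤ) (hE : ∀ i : ℤ, i < a₀ → IsZero (E.X i)) (c : ℤ)
    (hfib : ∀ (p : PrimeSpectrum R) (j : ℤ), j < c → ExAt E j p.asIdeal.ResidueField) :
    ∀ (j : ℤ), j < c → ∀ (N : Type u) [AddCommGroup N] [Module R N] [Module.Finite R N],
      ExAt E j N := by
  have key : ∀ (m : ℕ) (j : ℤ), j < a₀ + m → j < c →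
      ∀ (N : Type u) [AddCommGroup N] [Module R N] [Module.Finite R N], ExAt E j N := by
    intro m
    induction m with
    | zero =>
      intro j hj _ N _ _ _ i k hi hk
      have hz : Subsingleton (E.X j) := ModuleCat.subsingleton_of_isZero (hE j (by simpa using hj))
      have hs : Subsingleton (N ⊗[R] (E.X j)) := inferInstance
      intro y
      constructor
      · intro _
        exact ⟨0, Subsingleton.elim _ _⟩
      · intro _
        rw [Subsingleton.elim y 0, map_zero]
    | succ m ih =>
      intro j hj hjc N _ _ hN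
      by_cases hlt : j < a₀ + m
      · exact ih j hlt hjc N
      · have hprev : ∀ (N' : Type u) [AddCommGroup N'] [Module R N'] [Module.Finite R N'],
            ExAt E (j - 1) N' := fun N' _ _ _ => ih (j - 1) (by push_cast at hj; omega) (by omega) N'
        induction hN using IsNoetherianRing.induction_on_isQuotientEquivQuotientPrime R with
        | subsingleton N' =>
          intro i k hi hk y
          have hs : Subsingleton (N' ⊗[R] (E.X j)) := inferInstance
          constructor
          · intro _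
            exact ⟨0, Subsingleton.elim _ _⟩
          · intro _
            rw [Subsingleton.elim y 0, map_zero]
        | quotient N' p f =>
          intro i k hi hk
          have h1 := exAt_quotient_prime E hfl j p (hfib p j hjc) hprev i k hi hk
          exact exact_lTensor_congr' f.symm _ _ h1
        | exact N₁ N₂ N₃ f g hf hg hfg h₁ h₃ =>
          intro i k hi hk
          haveI := hfl k
          exact exact_lTensor_of_shortExact _ _ (d_comp_d_hom E i j k) f g hf hg hfg
            (h₁ i k hi hk) (h₃ i k hi hk)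
  intro j hj N _ _ _
  exact key (j - a₀ + 1).toNat j (by omega) hj N

end Main

end CMFib
end Groth.Agent.Lib.Helper6
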