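import Groth.Agent.Lib.Helper6.CMFib3
import Groth.Agent.Lib.Helper90.QF.TorAmpIdeal

/-! Bridge between derived base change of a bounded above flat complex and termwise tensor
products (helper6). -/

set_option autoImplicit false
set_option linter.unusedSectionVars false
set_option linter.style.haveILetI false
universe u
open CategoryTheory CategoryTheory.Limits DerivedCategory TensorProduct
attribute [local instance] HasDerivedCategory.standard

namespace Groth.Agent.Lib.Helper6
namespace CMFib

open Groth.Agent.Lib.Helper35.FlatBC Groth.Agent.Lib.Helper35.TA Groth.Agent.Lib.Helper35.KL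

variable {R : Type u} [CommRing R]

set_option backward.isDefEq.respectTransparency false in
theorem subsingleton_hd_lbc_iff_exAt (S : Type u) [CommRing S] [Algebra R S]
    [DRing.HasLBaseChange (algebraMap R S)]
    (j : ℤ) (E : DRing.Cx R) (b : ℤ) (hEb : DRing.VanishesAbove E b)
    (hE : ∀ i : ℤ, Module.Flat R (E.X i)) (K : Dual.D R) (e : DRing.toD E ≅ K) :
    Subsingleton (Dual.HD S ((DRing.LBaseChange (algebraMap R S)).obj K) j) ↔ ExAt E j S := by
  obtain ⟨e1⟩ := nonempty_lbc_iso_of_flat (algebraMap R S) E b hEb hE
  have eH := (homologyFunctor (ModuleCat.{u} S) j).mapIso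
    ((DRing.LBaseChange (algebraMap R S)).mapIso e.symm ≪≫ e1)
  have hiff : Subsingleton (Dual.HD S ((DRing.LBaseChange (algebraMap R S)).obj K) j) ↔
      Function.Exact ((E.d (j - 1) j).hom.lTensor (B' R S))
        ((E.d j (j + 1)).hom.lTensor (B' R S)) := by
    constructor
    · intro hs
      have hz : IsZero ((homologyFunctor (ModuleCat.{u} S) j).obj
          ((DRing.LBaseChange (algebraMap R S)).obj K)) :=
        ModuleCat.isZero_of_subsingleton _
      have h1 := hz.of_iso eH.symm
      rw [isZero_homology_toD_iff,
        HomologicalComplex.exactAt_iff' _ (j - 1) j (j + 1) (by simp) (by simp),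
        ShortComplex.ShortExact.moduleCat_exact_iff_function_exact] at h1
      exact h1
    · intro hex
      have h1 : IsZero ((homologyFunctor (ModuleCat.{u} S) j).obj
          (DRing.toD ((((ModuleCat.extendScalars.{u, u, u} (algebraMap R S)).mapHomologicalComplex
            (ComplexShape.up ℤ))).obj E))) := by
        rw [isZero_homology_toD_iff,
          HomologicalComplex.exactAt_iff' _ (j - 1) j (j + 1) (by simp) (by simp),
          ShortComplex.ShortExact.moduleCat_exact_iff_function_exact]
        exact hex
      exact ModuleCat.subsingleton_of_isZero (h1.of_iso eH)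
  rw [hiff]
  constructor
  · intro h i k hi hk
    subst hk
    obtain rfl : i = j - 1 := by omega
    exact exact_lTensor_congr' (e₁ R S) _ _ h
  · intro h
    exact exact_lTensor_congr' (e₁ R S).symm _ _ (h (j - 1) (j + 1) (by omega) rfl)

end CMFib
end Groth.Agent.Lib.Helper6
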