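import Groth.Agent.Lib.Helper6.CMFib4
import Groth.Agent.Lib.Helper90.Shriek.ExistsRAdj
import Groth.Agent.Lib.Helper35.FlatGlue

/-! Fibrewise criterion for tor amplitude `[c, c]` (helper6). -/

set_option autoImplicit false
set_option linter.unusedSectionVars false
set_option linter.style.haveILetI false
universe u
open CategoryTheory CategoryTheory.Limits DerivedCategory TensorProduct
attribute [local instance] HasDerivedCategory.standard

namespace Groth.Agent.Lib.Helper6
namespace CMFib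

open Groth.Agent.Lib.Helper35.FlatBC Groth.Agent.Lib.Helper35.TA Groth.Agent.Lib.Helper35.KL

variable {R : Type u} [CommRing R]

theorem exact_of_exAt_self (E : DRing.Cx R) (j : ℤ) (h : ExAt E j R) : E.ExactAt j := by
  rw [HomologicalComplex.exactAt_iff' _ (j - 1) j (j + 1) (by simp) (by simp),
    ShortComplex.ShortExact.moduleCat_exact_iff_function_exact]
  have h1 := h (j - 1) (j + 1) (by omega) rfl
  refine (Function.Exact.iff_of_ladder_linearEquiv
    (e₁ := TensorProduct.lid R (E.X (j - 1)))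
    (e₂ := TensorProduct.lid R (E.X j))
    (e₃ := TensorProduct.lid R (E.X (j + 1)))
    (f₁₂ := (E.d (j - 1) j).hom.lTensor R) (f₂₃ := (E.d j (j + 1)).hom.lTensor R)
    (g₁₂ := (E.d (j - 1) j).hom) (g₂₃ := (E.d j (j + 1)).hom) ?_ ?_).2 h1
  · ext x
    simp
  · ext x
    simp

variable [IsNoetherianRing R]

theorem hasTorAmplitudeIn_of_fibres (K : Dual.D R) (hK : DRing.HasFiniteTorDimCx R K) (c : ℤ)
    [K.IsLE c]
    (hfib : ∀ (p : PrimeSpectrum R)
      [DRing.HasLBaseChange (algebraMap R p.asIdeal.ResidueField)] (j : ℤ), j < c →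
      Subsingleton (Dual.HD p.asIdeal.ResidueField
        ((DRing.LBaseChange (algebraMap R p.asIdeal.ResidueField)).obj K) j)) :
    DRing.HasTorAmplitudeIn R c c K := by
  obtain ⟨a₀, b₀, E, hv, hfl, ⟨e⟩⟩ := hK
  have hEb : DRing.VanishesAbove E b₀ := fun j hj => hv j (Or.inr hj)
  have hEa : ∀ i : ℤ, i < a₀ → IsZero (E.X i) := fun j hj => hv j (Or.inl hj)
  have hall := exAt_of_fibres E hfl a₀ hEa c (fun p j hj => by
    haveI := Groth.Agent.Lib.Helper90.Shriek.hasLBaseChange
      (algebraMap R p.asIdeal.ResidueField)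
    exact (subsingleton_hd_lbc_iff_exAt p.asIdeal.ResidueField j E b₀ hEb hfl K e).1
      (hfib p j hj))
  haveI hGE : K.IsGE c := by
    rw [DerivedCategory.isGE_iff]
    intro i hi
    have h1 : E.ExactAt i := exact_of_exAt_self E i (hall i hi R)
    exact ((isZero_homology_toD_iff E i).2 h1).of_iso
      ((homologyFunctor (ModuleCat.{u} R) i).mapIso e.symm)
  haveI : K.IsGE (c - 1 + 1) := by
    have hh : c - 1 + 1 = c := by ring
    rw [hh]
    exact hGE
  have key := Groth.Agent.Lib.Helper90.QF.TAmp_of_quot_vanishing K ⟨a₀, b₀, E, hv, hfl, ⟨e⟩⟩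
    (c - 1) c (fun I _ =>
      (subsingleton_hd_lbc_iff_exAt (R ⧸ I) (c - 1) E b₀ hEb hfl K e).2
        (hall (c - 1) (by omega) (R ⧸ I)))
    (fun I => Groth.Agent.Lib.Helper90.Shriek.hasLBaseChange _)
  have hh : c - 1 + 1 = c := by ring
  rwa [hh] at key

/-- an object of tor amplitude `[c, c]` has flat cohomology in degree `c`. -/
theorem flat_HD_of_hasTorAmplitudeIn (K : Dual.D R) (c : ℤ)
    (h : DRing.HasTorAmplitudeIn R c c K) : Module.Flat R (Dual.HD R K c) := by
  have h1 : TAmp 0 0 (K⟦c⟧) := (TAmp.shift h c).mono (by omega) (by omega)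
  obtain ⟨N, _, _, hN, ⟨eN⟩⟩ := exists_flat_inD_iso_of_TAmp_zero (K⟦c⟧) h1
  let e1 : (homologyFunctor (ModuleCat.{u} R) 0).obj (K⟦c⟧) ≅
      (homologyFunctor (ModuleCat.{u} R) c).obj K :=
    ((homologyFunctor (ModuleCat.{u} R) 0).shiftIso c 0 c (by omega)).app K
  let e2 := (DerivedCategory.singleFunctorCompHomologyFunctorIso (ModuleCat.{u} R) 0).app
    (ModuleCat.of R N)
  let l : N ≃ₗ[R] Dual.HD R K c :=
    (e2.toLinearEquiv.symm.trans ((homologyFunctor (ModuleCat.{u} R) 0).mapIso
      eN.symm).toLinearEquiv).trans e1.toLinearEquiv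
  exact Module.Flat.of_linearEquiv l.symm

end CMFib
end Groth.Agent.Lib.Helper6
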