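import Groth.Agent.Lib.Helper6.GorFib5
import Groth.Agent.Lib.Helper6.ShP13
import Groth.Agent.Lib.Helper24.GorenFibre

/-! Gorenstein fibres iff `ω_{A/R}` invertible, for `R → A` flat of finite type (helper6). -/

set_option autoImplicit false
set_option linter.unusedSectionVars false
set_option linter.style.haveILetI false
universe u
open CategoryTheory CategoryTheory.Limits DerivedCategory Pretriangulated TensorProduct
attribute [local instance] HasDerivedCategory.standard

namespace Groth.Agent.Lib.Helper6
namespace GorFib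

open Groth.Agent.Lib.Helper35 Groth.Agent.Lib.Helper35.TA Groth.Agent.Lib.Helper35.FlatBC LocDual

section Tau

variable (R A : Type u) [CommRing R] [CommRing A] [Algebra R A] (q : Ideal A) [q.IsPrime]

/-- the map from the fibre ring over `q ∩ R` to the residue field of `q`. -/
noncomputable def tau :
    (q.comap (algebraMap R A)).ResidueField ⊗[R] A →+*
      (Localization.AtPrime q ⧸ IsLocalRing.maximalIdeal (Localization.AtPrime q)) :=
  (Algebra.TensorProduct.productMap
    (Ideal.ResidueField.mapₐ (q.comap (algebraMap R A)) q (Algebra.ofId R A) rfl)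
    (IsScalarTower.toAlgHom R A q.ResidueField)).toRingHom

lemma tau_comp :
    (tau R A q).comp (Algebra.TensorProduct.includeRight :
      A →ₐ[R] (q.comap (algebraMap R A)).ResidueField ⊗[R] A).toRingHom =
      (Ideal.Quotient.mk (IsLocalRing.maximalIdeal (Localization.AtPrime q))).comp
        (algebraMap A (Localization.AtPrime q)) := by
  ext a
  change (Algebra.TensorProduct.productMap
    (Ideal.ResidueField.mapₐ (q.comap (algebraMap R A)) q (Algebra.ofId R A) rfl)
    (IsScalarTower.toAlgHom R A q.ResidueField)) (1 ⊗ₜ[R] a) = _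
  rw [Algebra.TensorProduct.productMap_apply_tmul, map_one, one_mul]
  rfl

end Tau

section Main

variable (R A : Type u) [CommRing R] [CommRing A] [IsNoetherianRing R] [IsNoetherianRing A]
  [Algebra R A] [Module.Flat R A] (n : ℕ) (ψ : MvPolynomial (Fin n) R →ₐ[R] A)
  (hψ : Function.Surjective ψ)
  [DRing.HasLBaseChange (algebraMap R (MvPolynomial (Fin n) R))]
  (Rψ : Dual.D (MvPolynomial (Fin n) R) ⥤ Dual.D A) (adj : DRing.restrictD ψ.toRingHom ⊣ Rψ)
  [hL : ∀ f : A, DRing.HasLBaseChange (algebraMap A (Localization.Away f))]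

include hψ adj in
theorem gorenstein_fibres_iff :
    (∀ p : PrimeSpectrum R, LocCoh.IsGorensteinRing (A ⊗[R] p.asIdeal.ResidueField)) ↔
    (∀ q : PrimeSpectrum A, ∃ (f : A) (_ : f ∉ q.asIdeal) (m : ℤ),
      Nonempty ((DRing.LBaseChange (algebraMap A (Localization.Away f))).obj
        (Dual2.shriekVia n Rψ (Dual.inD R R)) ≅
        (Dual.inD (Localization.Away f) (Localization.Away f))⟦m⟧)) := by
  constructor
  · intro h1 q
    haveI := TA.hasLBaseChange (Algebra.TensorProduct.includeRight :
      A →ₐ[R] (q.asIdeal.comap (algebraMap R A)).ResidueField ⊗[R] A).toRingHom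
    have hB : LocCoh.IsGorensteinRing
        ((q.asIdeal.comap (algebraMap R A)).ResidueField ⊗[R] A) :=
      Groth.Agent.Lib.Helper24.isGorensteinRing_of_ringEquiv
        (Algebra.TensorProduct.comm R A
          (q.asIdeal.comap (algebraMap R A)).ResidueField).toRingEquiv
        (h1 ⟨q.asIdeal.comap (algebraMap R A), inferInstance⟩)
    have hK := ShP.omega_baseChange_isDualizing R A n ψ hψ Rψ adj
      (q.asIdeal.comap (algebraMap R A)).ResidueField
    exact exists_away_iso_of_gorenstein _ _
      (ShP.omega_bounded R A n ψ hψ Rψ adj)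
      (fun i => ShP.omega_finite R A n ψ hψ Rψ adj i)
      (ShP.omega_pseudoCoherent R A n ψ hψ Rψ adj) hK hB q.asIdeal
      (tau R A q.asIdeal) (tau_comp R A q.asIdeal)
  · intro h2 p
    haveI := TA.hasLBaseChange (Algebra.TensorProduct.includeRight :
      A →ₐ[R] p.asIdeal.ResidueField ⊗[R] A).toRingHom
    have hK := ShP.omega_baseChange_isDualizing R A n ψ hψ Rψ adj p.asIdeal.ResidueField
    have hB := isGorensteinRing_of_locally_trivial _ _ hK h2
    exact Groth.Agent.Lib.Helper24.isGorensteinRing_of_ringEquiv
      (Algebra.TensorProduct.comm R A p.asIdeal.ResidueField).toRingEquiv.symm hB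

end Main

end GorFib
end Groth.Agent.Lib.Helper6
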