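import Groth.Agent.Lib.Helper6.CMFib2
import Groth.Agent.Lib.Helper6.CMFib5
import Groth.Agent.Lib.Helper90.QF.OmegaTorAmp
import Groth.Agent.Lib.Helper6.GorFib6

/-! Cohen–Macaulay fibres of pure dimension `d` iff `ω_{A/R}` has tor amplitude `[-d, -d]`
(helper6). -/

set_option autoImplicit false
set_option linter.unusedSectionVars false
set_option linter.style.haveILetI false
universe u
open CategoryTheory CategoryTheory.Limits DerivedCategory Pretriangulated
open scoped TensorProduct
attribute [local instance] HasDerivedCategory.standard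

namespace Groth.Agent.Lib.Helper6
namespace CMFib

open Groth.Agent.Lib.Helper90.Shriek Groth.Agent.Lib.Helper90.QF Groth.Agent.Lib.Helper35

variable (R A : Type u) [CommRing R] [CommRing A] [IsNoetherianRing R] [IsNoetherianRing A]
  [Algebra R A] [Module.Flat R A] (n : ℕ) (ψ : MvPolynomial (Fin n) R →ₐ[R] A)
  (hψ : Function.Surjective ψ) [DRing.HasLBaseChange (algebraMap R (MvPolynomial (Fin n) R))]
  (Rψ : Dual.D (MvPolynomial (Fin n) R) ⥤ Dual.D A) (adj : DRing.restrictD ψ.toRingHom ⊣ Rψ)

include hψ adj in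
/-- the fibre over a field: Cohen–Macaulay of pure dimension `d` iff the base change of `ω` is
concentrated in degree `-d`. -/
theorem fibre_field_iff (k : Type u) [Field k] [Algebra R k]
    [DRing.HasLBaseChange (Algebra.TensorProduct.includeRight : A →ₐ[R] k ⊗[R] A).toRingHom]
    (d : ℕ) :
    (LocCoh.IsCohenMacaulayRing (k ⊗[R] A) ∧ ∀ Q : PrimeSpectrum (k ⊗[R] A),
      Q.asIdeal ∈ minimalPrimes (k ⊗[R] A) → Order.coheight Q = (d : ℕ∞)) ↔
    ∀ i : ℤ, i ≠ -(d : ℤ) → Subsingleton (Dual.HD (k ⊗[R] A) ((DRing.LBaseChange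
      (Algebra.TensorProduct.includeRight : A →ₐ[R] k ⊗[R] A).toRingHom).obj
        (Dual2.shriekVia n Rψ (Dual.inD R R))) i) := by
  have hψ' := psiBC_surjective R k A n ψ hψ
  haveI : IsNoetherianRing (k ⊗[R] A) :=
    isNoetherianRing_of_surjective _ _ (psiBC R k A n ψ).toRingHom hψ'
  haveI := TA.hasLBaseChange (algebraMap k (MvPolynomial (Fin n) k))
  haveI := TA.hasLBaseChange (algebraMap R k)
  obtain ⟨Rψ', ⟨adj'⟩⟩ := exists_rightAdjoint_restrictD (psiBC R k A n ψ).toRingHom
  obtain ⟨e⟩ := Groth.Agent.S1807.result R k A n ψ hψ Rψ adj n (psiBC R k A n ψ) hψ' Rψ' adj'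
    (Dual.inD R R)
  obtain ⟨eU⟩ := FlatPC.nonempty_lbc_unit_iso (A := R) (B := k)
  let e2 : Dual2.shriekVia n Rψ' ((DRing.LBaseChange (algebraMap R k)).obj (Dual.inD R R)) ≅
      Dual2.shriekVia n Rψ' (Dual.inD k k) :=
    (shiftFunctor (Dual.D (k ⊗[R] A)) (n : ℤ)).mapIso (Rψ'.mapIso
      ((DRing.LBaseChange (algebraMap k (MvPolynomial (Fin n) k))).mapIso eU))
  rw [fibre_cm_iff k (k ⊗[R] A) n (psiBC R k A n ψ) hψ' Rψ' adj' d]
  constructor
  · intro h i hi
    have := h i hi
    exact ((homologyFunctor (ModuleCat.{u} (k ⊗[R] A)) i).mapIso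
      (e ≪≫ e2)).toLinearEquiv.toEquiv.subsingleton
  · intro h i hi
    have := h i hi
    exact ((homologyFunctor (ModuleCat.{u} (k ⊗[R] A)) i).mapIso
      (e ≪≫ e2)).toLinearEquiv.symm.toEquiv.subsingleton

include hψ adj in
/-- cohomology of the base change of `ω` to `R' ⊗ A` and of the base change of its restriction
to `R'`. -/
theorem subsingleton_hd_lbc_restrict_iff (R' : Type u) [CommRing R'] [Algebra R R']
    [DRing.HasLBaseChange (algebraMap R R')]
    [DRing.HasLBaseChange (Algebra.TensorProduct.includeRight : A →ₐ[R] R' ⊗[R] A).toRingHom]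
    (i : ℤ) :
    Subsingleton (Dual.HD R' ((DRing.LBaseChange (algebraMap R R')).obj
      ((DRing.restrictD (algebraMap R A)).obj (Dual2.shriekVia n Rψ (Dual.inD R R)))) i) ↔
    Subsingleton (Dual.HD (R' ⊗[R] A) ((DRing.LBaseChange
      (Algebra.TensorProduct.includeRight : A →ₐ[R] R' ⊗[R] A).toRingHom).obj
        (Dual2.shriekVia n Rψ (Dual.inD R R))) i) := by
  obtain ⟨e3⟩ := Groth.Agent.Lib.Helper35.TA.nonempty_restrict_LBC_iso' R A R'
    (Dual2.shriekVia n Rψ (Dual.inD R R)) (ShP.omega_pseudoCoherent R A n ψ hψ Rψ adj)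
  have e4 := (ExactDC.homologyIso (RestrPC.Φ (algebraMap R' (R' ⊗[R] A))) i).app
    ((DRing.LBaseChange
      (Algebra.TensorProduct.includeRight : A →ₐ[R] R' ⊗[R] A).toRingHom).obj
        (Dual2.shriekVia n Rψ (Dual.inD R R)))
  constructor
  · intro h
    have h4 : Subsingleton ((homologyFunctor (ModuleCat.{u} R') i).obj
        ((DRing.restrictD (algebraMap R' (R' ⊗[R] A))).obj ((DRing.LBaseChange
        (Algebra.TensorProduct.includeRight : A →ₐ[R] R' ⊗[R] A).toRingHom).obj
          (Dual2.shriekVia n Rψ (Dual.inD R R))))) :=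
      @Equiv.subsingleton _ _
        ((homologyFunctor (ModuleCat.{u} R') i).mapIso e3).toLinearEquiv.toEquiv h
    have h3 : Subsingleton ((RestrPC.Φ (algebraMap R' (R' ⊗[R] A))).obj
        ((homologyFunctor (ModuleCat.{u} (R' ⊗[R] A)) i).obj ((DRing.LBaseChange
        (Algebra.TensorProduct.includeRight : A →ₐ[R] R' ⊗[R] A).toRingHom).obj
          (Dual2.shriekVia n Rψ (Dual.inD R R))))) :=
      @Equiv.subsingleton _ _ e4.toLinearEquiv.symm.toEquiv h4
    exact h3
  · intro h2
    have h3 : Subsingleton ((RestrPC.Φ (algebraMap R' (R' ⊗[R] A))).obj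
        ((homologyFunctor (ModuleCat.{u} (R' ⊗[R] A)) i).obj ((DRing.LBaseChange
        (Algebra.TensorProduct.includeRight : A →ₐ[R] R' ⊗[R] A).toRingHom).obj
          (Dual2.shriekVia n Rψ (Dual.inD R R))))) := h2
    have h4 : Subsingleton ((homologyFunctor (ModuleCat.{u} R') i).obj
        ((DRing.restrictD (algebraMap R' (R' ⊗[R] A))).obj ((DRing.LBaseChange
        (Algebra.TensorProduct.includeRight : A →ₐ[R] R' ⊗[R] A).toRingHom).obj
          (Dual2.shriekVia n Rψ (Dual.inD R R))))) :=
      @Equiv.subsingleton _ _ e4.toLinearEquiv.toEquiv h3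
    exact @Equiv.subsingleton _ _
      ((homologyFunctor (ModuleCat.{u} R') i).mapIso e3).toLinearEquiv.symm.toEquiv h4

include hψ adj in
/-- upper bound from the fibres. -/
theorem subsingleton_hd_omega_of_gt (d : ℕ)
    (hfib : ∀ (p : PrimeSpectrum R)
      [DRing.HasLBaseChange (Algebra.TensorProduct.includeRight :
        A →ₐ[R] p.asIdeal.ResidueField ⊗[R] A).toRingHom] (j : ℤ), -(d : ℤ) < j →
      Subsingleton (Dual.HD (p.asIdeal.ResidueField ⊗[R] A) ((DRing.LBaseChange
        (Algebra.TensorProduct.includeRight :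
          A →ₐ[R] p.asIdeal.ResidueField ⊗[R] A).toRingHom).obj
        (Dual2.shriekVia n Rψ (Dual.inD R R))) j))
    (j : ℤ) (hj : -(d : ℤ) < j) :
    Subsingleton (Dual.HD A (Dual2.shriekVia n Rψ (Dual.inD R R)) j) := by
  obtain ⟨a, b, hb⟩ := ShP.omega_bounded R A n ψ hψ Rψ adj
  have key : ∀ m : ℕ, ∀ j : ℤ, -(d : ℤ) < j → b - m < j →
      Subsingleton (Dual.HD A (Dual2.shriekVia n Rψ (Dual.inD R R)) j) := by
    intro m
    induction m with
    | zero =>
      intro j _ h
      exact hb j (Or.inr (by simpa using h))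
    | succ m ih =>
      intro j hj0 h
      by_cases hlt : b - m < j
      · exact ih j hj0 hlt
      · push Not at hlt
        haveI : (Dual2.shriekVia n Rψ (Dual.inD R R)).IsLE j := by
          rw [DerivedCategory.isLE_iff]
          intro i hi
          haveI := ih i (by omega) (by omega)
          exact ModuleCat.isZero_of_subsingleton _
        haveI := ShP.omega_finite R A n ψ hψ Rψ adj j
        refine subsingleton_of_forall_tensor_quotient_maximal (A := A) _ ?_
        intro 𝔪 h𝔪
        haveI : 𝔪.IsPrime := h𝔪.isPrime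
        let p : PrimeSpectrum R := ⟨𝔪.comap (algebraMap R A), inferInstance⟩
        letI : Algebra A (p.asIdeal.ResidueField ⊗[R] A) :=
          (Algebra.TensorProduct.includeRight :
            A →ₐ[R] p.asIdeal.ResidueField ⊗[R] A).toRingHom.toAlgebra
        haveI hL : DRing.HasLBaseChange (algebraMap A (p.asIdeal.ResidueField ⊗[R] A)) :=
          TA.hasLBaseChange _
        have h1 : Subsingleton (Dual.HD (p.asIdeal.ResidueField ⊗[R] A) ((DRing.LBaseChange
            (algebraMap A (p.asIdeal.ResidueField ⊗[R] A))).obj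
              (Dual2.shriekVia n Rψ (Dual.inD R R))) j) :=
          @hfib p hL j hj0
        have h2 := subsingleton_tensor_hd_of_subsingleton_hd_lbc (A := A)
          (B := p.asIdeal.ResidueField ⊗[R] A) (Dual2.shriekVia n Rψ (Dual.inD R R)) j h1
        let g : p.asIdeal.ResidueField ⊗[R] A →ₐ[R] 𝔪.ResidueField :=
          Algebra.TensorProduct.productMap
            (Ideal.ResidueField.mapₐ (𝔪.comap (algebraMap R A)) 𝔪 (Algebra.ofId R A) rfl)
            (IsScalarTower.toAlgHom R A 𝔪.ResidueField)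
        have h3 : Subsingleton (𝔪.ResidueField ⊗[A]
            Dual.HD A (Dual2.shriekVia n Rψ (Dual.inD R R)) j) := by
          refine subsingleton_tensor_of_factor (A := A) (B := p.asIdeal.ResidueField ⊗[R] A)
            (C := 𝔪.ResidueField) g.toRingHom ?_ _ h2
          intro x
          change g ((1 : p.asIdeal.ResidueField) ⊗ₜ[R] x) = _
          rw [Algebra.TensorProduct.productMap_apply_tmul, map_one, one_mul]
          rfl
        have hbij := Ideal.bijective_algebraMap_quotient_residueField 𝔪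
        let e : (A ⧸ 𝔪) ≃ₗ[A] 𝔪.ResidueField :=
          LinearEquiv.ofBijective
            ((IsScalarTower.toAlgHom A (A ⧸ 𝔪) 𝔪.ResidueField).toLinearMap) hbij
        exact (TensorProduct.congr e (LinearEquiv.refl A _)).toEquiv.subsingleton
  exact key (b - j + 1).toNat j hj (by omega)

end CMFib
end Groth.Agent.Lib.Helper6
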