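import Groth.Agent.Lib.Helper6.CMFib6
import Groth.Agent.Lib.Helper35.TorDim

/-! Cohen–Macaulay fibres of pure dimension `d` iff `ω_{A/R}` is concentrated in degree `-d`
with `R`-flat cohomology (helper6). -/

set_option autoImplicit false
set_option linter.unusedSectionVars false
set_option linter.style.haveILetI false
universe u
open CategoryTheory CategoryTheory.Limits DerivedCategory Pretriangulated
open scoped TensorProduct
attribute [local instance] HasDerivedCategory.standard

namespace Groth.Agent.Lib.Helper6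
namespace CMFib

open Groth.Agent.Lib.Helper90.Shriek Groth.Agent.Lib.Helper90.QF Groth.Agent.Lib.Helper35
open Groth.Agent.Lib.Helper35.TA

variable (R A : Type u) [CommRing R] [CommRing A] [IsNoetherianRing R] [IsNoetherianRing A]
  [Algebra R A] [Module.Flat R A] (n : ℕ) (ψ : MvPolynomial (Fin n) R →ₐ[R] A)
  (hψ : Function.Surjective ψ) [DRing.HasLBaseChange (algebraMap R (MvPolynomial (Fin n) R))]
  (Rψ : Dual.D (MvPolynomial (Fin n) R) ⥤ Dual.D A) (adj : DRing.restrictD ψ.toRingHom ⊣ Rψ)

include hψ adj in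
theorem cm_fibres_iff_torAmp (d : ℕ) :
    (∀ p : PrimeSpectrum R, LocCoh.IsCohenMacaulayRing (p.asIdeal.ResidueField ⊗[R] A) ∧
      ∀ Q : PrimeSpectrum (p.asIdeal.ResidueField ⊗[R] A),
        Q.asIdeal ∈ minimalPrimes (p.asIdeal.ResidueField ⊗[R] A) →
          Order.coheight Q = (d : ℕ∞)) ↔
    DRing.HasTorAmplitudeIn R (-(d : ℤ)) (-(d : ℤ))
      ((DRing.restrictD (algebraMap R A)).obj (Dual2.shriekVia n Rψ (Dual.inD R R))) := by
  constructor
  · intro h
    have hFib : ∀ (p : PrimeSpectrum R)
        [DRing.HasLBaseChange (Algebra.TensorProduct.includeRight :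
          A →ₐ[R] p.asIdeal.ResidueField ⊗[R] A).toRingHom] (i : ℤ), i ≠ -(d : ℤ) →
        Subsingleton (Dual.HD (p.asIdeal.ResidueField ⊗[R] A) ((DRing.LBaseChange
          (Algebra.TensorProduct.includeRight :
            A →ₐ[R] p.asIdeal.ResidueField ⊗[R] A).toRingHom).obj
          (Dual2.shriekVia n Rψ (Dual.inD R R))) i) := fun p _ =>
      (fibre_field_iff R A n ψ hψ Rψ adj p.asIdeal.ResidueField d).1 (h p)
    haveI hLE : (Dual2.shriekVia n Rψ (Dual.inD R R)).IsLE (-(d : ℤ)) := by
      rw [DerivedCategory.isLE_iff]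
      intro i hi
      haveI := subsingleton_hd_omega_of_gt R A n ψ hψ Rψ adj d
        (fun p _ j hj => hFib p j (by omega)) i hi
      exact ModuleCat.isZero_of_subsingleton _
    haveI : ((DRing.restrictD (algebraMap R A)).obj
        (Dual2.shriekVia n Rψ (Dual.inD R R))).IsLE (-(d : ℤ)) :=
      RestrPC.isLE_rD (algebraMap R A) _ (-(d : ℤ))
    refine hasTorAmplitudeIn_of_fibres _ (ShP.omega_finiteTorDim R A n ψ hψ Rψ adj) (-(d : ℤ))
      (fun p _ j hj => ?_)
    haveI := TA.hasLBaseChange (Algebra.TensorProduct.includeRight :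
      A →ₐ[R] p.asIdeal.ResidueField ⊗[R] A).toRingHom
    exact (subsingleton_hd_lbc_restrict_iff R A n ψ hψ Rψ adj p.asIdeal.ResidueField j).2
      (hFib p j (by omega))
  · intro h p
    haveI := TA.hasLBaseChange (Algebra.TensorProduct.includeRight :
      A →ₐ[R] p.asIdeal.ResidueField ⊗[R] A).toRingHom
    haveI := TA.hasLBaseChange (algebraMap R p.asIdeal.ResidueField)
    refine (fibre_field_iff R A n ψ hψ Rψ adj p.asIdeal.ResidueField d).2 (fun i hi => ?_)
    refine (subsingleton_hd_lbc_restrict_iff R A n ψ hψ Rψ adj p.asIdeal.ResidueField i).1 ?_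
    have h1 := TAmp_LBaseChange (algebraMap R p.asIdeal.ResidueField) _ _ _ h
    have hGE := h1.isGE
    have hLE := h1.isLE
    rcases lt_or_gt_of_ne hi with hlt | hgt
    · exact ModuleCat.subsingleton_of_isZero (DerivedCategory.isZero_of_isGE _ (-(d : ℤ)) i hlt)
    · exact ModuleCat.subsingleton_of_isZero (DerivedCategory.isZero_of_isLE _ (-(d : ℤ)) i hgt)

omit [IsNoetherianRing A] [Module.Flat R A] in
/-- tor amplitude `[c, c]` of the restriction: concentrated in degree `c` with flat cohomology. -/
theorem torAmp_restrict_iff (K : Dual.D A) (c : ℤ) :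
    DRing.HasTorAmplitudeIn R c c ((DRing.restrictD (algebraMap R A)).obj K) ↔
    (∀ i : ℤ, i ≠ c → Subsingleton (Dual.HD A K i)) ∧
      Module.Flat R (Dual.HD R ((DRing.restrictD (algebraMap R A)).obj K) c) := by
  have e := fun i : ℤ => (ExactDC.homologyIso (RestrPC.Φ (algebraMap R A)) i).app K
  constructor
  · intro h
    refine ⟨fun i hi => ?_, flat_HD_of_hasTorAmplitudeIn _ c h⟩
    have hGE := TAmp.isGE h
    have hLE := TAmp.isLE h
    have hz : IsZero ((homologyFunctor (ModuleCat.{u} R) i).obj
        ((DRing.restrictD (algebraMap R A)).obj K)) := by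
      rcases lt_or_gt_of_ne hi with hlt | hgt
      · exact DerivedCategory.isZero_of_isGE _ c i hlt
      · exact DerivedCategory.isZero_of_isLE _ c i hgt
    have h4 := ModuleCat.subsingleton_of_isZero hz
    have h3 : Subsingleton ((RestrPC.Φ (algebraMap R A)).obj
        ((homologyFunctor (ModuleCat.{u} A) i).obj K)) :=
      @Equiv.subsingleton _ _ (e i).toLinearEquiv.symm.toEquiv h4
    exact h3
  · rintro ⟨hvan, hflat⟩
    have hz : ∀ i : ℤ, i ≠ c → IsZero ((homologyFunctor (ModuleCat.{u} R) i).obj
        ((DRing.restrictD (algebraMap R A)).obj K)) := by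
      intro i hi
      have h2 := hvan i hi
      have h3 : Subsingleton ((RestrPC.Φ (algebraMap R A)).obj
          ((homologyFunctor (ModuleCat.{u} A) i).obj K)) := h2
      have h4 : Subsingleton ((homologyFunctor (ModuleCat.{u} R) i).obj
          ((DRing.restrictD (algebraMap R A)).obj K)) :=
        @Equiv.subsingleton _ _ (e i).toLinearEquiv.toEquiv h3
      exact ModuleCat.isZero_of_subsingleton _
    haveI : ((DRing.restrictD (algebraMap R A)).obj K).IsGE c := by
      rw [DerivedCategory.isGE_iff]
      exact fun i hi => hz i (by omega)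
    haveI : ((DRing.restrictD (algebraMap R A)).obj K).IsLE c := by
      rw [DerivedCategory.isLE_iff]
      exact fun i hi => hz i (by omega)
    obtain ⟨e1⟩ := Bidual.nonempty_iso_single ((DRing.restrictD (algebraMap R A)).obj K) c _
      (LinearEquiv.refl R _)
    let e2 := ((DerivedCategory.singleFunctors (ModuleCat.{u} R)).shiftIso c 0 c
      (by omega)).app (ModuleCat.of R (Dual.HD R ((DRing.restrictD (algebraMap R A)).obj K) c))
    haveI : Module.Flat R (ModuleCat.of R
        (Dual.HD R ((DRing.restrictD (algebraMap R A)).obj K) c)) := hflat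
    have h0 := TAmp_zero_of_flat (ModuleCat.of R
      (Dual.HD R ((DRing.restrictD (algebraMap R A)).obj K) c))
    have h1 : TAmp (c - c) (c - c) (((DRing.restrictD (algebraMap R A)).obj K)⟦c⟧) :=
      (h0.of_iso (e2.symm ≪≫ ((shiftFunctor (Dual.D R) c).mapIso e1).symm)).mono
        (by omega) (by omega)
    exact TAmp.of_shift c h1

end CMFib
end Groth.Agent.Lib.Helper6
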