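import Groth.Agent.Lib.Helper6.ExtOm2

/-! `ω_{B/A}` for `B = A[t_1..t_N]/I` with `Ext^j_P(B,P) = 0` for `j ≠ c` (helper6). -/

set_option autoImplicit false
set_option linter.unusedSectionVars false
set_option linter.style.haveILetI false
universe u
open CategoryTheory CategoryTheory.Limits DerivedCategory Pretriangulated TensorProduct
attribute [local instance] HasDerivedCategory.standard

namespace Groth.Agent.Lib.Helper6
namespace ExtOm

open Groth.Agent.Lib.Helper35 Groth.Agent.Lib.Helper35.TA Groth.Agent.Lib.Helper35.FlatBC LocDual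

section Setup

variable (A : Type u) [CommRing A] (N : ℕ) (I : Ideal (MvPolynomial (Fin N) A))
  (Rψ : Dual.D (MvPolynomial (Fin N) A) ⥤ Dual.D (MvPolynomial (Fin N) A ⧸ I))
  (adj : DRing.restrictD (Ideal.Quotient.mkₐ A I).toRingHom ⊣ Rψ)

include adj in
/-- the comparison with `Ext`. -/
lemma exists_theta (j : ℕ) :
    ∃ θ : Dual.HD (MvPolynomial (Fin N) A ⧸ I)
        (Rψ.obj (Dual.inD (MvPolynomial (Fin N) A) (MvPolynomial (Fin N) A))) (j : ℤ) ≃+
        Abelian.Ext.{u} (ModuleCat.of (MvPolynomial (Fin N) A) (MvPolynomial (Fin N) A ⧸ I))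
          (ModuleCat.of (MvPolynomial (Fin N) A) (MvPolynomial (Fin N) A)) j,
      ∀ (p : MvPolynomial (Fin N) A) (x : Dual.HD (MvPolynomial (Fin N) A ⧸ I)
        (Rψ.obj (Dual.inD (MvPolynomial (Fin N) A) (MvPolynomial (Fin N) A))) (j : ℤ)),
        θ (Ideal.Quotient.mk I p • x) = p • θ x :=
  exists_semilinear_HD_ext (Ideal.Quotient.mkₐ A I).toRingHom adj
    (ModuleCat.of (MvPolynomial (Fin N) A) (MvPolynomial (Fin N) A))
    (ModuleCat.of (MvPolynomial (Fin N) A) (MvPolynomial (Fin N) A ⧸ I)) (quotIso I) j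

variable (c : ℕ)
  (hvan : ∀ j : ℕ, j ≠ c → Subsingleton (Abelian.Ext.{u}
    (ModuleCat.of (MvPolynomial (Fin N) A) (MvPolynomial (Fin N) A ⧸ I))
    (ModuleCat.of (MvPolynomial (Fin N) A) (MvPolynomial (Fin N) A)) j))

include adj hvan in
/-- vanishing of the cohomology of `Rψ(P)` outside degree `c`. -/
lemma subsingleton_HD (i : ℤ) (hi : i ≠ (c : ℤ)) :
    Subsingleton (Dual.HD (MvPolynomial (Fin N) A ⧸ I)
      (Rψ.obj (Dual.inD (MvPolynomial (Fin N) A) (MvPolynomial (Fin N) A))) i) := by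
  by_cases h0 : i < 0
  · refine RestrLin.subsingleton_HD_rightAdjoint (Ideal.Quotient.mkₐ A I).toRingHom adj
      (Dual.inD (MvPolynomial (Fin N) A) (MvPolynomial (Fin N) A)) 0 (fun k hk => ?_) i h0
    exact ModuleCat.subsingleton_of_isZero (DerivedCategory.isZero_of_isGE _ 0 _ hk)
  · obtain ⟨j, rfl⟩ : ∃ j : ℕ, i = (j : ℤ) := ⟨i.toNat, by omega⟩
    obtain ⟨θ, -⟩ := exists_theta A N I Rψ adj j
    have := hvan j (by
      intro h
      exact hi (by rw [h]))
    exact θ.toEquiv.subsingleton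

include adj hvan in
/-- `Rψ(P)` is its `c`-th cohomology in degree `c`. -/
lemma nonempty_iso_single :
    Nonempty (Rψ.obj (Dual.inD (MvPolynomial (Fin N) A) (MvPolynomial (Fin N) A)) ≅
      (DerivedCategory.singleFunctor (ModuleCat.{u} (MvPolynomial (Fin N) A ⧸ I)) (c : ℤ)).obj
        (ModuleCat.of (MvPolynomial (Fin N) A ⧸ I)
          (Dual.HD (MvPolynomial (Fin N) A ⧸ I)
            (Rψ.obj (Dual.inD (MvPolynomial (Fin N) A) (MvPolynomial (Fin N) A))) (c : ℤ)))) := by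
  haveI : (Rψ.obj (Dual.inD (MvPolynomial (Fin N) A) (MvPolynomial (Fin N) A))).IsGE (c : ℤ) := by
    rw [DerivedCategory.isGE_iff]
    intro i hi
    have := subsingleton_HD A N I Rψ adj c hvan i (by omega)
    exact ModuleCat.isZero_of_subsingleton _
  haveI : (Rψ.obj (Dual.inD (MvPolynomial (Fin N) A) (MvPolynomial (Fin N) A))).IsLE (c : ℤ) := by
    rw [DerivedCategory.isLE_iff]
    intro i hi
    have := subsingleton_HD A N I Rψ adj c hvan i (by omega)
    exact ModuleCat.isZero_of_subsingleton _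
  exact Bidual.nonempty_iso_single _ (c : ℤ) _ (LinearEquiv.refl _ _)

variable [DRing.HasLBaseChange (algebraMap A (MvPolynomial (Fin N) A))]

include adj hvan in
/-- `ω_{B/A} ≅ H^c(Rψ P)[N - c]`. -/
lemma nonempty_omega_iso_single (n : ℤ) (hn : -(c : ℤ) + (N : ℤ) = n) :
    Nonempty (Dual2.shriekVia N Rψ (Dual.inD A A) ≅
      (Dual.inD (MvPolynomial (Fin N) A ⧸ I)
        (Dual.HD (MvPolynomial (Fin N) A ⧸ I)
          (Rψ.obj (Dual.inD (MvPolynomial (Fin N) A) (MvPolynomial (Fin N) A))) (c : ℤ)))⟦n⟧) := by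
  obtain ⟨eU⟩ := FlatPC.nonempty_lbc_unit_iso (A := A) (B := MvPolynomial (Fin N) A)
  obtain ⟨e1⟩ := nonempty_iso_single A N I Rψ adj c hvan
  let e2 := ((DerivedCategory.singleFunctors
    (ModuleCat.{u} (MvPolynomial (Fin N) A ⧸ I))).shiftIso (-(c : ℤ)) (c : ℤ) 0 (by omega)).app
      (ModuleCat.of (MvPolynomial (Fin N) A ⧸ I)
        (Dual.HD (MvPolynomial (Fin N) A ⧸ I)
          (Rψ.obj (Dual.inD (MvPolynomial (Fin N) A) (MvPolynomial (Fin N) A))) (c : ℤ)))
  exact ⟨(shiftFunctor _ (N : ℤ)).mapIso (Rψ.mapIso eU ≪≫ e1 ≪≫ e2.symm) ≪≫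
    ((shiftFunctorAdd' (Dual.D (MvPolynomial (Fin N) A ⧸ I)) (-(c : ℤ)) (N : ℤ) n hn).app _).symm⟩

end Setup

end ExtOm
end Groth.Agent.Lib.Helper6
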