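import Groth.Agent.Lib.Helper6.CMFib7
import Groth.Agent.Lib.Helper6.ExtOm3
import Groth.Agent.Lib.Helper82.CMPoly

/-! Cohen–Macaulay fibres of pure dimension `n` iff `Ext^j_P(B,P) = 0` for `j ≠ N - n` and
`Ext^{N-n}_P(B,P)` is flat over the base (helper6). -/

set_option autoImplicit false
set_option linter.unusedSectionVars false
set_option linter.style.haveILetI false
universe u
open CategoryTheory CategoryTheory.Limits DerivedCategory Pretriangulated
open scoped TensorProduct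
attribute [local instance] HasDerivedCategory.standard

namespace Groth.Agent.Lib.Helper6
namespace CMFib

open Groth.Agent.Lib.Helper90.Shriek Groth.Agent.Lib.Helper35 Groth.Agent.Lib.Helper35.TA

section Transfer

/-- the Cohen–Macaulay and pure dimension condition is invariant under ring isomorphisms. -/
theorem cm_pure_of_ringEquiv {S T : Type u} [CommRing S] [CommRing T] (e : S ≃+* T) (n : ℕ)
    (h : LocCoh.IsCohenMacaulayRing S ∧ ∀ Q : PrimeSpectrum S, Q.asIdeal ∈ minimalPrimes S →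
      Order.coheight Q = (n : ℕ∞)) :
    LocCoh.IsCohenMacaulayRing T ∧ ∀ Q : PrimeSpectrum T, Q.asIdeal ∈ minimalPrimes T →
      Order.coheight Q = (n : ℕ∞) := by
  refine ⟨Groth.Agent.Lib.Helper82.CMPoly.isCohenMacaulayRing_of_ringEquiv e h.1, fun Q hQ => ?_⟩
  let f : PrimeSpectrum S ≃o PrimeSpectrum T := PrimeSpectrum.comapEquiv e
  have hQ' : IsMin Q := PrimeSpectrum.isMin_iff.2 hQ
  have h1 : IsMin (f.symm Q) := by
    intro y hy
    have h2 : f y ≤ Q := by
      have := f.monotone hy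
      rwa [f.apply_symm_apply] at this
    have h3 := hQ' h2
    have := f.symm.monotone h3
    rwa [f.symm_apply_apply] at this
  have h2 := h.2 (f.symm Q) (PrimeSpectrum.isMin_iff.1 h1)
  rw [← h2, ← Order.coheight_orderIso f (f.symm Q), f.apply_symm_apply]

end Transfer

section SemiLin

variable {A : Type u} [CommRing A]

theorem flat_iff_of_semilinear {M M' : Type u} [AddCommMonoid M] [Module A M] [AddCommMonoid M']
    [Module A M'] (θ : M ≃+ M') (hθ : ∀ (a : A) (x : M), θ (a • x) = a • θ x) :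
    Module.Flat A M ↔ Module.Flat A M' := by
  let l : M ≃ₗ[A] M' := { θ with map_smul' := hθ }
  exact ⟨fun h => Module.Flat.of_linearEquiv l.symm, fun h => Module.Flat.of_linearEquiv l⟩

end SemiLin

section Main

variable (A : Type u) [CommRing A] [IsNoetherianRing A] (N n : ℕ) (hnN : n ≤ N)
  (I : Ideal (MvPolynomial (Fin N) A)) [Module.Flat A (MvPolynomial (Fin N) A ⧸ I)]

include hnN in
theorem main :
    (∀ p : PrimeSpectrum A, LocCoh.IsCohenMacaulayRing
        ((MvPolynomial (Fin N) A ⧸ I) ⊗[A] p.asIdeal.ResidueField) ∧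
      ∀ Q : PrimeSpectrum ((MvPolynomial (Fin N) A ⧸ I) ⊗[A] p.asIdeal.ResidueField),
        Q.asIdeal ∈ minimalPrimes ((MvPolynomial (Fin N) A ⧸ I) ⊗[A] p.asIdeal.ResidueField) →
          Order.coheight Q = (n : ℕ∞)) ↔
    ((∀ j : ℕ, j ≠ N - n → Subsingleton (Abelian.Ext.{u}
        (ModuleCat.of (MvPolynomial (Fin N) A) (MvPolynomial (Fin N) A ⧸ I))
        (ModuleCat.of (MvPolynomial (Fin N) A) (MvPolynomial (Fin N) A)) j)) ∧
      Module.Flat A (RestrictScalars A (MvPolynomial (Fin N) A) (Abelian.Ext.{u}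
        (ModuleCat.of (MvPolynomial (Fin N) A) (MvPolynomial (Fin N) A ⧸ I))
        (ModuleCat.of (MvPolynomial (Fin N) A) (MvPolynomial (Fin N) A)) (N - n)))) := by
  obtain ⟨Rψ, ⟨adj⟩⟩ := exists_rightAdjoint_restrictD (Ideal.Quotient.mkₐ A I).toRingHom
  haveI := TA.hasLBaseChange (algebraMap A (MvPolynomial (Fin N) A))
  have hψ : Function.Surjective (Ideal.Quotient.mkₐ A I) := Ideal.Quotient.mkₐ_surjective A I
  -- step 1: swap the tensor factors
  have hswap : (∀ p : PrimeSpectrum A, LocCoh.IsCohenMacaulayRing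
        ((MvPolynomial (Fin N) A ⧸ I) ⊗[A] p.asIdeal.ResidueField) ∧
      ∀ Q : PrimeSpectrum ((MvPolynomial (Fin N) A ⧸ I) ⊗[A] p.asIdeal.ResidueField),
        Q.asIdeal ∈ minimalPrimes ((MvPolynomial (Fin N) A ⧸ I) ⊗[A] p.asIdeal.ResidueField) →
          Order.coheight Q = (n : ℕ∞)) ↔
      (∀ p : PrimeSpectrum A, LocCoh.IsCohenMacaulayRing
        (p.asIdeal.ResidueField ⊗[A] (MvPolynomial (Fin N) A ⧸ I)) ∧
      ∀ Q : PrimeSpectrum (p.asIdeal.ResidueField ⊗[A] (MvPolynomial (Fin N) A ⧸ I)),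
        Q.asIdeal ∈ minimalPrimes (p.asIdeal.ResidueField ⊗[A] (MvPolynomial (Fin N) A ⧸ I)) →
          Order.coheight Q = (n : ℕ∞)) := by
    constructor
    · intro h p
      exact cm_pure_of_ringEquiv (Algebra.TensorProduct.comm A (MvPolynomial (Fin N) A ⧸ I)
        p.asIdeal.ResidueField).toRingEquiv n (h p)
    · intro h p
      exact cm_pure_of_ringEquiv (Algebra.TensorProduct.comm A p.asIdeal.ResidueField
        (MvPolynomial (Fin N) A ⧸ I)).toRingEquiv n (h p)
  rw [hswap, cm_fibres_iff_torAmp A (MvPolynomial (Fin N) A ⧸ I) N (Ideal.Quotient.mkₐ A I)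
    hψ Rψ adj n, torAmp_restrict_iff A (MvPolynomial (Fin N) A ⧸ I)]
  -- step 2: cohomology of `ω` versus `Ext`
  obtain ⟨eU⟩ := FlatPC.nonempty_lbc_unit_iso (A := A) (B := MvPolynomial (Fin N) A)
  have eH : ∀ (i k : ℤ) (hik : (N : ℤ) + i = k),
      Dual.HD (MvPolynomial (Fin N) A ⧸ I) (Dual2.shriekVia N Rψ (Dual.inD A A)) i
        ≃ₗ[MvPolynomial (Fin N) A ⧸ I]
      Dual.HD (MvPolynomial (Fin N) A ⧸ I)
        (Rψ.obj (Dual.inD (MvPolynomial (Fin N) A) (MvPolynomial (Fin N) A))) k := fun i k hik =>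
    ((homologyFunctor (ModuleCat.{u} (MvPolynomial (Fin N) A ⧸ I)) i).mapIso
      ((shiftFunctor _ (N : ℤ)).mapIso (Rψ.mapIso eU))).toLinearEquiv.trans
    (((homologyFunctor (ModuleCat.{u} (MvPolynomial (Fin N) A ⧸ I)) 0).shiftIso (N : ℤ) i k
      hik).app _).toLinearEquiv
  have hNn : ((N - n : ℕ) : ℤ) = (N : ℤ) - (n : ℤ) := Nat.cast_sub hnN
  have hvan_iff : (∀ i : ℤ, i ≠ -(n : ℤ) → Subsingleton (Dual.HD (MvPolynomial (Fin N) A ⧸ I)
        (Dual2.shriekVia N Rψ (Dual.inD A A)) i)) ↔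
      (∀ j : ℕ, j ≠ N - n → Subsingleton (Abelian.Ext.{u}
        (ModuleCat.of (MvPolynomial (Fin N) A) (MvPolynomial (Fin N) A ⧸ I))
        (ModuleCat.of (MvPolynomial (Fin N) A) (MvPolynomial (Fin N) A)) j)) := by
    constructor
    · intro h j hj
      obtain ⟨θ, -⟩ := ExtOm.exists_theta A N I Rψ adj j
      have h1 := h ((j : ℤ) - N) (by
        intro hcon
        apply hj
        have : (j : ℤ) = ((N - n : ℕ) : ℤ) := by rw [hNn]; omega
        exact_mod_cast this)
      have h2 : Subsingleton (Dual.HD (MvPolynomial (Fin N) A ⧸ I)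
          (Rψ.obj (Dual.inD (MvPolynomial (Fin N) A) (MvPolynomial (Fin N) A))) (j : ℤ)) :=
        (eH ((j : ℤ) - N) (j : ℤ) (by ring)).symm.toEquiv.subsingleton
      exact θ.symm.toEquiv.subsingleton
    · intro h i hi
      have h1 := ExtOm.subsingleton_HD A N I Rψ adj (N - n) h ((N : ℤ) + i) (by
        rw [hNn]
        omega)
      exact (eH i ((N : ℤ) + i) rfl).toEquiv.subsingleton
  rw [hvan_iff]
  -- step 3: flatness
  have hflat_iff : Module.Flat A (Dual.HD A ((DRing.restrictD (algebraMap A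
        (MvPolynomial (Fin N) A ⧸ I))).obj (Dual2.shriekVia N Rψ (Dual.inD A A))) (-(n : ℤ))) ↔
      Module.Flat A (RestrictScalars A (MvPolynomial (Fin N) A) (Abelian.Ext.{u}
        (ModuleCat.of (MvPolynomial (Fin N) A) (MvPolynomial (Fin N) A ⧸ I))
        (ModuleCat.of (MvPolynomial (Fin N) A) (MvPolynomial (Fin N) A)) (N - n))) := by
    obtain ⟨θ, hθ⟩ := ExtOm.exists_theta A N I Rψ adj (N - n)
    let l1 := ((ExactDC.homologyIso (RestrPC.Φ (algebraMap A (MvPolynomial (Fin N) A ⧸ I)))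
      (-(n : ℤ))).app (Dual2.shriekVia N Rψ (Dual.inD A A))).toLinearEquiv
    let l2 := eH (-(n : ℤ)) ((N - n : ℕ) : ℤ) (by rw [hNn]; ring)
    let Θ : Dual.HD A ((DRing.restrictD (algebraMap A (MvPolynomial (Fin N) A ⧸ I))).obj
        (Dual2.shriekVia N Rψ (Dual.inD A A))) (-(n : ℤ)) ≃+
        RestrictScalars A (MvPolynomial (Fin N) A) (Abelian.Ext.{u}
          (ModuleCat.of (MvPolynomial (Fin N) A) (MvPolynomial (Fin N) A ⧸ I))
          (ModuleCat.of (MvPolynomial (Fin N) A) (MvPolynomial (Fin N) A)) (N - n)) :=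
      l1.toAddEquiv.trans (l2.toAddEquiv.trans (θ.trans
        (RestrictScalars.addEquiv A (MvPolynomial (Fin N) A) _).symm))
    refine flat_iff_of_semilinear (A := A) (M' := RestrictScalars A (MvPolynomial (Fin N) A)
      (Abelian.Ext.{u}
        (ModuleCat.of (MvPolynomial (Fin N) A) (MvPolynomial (Fin N) A ⧸ I))
        (ModuleCat.of (MvPolynomial (Fin N) A) (MvPolynomial (Fin N) A)) (N - n))) Θ
      (fun a x => ?_)
    change (RestrictScalars.addEquiv A (MvPolynomial (Fin N) A) _).symm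
      (θ (l2 (l1 (a • x)))) = a • (RestrictScalars.addEquiv A (MvPolynomial (Fin N) A) _).symm
      (θ (l2 (l1 x)))
    rw [l1.map_smul]
    have h1 : l2 (a • l1 x) = Ideal.Quotient.mk I (MvPolynomial.C a) • l2 (l1 x) := by
      have : (a • l1 x : _) = (Ideal.Quotient.mk I (MvPolynomial.C a)) •
          (show Dual.HD (MvPolynomial (Fin N) A ⧸ I) (Dual2.shriekVia N Rψ (Dual.inD A A))
            (-(n : ℤ)) from l1 x) := rfl
      rw [this]
      exact l2.map_smul _ _
    rw [h1, hθ, RestrictScalars.smul_def, AddEquiv.apply_symm_apply]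
    rfl
  rw [hflat_iff]

end Main

end CMFib
end Groth.Agent.Lib.Helper6
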