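import Mathlib
import Groth.Prelude.Def_DRing2
import Groth.Agent.Lib.Helper6.RestrPC

/-! Coherent rings and pseudo-coherence (helper6). -/

set_option autoImplicit false
universe u

open CategoryTheory Limits Pretriangulated DerivedCategory ZeroObject

namespace Groth.Agent.Lib.Helper6
namespace Coh

section Algebra

variable (R : Type u) [CommRing R]

/-- every finitely generated submodule of `M` is finitely presented. -/
def CohMod (M : Type u) [AddCommGroup M] [Module R M] : Prop :=
  ∀ N : Submodule R M, N.FG → Module.FinitePresentation R N

variable {R}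

lemma cohMod_of_equiv {M M' : Type u} [AddCommGroup M] [Module R M] [AddCommGroup M'] [Module R M']
    (e : M ≃ₗ[R] M') (h : CohMod R M) : CohMod R M' := by
  intro N hN
  have h1 : (N.comap e.toLinearMap).FG := by
    rw [Submodule.comap_equiv_eq_map_symm]
    exact hN.map _
  have := h _ h1
  exact Module.FinitePresentation.of_equiv (e.submoduleMap (N.comap e.toLinearMap) |>.trans
    (LinearEquiv.ofEq _ _ (by
      ext x
      simp only [Submodule.mem_map, Submodule.mem_comap]
      constructor
      · rintro ⟨y, hy, rfl⟩
        exact hy
      · intro hx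
        exact ⟨e.symm x, by simpa using hx, by simp⟩)))

lemma cohMod_of_subsingleton (M : Type u) [AddCommGroup M] [Module R M] [Subsingleton M] :
    CohMod R M := by
  intro N _
  infer_instance

lemma cohMod_prod {M M' : Type u} [AddCommGroup M] [Module R M] [AddCommGroup M'] [Module R M']
    (h : CohMod R M) (h' : CohMod R M') : CohMod R (M × M') := by
  intro N hN
  have hNfin : Module.Finite R N := Module.Finite.iff_fg.2 hN
  -- the projection to `M'`
  let π : N →ₗ[R] M' := (LinearMap.snd R M M').comp N.subtype
  have hI : (LinearMap.range π).FG := by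
    rw [LinearMap.range_eq_map]
    exact (Module.Finite.fg_top).map π
  have hIfp : Module.FinitePresentation R (LinearMap.range π) := h' _ hI
  let l : N →ₗ[R] LinearMap.range π := π.rangeRestrict
  have hl : Function.Surjective l := π.surjective_rangeRestrict
  have hker : (LinearMap.ker l).FG := Module.FinitePresentation.fg_ker l hl
  -- kernel injects into `M`
  let ρ : LinearMap.ker l →ₗ[R] M :=
    ((LinearMap.fst R M M').comp N.subtype).comp (LinearMap.ker l).subtype
  have hρ : Function.Injective ρ := by
    rw [injective_iff_map_eq_zero]
    rintro ⟨⟨⟨a, b⟩, hab⟩, hk⟩ h0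
    have h1 : a = 0 := h0
    have h2 : b = 0 := by
      have := LinearMap.mem_ker.1 hk
      have := congrArg Subtype.val this
      exact this
    subst h1 h2
    rfl
  have hJ : (LinearMap.range ρ).FG := by
    rw [LinearMap.range_eq_map]
    have : Module.Finite R (LinearMap.ker l) := Module.Finite.iff_fg.2 hker
    exact (Module.Finite.fg_top).map ρ
  have hJfp : Module.FinitePresentation R (LinearMap.range ρ) := h _ hJ
  have e := LinearEquiv.ofInjective ρ hρ
  have hkfp : Module.FinitePresentation R (LinearMap.ker l) := by
    have h5 := (LinearEquiv.finitePresentation_iff (M := LinearMap.ker l)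
      (N := LinearMap.range ρ) e).2 hJfp
    exact h5
  exact Module.finitePresentation_of_ker l hl

lemma cohMod_pi (h : CohMod R R) (n : ℕ) : CohMod R (Fin n → R) := by
  induction n with
  | zero => exact cohMod_of_subsingleton _
  | succ n ih =>
    exact cohMod_of_equiv (Fin.consLinearEquiv R (fun _ : Fin (n + 1) => R)) (cohMod_prod h ih)

lemma cohMod_self (hR : ∀ I : Ideal R, I.FG → Module.FinitePresentation R I) : CohMod R R := hR

end Algebra


attribute [local instance] HasDerivedCategory.standard

open MPC RestrPC Groth.Agent.Lib.Helper35.KL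

variable {R : Type u} [CommRing R]

/-- over a coherent ring, finitely presented modules are `(1 - k)`-pseudo-coherent for all `k`. -/
lemma isPC_of_fp_aux (hR : CohMod R R) (k : ℕ) :
    ∀ (M : ModuleCat.{u} R), Module.FinitePresentation R M →
      DRing.IsPseudoCoherent R (1 - k) ((DerivedCategory.singleFunctor (ModuleCat.{u} R) 0).obj M) := by
  induction k with
  | zero =>
    intro M _
    exact isPC_single_of_pos M _ (by simp)
  | succ k ih =>
    intro M hM
    obtain ⟨n, f, hf⟩ := Module.Finite.exists_fin' R M
    have hker : (LinearMap.ker f).FG := Module.FinitePresentation.fg_ker f hf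
    have hkfp : Module.FinitePresentation R (LinearMap.ker f) := cohMod_pi hR n _ hker
    have hS := LinearMap.shortExact_shortComplexKer hf
    have hT := hS.singleTriangle_distinguished
    have h1 : DRing.IsPseudoCoherent R (1 - ((k + 1 : ℕ) : ℤ) + 1)
        ((DerivedCategory.singleFunctor (ModuleCat.{u} R) 0).obj
          (ModuleCat.of R (LinearMap.ker f))) := by
      have := ih (ModuleCat.of R (LinearMap.ker f)) hkfp
      refine isPC_of_le ?_ this
      push_cast
      omega
    have h2 : DRing.IsPseudoCoherent R (1 - ((k + 1 : ℕ) : ℤ))
        ((DerivedCategory.singleFunctor (ModuleCat.{u} R) 0).obj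
          (ModuleCat.of R (Fin n → R))) :=
      isPC_of_FF (FF_single (ModuleCat.of R (Fin n → R))) _
    exact (isPC_triangle _ hT _).1 h1 h2

lemma allPC_of_fp (hR : CohMod R R) (M : ModuleCat.{u} R) (hM : Module.FinitePresentation R M) :
    AllPC M := by
  intro m
  refine isPC_of_le ?_ (isPC_of_fp_aux hR (1 - m).toNat M hM)
  omega


/-- if finitely presented modules are all-pc, then the cohomology of an `m`-pseudo-coherent object
is finitely presented above `m` and finite in degree `m`. -/
theorem homology_of_isPC_aux
    (hfp : ∀ M : ModuleCat.{u} R, Module.FinitePresentation R M → AllPC M) (n : ℕ) :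
    ∀ (K : Dual.D R) (t m : ℤ), t - m + 1 ≤ n → K.IsLE t → DRing.IsPseudoCoherent R m K →
      Module.Finite R ((homologyFunctor (ModuleCat.{u} R) m).obj K) ∧
        ∀ i : ℤ, m < i → Module.FinitePresentation R ((homologyFunctor (ModuleCat.{u} R) i).obj K) := by
  have hzero : ∀ (K : Dual.D R) (t i : ℤ), K.IsLE t → t < i →
      Subsingleton ((homologyFunctor (ModuleCat.{u} R) i).obj K) := fun K t i _ hi =>
    ModuleCat.subsingleton_of_isZero (isZero_of_isLE K t i hi)
  induction n with
  | zero =>
    intro K t m hn hK _
    refine ⟨?_, fun i hi => ?_⟩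
    · have := hzero K t m hK (by omega)
      infer_instance
    · have := hzero K t i hK (by omega)
      infer_instance
  | succ n ih =>
    intro K t m hn hK h
    by_cases htm : t < m
    · refine ⟨?_, fun i hi => ?_⟩
      · have := hzero K t m hK (by omega)
        infer_instance
      · have := hzero K t i hK (by omega)
        infer_instance
    by_cases htm' : t = m
    · subst htm'
      refine ⟨finite_top K t h, fun i hi => ?_⟩
      have := hzero K t i hK (by omega)
      infer_instance
    have hlt : m < t := by omega
    have hT := TStructure.t.triangleLTGE_distinguished t K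
    have hZG : TStructure.t.IsGE ((TStructure.t.truncGE t).obj K) t := inferInstance
    have hZL : TStructure.t.IsLE ((TStructure.t.truncGE t).obj K) t := inferInstance
    obtain ⟨H, ⟨e0⟩⟩ := exists_iso_singleFunctor_obj_of_isGE_of_isLE
      ((TStructure.t.truncGE t).obj K) t
    have hiso0 := isIso_homology_map_truncGEπ' K t t le_rfl
    let i0 : (homologyFunctor (ModuleCat.{u} R) t).obj K ≅ H :=
      asIso ((homologyFunctor (ModuleCat.{u} R) t).map ((TStructure.t.truncGEπ t).app K)) ≪≫
        (homologyFunctor (ModuleCat.{u} R) t).mapIso e0 ≪≫
        (DerivedCategory.singleFunctorCompHomologyFunctorIso (ModuleCat.{u} R) t).app H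
    have htop : Module.FinitePresentation R ((homologyFunctor (ModuleCat.{u} R) t).obj K) :=
      finitePresentation_top' K (t - 1) t (by omega) (isPC_of_le (by omega) h)
    have hH : Module.FinitePresentation R H :=
      Module.FinitePresentation.of_equiv i0.toLinearEquiv
    have h3 : DRing.IsPseudoCoherent R (m - 1) ((TStructure.t.truncGE t).obj K) :=
      isPC_of_iso e0.symm (isPC_single_degree H t (m - 1) (hfp H hH _))
    have h2 : DRing.IsPseudoCoherent R (m - 1 + 1) K := isPC_of_le (by omega) h
    have h1 : DRing.IsPseudoCoherent R m ((TStructure.t.truncLT t).obj K) :=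
      isPC_of_le (by omega) ((isPC_triangle _ hT (m - 1)).2.2 h2 h3)
    have hXL : TStructure.t.IsLE ((TStructure.t.truncLT t).obj K) (t - 1) :=
      TStructure.t.isLE_truncLT_obj K t (t - 1)
    obtain ⟨hfin, hfpres⟩ := ih _ (t - 1) m (by omega) hXL h1
    refine ⟨?_, fun i hi => ?_⟩
    · have := isIso_homology_map_truncLTι' K t m hlt
      exact Module.Finite.equiv (asIso ((homologyFunctor (ModuleCat.{u} R) m).map
        ((TStructure.t.truncLTι t).app K))).toLinearEquiv
    · by_cases hit : i < t
      · have := isIso_homology_map_truncLTι' K t i hit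
        have := hfpres i hi
        exact Module.FinitePresentation.of_equiv (asIso ((homologyFunctor (ModuleCat.{u} R) i).map
          ((TStructure.t.truncLTι t).app K))).toLinearEquiv
      · by_cases hit' : i = t
        · subst hit'
          exact htop
        · have := hzero K t i hK (by omega)
          infer_instance

theorem homology_of_isPC
    (hfp : ∀ M : ModuleCat.{u} R, Module.FinitePresentation R M → AllPC M)
    (K : Dual.D R) (m : ℤ) (h : DRing.IsPseudoCoherent R m K) :
    Module.Finite R ((homologyFunctor (ModuleCat.{u} R) m).obj K) ∧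
      ∀ i : ℤ, m < i → Module.FinitePresentation R ((homologyFunctor (ModuleCat.{u} R) i).obj K) := by
  obtain ⟨t, ht⟩ := Resol.exists_isLE_of_isPC h
  exact homology_of_isPC_aux hfp (t - m + 1).toNat K t m (by omega) ht h

/-- converse: bounded above, `H^m` finite, `H^i` f.p. for `i > m` implies `m`-pseudo-coherent. -/
theorem isPC_of_homology_fp
    (hfp : ∀ M : ModuleCat.{u} R, Module.FinitePresentation R M → AllPC M)
    (K : Dual.D R) (b m : ℤ) [K.IsLE b]
    (hm : Module.Finite R ((homologyFunctor (ModuleCat.{u} R) m).obj K))
    (hi : ∀ i : ℤ, m < i →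
      Module.FinitePresentation R ((homologyFunctor (ModuleCat.{u} R) i).obj K)) :
    DRing.IsPseudoCoherent R m K := by
  refine isPC_of_homology K b m (fun i => ?_)
  by_cases h1 : i < m
  · exact isPC_single_of_pos _ _ (by omega)
  · by_cases h2 : i = m
    · subst h2
      have : DRing.IsPseudoCoherent R 0 ((DerivedCategory.singleFunctor (ModuleCat.{u} R) 0).obj
          ((homologyFunctor (ModuleCat.{u} R) i).obj K)) := isPC_zero_single_of_finite _
      exact isPC_of_le (by omega) this
    · exact hfp _ (hi i (by omega)) _

end Coh
end Groth.Agent.Lib.Helper6
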