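import Mathlib
import Groth.Agent.Lib.Helper6.DerivedAdj0

/-!
# Derived adjunction on bounded below derived categories (helper6)

* `DerivedAdj.adjHomotopyCategory` (in `DerivedAdj0`): an adjunction of additive functors induces an
  adjunction between the functors induced on homotopy categories.
* `DerivedAdj.adjPlus`: the same on `HomotopyCategory.Plus`.
* `DerivedAdj.quasiIso_isInvertedBy`: an exact functor preserves quasi-isomorphisms (Plus version).
* `DerivedAdj.derived_adjunction_plus`: for `L ⊣ R` with `L` exact, `RL ⊣ RR` on `D⁺`.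
-/

set_option autoImplicit false
set_option linter.unusedSectionVars false

universe w v u
open CategoryTheory CategoryTheory.Limits

namespace Groth.Agent.Lib.Helper6
namespace DerivedAdj

section Plus

variable {A B : Type*} [Category* A] [Category* B] [Abelian A] [Abelian B]
  {L : A ⥤ B} {R : B ⥤ A} (adj : L ⊣ R) [L.Additive] [R.Additive]

/-- The adjunction on bounded below homotopy categories. -/
noncomputable def adjPlus : L.mapHomotopyCategoryPlus ⊣ R.mapHomotopyCategoryPlus :=
  (adjHomotopyCategory adj (ComplexShape.up ℤ)).restrictFullyFaithful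
    (HomotopyCategory.Plus.fullyFaithfulι A) (HomotopyCategory.Plus.fullyFaithfulι B)
    (ObjectProperty.liftCompιIso _ _ _).symm (ObjectProperty.liftCompιIso _ _ _).symm

end Plus

section Main

variable {A B : Type u} [Category.{v} A] [Category.{v} B]
    [Abelian A] [Abelian B] [HasDerivedCategory.{w} A] [HasDerivedCategory.{w} B]

/-- An exact functor preserves quasi-isomorphisms of bounded below complexes. -/
lemma quasiIso_isInvertedBy (L : A ⥤ B) [L.Additive] [PreservesFiniteLimits L]
    [PreservesFiniteColimits L] :
    (HomotopyCategory.Plus.quasiIso A).IsInvertedBy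
      (L.mapHomotopyCategoryPlus ⋙ DerivedCategory.Plus.Qh) := by
  intro X Y f hf
  refine Localization.inverts DerivedCategory.Plus.Qh (HomotopyCategory.Plus.quasiIso B) _ ?_
  rw [HomotopyCategory.Plus.quasiIso_iff] at hf ⊢
  change HomotopyCategory.quasiIso B _ ((L.mapHomotopyCategory (ComplexShape.up ℤ)).map f.hom)
  generalize f.hom = g at hf
  generalize X.obj = K at g hf
  generalize Y.obj = K' at g hf
  obtain ⟨K, rfl⟩ := HomotopyCategory.quotient_obj_surjective K
  obtain ⟨K', rfl⟩ := HomotopyCategory.quotient_obj_surjective K'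
  obtain ⟨g, rfl⟩ := (HomotopyCategory.quotient A (ComplexShape.up ℤ)).map_surjective g
  rw [HomotopyCategory.quotient_map_mem_quasiIso_iff] at hf
  have : QuasiIso g := hf
  exact (HomotopyCategory.quotient_map_mem_quasiIso_iff
    ((L.mapHomologicalComplex (ComplexShape.up ℤ)).map g)).mpr
    (HomologicalComplex.quasiIso_map_of_preservesHomology _ _)

variable [EnoughInjectives A] [EnoughInjectives B] {L : A ⥤ B} {R : B ⥤ A} (adj : L ⊣ R)
    [L.Additive] [R.Additive] [PreservesFiniteLimits L] [PreservesFiniteColimits L]

include adj in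
theorem derived_adjunction_plus :
    Nonempty (L.rightDerivedFunctorPlus ⊣ R.rightDerivedFunctorPlus) := by
  have hG := quasiIso_isInvertedBy (A := A) (B := B) L
  have hiso : IsIso L.rightDerivedFunctorPlusUnit :=
    Functor.isIso_of_isRightDerivedFunctor_of_inverts L.rightDerivedFunctorPlus
      L.rightDerivedFunctorPlusUnit hG
  let e : DerivedCategory.Plus.Qh ⋙ L.rightDerivedFunctorPlus ≅
      L.mapHomotopyCategoryPlus ⋙ DerivedCategory.Plus.Qh :=
    (asIso L.rightDerivedFunctorPlusUnit).symm
  have i1 : L.rightDerivedFunctorPlus.IsLeftDerivedFunctor e.hom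
      (HomotopyCategory.Plus.quasiIso A) :=
    Functor.isLeftDerivedFunctor_of_inverts (HomotopyCategory.Plus.quasiIso A) _ e
  let e2 : DerivedCategory.Plus.Qh ⋙ (L.rightDerivedFunctorPlus ⋙ R.rightDerivedFunctorPlus) ≅
      (L.mapHomotopyCategoryPlus ⋙ DerivedCategory.Plus.Qh) ⋙ R.rightDerivedFunctorPlus :=
    (Functor.associator _ _ _).symm ≪≫ Functor.isoWhiskerRight e R.rightDerivedFunctorPlus
  have i2 : (L.rightDerivedFunctorPlus ⋙ R.rightDerivedFunctorPlus).IsLeftDerivedFunctor
      ((Functor.associator _ _ _).inv ≫ Functor.whiskerRight e.hom R.rightDerivedFunctorPlus)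
      (HomotopyCategory.Plus.quasiIso A) :=
    Functor.isLeftDerivedFunctor_of_inverts (HomotopyCategory.Plus.quasiIso A) _ e2
  have hder : (HomotopyCategory.Plus.localizerMorphism B).Derives
      ((R.mapHomotopyCategoryPlus ⋙ DerivedCategory.Plus.Qh) ⋙ L.rightDerivedFunctorPlus) := by
    intro X Y f hf
    have : IsIso f := hf
    infer_instance
  have i3 : (R.rightDerivedFunctorPlus ⋙ L.rightDerivedFunctorPlus).IsRightDerivedFunctor
      (Functor.whiskerRight R.rightDerivedFunctorPlusUnit L.rightDerivedFunctorPlus ≫
        (Functor.associator _ _ _).hom) (HomotopyCategory.Plus.quasiIso B) := by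
    apply hder.isRightDerivedFunctor_of_isIso
    intro X₁
    simp only [NatTrans.comp_app, Functor.whiskerRight_app, Functor.associator_hom_app,
      Category.comp_id]
    infer_instance
  exact ⟨(adjPlus adj).derived (HomotopyCategory.Plus.quasiIso A) (HomotopyCategory.Plus.quasiIso B)
    e.hom R.rightDerivedFunctorPlusUnit⟩

end Main

end DerivedAdj
end Groth.Agent.Lib.Helper6
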