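import Mathlib
import Groth.Prelude.Def_SixF1
import Groth.Agent.S12541
import Groth.Agent.S6624

/-!
# Composition of bounded-below right derived functors (helper6)

If `F : A ⥤ B` carries injectives to injectives, then for `θ : H ≅ F ⋙ G` the canonical morphism
`EtSix.rPlusDesc₂ θ.hom : R⁺H ⟶ R⁺F ⋙ R⁺G` is an isomorphism.
-/

set_option autoImplicit false

universe w v u
open CategoryTheory CategoryTheory.Limits

attribute [local instance] HasDerivedCategory.standard

namespace Groth.Agent.Lib.Helper6
namespace DerivedComp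

section

variable {A B : Type*} [Category* A] [Category* B] [Abelian A] [Abelian B]

/-- `EtSix.plusNatTrans` of an isomorphism is an isomorphism. -/
lemma isIso_plusNatTrans {F G : A ⥤ B} [F.Additive] [G.Additive] (α : F ⟶ G) [IsIso α] :
    IsIso (EtSix.plusNatTrans α) := by
  have h : IsIso (NatTrans.mapHomotopyCategory α (ComplexShape.up ℤ)) := by
    refine ⟨NatTrans.mapHomotopyCategory (inv α) (ComplexShape.up ℤ), ?_, ?_⟩
    · rw [← NatTrans.mapHomotopyCategory_comp, IsIso.hom_inv_id, NatTrans.mapHomotopyCategory_id]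
    · rw [← NatTrans.mapHomotopyCategory_comp, IsIso.inv_hom_id, NatTrans.mapHomotopyCategory_id]
  rw [NatTrans.isIso_iff_isIso_app]
  intro X
  rw [← isIso_iff_of_reflects_iso _ (HomotopyCategory.Plus.ι B)]
  have h5 : (HomotopyCategory.Plus.ι B).map ((EtSix.plusNatTrans α).app X) =
      (NatTrans.mapHomotopyCategory α (ComplexShape.up ℤ)).app X.obj := by
    dsimp only [EtSix.plusNatTrans]
    simp
  rw [h5]
  exact NatIso.isIso_app_of_isIso (NatTrans.mapHomotopyCategory α (ComplexShape.up ℤ)) X.obj

end

variable {A B C : Type u}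
    [Category.{v} A] [Category.{v} B] [Category.{v} C] [Abelian A] [Abelian B] [Abelian C]
    [HasDerivedCategory.{w} A] [HasDerivedCategory.{w} B] [HasDerivedCategory.{w} C]
    [EnoughInjectives A] [EnoughInjectives B]
    (F : A ⥤ B) [F.Additive] [PreservesFiniteLimits F] (G : B ⥤ C) [G.Additive]
    [PreservesFiniteLimits G]

/-- An injective object is right acyclic for any additive functor. -/
lemma isIso_unit_single_of_injective (X : B) [Injective X] :
    IsIso (G.rightDerivedFunctorPlusUnit.app ((HomotopyCategory.Plus.singleFunctor B 0).obj X)) := by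
  rw [Groth.Agent.S6624.result]
  refine ⟨inferInstance, fun i hi => ?_⟩
  obtain ⟨j, rfl⟩ : ∃ j, i = j + 1 := ⟨i - 1, by omega⟩
  exact G.isZero_rightDerived_obj_injective_succ j X

variable (hF : ∀ I : A, Injective I → Injective (F.obj I))
include hF

theorem isRightDerivedFunctor_rPlusUnit₂ {H : A ⥤ C} [H.Additive] (θ : H ⟶ F ⋙ G) [IsIso θ] :
    (F.rightDerivedFunctorPlus ⋙ G.rightDerivedFunctorPlus).IsRightDerivedFunctor
      (EtSix.rPlusUnit₂ θ) (HomotopyCategory.Plus.quasiIso A) := by
  have h0 := Groth.Agent.S12541.result F G (fun I hI => by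
    have := hF I hI
    exact isIso_unit_single_of_injective G (F.obj I))
  have hder0 : (HomotopyCategory.Plus.localizerMorphism A).Derives
      ((F ⋙ G).mapHomotopyCategoryPlus ⋙ DerivedCategory.Plus.Qh) := by
    intro X Y f hf
    have : IsIso f := hf
    infer_instance
  have hder : (HomotopyCategory.Plus.localizerMorphism A).Derives
      (H.mapHomotopyCategoryPlus ⋙ DerivedCategory.Plus.Qh) := by
    intro X Y f hf
    have : IsIso f := hf
    infer_instance
  apply hder.isRightDerivedFunctor_of_isIso
  intro X₁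
  have h1 := hder0.isIso_of_isRightDerivedFunctor
    (Functor.whiskerRight (Functor.mapHomotopyCategoryPlusCompIso (Iso.refl (F ⋙ G))).inv DerivedCategory.Plus.Qh
        ≫ (Functor.associator _ _ _).hom
        ≫ Functor.whiskerLeft F.mapHomotopyCategoryPlus G.rightDerivedFunctorPlusUnit
        ≫ (Functor.associator _ _ _).inv
        ≫ Functor.whiskerRight F.rightDerivedFunctorPlusUnit G.rightDerivedFunctorPlus
        ≫ (Functor.associator _ _ _).hom) X₁
  have h2 := isIso_plusNatTrans θ
  have h3 : EtSix.rPlusUnit₂ θ = Functor.whiskerRight (EtSix.plusNatTrans θ) DerivedCategory.Plus.Qh ≫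
      (Functor.whiskerRight (Functor.mapHomotopyCategoryPlusCompIso (Iso.refl (F ⋙ G))).inv DerivedCategory.Plus.Qh
        ≫ (Functor.associator _ _ _).hom
        ≫ Functor.whiskerLeft F.mapHomotopyCategoryPlus G.rightDerivedFunctorPlusUnit
        ≫ (Functor.associator _ _ _).inv
        ≫ Functor.whiskerRight F.rightDerivedFunctorPlusUnit G.rightDerivedFunctorPlus
        ≫ (Functor.associator _ _ _).hom) := by
    dsimp only [EtSix.rPlusUnit₂]
    rw [Functor.whiskerRight_comp, Category.assoc]
  rw [h3, NatTrans.comp_app]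
  have h4 : IsIso ((Functor.whiskerRight (EtSix.plusNatTrans θ) DerivedCategory.Plus.Qh).app
      ((HomotopyCategory.Plus.localizerMorphism A).functor.obj X₁)) := inferInstance
  exact IsIso.comp_isIso
  
theorem isIso_rPlusDesc₂ {H : A ⥤ C} [H.Additive] (θ : H ⟶ F ⋙ G) [IsIso θ] :
    IsIso (EtSix.rPlusDesc₂ θ) := by
  have := isRightDerivedFunctor_rPlusUnit₂ F G hF θ
  dsimp only [EtSix.rPlusDesc₂]
  rw [← Functor.isRightDerivedFunctor_iff_isIso_rightDerivedDesc]
  exact this

theorem nonempty_comp_iso {H : A ⥤ C} [H.Additive] (e : F ⋙ G ≅ H) :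
    Nonempty (F.rightDerivedFunctorPlus ⋙ G.rightDerivedFunctorPlus ≅ H.rightDerivedFunctorPlus) := by
  have := isIso_rPlusDesc₂ F G hF e.inv
  exact ⟨(asIso (EtSix.rPlusDesc₂ e.inv)).symm⟩

end DerivedComp
end Groth.Agent.Lib.Helper6
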