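import Mathlib

/-! # Direct summand / Nakayama lemmas (helper6) -/

set_option autoImplicit false
universe u

open scoped Classical
open TensorProduct IsLocalRing

namespace Groth.Agent.Lib.Helper6

lemma range_rTensor_subtype_mono {R : Type u} [CommRing R] (N : Type u) [AddCommGroup N] [Module R N]
    (M : Type u) [AddCommGroup M] [Module R M] {P Q : Submodule R N} (h : P ≤ Q) :
    LinearMap.range (LinearMap.rTensor M P.subtype) ≤
      LinearMap.range (LinearMap.rTensor M Q.subtype) := by
  have : P.subtype = Q.subtype ∘ₗ Submodule.inclusion h := by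
    ext; rfl
  rw [this, LinearMap.rTensor_comp]
  exact LinearMap.range_comp_le_range _ _

lemma tmul_mem_range_rTensor_subtype {R : Type u} [CommRing R] (N : Type u) [AddCommGroup N]
    [Module R N] (M : Type u) [AddCommGroup M] [Module R M] {P : Submodule R N} {n : N}
    (hn : n ∈ P) (m : M) :
    n ⊗ₜ[R] m ∈ LinearMap.range (LinearMap.rTensor M P.subtype) :=
  ⟨(⟨n, hn⟩ : P) ⊗ₜ m, by rw [LinearMap.rTensor_tmul]; rfl⟩

lemma exists_finset_mem_range_rTensor {R : Type u} [CommRing R] (N : Type u) [AddCommGroup N]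
    [Module R N] (ι : Type u) (F : ι → Submodule R N) (hF : ⨆ i, F i = ⊤)
    (M : Type u) [AddCommGroup M] [Module R M] (w : N ⊗[R] M) :
    ∃ T : Finset ι, w ∈ LinearMap.range (LinearMap.rTensor M (⨆ i ∈ T, F i).subtype) := by
  have hNTmono : ∀ {T T' : Finset ι}, T ⊆ T' → (⨆ i ∈ T, F i) ≤ ⨆ i ∈ T', F i := by
    intro T T' h
    exact biSup_mono fun i hi => h hi
  induction w using TensorProduct.induction_on with
  | zero => exact ⟨∅, Submodule.zero_mem _⟩
  | tmul n m =>
    have hn : n ∈ ⨆ i, F i := by rw [hF]; trivial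
    obtain ⟨T, hT⟩ := Submodule.mem_iSup_iff_exists_finset.mp hn
    exact ⟨T, tmul_mem_range_rTensor_subtype N M hT m⟩
  | add x y hx hy =>
    obtain ⟨T, hT⟩ := hx
    obtain ⟨T', hT'⟩ := hy
    exact ⟨T ∪ T', Submodule.add_mem _
      (range_rTensor_subtype_mono N M (hNTmono Finset.subset_union_left) hT)
      (range_rTensor_subtype_mono N M (hNTmono Finset.subset_union_right) hT')⟩

/-- Core Nakayama argument. -/
lemma eq_zero_of_smul_eq_zero_of_isCompl {R S : Type u} [CommRing R] [IsLocalRing R] [CommRing S]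
    [Algebra R S] (N : Type u) [AddCommGroup N] [Module S N] [Module R N] [IsScalarTower R S N]
    (M : Type u) [AddCommGroup M] [Module R M] (P Q : Submodule R N) (hcompl : IsCompl P Q)
    (hP : P.FG) (s f : S) (hsf : s + f = 1) (hf : f ∈ (maximalIdeal R).map (algebraMap R S))
    (z₁ : P ⊗[R] M) (hz : s • (LinearMap.rTensor M P.subtype z₁) = 0) : z₁ = 0 := by
  let π : N →ₗ[R] P := Submodule.projectionOnto _ _ hcompl
  let j : P →ₗ[R] N := P.subtype
  have hπj : π ∘ₗ j = LinearMap.id := by
    ext x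
    simp [π, j]
  -- multiplication maps
  let σ : N →ₗ[R] N := Algebra.lsmul R R N s
  let θ : N →ₗ[R] N := Algebra.lsmul R R N f
  have hσθ : σ + θ = LinearMap.id := by
    ext x
    simp [σ, θ, ← add_smul, hsf]
  have hθ : ∀ x : N, θ x ∈ (maximalIdeal R • ⊤ : Submodule R N) := by
    suffices h : ∀ x : N, f • x ∈ (maximalIdeal R • ⊤ : Submodule R N) from h
    refine Submodule.span_induction
      (p := fun f _ => ∀ x : N, f • x ∈ (maximalIdeal R • ⊤ : Submodule R N)) ?_ ?_ ?_ ?_ hf
    · rintro _ ⟨a, ha, rfl⟩ x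
      rw [algebraMap_smul]
      exact Submodule.smul_mem_smul ha Submodule.mem_top
    · simp
    · intro a b _ _ ha hb x
      rw [add_smul]; exact Submodule.add_mem _ (ha x) (hb x)
    · intro a b _ hb x
      rw [smul_eq_mul, mul_comm, mul_smul]
      exact hb _
  let φ₁ : P →ₗ[R] P := π ∘ₗ σ ∘ₗ j
  let θ₁ : P →ₗ[R] P := π ∘ₗ θ ∘ₗ j
  have hφθ : φ₁ + θ₁ = LinearMap.id := by
    rw [← hπj]
    simp only [φ₁, θ₁, ← LinearMap.comp_add, ← LinearMap.add_comp, hσθ, LinearMap.id_comp]
  have hθ₁ : ∀ x, θ₁ x ∈ (maximalIdeal R • ⊤ : Submodule R P) := by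
    intro x
    have h2 : (maximalIdeal R • ⊤ : Submodule R N).map π ≤ (maximalIdeal R • ⊤ : Submodule R P) := by
      rw [Submodule.map_smul'']
      exact Submodule.smul_mono le_rfl le_top
    exact h2 ⟨_, hθ (j x), rfl⟩
  have : Module.Finite R P := Module.Finite.iff_fg.mpr hP
  have hsurj : Function.Surjective φ₁ := by
    rw [← LinearMap.range_eq_top, eq_top_iff]
    refine Submodule.le_of_le_smul_of_le_jacobson_bot (I := maximalIdeal R) Module.Finite.fg_top
      (IsLocalRing.maximalIdeal_le_jacobson _) ?_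
    intro x _
    have : x = φ₁ x + θ₁ x := by
      have := congr($hφθ x)
      simpa using this.symm
    rw [this]
    exact Submodule.add_mem_sup ⟨x, rfl⟩ (hθ₁ x)
  have hinj : Function.Injective φ₁ := OrzechProperty.injective_of_surjective_endomorphism φ₁ hsurj
  let e : P ≃ₗ[R] P := LinearEquiv.ofBijective φ₁ ⟨hinj, hsurj⟩
  have hgen : ∀ w : N ⊗[R] M, s • w = LinearMap.rTensor M σ w := by
    intro w
    induction w using TensorProduct.induction_on with
    | zero => simp
    | add x y hx hy => rw [smul_add, map_add, hx, hy]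
    | tmul n m =>
      rw [TensorProduct.smul_tmul', LinearMap.rTensor_tmul]
      rfl
  apply (LinearEquiv.rTensor M e).injective
  rw [map_zero]
  show LinearMap.rTensor M φ₁ z₁ = 0
  simp only [φ₁, LinearMap.rTensor_comp, LinearMap.comp_apply]
  show LinearMap.rTensor M π (LinearMap.rTensor M σ (LinearMap.rTensor M P.subtype z₁)) = 0
  rw [← hgen, hz, map_zero]

end Groth.Agent.Lib.Helper6
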