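import Mathlib

/-! A dévissage principle for finite modules over a Noetherian local ring (helper6). -/

set_option autoImplicit false
universe u

namespace Groth.Agent.Lib.Helper6
namespace PrimeInd

variable {A : Type u} [CommRing A] [IsNoetherianRing A] [IsLocalRing A]

/-- **Prime induction.** A property of finite modules over a Noetherian local ring which is
invariant under isomorphism, holds for zero modules and for the residue field, is closed under
extensions and passes from `(A/p)/x(A/p)` to `A/p` for every non-maximal prime `p` and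
`x ∈ m ∖ p`, holds for all finite modules. -/
theorem induction
    (P : ∀ (M : Type u) [AddCommGroup M] [Module A M], Prop)
    (h0 : ∀ (M : Type u) [AddCommGroup M] [Module A M] [Subsingleton M], P M)
    (hequiv : ∀ (M N : Type u) [AddCommGroup M] [Module A M] [AddCommGroup N] [Module A N],
      (M ≃ₗ[A] N) → P M → P N)
    (hext : ∀ (N₁ N₂ N₃ : Type u) [AddCommGroup N₁] [Module A N₁] [Module.Finite A N₁]
      [AddCommGroup N₂] [Module A N₂] [Module.Finite A N₂]
      [AddCommGroup N₃] [Module A N₃] [Module.Finite A N₃]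
      (f : N₁ →ₗ[A] N₂) (g : N₂ →ₗ[A] N₃), Function.Injective f → Function.Surjective g →
      Function.Exact f g → P N₁ → P N₃ → P N₂)
    (hκ : P (A ⧸ IsLocalRing.maximalIdeal A))
    (hstep : ∀ (p : Ideal A) [p.IsPrime] (x : A), x ∈ IsLocalRing.maximalIdeal A → x ∉ p →
      IsSMulRegular (A ⧸ p) x → P (QuotSMulTop x (A ⧸ p)) → P (A ⧸ p))
    (M : Type u) [AddCommGroup M] [Module A M] [Module.Finite A M] : P M := by
  suffices H : ∀ (J : Ideal A) (M : Type u) [AddCommGroup M] [Module A M] [Module.Finite A M],
      (∀ a ∈ J, ∀ m : M, a • m = 0) → P M from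
    H ⊥ M (fun a ha m => by rw [Ideal.mem_bot.1 ha, zero_smul])
  intro J
  refine IsNoetherian.induction (P := fun J : Ideal A => ∀ (M : Type u) [AddCommGroup M]
    [Module A M] [Module.Finite A M], (∀ a ∈ J, ∀ m : M, a • m = 0) → P M) ?_ J
  intro J ih M _ _ hfin hJM
  refine IsNoetherianRing.induction_on_isQuotientEquivQuotientPrime A hfin
    (motive := fun N _ _ _ => (∀ a ∈ J, ∀ m : N, a • m = 0) → P N) ?_ ?_ ?_ hJM
  · intro N _ _ _ _ _
    exact h0 N
  · intro N _ _ _ p e hJN
    have hJp : J ≤ p.asIdeal := by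
      intro a ha
      have h1 := hJN a ha (e.symm (Ideal.Quotient.mk _ 1))
      rw [← map_smul, LinearEquiv.map_eq_zero_iff] at h1
      have h2 : Ideal.Quotient.mk p.asIdeal a = 0 := by
        rw [← h1, Algebra.smul_def, map_one, mul_one]
        rfl
      exact Ideal.Quotient.eq_zero_iff_mem.1 h2
    refine hequiv _ _ e.symm ?_
    have hkill : ∀ (K : Ideal A), K ≤ p.asIdeal → ∀ a ∈ K, ∀ m : A ⧸ p.asIdeal, a • m = 0 := by
      intro K hK a ha m
      obtain ⟨b, rfl⟩ := Ideal.Quotient.mk_surjective m
      rw [Algebra.smul_def]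
      have h2 : algebraMap A (A ⧸ p.asIdeal) a = 0 := Ideal.Quotient.eq_zero_iff_mem.2 (hK ha)
      rw [h2, zero_mul]
    by_cases hlt : J < p.asIdeal
    · exact ih p.asIdeal hlt (A ⧸ p.asIdeal) (hkill p.asIdeal le_rfl)
    · have hJeq : J = p.asIdeal := by
        by_contra hne
        exact hlt (lt_of_le_of_ne hJp hne)
      by_cases hpm : p.asIdeal = IsLocalRing.maximalIdeal A
      · rw [hpm]
        exact hκ
      · obtain ⟨x, hxm, hxp⟩ : ∃ x ∈ IsLocalRing.maximalIdeal A, x ∉ p.asIdeal := by
          by_contra hcon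
          push Not at hcon
          exact hpm (le_antisymm (IsLocalRing.le_maximalIdeal p.isPrime.ne_top) hcon)
        have hreg : IsSMulRegular (A ⧸ p.asIdeal) x := by
          intro m m' hmm
          obtain ⟨b, rfl⟩ := Ideal.Quotient.mk_surjective m
          obtain ⟨b', rfl⟩ := Ideal.Quotient.mk_surjective m'
          have h1 : Ideal.Quotient.mk p.asIdeal (x * b) = Ideal.Quotient.mk p.asIdeal (x * b') := by
            simpa [Algebra.smul_def] using hmm
          rw [Ideal.Quotient.eq, ← mul_sub] at h1
          rw [Ideal.Quotient.eq]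
          exact (p.isPrime.mem_or_mem h1).resolve_left hxp
        have hPbar : P (QuotSMulTop x (A ⧸ p.asIdeal)) := by
          refine ih (p.asIdeal ⊔ Ideal.span {x}) ?_ _ ?_
          · rw [hJeq]
            refine lt_of_le_of_ne le_sup_left (fun h => hxp ?_)
            rw [h]
            exact Ideal.mem_sup_right (Ideal.mem_span_singleton_self x)
          · intro a ha m
            obtain ⟨m0, rfl⟩ := Submodule.mkQ_surjective _ m
            obtain ⟨a1, ha1, a2, ha2, rfl⟩ := Submodule.mem_sup.1 ha
            obtain ⟨c, rfl⟩ := Ideal.mem_span_singleton'.1 ha2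
            rw [← map_smul, add_smul, hkill p.asIdeal le_rfl a1 ha1 m0, zero_add]
            rw [Submodule.mkQ_apply, Submodule.Quotient.mk_eq_zero, mul_comm, mul_smul]
            exact Submodule.smul_mem_pointwise_smul _ _ _ Submodule.mem_top
        have := p.isPrime
        exact hstep p.asIdeal x hxm hxp hreg hPbar
  · intro N₁ _ _ _ N₂ _ _ _ N₃ _ _ _ f g hf hg hfg h1 h3 hJN2
    refine hext N₁ N₂ N₃ f g hf hg hfg (h1 ?_) (h3 ?_)
    · intro a ha m
      apply hf
      rw [map_smul, hJN2 a ha, map_zero]
    · intro a ha m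
      obtain ⟨m0, rfl⟩ := hg m
      rw [← map_smul, hJN2 a ha, map_zero]

end PrimeInd
end Groth.Agent.Lib.Helper6
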