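import Groth.Agent.Lib.Helper6.UniqDual
import Groth.Agent.Lib.Helper6.PrimeInd
import Groth.Agent.Lib.Helper6.RestrLin

/-! Characterization of dualizing complexes over a Noetherian local ring by `Ext(κ, -)`
(helper6). -/

set_option autoImplicit false
set_option linter.unusedSectionVars false
set_option linter.style.haveILetI false
universe u
open CategoryTheory CategoryTheory.Limits DerivedCategory Pretriangulated Opposite Pointwise
attribute [local instance] HasDerivedCategory.standard

namespace Groth.Agent.Lib.Helper6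
namespace DualChar

open Groth.Agent.Lib.Helper35 Bidual UniqDual

variable {A : Type u} [CommRing A] [IsNoetherianRing A] [IsLocalRing A]

/-- the hypotheses. -/
structure Data (A : Type u) [CommRing A] [IsNoetherianRing A] [IsLocalRing A] where
  I : DRing.Cx A
  a : ℤ
  b : ℤ
  hv : DRing.VanishesOutside I a b
  hinj : ∀ i : ℤ, Injective (I.X i)
  hfin : ∀ i : ℤ, Module.Finite A (Dual.HD A (DerivedCategory.Q.obj I : Dual.D A) i)
  d : ℤ
  hvan : ∀ i : ℤ, i ≠ d → Subsingleton (Dual.inD A (IsLocalRing.ResidueField A) ⟶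
    (DerivedCategory.Q.obj I : Dual.D A)⟦i⟧)
  hd : Nonempty ((Dual.inD A (IsLocalRing.ResidueField A) ⟶
    (DerivedCategory.Q.obj I : Dual.D A)⟦d⟧) ≃ₗ[A] IsLocalRing.ResidueField A)

namespace Data

variable (D : Data A)

/-- the complex as an object of the derived category. -/
noncomputable abbrev W : Dual.D A := DerivedCategory.Q.obj D.I

instance : D.I.IsKInjective := KL.IA.isKInjective D.I D.hv D.hinj

lemma IA : KL.IA D.a D.b D.W := ⟨D.I, D.hv, D.hinj, ⟨Iso.refl _⟩⟩

/-- `T^j(M)`. -/
abbrev T (j : ℤ) (M : Type u) [AddCommGroup M] [Module A M] : Type (u + 1) :=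
  (Dq D.I).obj (op (ModuleCat.of A M)) ⟶ D.W⟦j⟧

/-- `D(κ) ≅ κ[-d]`. -/
lemma nonempty_Dq_residueField_iso :
    Nonempty ((Dq D.I).obj (op (ModuleCat.of A (IsLocalRing.ResidueField A))) ≅
      (DerivedCategory.singleFunctor (ModuleCat.{u} A) D.d).obj
        (ModuleCat.of A (IsLocalRing.ResidueField A))) := by
  set κ : ModuleCat.{u} A := ModuleCat.of A (IsLocalRing.ResidueField A) with hκ
  set Y : Dual.D A := (Dq D.I).obj (op κ) with hY
  have hcoh : ∀ j : ℤ, Nonempty (Dual.HD A Y j ≃ₗ[A]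
      (Dual.inD A (IsLocalRing.ResidueField A) ⟶ D.W⟦j⟧)) := fun j =>
    ⟨(hdQEquiv ((Dc D.I).obj (op κ)) j).trans (homologyDcEquiv κ D.I j)⟩
  have hz : ∀ j : ℤ, j ≠ D.d → IsZero ((homologyFunctor (ModuleCat.{u} A) j).obj Y) := by
    intro j hj
    obtain ⟨e⟩ := hcoh j
    have := D.hvan j hj
    have : Subsingleton (Dual.HD A Y j) := e.toEquiv.subsingleton
    exact ModuleCat.isZero_of_subsingleton _
  haveI : Y.IsGE D.d := by
    rw [DerivedCategory.isGE_iff]
    intro j hj
    exact hz j (by omega)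
  haveI : Y.IsLE D.d := by
    rw [DerivedCategory.isLE_iff]
    intro j hj
    exact hz j (by omega)
  obtain ⟨e0⟩ := hcoh D.d
  obtain ⟨e1⟩ := D.hd
  exact nonempty_iso_single Y D.d (IsLocalRing.ResidueField A) (e0.trans e1)

lemma T_residueField_subsingleton (j : ℤ) (hj : j ≠ 0) :
    Subsingleton (D.T j (IsLocalRing.ResidueField A)) := by
  obtain ⟨e⟩ := D.nonempty_Dq_residueField_iso
  have := D.hvan (j + D.d) (by omega)
  exact ((Iso.homCongr e (Iso.refl (D.W⟦j⟧))).trans
    (singleShiftHomEquiv (ModuleCat.of A (IsLocalRing.ResidueField A)) D.W D.d j (j + D.d)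
      rfl)).subsingleton

lemma nonempty_T_residueField_equiv :
    Nonempty (((Dq D.I).obj (op (ModuleCat.of A (IsLocalRing.ResidueField A))) ⟶ D.W) ≃ₗ[A]
      IsLocalRing.ResidueField A) := by
  obtain ⟨e⟩ := D.nonempty_Dq_residueField_iso
  obtain ⟨e1⟩ := D.hd
  let l1 := Linear.homCongr A e (Iso.refl D.W)
  let l2 : ((DerivedCategory.singleFunctor (ModuleCat.{u} A) D.d).obj
      (ModuleCat.of A (IsLocalRing.ResidueField A)) ⟶ D.W) ≃ₗ[A]
      (((DerivedCategory.singleFunctor (ModuleCat.{u} A) D.d).obj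
      (ModuleCat.of A (IsLocalRing.ResidueField A)))⟦D.d⟧ ⟶ D.W⟦D.d⟧) :=
    LinearEquiv.ofBijective ((shiftFunctor (Dual.D A) D.d).mapLinearMap A)
      (DualShift.map_shift_bijective _ _ D.d)
  let l3 := Linear.homCongr A
    (((DerivedCategory.singleFunctors (ModuleCat.{u} A)).shiftIso D.d 0 D.d (add_zero _)).app
      (ModuleCat.of A (IsLocalRing.ResidueField A))) (Iso.refl (D.W⟦D.d⟧))
  exact ⟨l1.trans (l2.trans (l3.trans e1))⟩

lemma finite_T (M : Type u) [AddCommGroup M] [Module A M] [Module.Finite A M] (j : ℤ) :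
    Module.Finite A (D.T j M) := by
  have hge : D.W.IsGE D.a := D.IA.isGE
  have hle : D.W.IsLE D.b := D.IA.isLE
  refine KL.finite_hom_shift _ D.W (fun i => ?_) D.hfin ?_ j
  · have h1 := InjDimMax.finite_hom_inD_of_bounded (B := A) M D.W D.a D.b D.hfin i
    exact Module.Finite.equiv
      ((hdQEquiv ((Dc D.I).obj (op (ModuleCat.of A M))) i).trans
        (homologyDcEquiv (ModuleCat.of A M) D.I i)).symm
  · exact ⟨D.a, D.b, (KL.IA_iff D.a D.b D.W).1 D.IA⟩

/-- vanishing of `T^j` for `j ≠ 0`. -/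
theorem T_subsingleton (M : Type u) [AddCommGroup M] [Module A M] [Module.Finite A M] :
    P D.I D.W M := by
  refine PrimeInd.induction (A := A) (fun M _ _ => P D.I D.W M) ?_ ?_ ?_ ?_ ?_ M
  · intro M _ _ _
    exact P_of_subsingleton D.I D.W M
  · intro M N _ _ _ _ e h
    exact P_of_linearEquiv D.I D.W e h
  · intro N₁ N₂ N₃ _ _ _ _ _ _ _ _ _ f g hf hg hfg h1 h3
    let S : ShortComplex (ModuleCat.{u} A) :=
      ModuleCat.shortComplexOfCompEqZero f g hfg.linearMap_comp_eq_zero
    have hS : S.ShortExact := ModuleCat.shortComplex_shortExact S hfg hf hg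
    exact P_of_shortExact D.I D.W D.hinj S hS h1 h3
  · intro j hj
    exact D.T_residueField_subsingleton j hj
  · intro p _ x hxm hxp hreg hbar j hj
    refine NormDual.subsingleton_of_smul_surjective (D.finite_T (A ⧸ p) j) x ?_
      (fun f => smul_surjective_T D.I D.W D.hinj (A ⧸ p) x hreg j (hbar j hj) f)
    rw [IsLocalRing.jacobson_eq_maximalIdeal ⊥ bot_ne_top]
    exact hxm


section eta

lemma η_nat {M N : ModuleCat.{u} A} (g : M ⟶ N) (m : M) :
    (Dq D.I).map g.op ≫ etaLin D.I M m = etaLin D.I N (g.hom m) := by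
  rw [etaLin_apply, etaLin_apply, ← ev_naturality, Functor.map_comp]
  rfl

lemma η_A_one_isIso : IsIso (etaLin D.I (ModuleCat.of A A) (1 : A)) := by
  rw [etaLin_apply, ← evIso_hom]
  infer_instance

/-- `Hom(X[1], W) = 0` if `Hom(X, W[-1]) = 0`. -/
lemma eq_zero_of_T_neg_one (M : Type u) [AddCommGroup M] [Module A M] [Module.Finite A M]
    (s : ((Dq D.I).obj (op (ModuleCat.of A M)))⟦(1 : ℤ)⟧ ⟶ D.W) : s = 0 :=
  KL.eq_zero_of_subsingleton_hom_shift _ D.W (-1) (D.T_subsingleton M (-1) (by omega)) s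

lemma Dq_map_mkQ_ne_zero :
    (Dq D.I).map (ModuleCat.ofHom (Submodule.mkQ (IsLocalRing.maximalIdeal A))).op ≠ 0 := by
  intro hzero
  obtain ⟨h, hS⟩ := FinLenDual.shortExact_quot A (IsLocalRing.maximalIdeal A)
  have hT := triangleOfSES_distinguished (DcSC_shortExact D.I D.hinj _ hS)
  have hP : Subsingleton ((Dq D.I).obj (op (ModuleCat.of A (IsLocalRing.maximalIdeal A))) ⟶
      D.W⟦(1 : ℤ)⟧) := D.T_subsingleton (IsLocalRing.maximalIdeal A) 1 one_ne_zero
  obtain ⟨e⟩ := D.nonempty_T_residueField_equiv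
  let g0 : (Dq D.I).obj (op (ModuleCat.of A (IsLocalRing.ResidueField A))) ⟶ D.W := e.symm 1
  have hg0 : g0 ≠ 0 := by
    intro h0
    have h1 : e g0 = 0 := by rw [h0, map_zero]
    rw [LinearEquiv.apply_symm_apply] at h1
    exact one_ne_zero h1
  obtain ⟨g1', hg1'⟩ := surjective_comp_mor₁ _ hT D.W hP g0
  let g1 : (Dq D.I).obj (op (ModuleCat.of A A)) ⟶ D.W := g1'
  have hg1 : (Dq D.I).map (ModuleCat.ofHom (Submodule.mkQ (IsLocalRing.maximalIdeal A))).op ≫ g1
      = g0 := hg1'
  rw [hzero, zero_comp] at hg1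
  exact hg0 hg1.symm

lemma etaLin_residueField_bijective :
    Function.Bijective (etaLin D.I (ModuleCat.of A (IsLocalRing.ResidueField A))) := by
  obtain ⟨e⟩ := D.nonempty_T_residueField_equiv
  set η := etaLin D.I (ModuleCat.of A (IsLocalRing.ResidueField A)) with hη
  have hη1 : η (1 : IsLocalRing.ResidueField A) ≠ 0 := by
    intro h0
    have h1 := D.η_nat (ModuleCat.ofHom (Submodule.mkQ (IsLocalRing.maximalIdeal A))) (1 : A)
    have h2 : (ModuleCat.ofHom (Submodule.mkQ (IsLocalRing.maximalIdeal A))).hom (1 : A) =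
        (1 : IsLocalRing.ResidueField A) := rfl
    rw [h2] at h1
    have h3 : (Dq D.I).map (ModuleCat.ofHom (Submodule.mkQ (IsLocalRing.maximalIdeal A))).op ≫
        etaLin D.I (ModuleCat.of A A) (1 : A) = 0 := h1.trans h0
    haveI := D.η_A_one_isIso
    have h4 := (cancel_mono (etaLin D.I (ModuleCat.of A A) (1 : A))).1
      (h3.trans zero_comp.symm)
    exact D.Dq_map_mkQ_ne_zero h4
  set c : IsLocalRing.ResidueField A := e (η 1) with hc
  have hc0 : c ≠ 0 := fun h0 => hη1 (e.map_eq_zero_iff.1 h0)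
  have hψ : ∀ x : IsLocalRing.ResidueField A, e (η x) = x * c := by
    intro x
    obtain ⟨y, rfl⟩ := IsLocalRing.residue_surjective x
    have h1 : (IsLocalRing.residue A y : IsLocalRing.ResidueField A) =
        y • (1 : IsLocalRing.ResidueField A) := by
      rw [Algebra.smul_def, mul_one, IsLocalRing.ResidueField.algebraMap_eq]
    rw [h1, map_smul, map_smul, Algebra.smul_def, Algebra.smul_def, mul_one]
  constructor
  · intro x y hxy
    have h1 : x * c = y * c := by rw [← hψ, ← hψ, hxy]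
    exact mul_right_cancel₀ hc0 h1
  · intro t
    refine ⟨e t * c⁻¹, ?_⟩
    apply e.injective
    rw [hψ, mul_assoc, inv_mul_cancel₀ hc0, mul_one]

/-- extension step for the bijectivity of `η`. -/
lemma etaLin_bijective_of_shortExact (S : ShortComplex (ModuleCat.{u} A)) (hS : S.ShortExact)
    [Module.Finite A S.X₃]
    (h₁ : Function.Bijective (etaLin D.I S.X₁)) (h₃ : Function.Bijective (etaLin D.I S.X₃)) :
    Function.Bijective (etaLin D.I S.X₂) := by
  have hT := triangleOfSES_distinguished (DcSC_shortExact D.I D.hinj S hS)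
  have hinjf : ∀ t : (Dq D.I).obj (op S.X₁) ⟶ D.W, (Dq D.I).map S.f.op ≫ t = 0 → t = 0 := by
    intro t ht
    obtain ⟨s, hs⟩ := Triangle.yoneda_exact₃ _ hT t ht
    have hs0 : s = 0 := D.eq_zero_of_T_neg_one S.X₃ s
    rw [hs, hs0]
    exact comp_zero
  have hf : Function.Injective S.f.hom := (ModuleCat.mono_iff_injective _).1 hS.mono_f
  have hg : Function.Surjective S.g.hom := (ModuleCat.epi_iff_surjective _).1 hS.epi_g
  have hex : Function.Exact S.f.hom S.g.hom :=
    (ShortComplex.ShortExact.moduleCat_exact_iff_function_exact S).1 hS.exact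
  constructor
  · rw [← LinearMap.ker_eq_bot, LinearMap.ker_eq_bot']
    intro m hm
    have h1 := D.η_nat S.g m
    rw [hm, comp_zero] at h1
    have h2 : S.g.hom m = 0 := h₃.1 (h1.symm.trans (map_zero _).symm)
    obtain ⟨m₁, rfl⟩ := (hex m).1 h2
    have h3 := D.η_nat S.f m₁
    rw [hm] at h3
    have h4 : etaLin D.I S.X₁ m₁ = 0 := hinjf _ h3
    have h5 : m₁ = 0 := h₁.1 (h4.trans (map_zero _).symm)
    rw [h5, map_zero]
  · intro t
    obtain ⟨m₃, hm₃⟩ := h₃.2 ((Dq D.I).map S.g.op ≫ t)
    obtain ⟨m₂, rfl⟩ := hg m₃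
    have h1 : (Dq D.I).map S.g.op ≫ (t - etaLin D.I S.X₂ m₂) = 0 := by
      rw [Preadditive.comp_sub, D.η_nat S.g m₂, hm₃, sub_self]
    obtain ⟨s, hs⟩ := Triangle.yoneda_exact₂ _ hT _ h1
    let s' : (Dq D.I).obj (op S.X₁) ⟶ D.W := s
    have hs' : t - etaLin D.I S.X₂ m₂ = (Dq D.I).map S.f.op ≫ s' := hs
    obtain ⟨m₁, hm₁⟩ := h₁.2 s'
    refine ⟨m₂ + S.f.hom m₁, ?_⟩
    rw [map_add, ← D.η_nat S.f m₁, hm₁, ← hs']
    abel

end eta


section step

/-- prime step for the bijectivity of `η`. -/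
lemma etaLin_bijective_of_regular (M : Type u) [AddCommGroup M] [Module A M] [Module.Finite A M]
    (x : A) (hxm : x ∈ IsLocalRing.maximalIdeal A) (hreg : IsSMulRegular M x)
    (hbar : Function.Bijective (etaLin D.I (ModuleCat.of A (QuotSMulTop x M)))) :
    Function.Bijective (etaLin D.I (ModuleCat.of A M)) := by
  have hS := IsSMulRegular.smulShortComplex_shortExact (M := ModuleCat.of A M) hreg
  have hT := triangleOfSES_distinguished (DcSC_shortExact D.I D.hinj _ hS)
  have hjac : Ideal.span {x} ≤ (⊥ : Ideal A).jacobson := by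
    rw [IsLocalRing.jacobson_eq_maximalIdeal ⊥ bot_ne_top, Ideal.span_singleton_le_iff_mem]
    exact hxm
  set η := etaLin D.I (ModuleCat.of A M) with hη
  let π : ModuleCat.of A M ⟶ ModuleCat.of A (QuotSMulTop x M) :=
    (ModuleCat.smulShortComplex (ModuleCat.of A M) x).g
  have hmor₂ : ∀ t : (Dq D.I).obj (op (ModuleCat.of A M)) ⟶ D.W,
      (Dq D.I).map (x • 𝟙 (ModuleCat.of A M)).op ≫ t = x • t := by
    intro t
    rw [Dq_map_smul_id, Linear.smul_comp, Category.id_comp]
  -- exactness statements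
  have hex₂ : ∀ t : (Dq D.I).obj (op (ModuleCat.of A M)) ⟶ D.W, (Dq D.I).map π.op ≫ t = 0 →
      ∃ s : (Dq D.I).obj (op (ModuleCat.of A M)) ⟶ D.W, t = x • s := by
    intro t ht
    obtain ⟨s, hs⟩ := Triangle.yoneda_exact₂ _ hT t ht
    let s' : (Dq D.I).obj (op (ModuleCat.of A M)) ⟶ D.W := s
    refine ⟨s', ?_⟩
    rw [← hmor₂ s']
    exact hs
  have hex₃ : ∀ t : (Dq D.I).obj (op (ModuleCat.of A M)) ⟶ D.W, x • t = 0 → t = 0 := by
    intro t ht
    rw [← hmor₂ t] at ht
    obtain ⟨s, hs⟩ := Triangle.yoneda_exact₃ _ hT t ht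
    have hs0 : s = 0 := D.eq_zero_of_T_neg_one (QuotSMulTop x M) s
    rw [hs, hs0]
    exact comp_zero
  constructor
  · -- injectivity
    have hK : LinearMap.ker η ≤ Ideal.span {x} • LinearMap.ker η := by
      intro k hk
      rw [LinearMap.mem_ker] at hk
      have h1 := D.η_nat π k
      rw [hk, comp_zero] at h1
      have h2 : π.hom k = 0 := hbar.1 (h1.symm.trans (map_zero _).symm)
      have h3 : k ∈ x • (⊤ : Submodule A M) := by
        have : (Submodule.mkQ (x • (⊤ : Submodule A M))) k = 0 := h2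
        rwa [Submodule.mkQ_apply, Submodule.Quotient.mk_eq_zero] at this
      obtain ⟨m', -, rfl⟩ := (Submodule.mem_smul_pointwise_iff_exists _ _ _).1 h3
      have h4 : x • η m' = 0 := by rw [← map_smul]; exact hk
      have h5 : m' ∈ LinearMap.ker η := LinearMap.mem_ker.2 (hex₃ _ h4)
      exact Submodule.smul_mem_smul (Ideal.mem_span_singleton_self x) h5
    have hfg : (LinearMap.ker η).FG := IsNoetherian.noetherian _
    have h0 := Submodule.eq_bot_of_le_smul_of_le_jacobson_bot (Ideal.span {x}) _ hfg hK hjac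
    exact LinearMap.ker_eq_bot.1 h0
  · -- surjectivity
    have hfin := D.finite_T M 0
    have hfin' : Module.Finite A ((Dq D.I).obj (op (ModuleCat.of A M)) ⟶ D.W) := by
      have e := Linear.homCongr A (Iso.refl ((Dq D.I).obj (op (ModuleCat.of A M))))
        ((shiftFunctorZero (Dual.D A) ℤ).app D.W)
      exact Module.Finite.equiv e
    have hle : (⊤ : Submodule A ((Dq D.I).obj (op (ModuleCat.of A M)) ⟶ D.W)) ≤
        LinearMap.range η ⊔ Ideal.span {x} • ⊤ := by
      intro t _
      obtain ⟨mbar, hmbar⟩ := hbar.2 ((Dq D.I).map π.op ≫ t)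
      obtain ⟨m₀, rfl⟩ := Submodule.mkQ_surjective _ mbar
      have h1 : (Dq D.I).map π.op ≫ (t - η m₀) = 0 := by
        rw [Preadditive.comp_sub, D.η_nat π m₀, sub_eq_zero]
        exact hmbar.symm
      obtain ⟨s, hs⟩ := hex₂ _ h1
      have h2 : t = η m₀ + x • s := by rw [← hs]; abel
      rw [h2]
      exact Submodule.add_mem_sup (LinearMap.mem_range_self η m₀)
        (Submodule.smul_mem_smul (Ideal.mem_span_singleton_self x) Submodule.mem_top)
    have h0 := Submodule.le_of_le_smul_of_le_jacobson_bot hfin'.1 hjac hle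
    intro t
    exact h0 Submodule.mem_top

end step

/-- bijectivity of `η_M` for all finite modules. -/
theorem etaLin_bijective (M : Type u) [AddCommGroup M] [Module A M] [Module.Finite A M] :
    Function.Bijective (etaLin D.I (ModuleCat.of A M)) := by
  refine PrimeInd.induction (A := A)
    (fun M _ _ => Module.Finite A M → Function.Bijective (etaLin D.I (ModuleCat.of A M)))
    ?_ ?_ ?_ ?_ ?_ M inferInstance
  · intro M _ _ _ _
    have hz : IsZero (ModuleCat.of A M) := ModuleCat.isZero_of_subsingleton _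
    have hz' : IsZero ((Dq D.I).obj (op (ModuleCat.of A M))) := (Dq D.I).map_isZero hz.op
    constructor
    · intro x y _
      exact Subsingleton.elim _ _
    · intro t
      exact ⟨0, hz'.eq_of_src _ _⟩
  · intro M N _ _ _ _ e h hN
    haveI : Module.Finite A M := Module.Finite.equiv e.symm
    have hM := h inferInstance
    have hnat : ∀ m : M, (Dq D.I).map (e.toModuleIso.hom).op ≫
        etaLin D.I (ModuleCat.of A M) m = etaLin D.I (ModuleCat.of A N) (e m) :=
      fun m => D.η_nat e.toModuleIso.hom m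
    constructor
    · intro n n' hnn
      obtain ⟨m, rfl⟩ := e.surjective n
      obtain ⟨m', rfl⟩ := e.surjective n'
      rw [← hnat, ← hnat] at hnn
      haveI : IsIso ((Dq D.I).map (e.toModuleIso.hom).op) := inferInstance
      have := (cancel_epi _).1 hnn
      rw [hM.1 this]
    · intro t
      obtain ⟨m, hm⟩ := hM.2 ((Dq D.I).map (e.toModuleIso.inv).op ≫ t)
      refine ⟨e m, ?_⟩
      rw [← hnat, hm, ← Category.assoc, ← Functor.map_comp, ← op_comp, Iso.inv_hom_id, op_id,
        CategoryTheory.Functor.map_id, Category.id_comp]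
  · intro N₁ N₂ N₃ _ _ _ _ _ _ _ _ _ f g hf hg hfg h1 h3 _
    let S : ShortComplex (ModuleCat.{u} A) :=
      ModuleCat.shortComplexOfCompEqZero f g hfg.linearMap_comp_eq_zero
    have hS : S.ShortExact := ModuleCat.shortComplex_shortExact S hfg hf hg
    haveI : Module.Finite A S.X₃ := inferInstanceAs (Module.Finite A N₃)
    exact D.etaLin_bijective_of_shortExact S hS (h1 inferInstance) (h3 inferInstance)
  · intro _
    exact D.etaLin_residueField_bijective
  · intro p _ x hxm hxp hreg hbar _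
    exact D.etaLin_bijective_of_regular (A ⧸ p) x hxm hreg (hbar inferInstance)

/-- **The complex is dualizing.** -/
theorem isDualizing : Dual.IsDualizing A D.W := by
  have hη := D.etaLin_bijective A
  have h1 : ∀ x : A, etaLin D.I (ModuleCat.of A A) x =
      DerivedCategory.Q.map (evIso D.I).hom ≫ (x • 𝟙 D.W) := by
    intro x
    rw [etaLin_apply, Linear.comp_smul, Category.comp_id, evIso_hom, ← Functor.map_smul,
      ← ev_smul]
    congr 2
    exact (mul_one x).symm
  refine ⟨inferInstance, ⟨D.a, D.b, fun M _ _ i hi => ?_⟩, D.hfin, ?_, fun j hj => ?_⟩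
  · have h01 := (KL.IA_tfae D.W D.a D.b).out 0 1
    exact h01.1 D.IA (ModuleCat.of A M) i hi
  · have h3 : (fun x : A => x • 𝟙 D.W) =
        (fun t => DerivedCategory.Q.map (evIso D.I).inv ≫ t) ∘
          (etaLin D.I (ModuleCat.of A A)) := by
      funext x
      change _ = DerivedCategory.Q.map (evIso D.I).inv ≫ etaLin D.I (ModuleCat.of A A) x
      rw [h1, ← Category.assoc, ← Functor.map_comp, Iso.inv_hom_id,
        CategoryTheory.Functor.map_id, Category.id_comp]
    rw [h3]
    refine Function.Bijective.comp ?_ hη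
    constructor
    · intro t t' h
      exact (cancel_epi (DerivedCategory.Q.map (evIso D.I).inv)).1 h
    · intro t
      refine ⟨DerivedCategory.Q.map (evIso D.I).hom ≫ t, ?_⟩
      change DerivedCategory.Q.map (evIso D.I).inv ≫ DerivedCategory.Q.map (evIso D.I).hom ≫ t = t
      rw [← Category.assoc, ← Functor.map_comp, Iso.inv_hom_id, CategoryTheory.Functor.map_id,
        Category.id_comp]
  · have hs := D.T_subsingleton A j hj
    exact @Equiv.subsingleton _ _
      (Iso.homCongr (DerivedCategory.Q.mapIso (evIso D.I)) (Iso.refl (D.W⟦j⟧))).symm hs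

end Data

/-- **Characterization of dualizing complexes over a Noetherian local ring.** -/
theorem isDualizing_of_ext_residueField (R : Dual.D A)
    (hfin : ∀ i : ℤ, Module.Finite A (Dual.HD A R i))
    (hbdd : ∃ a : ℤ, ∀ i : ℤ, i < a → Subsingleton (Dual.HD A R i)) (d : ℤ)
    (hvan : ∀ i : ℤ, i ≠ d → Subsingleton (Dual.inD A (IsLocalRing.ResidueField A) ⟶ R⟦i⟧))
    (hd : Nonempty ((Dual.inD A (IsLocalRing.ResidueField A) ⟶ R⟦d⟧) ≃ₗ[A]
      IsLocalRing.ResidueField A)) : Dual.IsDualizing A R := by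
  obtain ⟨a, ha⟩ := hbdd
  haveI hRge : R.IsGE a := by
    rw [DerivedCategory.isGE_iff]
    intro i hi
    have := ha i hi
    exact ModuleCat.isZero_of_subsingleton _
  have hfinE : ∀ (J : Ideal A) (i : ℤ), Module.Finite A (Dual.inD A (A ⧸ J) ⟶ R⟦i⟧) :=
    fun J i => RestrLin.finite_hom_inD_of_boundedBelow (A ⧸ J) R a ha hfin i
  have hmax : ∀ m : Ideal A, m.IsMaximal → InjDimMax.P R d m := by
    intro m hm i hi
    have hm' : m = IsLocalRing.maximalIdeal A := IsLocalRing.eq_maximalIdeal hm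
    subst hm'
    exact hvan i (by omega)
  have hPall := InjDimMax.P_all R d hfinE hmax
  have h3 : ∀ (J : Ideal A) (i : ℤ), (i < a ∨ d < i) →
      Subsingleton ((singleFunctor (ModuleCat.{u} A) 0).obj (ModuleCat.of A (A ⧸ J)) ⟶ R⟦i⟧) := by
    intro J i hi
    rcases hi with hi | hi
    · have h1 : (R⟦i⟧).IsGE (a - i) := TStructure.t.isGE_shift R a i (a - i) (by omega)
      refine ⟨fun f g => ?_⟩
      have hz : ∀ f : (singleFunctor (ModuleCat.{u} A) 0).obj (ModuleCat.of A (A ⧸ J)) ⟶ R⟦i⟧,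
          f = 0 := fun f => TStructure.t.zero f 0 (a - i) (by omega)
      rw [hz f, hz g]
    · exact hPall J i hi
  have h31 := (KL.IA_tfae R a d).out 2 0
  obtain ⟨I, hv, hinj, ⟨ι⟩⟩ := h31.1 h3
  let ι' : (DerivedCategory.Q.obj I : Dual.D A) ≅ R := ι
  obtain ⟨e⟩ := hd
  let D : Data A :=
    { I := I
      a := a
      b := d
      hv := hv
      hinj := hinj
      hfin := fun i => by
        have := hfin i
        exact Module.Finite.equiv
          ((homologyFunctor (ModuleCat.{u} A) i).mapIso ι').symm.toLinearEquiv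
      d := d
      hvan := fun i hi => by
        have := hvan i hi
        exact (Iso.homCongr (Iso.refl (Dual.inD A (IsLocalRing.ResidueField A)))
          ((shiftFunctor (Dual.D A) i).mapIso ι')).subsingleton
      hd := ⟨(Linear.homCongr A (Iso.refl (Dual.inD A (IsLocalRing.ResidueField A)))
          ((shiftFunctor (Dual.D A) d).mapIso ι')).trans e⟩ }
  exact HomBC.isDualizing_of_iso ι' D.isDualizing

end DualChar
end Groth.Agent.Lib.Helper6
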