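import Groth.Agent.Lib.Helper6.RestrLin2
import Groth.Agent.Lib.Helper6.HomSingle

/-! `H^j(Rφ(Y[0])) ≃ Ext^j_P(B, Y)` semilinearly, for `Rφ` right adjoint to restriction along
`φ : P → B` (helper6). -/

set_option autoImplicit false
set_option linter.unusedSectionVars false
set_option linter.style.haveILetI false
universe u
open CategoryTheory CategoryTheory.Limits DerivedCategory Pretriangulated
attribute [local instance] HasDerivedCategory.standard

namespace Groth.Agent.Lib.Helper6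
namespace ExtOm

variable {P B : Type u} [CommRing P] [CommRing B] (φ : P →+* B)
  {Rφ : Dual.D P ⥤ Dual.D B} (adj : DRing.restrictD φ ⊣ Rφ)

include adj in
/-- `H^j(Rφ(Y[0])) ≃ Ext^j_P(B, Y)`. -/
lemma exists_semilinear_HD_ext (Y : ModuleCat.{u} P) (M' : ModuleCat.{u} P)
    (eM : (ModuleCat.restrictScalars φ).obj (ModuleCat.of B B) ≅ M') (j : ℕ) :
    ∃ θ : Dual.HD B (Rφ.obj ((DerivedCategory.singleFunctor (ModuleCat.{u} P) 0).obj Y)) (j : ℤ) ≃+
        Abelian.Ext.{u} M' Y j,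
      ∀ (p : P) (x : Dual.HD B (Rφ.obj ((DerivedCategory.singleFunctor (ModuleCat.{u} P) 0).obj Y))
        (j : ℤ)), θ (φ p • x) = p • θ x := by
  obtain ⟨l⟩ := HomSingle.nonempty_homSingleEquiv
    (Rφ.obj ((DerivedCategory.singleFunctor (ModuleCat.{u} P) 0).obj Y)) (j : ℤ)
  obtain ⟨θ, hθ⟩ := RestrLin.exists_semilinear_addEquiv φ adj
    ((DerivedCategory.singleFunctor (ModuleCat.{u} P) 0).obj Y) (j : ℤ)
  let e3 : (Dual.inD P ((ModuleCat.restrictScalars φ).obj (ModuleCat.of B B)) ⟶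
      ((DerivedCategory.singleFunctor (ModuleCat.{u} P) 0).obj Y)⟦(j : ℤ)⟧) ≃ₗ[P]
      ((DerivedCategory.singleFunctor (ModuleCat.{u} P) 0).obj M' ⟶
        ((DerivedCategory.singleFunctor (ModuleCat.{u} P) 0).obj Y)⟦(j : ℤ)⟧) :=
    Linear.homCongr P ((DerivedCategory.singleFunctor (ModuleCat.{u} P) 0).mapIso eM) (Iso.refl _)
  let e4 : Abelian.Ext.{u} M' Y j ≃ₗ[P]
      ShiftedHom ((DerivedCategory.singleFunctor (ModuleCat.{u} P) 0).obj M')
        ((DerivedCategory.singleFunctor (ModuleCat.{u} P) 0).obj Y) (j : ℤ) :=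
    Abelian.Ext.homLinearEquiv
  refine ⟨l.symm.toAddEquiv.trans (θ.trans (e3.toAddEquiv.trans e4.symm.toAddEquiv)), ?_⟩
  intro p x
  show e4.symm (e3 (θ (l.symm (φ p • x)))) = p • e4.symm (e3 (θ (l.symm x)))
  have h1 : l.symm (φ p • x) = φ p • l.symm x := l.symm.map_smul _ _
  rw [h1, hθ]
  have h3 : e3 (p • θ (l.symm x)) = p • e3 (θ (l.symm x)) := e3.map_smul _ _
  rw [h3]
  exact e4.symm.map_smul _ _

end ExtOm
end Groth.Agent.Lib.Helper6
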