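import Groth.Agent.Lib.Helper6.ExtOm1
import Groth.Agent.Lib.Helper6.GorFib6
import Groth.Agent.S12080

/-! `ω_{B/A}` for `B = A[t_1..t_N]/I` flat over `A` with `Ext^j_P(B,P) = 0` for `j ≠ c`:
`ω ≅ Ext^c(B,P)[N - c]` (helper6). -/

set_option autoImplicit false
set_option linter.unusedSectionVars false
set_option linter.style.haveILetI false
universe u
open CategoryTheory CategoryTheory.Limits DerivedCategory Pretriangulated TensorProduct
attribute [local instance] HasDerivedCategory.standard

namespace Groth.Agent.Lib.Helper6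
namespace ExtOm

open Groth.Agent.Lib.Helper35 Groth.Agent.Lib.Helper35.TA Groth.Agent.Lib.Helper35.FlatBC LocDual

section single

variable {B : Type u} [CommRing B] (M : Type u) [AddCommGroup M] [Module B M]

/-- cohomology of `M[0][m]`. -/
lemma HD_inD_shift_subsingleton (m i : ℤ) (hi : i + m ≠ 0) :
    Subsingleton (Dual.HD B ((Dual.inD B M)⟦m⟧) i) := by
  let e : (homologyFunctor (ModuleCat.{u} B) i).obj ((Dual.inD B M)⟦m⟧) ≅
      (homologyFunctor (ModuleCat.{u} B) (i + m)).obj (Dual.inD B M) :=
    ((homologyFunctor (ModuleCat.{u} B) 0).shiftIso m i (i + m) (add_comm m i)).app (Dual.inD B M)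
  have hz : IsZero ((homologyFunctor (ModuleCat.{u} B) (i + m)).obj (Dual.inD B M)) := by
    rcases lt_or_gt_of_ne hi with h | h
    · exact DerivedCategory.isZero_of_isGE _ 0 _ h
    · exact DerivedCategory.isZero_of_isLE _ 0 _ h
  have := ModuleCat.subsingleton_of_isZero hz
  exact e.toLinearEquiv.toEquiv.subsingleton

lemma nonempty_HD_inD_shift_equiv (m i : ℤ) (hi : i + m = 0) :
    Nonempty (Dual.HD B ((Dual.inD B M)⟦m⟧) i ≃ₗ[B] M) := by
  let e : (homologyFunctor (ModuleCat.{u} B) i).obj ((Dual.inD B M)⟦m⟧) ≅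
      (homologyFunctor (ModuleCat.{u} B) 0).obj (Dual.inD B M) :=
    ((homologyFunctor (ModuleCat.{u} B) 0).shiftIso m i 0 (by omega)).app (Dual.inD B M)
  let e2 := (DerivedCategory.singleFunctorCompHomologyFunctorIso (ModuleCat.{u} B) 0).app
    (ModuleCat.of B M)
  exact ⟨e.toLinearEquiv.trans e2.toLinearEquiv⟩

end single

section quot

variable {P : Type u} [CommRing P] (I : Ideal P)

/-- `P/I` as a `P`-module, two ways. -/
noncomputable def quotIso :
    (ModuleCat.restrictScalars (Ideal.Quotient.mk I)).obj (ModuleCat.of (P ⧸ I) (P ⧸ I)) ≅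
      ModuleCat.of P (P ⧸ I) :=
  LinearEquiv.toModuleIso
    { toFun := fun x => x
      invFun := fun x => x
      map_add' := fun _ _ => rfl
      map_smul' := fun p x => by
        change (Ideal.Quotient.mk I p) * x = p • (show P ⧸ I from x)
        rw [Algebra.smul_def]
        rfl
      left_inv := fun _ => rfl
      right_inv := fun _ => rfl }

end quot

end ExtOm
end Groth.Agent.Lib.Helper6
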