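import Groth.Agent.Lib.Helper6.ExtOm3

/-! A shifted module `H[n]` is locally a shift of the structure ring iff `H` is invertible
(helper6). -/

set_option autoImplicit false
set_option linter.unusedSectionVars false
set_option linter.style.haveILetI false
universe u
open CategoryTheory CategoryTheory.Limits DerivedCategory Pretriangulated TensorProduct
attribute [local instance] HasDerivedCategory.standard

namespace Groth.Agent.Lib.Helper6
namespace ExtOm

open Groth.Agent.Lib.Helper35 Groth.Agent.Lib.Helper35.TA Groth.Agent.Lib.Helper35.FlatBC LocDual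
open GorFib

section Inv

variable {B : Type u} [CommRing B] [IsNoetherianRing B]
  [hL : ∀ f : B, DRing.HasLBaseChange (algebraMap B (Localization.Away f))]
  (H : Type u) [AddCommGroup H] [Module B H] (K : Dual.D B) (n : ℤ)
  (eK : K ≅ (Dual.inD B H)⟦n⟧)

include eK in
/-- an invertible module in a single degree is locally a shift of the structure ring. -/
theorem locally_trivial_of_invertible [Module.Invertible B H] (q : PrimeSpectrum B) :
    ∃ (f : B) (_ : f ∉ q.asIdeal) (m : ℤ),
      Nonempty ((DRing.LBaseChange (algebraMap B (Localization.Away f))).obj K ≅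
        (Dual.inD (Localization.Away f) (Localization.Away f))⟦m⟧) := by
  haveI : Module.Free (Localization.AtPrime q.asIdeal)
      (LocalizedModule q.asIdeal.primeCompl H) := inferInstance
  obtain ⟨l0⟩ := (Module.Invertible.free_iff_linearEquiv (R := Localization.AtPrime q.asIdeal)
    (M := LocalizedModule q.asIdeal.primeCompl H)).1 inferInstance
  obtain ⟨r, hr, h⟩ := exists_dvd_equiv H q.asIdeal l0
  obtain ⟨l1⟩ := h r dvd_rfl
  refine ⟨r, hr, n, ?_⟩
  letI := LBCPC.lbcCommShift (algebraMap B (Localization.Away r))
  obtain ⟨eF⟩ := nonempty_lbc_inD_flat (A := B) (B := Localization.Away r) H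
  let l2 : TensorProduct B (Localization.Away r) H ≃ₗ[Localization.Away r] Localization.Away r :=
    (LocalizedModule.equivTensorProduct (Submonoid.powers r) H).symm.trans l1
  exact ⟨(DRing.LBaseChange (algebraMap B (Localization.Away r))).mapIso eK ≪≫
    ((DRing.LBaseChange (algebraMap B (Localization.Away r))).commShiftIso n).app _ ≪≫
    (shiftFunctor _ n).mapIso (eF ≪≫
      (DerivedCategory.singleFunctor (ModuleCat.{u} (Localization.Away r)) 0).mapIso
        l2.toModuleIso)⟩

include eK in
/-- conversely. -/
theorem invertible_of_locally_trivial [Module.Finite B H]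
    (hloc : ∀ q : PrimeSpectrum B, ∃ (f : B) (_ : f ∉ q.asIdeal) (m : ℤ),
      Nonempty ((DRing.LBaseChange (algebraMap B (Localization.Away f))).obj K ≅
        (Dual.inD (Localization.Away f) (Localization.Away f))⟦m⟧)) :
    Module.Invertible B H := by
  let s : Set B := {f | Nonempty (LocalizedModule.Away f H ≃ₗ[Localization.Away f]
    Localization.Away f)}
  refine Groth.Agent.S12080.result B H s ?_ (fun f hf => hf)
  by_contra hne
  obtain ⟨m, hm, hle⟩ := Ideal.exists_le_maximal _ hne
  haveI := hm.isPrime
  obtain ⟨f, hf, k, ⟨e⟩⟩ := hloc ⟨m, inferInstance⟩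
  apply hf
  apply hle
  apply Ideal.subset_span
  -- `B_f` is nontrivial
  haveI : Nontrivial (Localization.Away f) := by
    rw [← not_subsingleton_iff_nontrivial,
      IsLocalization.subsingleton_iff (M := Submonoid.powers f)]
    rintro ⟨j, hj⟩
    have hj' : f ^ j = 0 := hj
    exact hf (Ideal.IsPrime.mem_of_pow_mem inferInstance j (by
      change f ^ j ∈ m
      rw [hj']
      exact m.zero_mem))
  -- cohomology of the localization
  have eG : (DRing.LBaseChange (algebraMap B (Localization.Away f))).obj K ≅
      (G B (Localization.Away f)).obj K :=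
    (HomBC.lbcIsoG (A := B) (B := Localization.Away f)).app K
  have hH : ∀ i : ℤ, Nonempty (Dual.HD (Localization.Away f)
      ((Dual.inD (Localization.Away f) (Localization.Away f))⟦k⟧) i ≃ₗ[Localization.Away f]
      TensorProduct B (Localization.Away f) (Dual.HD B ((Dual.inD B H)⟦n⟧) i)) := fun i =>
    ⟨((homologyFunctor (ModuleCat.{u} (Localization.Away f)) i).mapIso
      (e.symm ≪≫ eG ≪≫ (G B (Localization.Away f)).mapIso eK)).toLinearEquiv.trans
      (HomBC.homologyGEquiv (B := Localization.Away f) _ i)⟩
  have hkn : k = n := by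
    by_contra hkn
    obtain ⟨l⟩ := hH (-k)
    obtain ⟨l2⟩ := GorLocus.nonempty_HD_single_shift_equiv (B := Localization.Away f) k (-k)
      (by omega)
    have hs := HD_inD_shift_subsingleton (B := B) H n (-k) (by omega)
    have : Subsingleton (Localization.Away f) := (l2.symm.trans l).toEquiv.subsingleton
    exact not_subsingleton _ this
  subst hkn
  obtain ⟨l⟩ := hH (-k)
  obtain ⟨l2⟩ := GorLocus.nonempty_HD_single_shift_equiv (B := Localization.Away f) k (-k)
    (by omega)
  obtain ⟨l3⟩ := nonempty_HD_inD_shift_equiv (B := B) H k (-k) (by omega)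
  exact ⟨(LocalizedModule.equivTensorProduct (Submonoid.powers f) H).trans
    ((TensorProduct.AlgebraTensorModule.congr (LinearEquiv.refl (Localization.Away f)
      (Localization.Away f)) l3).symm.trans (l.symm.trans l2))⟩

end Inv

end ExtOm
end Groth.Agent.Lib.Helper6
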