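import Groth.Agent.Lib.Helper6.ExtOm4

/-! `Ext^{N-n}_P(B,P)` invertible iff Gorenstein fibres (helper6). -/

set_option autoImplicit false
set_option linter.unusedSectionVars false
set_option linter.style.haveILetI false
universe u
open CategoryTheory CategoryTheory.Limits DerivedCategory Pretriangulated TensorProduct
attribute [local instance] HasDerivedCategory.standard

namespace Groth.Agent.Lib.Helper6
namespace ExtOm

open Groth.Agent.Lib.Helper35 Groth.Agent.Lib.Helper35.TA Groth.Agent.Lib.Helper35.FlatBC LocDual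
open GorFib

section SemiLin

variable {P : Type u} [CommRing P] (I : Ideal P)
  (H : Type u) [AddCommGroup H] [Module (P ⧸ I) H]
  (E : Type u) [AddCommGroup E] [Module P E]
  (θ : H ≃+ E) (hθ : ∀ (p : P) (x : H), θ (Ideal.Quotient.mk I p • x) = p • θ x)

/-- a semilinear additive equivalence gives a `P`-linear one out of the restriction of
scalars. -/
noncomputable def restrictEquiv : RestrictScalars P (P ⧸ I) H ≃ₗ[P] E :=
  { toFun := fun x => θ (RestrictScalars.addEquiv P (P ⧸ I) H x)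
    invFun := fun y => (RestrictScalars.addEquiv P (P ⧸ I) H).symm (θ.symm y)
    map_add' := fun x y => by simp
    map_smul' := fun p x => by
      simp only [RingHom.id_apply]
      rw [RestrictScalars.addEquiv_map_smul, ← hθ]
      rfl
    left_inv := fun x => by simp
    right_inv := fun y => by simp }

/-- two modules over `P ⧸ I` whose restrictions to `P` are isomorphic are isomorphic. -/
noncomputable def quotEquivOfRestrict (L : Type u) [AddCommGroup L] [Module (P ⧸ I) L]
    (l : RestrictScalars P (P ⧸ I) L ≃ₗ[P] E) : H ≃ₗ[P ⧸ I] L :=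
  { toFun := fun x => RestrictScalars.addEquiv P (P ⧸ I) L (l.symm (θ x))
    invFun := fun y => θ.symm (l ((RestrictScalars.addEquiv P (P ⧸ I) L).symm y))
    map_add' := fun x y => by simp
    map_smul' := fun b x => by
      obtain ⟨p, rfl⟩ := Ideal.Quotient.mk_surjective b
      simp only [RingHom.id_apply]
      rw [hθ, l.symm.map_smul, RestrictScalars.addEquiv_map_smul]
      rfl
    left_inv := fun x => by simp
    right_inv := fun y => by simp }

end SemiLin

/-- the main theorem. -/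
theorem main (A : Type u) [CommRing A] [IsNoetherianRing A] (N n : ℕ) (hnN : n ≤ N)
    (I : Ideal (MvPolynomial (Fin N) A)) [Module.Flat A (MvPolynomial (Fin N) A ⧸ I)]
    (hvan : ∀ j : ℕ, j ≠ N - n → Subsingleton (Abelian.Ext.{u}
      (ModuleCat.of (MvPolynomial (Fin N) A) (MvPolynomial (Fin N) A ⧸ I))
      (ModuleCat.of (MvPolynomial (Fin N) A) (MvPolynomial (Fin N) A)) j)) :
    (∃ (L : Type u) (_ : AddCommGroup L) (_ : Module (MvPolynomial (Fin N) A ⧸ I) L),
      Module.Invertible (MvPolynomial (Fin N) A ⧸ I) L ∧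
      Nonempty (RestrictScalars (MvPolynomial (Fin N) A) (MvPolynomial (Fin N) A ⧸ I) L
        ≃ₗ[(MvPolynomial (Fin N) A)]
        Abelian.Ext.{u} (ModuleCat.of (MvPolynomial (Fin N) A) (MvPolynomial (Fin N) A ⧸ I))
          (ModuleCat.of (MvPolynomial (Fin N) A) (MvPolynomial (Fin N) A)) (N - n))) ↔
    ∀ p : PrimeSpectrum A, LocCoh.IsGorensteinRing
      ((MvPolynomial (Fin N) A ⧸ I) ⊗[A] p.asIdeal.ResidueField) := by
  obtain ⟨Rψ, ⟨adj⟩⟩ := Groth.Agent.Lib.Helper90.Shriek.exists_rightAdjoint_restrictD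
    (Ideal.Quotient.mkₐ A I).toRingHom
  haveI := TA.hasLBaseChange (algebraMap A (MvPolynomial (Fin N) A))
  haveI hL : ∀ f : MvPolynomial (Fin N) A ⧸ I, DRing.HasLBaseChange
      (algebraMap (MvPolynomial (Fin N) A ⧸ I) (Localization.Away f)) :=
    fun f => TA.hasLBaseChange _
  have hψ : Function.Surjective (Ideal.Quotient.mkₐ A I) := Ideal.Quotient.mkₐ_surjective A I
  rw [gorenstein_fibres_iff A (MvPolynomial (Fin N) A ⧸ I) N (Ideal.Quotient.mkₐ A I) hψ Rψ adj]
  obtain ⟨eω⟩ := nonempty_omega_iso_single A N I Rψ adj (N - n) hvan (n : ℤ) (by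
    rw [Nat.cast_sub hnN]
    ring)
  obtain ⟨θ, hθ⟩ := exists_theta A N I Rψ adj (N - n)
  have hfinω := ShP.omega_finite A (MvPolynomial (Fin N) A ⧸ I) N (Ideal.Quotient.mkₐ A I)
    hψ Rψ adj (-(n : ℤ))
  obtain ⟨l3⟩ := nonempty_HD_inD_shift_equiv (B := MvPolynomial (Fin N) A ⧸ I)
    (Dual.HD (MvPolynomial (Fin N) A ⧸ I)
      (Rψ.obj (Dual.inD (MvPolynomial (Fin N) A) (MvPolynomial (Fin N) A))) ((N - n : ℕ) : ℤ))
    (n : ℤ) (-(n : ℤ)) (by omega)
  haveI hfinH : Module.Finite (MvPolynomial (Fin N) A ⧸ I)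
      (Dual.HD (MvPolynomial (Fin N) A ⧸ I)
        (Rψ.obj (Dual.inD (MvPolynomial (Fin N) A) (MvPolynomial (Fin N) A)))
          ((N - n : ℕ) : ℤ)) :=
    Module.Finite.equiv (((homologyFunctor (ModuleCat.{u} (MvPolynomial (Fin N) A ⧸ I))
      (-(n : ℤ))).mapIso eω).toLinearEquiv.trans l3)
  constructor
  · rintro ⟨L, _, _, hL', ⟨l⟩⟩
    haveI : Module.Invertible (MvPolynomial (Fin N) A ⧸ I)
        (Dual.HD (MvPolynomial (Fin N) A ⧸ I)
          (Rψ.obj (Dual.inD (MvPolynomial (Fin N) A) (MvPolynomial (Fin N) A)))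
            ((N - n : ℕ) : ℤ)) :=
      Module.Invertible.congr (quotEquivOfRestrict I _ _ θ hθ L l).symm
    exact fun q => locally_trivial_of_invertible _ _ (n : ℤ) eω q
  · intro hloc
    have hinv := invertible_of_locally_trivial _ _ (n : ℤ) eω hloc
    exact ⟨_, _, _, hinv, ⟨restrictEquiv I _ _ θ hθ⟩⟩

end ExtOm
end Groth.Agent.Lib.Helper6
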