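import Mathlib
import Groth.Prelude.Def_Wider
import Groth.Agent.Lib.Helper6.ARExt

/-! Dimension shifting for `Ext` in `D(A)` and the Artin–Rees factorisation of restriction maps
(helper6). -/

set_option autoImplicit false
universe u

open CategoryTheory Limits DerivedCategory

namespace Groth.Agent.Lib.Helper6
namespace ExtShift

attribute [local instance] HasDerivedCategory.standard

variable {A : Type u} [CommRing A]

lemma hom_single_proj_eq_zero {P N : ModuleCat.{u} A} [Projective P] (q : ℤ) (hq : 0 < q)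
    (e : (DerivedCategory.singleFunctor (ModuleCat.{u} A) 0).obj P ⟶
      ((DerivedCategory.singleFunctor (ModuleCat.{u} A) 0).obj N)⟦q⟧) : e = 0 := by
  rw [← cancel_mono (((singleFunctors (ModuleCat.{u} A)).shiftIso q (-q) 0 (by lia)).hom.app N),
    zero_comp]
  exact from_singleFunctor_obj_eq_zero_of_projective
    (L := (CochainComplex.singleFunctor _ (-q)).obj N) (n := -q) _ (by lia)

lemma step {S S' : ShortComplex (ModuleCat.{u} A)} (hS : S.ShortExact) (hS' : S'.ShortExact)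
    (φ : S' ⟶ S) {N N' : ModuleCat.{u} A} (ι : N' ⟶ N) {q' q : ℤ} (hq : q' + 1 = q)
    (hP : ∀ e : (DerivedCategory.singleFunctor (ModuleCat.{u} A) 0).obj S.X₂ ⟶
      ((DerivedCategory.singleFunctor (ModuleCat.{u} A) 0).obj N)⟦q⟧, e = 0)
    (h1 : ∀ e₁ : (DerivedCategory.singleFunctor (ModuleCat.{u} A) 0).obj S.X₁ ⟶
        ((DerivedCategory.singleFunctor (ModuleCat.{u} A) 0).obj N)⟦q'⟧,
      ∃ e₁' : (DerivedCategory.singleFunctor (ModuleCat.{u} A) 0).obj S'.X₁ ⟶
        ((DerivedCategory.singleFunctor (ModuleCat.{u} A) 0).obj N')⟦q'⟧,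
        e₁' ≫ ((DerivedCategory.singleFunctor (ModuleCat.{u} A) 0).map ι)⟦q'⟧' =
          (DerivedCategory.singleFunctor (ModuleCat.{u} A) 0).map φ.τ₁ ≫ e₁)
    (e : (DerivedCategory.singleFunctor (ModuleCat.{u} A) 0).obj S.X₃ ⟶
      ((DerivedCategory.singleFunctor (ModuleCat.{u} A) 0).obj N)⟦q⟧) :
    ∃ e' : (DerivedCategory.singleFunctor (ModuleCat.{u} A) 0).obj S'.X₃ ⟶
      ((DerivedCategory.singleFunctor (ModuleCat.{u} A) 0).obj N')⟦q⟧,
      e' ≫ ((DerivedCategory.singleFunctor (ModuleCat.{u} A) 0).map ι)⟦q⟧' =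
        (DerivedCategory.singleFunctor (ModuleCat.{u} A) 0).map φ.τ₃ ≫ e := by
  obtain ⟨g, hg⟩ := Pretriangulated.Triangle.yoneda_exact₃ _ hS.singleTriangle_distinguished e
    (hP _)
  replace hg : e = hS.singleδ ≫ g := hg
  change ((DerivedCategory.singleFunctor (ModuleCat.{u} A) 0).obj S.X₁)⟦(1 : ℤ)⟧ ⟶
    ((DerivedCategory.singleFunctor (ModuleCat.{u} A) 0).obj N)⟦q⟧ at g
  obtain ⟨e₁, he₁⟩ : ∃ e₁ : (DerivedCategory.singleFunctor (ModuleCat.{u} A) 0).obj S.X₁ ⟶
      ((DerivedCategory.singleFunctor (ModuleCat.{u} A) 0).obj N)⟦q'⟧, e₁⟦(1 : ℤ)⟧' =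
        g ≫ (shiftFunctorAdd' (DerivedCategory (ModuleCat.{u} A)) q' 1 q hq).hom.app _ :=
    ⟨(shiftFunctor (DerivedCategory (ModuleCat.{u} A)) (1 : ℤ)).preimage _,
      Functor.map_preimage _ _⟩
  obtain ⟨e₁', he₁'⟩ := h1 e₁
  refine ⟨hS'.singleδ ≫ e₁'⟦(1 : ℤ)⟧' ≫
    (shiftFunctorAdd' (DerivedCategory (ModuleCat.{u} A)) q' 1 q hq).inv.app _, ?_⟩
  have hnat : (((DerivedCategory.singleFunctor (ModuleCat.{u} A) 0).map ι)⟦q'⟧')⟦(1 : ℤ)⟧' ≫
      (shiftFunctorAdd' (DerivedCategory (ModuleCat.{u} A)) q' 1 q hq).inv.app _ =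
      (shiftFunctorAdd' (DerivedCategory (ModuleCat.{u} A)) q' 1 q hq).inv.app _ ≫
        ((DerivedCategory.singleFunctor (ModuleCat.{u} A) 0).map ι)⟦q⟧' :=
    (shiftFunctorAdd' (DerivedCategory (ModuleCat.{u} A)) q' 1 q hq).inv.naturality
      ((DerivedCategory.singleFunctor (ModuleCat.{u} A) 0).map ι)
  have hcomm : hS'.singleδ ≫ ((DerivedCategory.singleFunctor (ModuleCat.{u} A) 0).map φ.τ₁)⟦(1 : ℤ)⟧' =
      (DerivedCategory.singleFunctor (ModuleCat.{u} A) 0).map φ.τ₃ ≫ hS.singleδ :=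
    (ShortComplex.ShortExact.singleTriangle.map hS' hS φ).comm₃
  rw [Category.assoc, Category.assoc, ← hnat, ← Category.assoc (e₁'⟦(1 : ℤ)⟧'),
    ← CategoryTheory.Functor.map_comp, he₁', CategoryTheory.Functor.map_comp, Category.assoc,
    ← Category.assoc, hcomm, he₁, Category.assoc, Category.assoc,
    Iso.hom_inv_id_app, Category.comp_id, hg]


lemma base {M M' N N' : ModuleCat.{u} A} (ιM : M' ⟶ M) (ιN : N' ⟶ N)
    (h0 : ∀ f : M ⟶ N, ∃ f' : M' ⟶ N', f' ≫ ιN = ιM ≫ f)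
    (e : (DerivedCategory.singleFunctor (ModuleCat.{u} A) 0).obj M ⟶
      ((DerivedCategory.singleFunctor (ModuleCat.{u} A) 0).obj N)⟦(0 : ℤ)⟧) :
    ∃ e' : (DerivedCategory.singleFunctor (ModuleCat.{u} A) 0).obj M' ⟶
      ((DerivedCategory.singleFunctor (ModuleCat.{u} A) 0).obj N')⟦(0 : ℤ)⟧,
      e' ≫ ((DerivedCategory.singleFunctor (ModuleCat.{u} A) 0).map ιN)⟦(0 : ℤ)⟧' =
        (DerivedCategory.singleFunctor (ModuleCat.{u} A) 0).map ιM ≫ e := by
  obtain ⟨f, hf⟩ : ∃ f : M ⟶ N, (DerivedCategory.singleFunctor (ModuleCat.{u} A) 0).map f =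
      e ≫ (shiftFunctorZero (DerivedCategory (ModuleCat.{u} A)) ℤ).hom.app
        ((DerivedCategory.singleFunctor (ModuleCat.{u} A) 0).obj N) :=
    ⟨(DerivedCategory.singleFunctor (ModuleCat.{u} A) 0).preimage _, Functor.map_preimage _ _⟩
  obtain ⟨f', hf'⟩ := h0 f
  refine ⟨(DerivedCategory.singleFunctor (ModuleCat.{u} A) 0).map f' ≫
    (shiftFunctorZero (DerivedCategory (ModuleCat.{u} A)) ℤ).inv.app
      ((DerivedCategory.singleFunctor (ModuleCat.{u} A) 0).obj N'), ?_⟩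
  have hnat := (shiftFunctorZero (DerivedCategory (ModuleCat.{u} A)) ℤ).inv.naturality
    ((DerivedCategory.singleFunctor (ModuleCat.{u} A) 0).map ιN)
  rw [Functor.id_map] at hnat
  rw [Category.assoc, ← hnat, ← Category.assoc, ← CategoryTheory.Functor.map_comp, hf',
    CategoryTheory.Functor.map_comp, hf, Category.assoc, Category.assoc, Iso.hom_inv_id_app,
    Category.comp_id]

section modules

variable (I : Ideal A)

/-- restriction of a linear map to `I^n • ⊤ → I^k • ⊤` for `k ≤ n`. -/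
lemma map_pow_smul_top_le {X Y : Type u} [AddCommGroup X] [Module A X] [AddCommGroup Y] [Module A Y]
    (f : X →ₗ[A] Y) {n k : ℕ} (hk : k ≤ n) (x : X) (hx : x ∈ I ^ n • (⊤ : Submodule A X)) :
    f x ∈ I ^ k • (⊤ : Submodule A Y) := by
  have h1 : (I ^ n • (⊤ : Submodule A X)).map f ≤ I ^ k • (⊤ : Submodule A Y) := by
    rw [Submodule.map_smul'']
    exact Submodule.smul_mono (Ideal.pow_le_pow_right hk) le_top
  exact h1 ⟨x, hx, rfl⟩

end modules


section main

variable [IsNoetherianRing A] (I : Ideal A)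

theorem main_aux (N : Type u) [AddCommGroup N] [Module A N] (p : ℕ) :
    ∀ (q : ℤ) (_ : q = p) (M : Type u) [AddCommGroup M] [Module A M] [Module.Finite A M],
      ∃ c : ℕ, ∀ n k : ℕ, k + c ≤ n →
        ∀ e : Dual.inD A M ⟶ (Dual.inD A N)⟦q⟧,
          ∃ e' : Dual.inD A ↥(I ^ n • ⊤ : Submodule A M) ⟶
              (Dual.inD A ↥(I ^ k • ⊤ : Submodule A N))⟦q⟧,
            e' ≫ ((DerivedCategory.singleFunctor (ModuleCat.{u} A) 0).map
                (ModuleCat.ofHom (I ^ k • ⊤ : Submodule A N).subtype))⟦q⟧' =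
              (DerivedCategory.singleFunctor (ModuleCat.{u} A) 0).map
                (ModuleCat.ofHom (I ^ n • ⊤ : Submodule A M).subtype) ≫ e := by
  induction p with
  | zero =>
    intro q hq M _ _ _
    have hq0 : q = 0 := by simpa using hq
    subst hq0
    refine ⟨0, fun n k hk e => ?_⟩
    have hk' : k ≤ n := by omega
    refine base (ModuleCat.ofHom (I ^ n • ⊤ : Submodule A M).subtype)
      (ModuleCat.ofHom (I ^ k • ⊤ : Submodule A N).subtype) (fun f => ?_) e
    refine ⟨ModuleCat.ofHom (LinearMap.restrict f.hom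
      (fun x hx => map_pow_smul_top_le I f.hom hk' x hx)), ?_⟩
    ext x
    rfl
  | succ p IH =>
    intro q hq M _ _ _
    obtain ⟨t, π, hπ⟩ := Module.Finite.exists_fin' A M
    obtain ⟨c', hc'⟩ := IH (p : ℤ) rfl (LinearMap.ker π)
    obtain ⟨c, hc⟩ := Ideal.exists_pow_inf_eq_pow_smul I (LinearMap.ker π)
    refine ⟨c + c', fun n k hk e => ?_⟩
    have hcn : c ≤ n := by omega
    -- the restricted surjection
    let πn : ↥(I ^ n • ⊤ : Submodule A (Fin t → A)) →ₗ[A] ↥(I ^ n • ⊤ : Submodule A M) :=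
      LinearMap.restrict π (fun x hx => map_pow_smul_top_le I π le_rfl x hx)
    have hπn : Function.Surjective πn := by
      rintro ⟨y, hy⟩
      have h1 : (I ^ n • (⊤ : Submodule A (Fin t → A))).map π = I ^ n • (⊤ : Submodule A M) := by
        rw [Submodule.map_smul'', Submodule.map_top, LinearMap.range_eq_top.2 hπ]
      rw [← h1] at hy
      obtain ⟨x, hx, hxy⟩ := hy
      exact ⟨⟨x, hx⟩, Subtype.ext hxy⟩
    have hS := LinearMap.shortExact_shortComplexKer hπ
    have hS' := LinearMap.shortExact_shortComplexKer hπn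
    -- the map on kernels
    let τ₁ : ↥(LinearMap.ker πn) →ₗ[A] ↥(LinearMap.ker π) :=
      LinearMap.restrict (I ^ n • ⊤ : Submodule A (Fin t → A)).subtype (fun x hx => by
        have h2 : πn x = 0 := hx
        have h3 := congrArg Subtype.val h2
        exact h3)
    let φ : πn.shortComplexKer ⟶ π.shortComplexKer :=
      { τ₁ := ModuleCat.ofHom τ₁
        τ₂ := ModuleCat.ofHom (I ^ n • ⊤ : Submodule A (Fin t → A)).subtype
        τ₃ := ModuleCat.ofHom (I ^ n • ⊤ : Submodule A M).subtype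
        comm₁₂ := by ext x; rfl
        comm₂₃ := by ext x; rfl }
    have hqq : (p : ℤ) + 1 = q := by rw [hq]; push_cast; rfl
    have hproj : Projective (ModuleCat.of A (Fin t → A)) :=
      (IsProjective.iff_projective (Fin t → A)).1 inferInstance
    refine step hS hS' φ (ModuleCat.ofHom (I ^ k • ⊤ : Submodule A N).subtype) hqq
      (fun e₂ => hom_single_proj_eq_zero q (by omega) e₂) (fun e₁ => ?_) e
    -- the inductive hypothesis
    obtain ⟨e₁'', he₁''⟩ := hc' (n - c) k (by omega) e₁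
    have hmem : ∀ x : ↥(LinearMap.ker πn),
        τ₁ x ∈ I ^ (n - c) • (⊤ : Submodule A ↥(LinearMap.ker π)) := by
      intro x
      apply ARExt.mem_smul_top_of_coe_mem
      have h4 : ((x : ↥(I ^ n • ⊤ : Submodule A (Fin t → A))) : Fin t → A) ∈
          I ^ n • (⊤ : Submodule A (Fin t → A)) ⊓ LinearMap.ker π :=
        ⟨x.1.2, (τ₁ x).2⟩
      rw [hc n hcn] at h4
      exact Submodule.smul_mono le_rfl inf_le_right h4
    let j : ↥(LinearMap.ker πn) →ₗ[A] ↥(I ^ (n - c) • ⊤ : Submodule A ↥(LinearMap.ker π)) :=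
      LinearMap.codRestrict _ τ₁ hmem
    refine ⟨(DerivedCategory.singleFunctor (ModuleCat.{u} A) 0).map (ModuleCat.ofHom j) ≫ e₁'', ?_⟩
    rw [Category.assoc, he₁'', ← Category.assoc, ← CategoryTheory.Functor.map_comp]
    rfl

end main

end ExtShift
end Groth.Agent.Lib.Helper6
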