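import Mathlib
import Groth.Prelude.Def_FlatCA

/-!
# Fibre ideals and fibre modules (helper6)

Small facts on `FlatCA.fiberIdeal` and `FlatCA.fiberMod`.
-/

set_option autoImplicit false
universe u
open TensorProduct

namespace Groth.Agent.Lib.Helper6

lemma comap_fiberIdeal {R S : Type u} [CommRing R] [CommRing S] [Algebra R S] (p : Ideal R)
    [p.IsPrime] (q : Ideal S) [q.IsPrime] [hq : q.LiesOver p] :
    (FlatCA.fiberIdeal p q).comap
      (Algebra.TensorProduct.includeRight (R := R) (A := p.ResidueField) (B := S)).toRingHom = q := by
  apply le_antisymm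
  · let e := PrimeSpectrum.primesOverOrderIsoFiber R S p
    have hmem : q ∈ p.primesOver S := ⟨inferInstance, hq⟩
    have h1 : ((e ⟨q, hmem⟩).asIdeal).comap
        (Algebra.TensorProduct.includeRight (R := R) (A := p.ResidueField) (B := S)) = q := by
      have := PrimeSpectrum.coe_primesOverOrderIsoFiber_symm_apply (R := R) (S := S) (p := p)
        (e ⟨q, hmem⟩)
      simp only [e, OrderIso.symm_apply_apply] at this
      exact this.symm
    have h2 : FlatCA.fiberIdeal p q ≤ (e ⟨q, hmem⟩).asIdeal := by
      unfold FlatCA.fiberIdeal
      rw [Ideal.map_le_iff_le_comap]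
      exact h1.symm.le
    calc _ ≤ ((e ⟨q, hmem⟩).asIdeal).comap _ := Ideal.comap_mono h2
      _ = q := h1
  · exact Ideal.le_comap_map

attribute [local instance] Algebra.TensorProduct.rightAlgebra in
lemma includeRight_mem_annihilator_fiberMod {R S : Type u} [CommRing R] [CommRing S] [Algebra R S]
    (p : Ideal R) [p.IsPrime] (N : Type u) [AddCommGroup N] [Module S N] [Module R N]
    [IsScalarTower R S N] (s : S) (hs : ∀ n : N, s • n = 0) :
    Algebra.TensorProduct.includeRight (R := R) (A := p.ResidueField) (B := S) s ∈
      Module.annihilator (p.Fiber S) (FlatCA.fiberMod p S N) := by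
  rw [Module.mem_annihilator]
  intro x
  change (Algebra.TensorProduct.includeRight (R := R) (A := p.ResidueField) (B := S) s) •
    (show (p.Fiber S) ⊗[S] N from x) = 0
  generalize (show (p.Fiber S) ⊗[S] N from x) = x
  induction x using TensorProduct.induction_on with
  | zero => exact smul_zero _
  | tmul y n' =>
    rw [TensorProduct.smul_tmul']
    have : (Algebra.TensorProduct.includeRight (R := R) (A := p.ResidueField) (B := S) s) • y
        = s • y := by
      change (Algebra.TensorProduct.includeRight (R := R) (A := p.ResidueField) (B := S) s) * y = _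
      rw [Algebra.smul_def]
      rfl
    rw [this, TensorProduct.smul_tmul, hs n', TensorProduct.tmul_zero]
  | add x y hx hy => rw [smul_add, hx, hy, add_zero]

end Groth.Agent.Lib.Helper6
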