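import Mathlib

/-! # Flatness algebra lemmas (helper6) -/

set_option autoImplicit false
universe u

open TensorProduct

namespace Groth.Agent.Lib.Helper6

/-- If `B → B'` is faithfully flat, then `B ⊗[C] N → B' ⊗[C] N` is injective. -/
lemma rTensor_injective_of_faithfullyFlat (C B B' N : Type*) [CommRing C] [CommRing B]
    [CommRing B'] [Algebra C B] [Algebra C B'] [Algebra B B'] [IsScalarTower C B B']
    [Module.FaithfullyFlat B B'] [AddCommMonoid N] [Module C N] :
    Function.Injective (LinearMap.rTensor N (IsScalarTower.toAlgHom C B B').toLinearMap) := by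
  have h1 : Function.Injective (TensorProduct.mk B B' (B ⊗[C] N) 1) :=
    Module.FaithfullyFlat.tensorProduct_mk_injective (A := B) (B := B') (B ⊗[C] N)
  let e := TensorProduct.AlgebraTensorModule.cancelBaseChange C B B B' N
  have h2 : Function.Injective (e.toLinearMap.restrictScalars C ∘ₗ
      (TensorProduct.mk B B' (B ⊗[C] N) 1).restrictScalars C) := by
    simpa using e.injective.comp h1
  convert h2 using 1
  ext x
  induction x using TensorProduct.induction_on with
  | zero => simp
  | tmul b n =>
    simp [e, Algebra.smul_def]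
  | add x y hx hy => simp only [map_add, hx, hy]

/-- Descent of flatness along a ring map through which a faithfully flat map factors. -/
lemma flat_of_flat_comp_of_faithfullyFlat_comp (C B A B' : Type u) [CommRing C] [CommRing B]
    [CommRing A] [CommRing B'] [Algebra C B] [Algebra B A] [Algebra C A] [IsScalarTower C B A]
    [Algebra A B'] [Algebra B B'] [IsScalarTower B A B'] [Algebra C B'] [IsScalarTower C B B']
    [IsScalarTower C A B']
    [Module.Flat C A] [Module.FaithfullyFlat B B'] : Module.Flat C B := by
  rw [Module.Flat.iff_lTensor_injectiveₛ]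
  intro P _ _ N
  let ψ : B →ₗ[C] A := (IsScalarTower.toAlgHom C B A).toLinearMap
  let χ : A →ₗ[C] B' := (IsScalarTower.toAlgHom C A B').toLinearMap
  have hχψ : χ ∘ₗ ψ = (IsScalarTower.toAlgHom C B B').toLinearMap := by
    ext b
    simp [χ, ψ, ← IsScalarTower.algebraMap_apply]
  have hpure : Function.Injective (LinearMap.rTensor N ψ) := by
    have := rTensor_injective_of_faithfullyFlat C B B' N
    rw [← hχψ, LinearMap.rTensor_comp, LinearMap.coe_comp] at this
    exact Function.Injective.of_comp this
  have hbot : Function.Injective (LinearMap.lTensor A N.subtype) :=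
    Module.Flat.lTensor_preserves_injective_linearMap _ N.injective_subtype
  have hsq : LinearMap.rTensor P ψ ∘ₗ LinearMap.lTensor B N.subtype =
      LinearMap.lTensor A N.subtype ∘ₗ LinearMap.rTensor N ψ := by
    rw [LinearMap.rTensor_comp_lTensor, LinearMap.lTensor_comp_rTensor]
  have : Function.Injective (LinearMap.rTensor P ψ ∘ₗ LinearMap.lTensor B N.subtype) := by
    rw [hsq, LinearMap.coe_comp]
    exact hbot.comp hpure
  rw [LinearMap.coe_comp] at this
  exact Function.Injective.of_comp this

/-- Ring hom version. -/
lemma ringHom_flat_of_flat_comp_of_faithfullyFlat_comp {C B A B' : Type u} [CommRing C]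
    [CommRing B] [CommRing A] [CommRing B'] (φ : C →+* B) (ψ : B →+* A) (χ : A →+* B')
    (h1 : (ψ.comp φ).Flat) (h2 : (χ.comp ψ).FaithfullyFlat) : φ.Flat := by
  algebraize [φ, ψ, χ, ψ.comp φ, χ.comp ψ, χ.comp (ψ.comp φ)]
  have : IsScalarTower C B B' := .of_algebraMap_eq' rfl
  exact flat_of_flat_comp_of_faithfullyFlat_comp C B A B'

end Groth.Agent.Lib.Helper6
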