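import Groth.Agent.Lib.Helper6.RDual3
import Groth.Agent.Lib.Helper6.HomSingle
import Groth.Agent.Lib.Helper6.Bidual6

/-! `RHom_B(B/𝔞B, B ⊗ K) = B ⊗ RHom_A(A/𝔞, K)` on cohomology, for `A → B` flat (helper6). -/

set_option autoImplicit false
set_option linter.unusedSectionVars false
set_option linter.style.haveILetI false
universe u
open CategoryTheory CategoryTheory.Limits DerivedCategory Pretriangulated TensorProduct
attribute [local instance] HasDerivedCategory.standard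

namespace Groth.Agent.Lib.Helper6
namespace FlatGor

open Groth.Agent.Lib.Helper35 Groth.Agent.Lib.Helper35.FlatBC HomBC

variable {A B : Type u} [CommRing A] [CommRing B] [Algebra A B] [Module.Flat A B]

lemma Phi_smul (K L : Dual.D A) (b : B) (x : B ⊗[A] (K ⟶ L)) :
    Phi A B K L (b • x) = b • Phi A B K L x := by
  induction x using TensorProduct.induction_on with
  | zero => simp
  | tmul b' f =>
    rw [TensorProduct.smul_tmul', Phi_tmul, Phi_tmul, smul_eq_mul, mul_smul]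
  | add x y hx hy => rw [smul_add, map_add, hx, hy, map_add, smul_add]

variable (𝔞 : Ideal A)

/-- the quotient map `B → B/𝔞B`. -/
abbrev qφ : B →+* (B ⧸ 𝔞.map (algebraMap A B)) := Ideal.Quotient.mk (𝔞.map (algebraMap A B))

/-- `B/𝔞B`, restricted to `B`, is `B ⊗ A/𝔞`. -/
noncomputable def psi :
    ((ModuleCat.restrictScalars (qφ (B := B) 𝔞)).obj
      (ModuleCat.of (B ⧸ 𝔞.map (algebraMap A B)) (B ⧸ 𝔞.map (algebraMap A B)))) ≃ₗ[B]
      B ⊗[A] (A ⧸ 𝔞) :=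
  ({ toFun := fun x => x
     invFun := fun x => x
     map_add' := fun _ _ => rfl
     map_smul' := fun _ _ => rfl
     left_inv := fun _ => rfl
     right_inv := fun _ => rfl } :
    ((ModuleCat.restrictScalars (qφ (B := B) 𝔞)).obj
      (ModuleCat.of (B ⧸ 𝔞.map (algebraMap A B)) (B ⧸ 𝔞.map (algebraMap A B)))) ≃ₗ[B]
      (B ⧸ 𝔞.map (algebraMap A B))) ≪≫ₗ
    (Algebra.TensorProduct.quotIdealMapEquivTensorQuot B 𝔞).toLinearEquiv

/-- `(B/𝔞B)[0]` in `D(B)` is `G (A/𝔞 [0])`. -/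
noncomputable def iotaIso :
    Dual.inD B ((ModuleCat.restrictScalars (qφ (B := B) 𝔞)).obj
      (ModuleCat.of (B ⧸ 𝔞.map (algebraMap A B)) (B ⧸ 𝔞.map (algebraMap A B)))) ≅
      (G A B).obj (Dual.inD A (A ⧸ 𝔞)) :=
  (DerivedCategory.singleFunctor (ModuleCat.{u} B) 0).mapIso (psi (B := B) 𝔞).toModuleIso ≪≫
    (GInDIso (A := A) B (A ⧸ 𝔞)).symm

variable {R : Dual.D B ⥤ Dual.D (B ⧸ 𝔞.map (algebraMap A B))}
  (adj : DRing.restrictD (qφ (B := B) 𝔞) ⊣ R)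

include adj in
/-- the key semilinear bijection. -/
theorem exists_semilinear (K : Dual.D A) (a : ℤ) [K.IsGE a] (i : ℤ)
    (hpc : ∀ m : ℤ, DRing.IsPseudoCoherent A m (Dual.inD A (A ⧸ 𝔞))) :
    ∃ Θ : Dual.HD (B ⧸ 𝔞.map (algebraMap A B)) (R.obj ((G A B).obj K)) i ≃+
        B ⊗[A] (Dual.inD A (A ⧸ 𝔞) ⟶ K⟦i⟧),
      ∀ (b : B) (h : Dual.HD (B ⧸ 𝔞.map (algebraMap A B)) (R.obj ((G A B).obj K)) i),
        Θ (qφ (B := B) 𝔞 b • h) = b • Θ h := by
  obtain ⟨e1⟩ := HomSingle.nonempty_homSingleEquiv (R.obj ((G A B).obj K)) i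
  obtain ⟨θ, hθ⟩ := RestrLin.exists_semilinear_addEquiv (qφ (B := B) 𝔞) adj ((G A B).obj K) i
  let e3 := Linear.homCongr B (iotaIso (B := B) 𝔞) (GShiftIso (B := B) K i).symm
  have hge : (K⟦i⟧).IsGE (a - i) := TStructure.t.isGE_shift K a i (a - i) (by omega)
  have hb := bijective_Phi_of_isPC (B := B) (Dual.inD A (A ⧸ 𝔞)) (K⟦i⟧) (a - i) (hpc _)
  let e4 : B ⊗[A] (Dual.inD A (A ⧸ 𝔞) ⟶ K⟦i⟧) ≃+
      ((G A B).obj (Dual.inD A (A ⧸ 𝔞)) ⟶ (G A B).obj (K⟦i⟧)) :=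
    AddEquiv.ofBijective (Phi A B (Dual.inD A (A ⧸ 𝔞)) (K⟦i⟧)) hb
  refine ⟨((e1.symm.toAddEquiv.trans θ).trans e3.toAddEquiv).trans e4.symm, ?_⟩
  intro b h
  simp only [AddEquiv.trans_apply]
  have h1 : e1.symm.toAddEquiv (qφ (B := B) 𝔞 b • h) = qφ (B := B) 𝔞 b • e1.symm.toAddEquiv h :=
    e1.symm.map_smul _ _
  rw [h1, hθ]
  have h3 : e3.toAddEquiv (b • θ (e1.symm.toAddEquiv h)) = b • e3.toAddEquiv (θ (e1.symm.toAddEquiv h)) :=
    e3.map_smul _ _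
  rw [h3]
  apply e4.injective
  rw [AddEquiv.apply_symm_apply]
  change _ = Phi A B _ _ (b • e4.symm _)
  rw [Phi_smul]
  congr 1
  exact (e4.apply_symm_apply _).symm

end FlatGor
end Groth.Agent.Lib.Helper6
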