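import Groth.Agent.Lib.Helper6.FlatGor5

/-! Ascent of dualizing complexes along flat maps with Gorenstein fibres, when the target has
finite Krull dimension (no finite type hypothesis) (helper6). -/

set_option autoImplicit false
set_option linter.unusedSectionVars false
set_option linter.style.haveILetI false
universe u
open CategoryTheory CategoryTheory.Limits DerivedCategory Pretriangulated TensorProduct
attribute [local instance] HasDerivedCategory.standard

namespace Groth.Agent.Lib.Helper6
namespace FlatGor

open Groth.Agent.Lib.Helper35 Groth.Agent.Lib.Helper35.FlatBC HomBC LocDual InjDimMax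

variable {A B : Type u} [CommRing A] [CommRing B] [Algebra A B] [Module.Flat A B]
  [IsNoetherianRing A] [IsNoetherianRing B]

open Groth.Agent.Lib.Helper24 Groth.Agent.Lib.Helper29 in
theorem max_aux_dimB (p : Ideal A) [p.IsPrime] (N : ℕ)
    (hFib : LocCoh.IsGorensteinRing (p.Fiber B))
    (hdimB : ringKrullDim B ≤ (N : WithBot ℕ∞))
    (q' : Ideal (p.Fiber B)) [q'.IsPrime]
    [hmax : (q'.comap (Algebra.TensorProduct.includeRight : B →ₐ[A] p.Fiber B)).IsMaximal]
    (ω : Dual.D A) (hω : Dual.IsDualizing A ω) (a b : ℤ) [ω.IsGE a]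
    (hb : ∀ i : ℤ, b < i → Subsingleton (Dual.inD A (A ⧸ p) ⟶ ω⟦i⟧))
    (i : ℤ) (hi : b + N < i) :
    Subsingleton (Dual.inD B
      (B ⧸ q'.comap (Algebra.TensorProduct.includeRight : B →ₐ[A] p.Fiber B)) ⟶
        ((G A B).obj ω)⟦i⟧) := by
  haveI hlies : (q'.comap (Algebra.TensorProduct.includeRight : B →ₐ[A] p.Fiber B)).LiesOver p := by
    infer_instance
  letI := Localization.AtPrime.algebraOfLiesOver p
    (q'.comap (Algebra.TensorProduct.includeRight : B →ₐ[A] p.Fiber B))
  let e := fiberLocalizationEquiv p q'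
  have hmap : (IsLocalRing.maximalIdeal (Localization.AtPrime p)).map
      (algebraMap (Localization.AtPrime p) (Localization.AtPrime
        (q'.comap (Algebra.TensorProduct.includeRight : B →ₐ[A] p.Fiber B)))) =
      p.map (algebraMap A (Localization.AtPrime
        (q'.comap (Algebra.TensorProduct.includeRight : B →ₐ[A] p.Fiber B)))) := by
    rw [← Localization.AtPrime.map_eq_maximalIdeal, Ideal.map_map,
      ← IsScalarTower.algebraMap_eq]
  have hG' := isGorensteinLocalRing_of_ringEquiv e (hFib.isGorensteinLocalRing_localization q')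
  have hG := (isGorensteinLocalRing_quotient_congr hmap).2 hG'
  have hd1 : ringKrullDim (Localization.AtPrime
      (q'.comap (Algebra.TensorProduct.includeRight : B →ₐ[A] p.Fiber B))) ≤
      (N : WithBot ℕ∞) := by
    rw [IsLocalization.AtPrime.ringKrullDim_eq_height
      (q'.comap (Algebra.TensorProduct.includeRight : B →ₐ[A] p.Fiber B))
      (Localization.AtPrime (q'.comap (Algebra.TensorProduct.includeRight : B →ₐ[A] p.Fiber B)))]
    exact le_trans (Ideal.height_le_ringKrullDim_of_ne_top Ideal.IsPrime.ne_top') hdimB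
  have hdim : ringKrullDim (Localization.AtPrime
      (q'.comap (Algebra.TensorProduct.includeRight : B →ₐ[A] p.Fiber B)) ⧸
      (IsLocalRing.maximalIdeal (Localization.AtPrime p)).map
      (algebraMap (Localization.AtPrime p) (Localization.AtPrime
        (q'.comap (Algebra.TensorProduct.includeRight : B →ₐ[A] p.Fiber B))))) ≤
      (N : WithBot ℕ∞) :=
    le_trans (ringKrullDim_quotient_le _) hd1
  exact subsingleton_hom_max p
    (q'.comap (Algebra.TensorProduct.includeRight : B →ₐ[A] p.Fiber B)) ω hω a b hb N hG hdim i hi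

open Groth.Agent.Lib.Helper24 Groth.Agent.Lib.Helper29 in
/-- flat map of Noetherian rings with Gorenstein fibres and target of finite Krull dimension:
base change of a dualizing complex is dualizing. -/
theorem isDualizing_G_of_gorenstein_fibres_of_dim (N : ℕ)
    (hdimB : ringKrullDim B ≤ (N : WithBot ℕ∞))
    (hfib : ∀ (p : Ideal A) [p.IsPrime], LocCoh.IsGorensteinRing (p.Fiber B))
    (ω : Dual.D A) (hω : Dual.IsDualizing A ω) : Dual.IsDualizing B ((G A B).obj ω) := by
  obtain ⟨a, b, hge, hle, hab⟩ := isDualizing_bounds hω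
  refine isDualizing_G_of_P (B := B) ω hω (b + N) ?_
  intro n hn i hi
  haveI := hn
  obtain ⟨p, hp, hlies⟩ : ∃ p : Ideal A, p.IsPrime ∧ n.LiesOver p :=
    ⟨n.under A, inferInstance, ⟨rfl⟩⟩
  obtain ⟨q', hq', hq'n⟩ := exists_fiber_prime p n
  subst hq'n
  exact max_aux_dimB p N (hfib p) hdimB q' ω hω a b
    (fun i hi => hab (A ⧸ p) i (Or.inr hi)) i hi

end FlatGor
end Groth.Agent.Lib.Helper6
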