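import Groth.Agent.Lib.Helper6.FlatGor12

/-! The exact nonvanishing degree of `Ext(κ(n), ω ⊗ B_n)` for a flat map with Gorenstein fibre
local ring (helper6). -/

set_option autoImplicit false
set_option linter.unusedSectionVars false
set_option linter.style.haveILetI false
universe u
open CategoryTheory CategoryTheory.Limits DerivedCategory Pretriangulated TensorProduct
attribute [local instance] HasDerivedCategory.standard

namespace Groth.Agent.Lib.Helper6
namespace FlatGor

open Groth.Agent.Lib.Helper35 Groth.Agent.Lib.Helper35.FlatBC HomBC LocDual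

variable {A B : Type u} [CommRing A] [CommRing B] [Algebra A B] [Module.Flat A B]
  [IsNoetherianRing A] [IsNoetherianRing B]

set_option maxHeartbeats 800000 in
theorem nontrivial_hom_prime
    (p : Ideal A) [p.IsPrime] (n : Ideal B) [n.IsPrime] [n.LiesOver p]
    [Algebra (Localization.AtPrime p) (Localization.AtPrime n)]
    [Localization.AtPrime.IsLiesOverAlgebra p n]
    (ω : Dual.D A) (hω : Dual.IsDualizing A ω) (s₀ : ℤ)
    (hs₀ : Nontrivial (Dual.inD (Localization.AtPrime p) (Localization.AtPrime p ⧸
        IsLocalRing.maximalIdeal (Localization.AtPrime p)) ⟶ (Gat p ω)⟦s₀⟧))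
    (d : ℕ)
    (hG : LocCoh.IsGorensteinLocalRing (Localization.AtPrime n ⧸
      (IsLocalRing.maximalIdeal (Localization.AtPrime p)).map
        (algebraMap (Localization.AtPrime p) (Localization.AtPrime n))))
    (hdim : ringKrullDim (Localization.AtPrime n ⧸
      (IsLocalRing.maximalIdeal (Localization.AtPrime p)).map
        (algebraMap (Localization.AtPrime p) (Localization.AtPrime n))) = (d : WithBot ℕ∞))
    [Module.Flat A (Localization.AtPrime n)] :
    Nontrivial (Dual.inD (Localization.AtPrime n) (Localization.AtPrime n ⧸
      IsLocalRing.maximalIdeal (Localization.AtPrime n)) ⟶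
      ((G A (Localization.AtPrime n)).obj ω)⟦s₀ + d⟧) := by
  obtain ⟨a, b, hge, hle, hab⟩ := isDualizing_bounds hω
  have hNp : IsNoetherianRing (Localization.AtPrime p) :=
    IsLocalization.isNoetherianRing p.primeCompl _ inferInstance
  have hNn : IsNoetherianRing (Localization.AtPrime n) :=
    IsLocalization.isNoetherianRing n.primeCompl _ inferInstance
  have hflat : Module.Flat (Localization.AtPrime p) (Localization.AtPrime n) := inferInstance
  have hGat : Dual.IsDualizing (Localization.AtPrime p) (Gat p ω) := isDualizing_Gat p ω hω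
  obtain ⟨s, hs, hs'⟩ := Groth.Agent.S0364.result (Localization.AtPrime p) (Gat p ω) hGat
    (IsLocalRing.maximalIdeal (Localization.AtPrime p))
  have hsb : s = s₀ := by
    by_contra hcon
    have := hs s₀ (Ne.symm hcon)
    exact not_subsingleton _ this
  subst hsb
  haveI : IsLocalRing (Localization.AtPrime n ⧸
      (IsLocalRing.maximalIdeal (Localization.AtPrime p)).map
        (algebraMap (Localization.AtPrime p) (Localization.AtPrime n))) := hG.toIsLocalRing
  haveI : (Gat p ω).IsGE a := isGE_G (B := Localization.AtPrime p) ω a
  obtain ⟨E⟩ := localEquiv (A := Localization.AtPrime p) (B := Localization.AtPrime n)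
    (RDual.adjq (qφ (B := Localization.AtPrime n)
      (IsLocalRing.maximalIdeal (Localization.AtPrime p)))) (Gat p ω) a s hs hs' (s + d)
  have h1 := gorNontrivial _ hG d hdim
  have hsd : s + (d : ℤ) - s = (d : ℤ) := by ring
  rw [hsd] at E
  have h2 : Nontrivial (Dual.inD (Localization.AtPrime n) (Localization.AtPrime n ⧸
      IsLocalRing.maximalIdeal (Localization.AtPrime n)) ⟶
      ((G (Localization.AtPrime p) (Localization.AtPrime n)).obj (Gat p ω))⟦s + d⟧) :=
    E.nontrivial
  let c : (G (Localization.AtPrime p) (Localization.AtPrime n)).obj (Gat p ω) ≅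
      (G A (Localization.AtPrime n)).obj ω :=
    GComp.iso A (Localization.AtPrime p) (Localization.AtPrime n) ω
  exact (Iso.homCongr (Iso.refl _)
      ((shiftFunctor (Dual.D (Localization.AtPrime n)) (s + d)).mapIso c)).symm.nontrivial

end FlatGor
end Groth.Agent.Lib.Helper6
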