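import Groth.Agent.Lib.Helper6.FlatGor1
import Groth.Agent.Lib.Helper35.TwoTerm

/-! Flat local homomorphisms with Gorenstein closed fibre: vanishing of `Ext_B(κ_B, B ⊗ ω)`
above `s + N` (helper6). -/

set_option autoImplicit false
set_option linter.unusedSectionVars false
set_option linter.style.haveILetI false
universe u
open CategoryTheory CategoryTheory.Limits DerivedCategory Pretriangulated TensorProduct
attribute [local instance] HasDerivedCategory.standard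

namespace Groth.Agent.Lib.Helper6
namespace FlatGor

open Groth.Agent.Lib.Helper35 Groth.Agent.Lib.Helper35.FlatBC HomBC

variable {A B : Type u} [CommRing A] [CommRing B] [Algebra A B] [Module.Flat A B]
variable (𝔞 : Ideal A)
variable {R : Dual.D B ⥤ Dual.D (B ⧸ 𝔞.map (algebraMap A B))}
  (adj : DRing.restrictD (qφ (B := B) 𝔞) ⊣ R)

include adj in
theorem nonempty_iso_single_of_concentrated (K : Dual.D A) (a : ℤ) [K.IsGE a]
    (hpc : ∀ m : ℤ, DRing.IsPseudoCoherent A m (Dual.inD A (A ⧸ 𝔞))) (s : ℤ)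
    (hs : ∀ i : ℤ, i ≠ s → Subsingleton (Dual.inD A (A ⧸ 𝔞) ⟶ K⟦i⟧))
    (hs' : Nonempty ((Dual.inD A (A ⧸ 𝔞) ⟶ K⟦s⟧) ≃ₗ[A] A ⧸ 𝔞)) :
    Nonempty (R.obj ((G A B).obj K) ≅
      (DerivedCategory.singleFunctor (ModuleCat.{u} (B ⧸ 𝔞.map (algebraMap A B))) s).obj
        (ModuleCat.of (B ⧸ 𝔞.map (algebraMap A B)) (B ⧸ 𝔞.map (algebraMap A B)))) := by
  set Y := R.obj ((G A B).obj K) with hY
  have hvan : ∀ i : ℤ, i ≠ s → Subsingleton (Dual.HD (B ⧸ 𝔞.map (algebraMap A B)) Y i) := by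
    intro i hi
    obtain ⟨Θ, -⟩ := exists_semilinear (B := B) 𝔞 adj K a i hpc
    have := hs i hi
    exact Θ.toEquiv.subsingleton
  obtain ⟨hge, hle⟩ := KL.isGE_and_isLE_of_subsingleton Y s s (fun i hi => hvan i (by omega))
  obtain ⟨Θ, hΘ⟩ := exists_semilinear (B := B) 𝔞 adj K a s hpc
  obtain ⟨e0⟩ := hs'
  let e5 : B ⊗[A] (Dual.inD A (A ⧸ 𝔞) ⟶ K⟦s⟧) ≃ₗ[B] B ⊗[A] (A ⧸ 𝔞) :=
    TensorProduct.AlgebraTensorModule.congr (LinearEquiv.refl B B) e0
  let e6 : B ⊗[A] (A ⧸ 𝔞) ≃ₗ[B] (B ⧸ 𝔞.map (algebraMap A B)) :=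
    (Algebra.TensorProduct.quotIdealMapEquivTensorQuot B 𝔞).symm.toLinearEquiv
  let e : Dual.HD (B ⧸ 𝔞.map (algebraMap A B)) Y s ≃ₗ[B ⧸ 𝔞.map (algebraMap A B)]
      (B ⧸ 𝔞.map (algebraMap A B)) :=
    { toFun := fun h => e6 (e5 (Θ h))
      invFun := fun x => Θ.symm (e5.symm (e6.symm x))
      map_add' := fun x y => by rw [map_add, map_add, map_add]
      map_smul' := fun c h => by
        obtain ⟨b, rfl⟩ := Ideal.Quotient.mk_surjective c
        have h1 := hΘ b h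
        change e6 (e5 (Θ (qφ (B := B) 𝔞 b • h))) = _
        rw [h1, map_smul, map_smul]
        rfl
      left_inv := fun h => by simp
      right_inv := fun x => by simp }
  exact Bidual.nonempty_iso_single Y s _ e

end FlatGor
end Groth.Agent.Lib.Helper6
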