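import Groth.Agent.Lib.Helper35.FlatBC
import Mathlib

/-! Composition of flat derived base change functors on objects (helper6). -/

set_option autoImplicit false
set_option linter.unusedSectionVars false
universe u
open CategoryTheory CategoryTheory.Limits DerivedCategory
attribute [local instance] HasDerivedCategory.standard

namespace Groth.Agent.Lib.Helper6
namespace GComp

open Groth.Agent.Lib.Helper35 Groth.Agent.Lib.Helper35.FlatBC

variable (A B C : Type u) [CommRing A] [CommRing B] [CommRing C] [Algebra A B] [Algebra B C]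
  [Algebra A C] [IsScalarTower A B C]

/-- `C ⊗_B (B ⊗_A -) ≅ C ⊗_A -`. -/
noncomputable def extCompIso : ext A B ⋙ ext B C ≅ ext A C :=
  (ModuleCat.extendScalarsComp (algebraMap A B) (algebraMap B C)).symm ≪≫
    eqToIso (show ModuleCat.extendScalars ((algebraMap B C).comp (algebraMap A B)) = ext A C by
      rw [← IsScalarTower.algebraMap_eq A B C])

/-- the complex level comparison. -/
noncomputable def extCxCompIso (E : DRing.Cx A) :
    ((ext B C).mapHomologicalComplex (ComplexShape.up ℤ)).obj
      (((ext A B).mapHomologicalComplex (ComplexShape.up ℤ)).obj E) ≅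
    ((ext A C).mapHomologicalComplex (ComplexShape.up ℤ)).obj E :=
  (NatIso.mapHomologicalComplex (extCompIso A B C) (ComplexShape.up ℤ)).app E

variable [Module.Flat A B] [Module.Flat B C] [Module.Flat A C]

/-- `G_{B→C} (G_{A→B} K) ≅ G_{A→C} K`. -/
noncomputable def iso (K : Dual.D A) : (G B C).obj ((G A B).obj K) ≅ (G A C).obj K :=
  let E : DRing.Cx A := Q.objPreimage K
  let e : Q.obj E ≅ K := Q.objObjPreimageIso K
  (G B C).mapIso ((G A B).mapIso e.symm) ≪≫ (G B C).mapIso (GQIso B E) ≪≫
    GQIso C ((extCx A B).obj E) ≪≫ Q.mapIso (extCxCompIso A B C E) ≪≫ (GQIso C E).symm ≪≫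
    (G A C).mapIso e

end GComp
end Groth.Agent.Lib.Helper6
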