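import Groth.Agent.Lib.Helper6.DualShift
import Groth.Agent.S11179
import Groth.Agent.S0364

/-! For a Gorenstein local ring `R` of dimension `≤ N`, `Ext^i(κ, R) = 0` for `i > N` (helper6). -/

set_option autoImplicit false
set_option linter.unusedSectionVars false
set_option linter.style.haveILetI false
universe u
open CategoryTheory CategoryTheory.Limits DerivedCategory Pretriangulated
attribute [local instance] HasDerivedCategory.standard

namespace Groth.Agent.Lib.Helper6
namespace GorBound

theorem gorBound (R : Type u) [CommRing R] [IsLocalRing R] [IsNoetherianRing R]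
    (hG : LocCoh.IsGorensteinLocalRing R) (N : ℕ) (hN : ringKrullDim R ≤ (N : WithBot ℕ∞))
    (i : ℤ) (hi : (N : ℤ) < i) :
    Subsingleton (Dual.inD R (R ⧸ IsLocalRing.maximalIdeal R) ⟶ (Dual.inD R R)⟦i⟧) := by
  have hω : Dual.IsDualizing R (Dual.inD R R) := (Groth.Agent.S11179.result R).1 hG
  obtain ⟨d, hd1, -⟩ := Groth.Agent.S0364.result R (Dual.inD R R) hω (IsLocalRing.maximalIdeal R)
  by_cases hid : i = d
  swap
  · exact hd1 i hid
  exfalso
  subst hid
  have hω' : Dual.IsDualizing R ((Dual.inD R R)⟦i⟧) := DualShift.isDualizing_shift _ hω i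
  have hn' : Dual.IsNormalized R ((Dual.inD R R)⟦i⟧) :=
    DualShift.isNormalized_shift (Dual.inD R R) i hd1
  have hsd : Module.supportDim R R < ((N + 1 : ℕ) : WithBot ℕ∞) := by
    rw [Module.supportDim_self_eq_ringKrullDim]
    refine lt_of_le_of_lt hN ?_
    exact_mod_cast Nat.lt_succ_self N
  have h1 := NormDual.vanishing_below_dim ((Dual.inD R R)⟦i⟧) hω' hn' (N + 1) R hsd (-i)
    (by push_cast; omega)
  have h1' : Subsingleton (Dual.inD R R ⟶
      (shiftFunctor (Dual.D R) i ⋙ shiftFunctor (Dual.D R) (-i)).obj (Dual.inD R R)) := h1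
  have h2 : Subsingleton (Dual.inD R R ⟶ Dual.inD R R) :=
    (Iso.homCongr (Iso.refl (Dual.inD R R))
      ((shiftFunctorCompIsoId (Dual.D R) i (-i) (by omega)).app (Dual.inD R R))).symm.subsingleton
  have h3 : (1 : R) = 0 := hω.toEnd_bijective.1 (h2.elim _ _)
  exact one_ne_zero h3

end GorBound
end Groth.Agent.Lib.Helper6
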