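import Groth.Agent.Lib.Helper6.LocDual
import Groth.Agent.Lib.Helper6.HomSingle
import Groth.Agent.Lib.Helper35.TwoTerm

/-! Localization of Hom groups into a dualizing complex at a prime; minimal primes;
shift of dualizing complexes (helper6). -/

set_option autoImplicit false
set_option linter.unusedSectionVars false
set_option linter.style.haveILetI false
universe u
open CategoryTheory CategoryTheory.Limits DerivedCategory Pretriangulated TensorProduct Pointwise
attribute [local instance] HasDerivedCategory.standard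

namespace Groth.Agent.Lib.Helper6
namespace LocDual

open Groth.Agent.Lib.Helper35 Groth.Agent.Lib.Helper35.FlatBC

section loc

variable {A : Type u} [CommRing A] [IsNoetherianRing A]

/-- the localization of `ω` at the prime `q`. -/
noncomputable abbrev Gat (q : Ideal A) [q.IsPrime] (ω : Dual.D A) :
    Dual.D (Localization.AtPrime q) :=
  (G A (Localization.AtPrime q)).obj ω

theorem isDualizing_Gat (q : Ideal A) [q.IsPrime] (ω : Dual.D A) (hω : Dual.IsDualizing A ω) :
    Dual.IsDualizing (Localization.AtPrime q) (Gat q ω) :=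
  isDualizing_G_localization q.primeCompl ω hω

theorem nonempty_locHomEquiv_quot (ω : Dual.D A) (hω : Dual.IsDualizing A ω)
    (q : Ideal A) [q.IsPrime] (P : Ideal A) (i : ℤ) :
    Nonempty (LocalizedModule q.primeCompl (Dual.inD A (A ⧸ P) ⟶ ω⟦i⟧) ≃
      (Dual.inD (Localization.AtPrime q) (Localization.AtPrime q ⧸
        P.map (algebraMap A (Localization.AtPrime q))) ⟶ (Gat q ω)⟦i⟧)) := by
  obtain ⟨a, b, hge, hle, hab⟩ := HomBC.isDualizing_bounds hω
  obtain ⟨e⟩ := nonempty_locHomEquiv q.primeCompl (A ⧸ P) ω a i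
  let ψ : TensorProduct A (Localization.AtPrime q) (A ⧸ P) ≃ₗ[Localization.AtPrime q]
      (Localization.AtPrime q ⧸ P.map (algebraMap A (Localization.AtPrime q))) :=
    (Algebra.TensorProduct.quotIdealMapEquivTensorQuot
      (Localization.AtPrime q) P).symm.toLinearEquiv
  exact ⟨e.trans (Iso.homCongr ((DerivedCategory.singleFunctor
    (ModuleCat.{u} (Localization.AtPrime q)) 0).mapIso ψ.toModuleIso) (Iso.refl _))⟩

theorem nonempty_locHomEquiv_residue (ω : Dual.D A) (hω : Dual.IsDualizing A ω)
    (p : Ideal A) [p.IsPrime] (i : ℤ) :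
    Nonempty (LocalizedModule p.primeCompl (Dual.inD A (A ⧸ p) ⟶ ω⟦i⟧) ≃
      (Dual.inD (Localization.AtPrime p) (Localization.AtPrime p ⧸
        IsLocalRing.maximalIdeal (Localization.AtPrime p)) ⟶ (Gat p ω)⟦i⟧)) := by
  obtain ⟨e⟩ := nonempty_locHomEquiv_quot ω hω p p i
  have hmap : p.map (algebraMap A (Localization.AtPrime p)) =
      IsLocalRing.maximalIdeal (Localization.AtPrime p) :=
    Localization.AtPrime.map_eq_maximalIdeal
  let ψ : (Localization.AtPrime p ⧸
      p.map (algebraMap A (Localization.AtPrime p))) ≃ₗ[Localization.AtPrime p]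
      (Localization.AtPrime p ⧸ IsLocalRing.maximalIdeal (Localization.AtPrime p)) :=
    Submodule.quotEquivOfEq _ _ hmap
  exact ⟨e.trans (Iso.homCongr ((DerivedCategory.singleFunctor
    (ModuleCat.{u} (Localization.AtPrime p)) 0).mapIso ψ.toModuleIso) (Iso.refl _))⟩

theorem nonempty_locHomEquiv_localizedModule (ω : Dual.D A) (hω : Dual.IsDualizing A ω)
    (p : Ideal A) [p.IsPrime] (M : Type u) [AddCommGroup M] [Module A M] [Module.Finite A M]
    (i : ℤ) :
    Nonempty (LocalizedModule p.primeCompl (Dual.inD A M ⟶ ω⟦i⟧) ≃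
      (Dual.inD (Localization.AtPrime p) (LocalizedModule p.primeCompl M) ⟶ (Gat p ω)⟦i⟧)) := by
  obtain ⟨a, b, hge, hle, hab⟩ := HomBC.isDualizing_bounds hω
  obtain ⟨e⟩ := nonempty_locHomEquiv p.primeCompl M ω a i
  let ψ : TensorProduct A (Localization.AtPrime p) M ≃ₗ[Localization.AtPrime p]
      LocalizedModule p.primeCompl M :=
    (LocalizedModule.equivTensorProduct p.primeCompl M).symm
  exact ⟨e.trans (Iso.homCongr ((DerivedCategory.singleFunctor
    (ModuleCat.{u} (Localization.AtPrime p)) 0).mapIso ψ.toModuleIso) (Iso.refl _))⟩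

theorem nonempty_locHDEquiv (ω : Dual.D A) (p : Ideal A) [p.IsPrime] (i : ℤ) :
    Nonempty (LocalizedModule p.primeCompl (Dual.HD A ω i)
      ≃ₗ[Localization.AtPrime p] Dual.HD (Localization.AtPrime p) (Gat p ω) i) :=
  ⟨(LocalizedModule.equivTensorProduct p.primeCompl _).trans
    (HomBC.homologyGEquiv (B := Localization.AtPrime p) ω i).symm⟩

/-- At a minimal prime `p`, the cohomology of the localized dualizing complex is concentrated
in the degree `n` where `Hom(κ(p), ω_p[n]) ≠ 0`. -/
theorem minimalPrime_HD_nontrivial_iff (ω : Dual.D A) (hω : Dual.IsDualizing A ω)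
    (p : Ideal A) [p.IsPrime] (hp : p ∈ minimalPrimes A) (n : ℤ)
    (hn1 : ∀ i : ℤ, i ≠ n → Subsingleton (Dual.inD (Localization.AtPrime p)
      (Localization.AtPrime p ⧸ IsLocalRing.maximalIdeal (Localization.AtPrime p)) ⟶
        (Gat p ω)⟦i⟧)) (i : ℤ) :
    Nontrivial (LocalizedModule p.primeCompl (Dual.HD A ω i)) ↔ i = n := by
  have hNB : IsNoetherianRing (Localization.AtPrime p) :=
    IsLocalization.isNoetherianRing p.primeCompl (Localization.AtPrime p) inferInstance
  set Gω : Dual.D (Localization.AtPrime p) := Gat p ω with hGω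
  have hG : Dual.IsDualizing (Localization.AtPrime p) Gω := isDualizing_Gat p ω hω
  have hH := nonempty_locHDEquiv ω p
  have hK0 : Ring.KrullDimLE 0 (Localization.AtPrime p) :=
    Ring.KrullDimLE.of_isLocalization p hp (Localization.AtPrime p)
  have hArt : IsArtinianRing (Localization.AtPrime p) :=
    isArtinianRing_iff_isNoetherianRing_krullDimLE_zero.2 ⟨hNB, hK0⟩
  have hFL : IsFiniteLength (Localization.AtPrime p) (Localization.AtPrime p) :=
    isFiniteLength_iff_isNoetherian_isArtinian.2 ⟨inferInstance, inferInstance⟩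
  have hvan : ∀ i : ℤ, i ≠ n → Subsingleton (Dual.HD (Localization.AtPrime p) Gω i) := by
    intro i hi
    have h1 : Subsingleton (Dual.inD (Localization.AtPrime p) (Localization.AtPrime p) ⟶ Gω⟦i⟧) :=
      FinLenDual.subsingleton_hom_of_isFiniteLength (Gω⟦i⟧) (fun n' hn' => by
        rw [IsLocalRing.eq_maximalIdeal hn']
        exact hn1 i hi) (Localization.AtPrime p) hFL
    obtain ⟨e⟩ := HomSingle.nonempty_homSingleEquiv Gω i
    exact e.symm.toEquiv.subsingleton
  have hnz : Nontrivial (Dual.HD (Localization.AtPrime p) Gω n) := by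
    by_contra hcon
    rw [not_nontrivial_iff_subsingleton] at hcon
    have hz : Limits.IsZero Gω := by
      have h := KL.isGE_and_isLE_of_subsingleton Gω 1 0 (fun i _ => by
        by_cases hi : i = n
        · subst hi
          exact hcon
        · exact hvan i hi)
      haveI := h.1
      haveI := h.2
      exact DerivedCategory.TStructure.t.isZero Gω 0 1 (by omega)
    have h1 : (1 : Localization.AtPrime p) = 0 := hG.toEnd_bijective.1 (hz.eq_of_src _ _)
    exact one_ne_zero h1
  constructor
  · intro hnt
    by_contra hne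
    have := hvan i hne
    obtain ⟨e⟩ := hH i
    have hs : Subsingleton (LocalizedModule p.primeCompl (Dual.HD A ω i)) :=
      e.toEquiv.subsingleton
    exact not_subsingleton _ hs
  · rintro rfl
    obtain ⟨e⟩ := hH i
    exact e.toEquiv.nontrivial

end loc

end LocDual
end Groth.Agent.Lib.Helper6
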