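import Groth.Agent.Lib.Helper6.FlatGor3
import Groth.Agent.Lib.Helper6.GComp
import Groth.Agent.Lib.Helper6.GorBound
import Groth.Agent.Lib.Helper6.MatlisFL
import Groth.Agent.Lib.Helper6.LocDual2

/-! Vanishing of `Ext^i_B(B/n, B ⊗ ω)` at a maximal ideal `n` of `B` over `p`, when the closed
fibre of `A_p → B_n` is Gorenstein of dimension `≤ N` (helper6). -/

set_option autoImplicit false
set_option linter.unusedSectionVars false
set_option linter.style.haveILetI false
universe u
open CategoryTheory CategoryTheory.Limits DerivedCategory Pretriangulated TensorProduct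
attribute [local instance] HasDerivedCategory.standard

namespace Groth.Agent.Lib.Helper6
namespace FlatGor

open Groth.Agent.Lib.Helper35 Groth.Agent.Lib.Helper35.FlatBC HomBC LocDual

section aux

variable {B : Type u} [CommRing B]

/-- a module killed by a maximal ideal with trivial localization at it is trivial. -/
lemma subsingleton_of_localizedModule (n : Ideal B) [hn : n.IsMaximal] (V : Type*)
    [AddCommGroup V] [Module B V] (hV : ∀ x ∈ n, ∀ v : V, x • v = 0)
    (h : Subsingleton (LocalizedModule n.primeCompl V)) : Subsingleton V := by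
  have key : ∀ v : V, v = 0 := by
    intro v
    have h1 : LocalizedModule.mk v (1 : n.primeCompl) = LocalizedModule.mk 0 1 :=
      Subsingleton.elim _ _
    rw [LocalizedModule.mk_eq] at h1
    obtain ⟨u, hu⟩ := h1
    rw [one_smul, one_smul, smul_zero] at hu
    obtain ⟨y, i, hi, hyi⟩ := hn.exists_inv u.2
    have h2 : v = (y * (u : B) + i) • v := by rw [hyi, one_smul]
    rw [h2, add_smul, mul_smul, hV i hi, add_zero]
    have h3 : (u : B) • v = 0 := hu
    rw [h3, smul_zero]
  exact ⟨fun v w => (key v).trans (key w).symm⟩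

lemma smul_hom_eq_zero (n : Ideal B) (L : Dual.D B) (x : B) (hx : x ∈ n)
    (f : Dual.inD B (B ⧸ n) ⟶ L) : x • f = 0 := by
  have h0 : x • 𝟙 (ModuleCat.of B (B ⧸ n)) = 0 := by
    apply ModuleCat.hom_ext
    apply LinearMap.ext
    intro y
    obtain ⟨y, rfl⟩ := Submodule.Quotient.mk_surjective _ y
    change x • (Submodule.Quotient.mk y : B ⧸ n) = 0
    rw [← Submodule.Quotient.mk_smul, Submodule.Quotient.mk_eq_zero, smul_eq_mul]
    exact n.mul_mem_right y hx
  have h1 : x • f = (singleFunctor (ModuleCat.{u} B) 0).map (x • 𝟙 (ModuleCat.of B (B ⧸ n))) ≫ f := by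
    rw [Functor.map_smul, CategoryTheory.Functor.map_id, Linear.smul_comp, Category.id_comp]
  rw [h1, h0, Functor.map_zero, zero_comp]

end aux

variable {A B : Type u} [CommRing A] [CommRing B] [Algebra A B] [Module.Flat A B]
  [IsNoetherianRing A] [IsNoetherianRing B]

set_option maxHeartbeats 800000 in
theorem subsingleton_hom_max
    (p : Ideal A) [p.IsPrime] (n : Ideal B) [n.IsMaximal] [n.LiesOver p]
    [Algebra (Localization.AtPrime p) (Localization.AtPrime n)]
    [Localization.AtPrime.IsLiesOverAlgebra p n]
    (ω : Dual.D A) (hω : Dual.IsDualizing A ω) (a b : ℤ) [ω.IsGE a]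
    (hb : ∀ i : ℤ, b < i → Subsingleton (Dual.inD A (A ⧸ p) ⟶ ω⟦i⟧))
    (N : ℕ)
    (hG : LocCoh.IsGorensteinLocalRing (Localization.AtPrime n ⧸
      (IsLocalRing.maximalIdeal (Localization.AtPrime p)).map
        (algebraMap (Localization.AtPrime p) (Localization.AtPrime n))))
    (hdim : ringKrullDim (Localization.AtPrime n ⧸
      (IsLocalRing.maximalIdeal (Localization.AtPrime p)).map
        (algebraMap (Localization.AtPrime p) (Localization.AtPrime n))) ≤ (N : WithBot ℕ∞))
    (i : ℤ) (hi : b + N < i) :
    Subsingleton (Dual.inD B (B ⧸ n) ⟶ ((G A B).obj ω)⟦i⟧) := by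
  have hNp : IsNoetherianRing (Localization.AtPrime p) :=
    IsLocalization.isNoetherianRing p.primeCompl _ inferInstance
  have hNn : IsNoetherianRing (Localization.AtPrime n) :=
    IsLocalization.isNoetherianRing n.primeCompl _ inferInstance
  have hflat : Module.Flat (Localization.AtPrime p) (Localization.AtPrime n) := inferInstance
  have hflatABn : Module.Flat A (Localization.AtPrime n) :=
    Module.Flat.trans A B (Localization.AtPrime n)
  have hGat : Dual.IsDualizing (Localization.AtPrime p) (Gat p ω) := isDualizing_Gat p ω hω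
  obtain ⟨s, hs, hs'⟩ := Groth.Agent.S0364.result (Localization.AtPrime p) (Gat p ω) hGat
    (IsLocalRing.maximalIdeal (Localization.AtPrime p))
  have hsb : s ≤ b := by
    by_contra hcon
    push Not at hcon
    obtain ⟨e⟩ := nonempty_locHomEquiv_residue ω hω p s
    have := hb s hcon
    have h1 : Subsingleton (Dual.inD (Localization.AtPrime p) (Localization.AtPrime p ⧸
        IsLocalRing.maximalIdeal (Localization.AtPrime p)) ⟶ (Gat p ω)⟦s⟧) := e.symm.subsingleton
    obtain ⟨e'⟩ := hs'
    have h2 : Subsingleton (Localization.AtPrime p ⧸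
        IsLocalRing.maximalIdeal (Localization.AtPrime p)) := e'.symm.toEquiv.subsingleton
    exact not_subsingleton _ h2
  haveI : IsLocalRing (Localization.AtPrime n ⧸
      (IsLocalRing.maximalIdeal (Localization.AtPrime p)).map
        (algebraMap (Localization.AtPrime p) (Localization.AtPrime n))) := hG.toIsLocalRing
  haveI : (Gat p ω).IsGE a := isGE_G (B := Localization.AtPrime p) ω a
  have hN := fun (j : ℤ) (hj : (N : ℤ) < j) => GorBound.gorBound _ hG N hdim j hj
  have hloc := localThm (A := Localization.AtPrime p) (B := Localization.AtPrime n)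
    (RDual.adjq (qφ (B := Localization.AtPrime n)
      (IsLocalRing.maximalIdeal (Localization.AtPrime p)))) (Gat p ω) a s hs hs' N hN
  have h1 := hloc i (by omega)
  let c : (G B (Localization.AtPrime n)).obj ((G A B).obj ω) ≅
      (G (Localization.AtPrime p) (Localization.AtPrime n)).obj (Gat p ω) :=
    GComp.iso A B (Localization.AtPrime n) ω ≪≫
      (GComp.iso A (Localization.AtPrime p) (Localization.AtPrime n) ω).symm
  have h2 : Subsingleton (Dual.inD (Localization.AtPrime n) (Localization.AtPrime n ⧸
      IsLocalRing.maximalIdeal (Localization.AtPrime n)) ⟶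
      ((G B (Localization.AtPrime n)).obj ((G A B).obj ω))⟦i⟧) :=
    (Iso.homCongr (Iso.refl _)
      ((shiftFunctor (Dual.D (Localization.AtPrime n)) i).mapIso c)).subsingleton
  haveI : ((G A B).obj ω).IsGE a := isGE_G (B := B) ω a
  obtain ⟨e⟩ := nonempty_locHomEquiv n.primeCompl (B ⧸ n) ((G A B).obj ω) a i
  let ψ : (Localization.AtPrime n ⊗[B] (B ⧸ n)) ≃ₗ[Localization.AtPrime n]
      (Localization.AtPrime n ⧸ IsLocalRing.maximalIdeal (Localization.AtPrime n)) :=
    (Algebra.TensorProduct.quotIdealMapEquivTensorQuot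
      (Localization.AtPrime n) n).symm.toLinearEquiv ≪≫ₗ
      Submodule.quotEquivOfEq _ _ (Localization.AtPrime.map_eq_maximalIdeal)
  have h3 : Subsingleton (Dual.inD (Localization.AtPrime n) (Localization.AtPrime n ⊗[B] (B ⧸ n)) ⟶
      ((G B (Localization.AtPrime n)).obj ((G A B).obj ω))⟦i⟧) :=
    (Iso.homCongr ((singleFunctor (ModuleCat.{u} (Localization.AtPrime n)) 0).mapIso
      ψ.toModuleIso) (Iso.refl _)).subsingleton
  have h4 : Subsingleton (LocalizedModule n.primeCompl
      (Dual.inD B (B ⧸ n) ⟶ ((G A B).obj ω)⟦i⟧)) := e.subsingleton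
  exact subsingleton_of_localizedModule n _ (fun x hx v => smul_hom_eq_zero n _ x hx v) h4

end FlatGor
end Groth.Agent.Lib.Helper6
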