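import Groth.Agent.Lib.Helper6.FlatGor3

/-! Flat local homomorphisms with Gorenstein closed fibre: two-sided version (helper6). -/

set_option autoImplicit false
set_option linter.unusedSectionVars false
set_option linter.style.haveILetI false
universe u
open CategoryTheory CategoryTheory.Limits DerivedCategory Pretriangulated TensorProduct
attribute [local instance] HasDerivedCategory.standard

namespace Groth.Agent.Lib.Helper6
namespace FlatGor

open Groth.Agent.Lib.Helper35 Groth.Agent.Lib.Helper35.FlatBC HomBC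

variable {A B : Type u} [CommRing A] [CommRing B] [Algebra A B] [Module.Flat A B]
  [IsLocalRing A] [IsLocalRing B] [IsNoetherianRing A]
  [IsLocalRing (B ⧸ (IsLocalRing.maximalIdeal A).map (algebraMap A B))]
variable {R : Dual.D B ⥤ Dual.D (B ⧸ (IsLocalRing.maximalIdeal A).map (algebraMap A B))}
  (adj : DRing.restrictD (qφ (B := B) (IsLocalRing.maximalIdeal A)) ⊣ R)

include adj in
/-- **Local theorem, general form**: if `Ext_A(κ_A, K)` is `κ_A` in the single degree `s` and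
`Ext^j(κ, B/𝔪_A B)` vanishes over `B/𝔪_A B` for `j ∈ T`, then `Ext^i_B(κ_B, B ⊗ K) = 0` for
`i - s ∈ T`. -/
theorem localThmT (K : Dual.D A) (a : ℤ) [K.IsGE a] (s : ℤ)
    (hs : ∀ i : ℤ, i ≠ s →
      Subsingleton (Dual.inD A (A ⧸ IsLocalRing.maximalIdeal A) ⟶ K⟦i⟧))
    (hs' : Nonempty ((Dual.inD A (A ⧸ IsLocalRing.maximalIdeal A) ⟶ K⟦s⟧) ≃ₗ[A]
      A ⧸ IsLocalRing.maximalIdeal A))
    (T : Set ℤ)
    (hN : ∀ j : ℤ, j ∈ T → Subsingleton
      (Dual.inD (B ⧸ (IsLocalRing.maximalIdeal A).map (algebraMap A B))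
        ((B ⧸ (IsLocalRing.maximalIdeal A).map (algebraMap A B)) ⧸
          IsLocalRing.maximalIdeal (B ⧸ (IsLocalRing.maximalIdeal A).map (algebraMap A B))) ⟶
        (Dual.inD (B ⧸ (IsLocalRing.maximalIdeal A).map (algebraMap A B))
          (B ⧸ (IsLocalRing.maximalIdeal A).map (algebraMap A B)))⟦j⟧))
    (i : ℤ) (hi : i - s ∈ T) :
    Subsingleton (Dual.inD B (B ⧸ IsLocalRing.maximalIdeal B) ⟶ ((G A B).obj K)⟦i⟧) := by
  let 𝔞 : Ideal A := IsLocalRing.maximalIdeal A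
  let C := B ⧸ 𝔞.map (algebraMap A B)
  obtain ⟨ι⟩ := nonempty_iso_single_of_concentrated (B := B) 𝔞 adj K a
    (fun m => isPC_inD_of_finite (A ⧸ 𝔞) m) s hs hs'
  obtain ⟨ρ⟩ := nonempty_residue_linearEquiv (qφ (B := B) 𝔞) Ideal.Quotient.mk_surjective
  let l' : ModuleCat.{u} C := ModuleCat.of C (C ⧸ IsLocalRing.maximalIdeal C)
  let e1 := RDual.homEquivShift (qφ (B := B) 𝔞) adj (Dual.inD C (C ⧸ IsLocalRing.maximalIdeal C))
    ((G A B).obj K) i
  let e2 : (DRing.restrictD (qφ (B := B) 𝔞)).obj (Dual.inD C (C ⧸ IsLocalRing.maximalIdeal C)) ≅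
      Dual.inD B ((ModuleCat.restrictScalars (qφ (B := B) 𝔞)).obj l') :=
    ((ModuleCat.restrictScalars (qφ (B := B) 𝔞)).mapDerivedCategorySingleFunctor 0).app l'
  let e3 : Dual.inD B (B ⧸ IsLocalRing.maximalIdeal B) ≅
      Dual.inD B ((ModuleCat.restrictScalars (qφ (B := B) 𝔞)).obj l') :=
    (DerivedCategory.singleFunctor (ModuleCat.{u} B) 0).mapIso ρ.toModuleIso
  let t1 : (DerivedCategory.singleFunctor (ModuleCat.{u} C) s).obj (ModuleCat.of C C) ≅
      (Dual.inD C C)⟦-s⟧ :=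
    (((DerivedCategory.singleFunctors (ModuleCat.{u} C)).shiftIso (-s) s 0 (by omega)).app
      (ModuleCat.of C C)).symm
  let t2 : ((Dual.inD C C)⟦-s⟧)⟦i⟧ ≅ (Dual.inD C C)⟦i - s⟧ :=
    ((shiftFunctorAdd' (Dual.D C) (-s) i (i - s) (by omega)).app (Dual.inD C C)).symm
  let t : (R.obj ((G A B).obj K))⟦i⟧ ≅ (Dual.inD C C)⟦i - s⟧ :=
    (shiftFunctor (Dual.D C) i).mapIso (ι ≪≫ t1) ≪≫ t2
  have h0 := hN (i - s) hi
  have h1 : Subsingleton (Dual.inD C (C ⧸ IsLocalRing.maximalIdeal C) ⟶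
      (R.obj ((G A B).obj K))⟦i⟧) :=
    (Iso.homCongr (Iso.refl _) t).subsingleton
  have h2 : Subsingleton ((DRing.restrictD (qφ (B := B) 𝔞)).obj
      (Dual.inD C (C ⧸ IsLocalRing.maximalIdeal C)) ⟶ ((G A B).obj K)⟦i⟧) :=
    e1.symm.subsingleton
  exact (Iso.homCongr (e3 ≪≫ e2.symm) (Iso.refl _)).subsingleton

end FlatGor
end Groth.Agent.Lib.Helper6
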