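import Groth.Agent.Lib.Helper6.FlatGor6
import Groth.Agent.Lib.Helper6.FlatGor4
import Groth.Agent.S0341

/-! Exact degree of `Ext(κ, R)` for a Gorenstein local ring, and the exact version of the
vanishing at a maximal ideal (helper6). -/

set_option autoImplicit false
set_option linter.unusedSectionVars false
set_option linter.style.haveILetI false
universe u
open CategoryTheory CategoryTheory.Limits DerivedCategory Pretriangulated TensorProduct
attribute [local instance] HasDerivedCategory.standard

namespace Groth.Agent.Lib.Helper6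
namespace FlatGor

open Groth.Agent.Lib.Helper35 Groth.Agent.Lib.Helper35.FlatBC HomBC LocDual

theorem gorExact (R : Type u) [CommRing R] [IsLocalRing R] [IsNoetherianRing R]
    (hG : LocCoh.IsGorensteinLocalRing R) (d : ℕ) (hd : ringKrullDim R = (d : WithBot ℕ∞))
    (j : ℤ) (hj : j ≠ d) :
    Subsingleton (Dual.inD R (R ⧸ IsLocalRing.maximalIdeal R) ⟶ (Dual.inD R R)⟦j⟧) := by
  have hω : Dual.IsDualizing R (Dual.inD R R) := (Groth.Agent.S11179.result R).1 hG
  obtain ⟨d₀, hd1, -⟩ := Groth.Agent.S0364.result R (Dual.inD R R) hω (IsLocalRing.maximalIdeal R)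
  by_cases hjd : j = d₀
  swap
  · exact hd1 j hjd
  exfalso
  subst hjd
  have hω' : Dual.IsDualizing R ((Dual.inD R R)⟦j⟧) := DualShift.isDualizing_shift _ hω j
  have hn' : Dual.IsNormalized R ((Dual.inD R R)⟦j⟧) :=
    DualShift.isNormalized_shift (Dual.inD R R) j hd1
  have hCM : LocCoh.IsCohenMacaulayModule R R :=
    (Groth.Agent.S0341.result R).supportDim_eq_depth
  have hsd : Module.supportDim R R = (d : WithBot ℕ∞) := by
    rw [Module.supportDim_self_eq_ringKrullDim, hd]
  have h1 := (NormDual.isCohenMacaulayModule_iff ((Dual.inD R R)⟦j⟧) hω' hn' R d hsd).1 hCM j hj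
  have h1' : Subsingleton (Dual.inD R R ⟶
      (shiftFunctor (Dual.D R) j ⋙ shiftFunctor (Dual.D R) (-j)).obj (Dual.inD R R)) := h1
  have h2 : Subsingleton (Dual.inD R R ⟶ Dual.inD R R) :=
    (Iso.homCongr (Iso.refl (Dual.inD R R))
      ((shiftFunctorCompIsoId (Dual.D R) j (-j) (by omega)).app (Dual.inD R R))).symm.subsingleton
  have h3 : (1 : R) = 0 := hω.toEnd_bijective.1 (h2.elim _ _)
  exact one_ne_zero h3

variable {A B : Type u} [CommRing A] [CommRing B] [Algebra A B] [Module.Flat A B]
  [IsNoetherianRing A] [IsNoetherianRing B]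

set_option maxHeartbeats 800000 in
theorem subsingleton_hom_max_exact
    (p : Ideal A) [p.IsPrime] (n : Ideal B) [n.IsMaximal] [n.LiesOver p]
    [Algebra (Localization.AtPrime p) (Localization.AtPrime n)]
    [Localization.AtPrime.IsLiesOverAlgebra p n]
    (ω : Dual.D A) (hω : Dual.IsDualizing A ω) (a s₀ : ℤ) [ω.IsGE a]
    (hs₀ : ∀ i : ℤ, i ≠ s₀ → Subsingleton (Dual.inD A (A ⧸ p) ⟶ ω⟦i⟧))
    (d : ℕ)
    (hG : LocCoh.IsGorensteinLocalRing (Localization.AtPrime n ⧸
      (IsLocalRing.maximalIdeal (Localization.AtPrime p)).map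
        (algebraMap (Localization.AtPrime p) (Localization.AtPrime n))))
    (hdim : ringKrullDim (Localization.AtPrime n ⧸
      (IsLocalRing.maximalIdeal (Localization.AtPrime p)).map
        (algebraMap (Localization.AtPrime p) (Localization.AtPrime n))) = (d : WithBot ℕ∞))
    (i : ℤ) (hi : i ≠ s₀ + d) :
    Subsingleton (Dual.inD B (B ⧸ n) ⟶ ((G A B).obj ω)⟦i⟧) := by
  have hNp : IsNoetherianRing (Localization.AtPrime p) :=
    IsLocalization.isNoetherianRing p.primeCompl _ inferInstance
  have hNn : IsNoetherianRing (Localization.AtPrime n) :=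
    IsLocalization.isNoetherianRing n.primeCompl _ inferInstance
  have hflat : Module.Flat (Localization.AtPrime p) (Localization.AtPrime n) := inferInstance
  have hflatABn : Module.Flat A (Localization.AtPrime n) :=
    Module.Flat.trans A B (Localization.AtPrime n)
  have hGat : Dual.IsDualizing (Localization.AtPrime p) (Gat p ω) := isDualizing_Gat p ω hω
  obtain ⟨s, hs, hs'⟩ := Groth.Agent.S0364.result (Localization.AtPrime p) (Gat p ω) hGat
    (IsLocalRing.maximalIdeal (Localization.AtPrime p))
  have hsb : s = s₀ := by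
    by_contra hcon
    obtain ⟨e⟩ := nonempty_locHomEquiv_residue ω hω p s
    have := hs₀ s hcon
    have h1 : Subsingleton (Dual.inD (Localization.AtPrime p) (Localization.AtPrime p ⧸
        IsLocalRing.maximalIdeal (Localization.AtPrime p)) ⟶ (Gat p ω)⟦s⟧) := e.symm.subsingleton
    obtain ⟨e'⟩ := hs'
    have h2 : Subsingleton (Localization.AtPrime p ⧸
        IsLocalRing.maximalIdeal (Localization.AtPrime p)) := e'.symm.toEquiv.subsingleton
    exact not_subsingleton _ h2
  subst hsb
  haveI : IsLocalRing (Localization.AtPrime n ⧸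
      (IsLocalRing.maximalIdeal (Localization.AtPrime p)).map
        (algebraMap (Localization.AtPrime p) (Localization.AtPrime n))) := hG.toIsLocalRing
  haveI : (Gat p ω).IsGE a := isGE_G (B := Localization.AtPrime p) ω a
  have hN := fun (j : ℤ) (hj : j ∈ {j : ℤ | j ≠ (d : ℤ)}) => gorExact _ hG d hdim j hj
  have hloc := localThmT (A := Localization.AtPrime p) (B := Localization.AtPrime n)
    (RDual.adjq (qφ (B := Localization.AtPrime n)
      (IsLocalRing.maximalIdeal (Localization.AtPrime p)))) (Gat p ω) a s hs hs'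
      {j : ℤ | j ≠ (d : ℤ)} hN
  have h1 := hloc i (by
    show i - s ≠ (d : ℤ)
    omega)
  let c : (G B (Localization.AtPrime n)).obj ((G A B).obj ω) ≅
      (G (Localization.AtPrime p) (Localization.AtPrime n)).obj (Gat p ω) :=
    GComp.iso A B (Localization.AtPrime n) ω ≪≫
      (GComp.iso A (Localization.AtPrime p) (Localization.AtPrime n) ω).symm
  have h2 : Subsingleton (Dual.inD (Localization.AtPrime n) (Localization.AtPrime n ⧸
      IsLocalRing.maximalIdeal (Localization.AtPrime n)) ⟶
      ((G B (Localization.AtPrime n)).obj ((G A B).obj ω))⟦i⟧) :=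
    (Iso.homCongr (Iso.refl _)
      ((shiftFunctor (Dual.D (Localization.AtPrime n)) i).mapIso c)).subsingleton
  haveI : ((G A B).obj ω).IsGE a := isGE_G (B := B) ω a
  obtain ⟨e⟩ := nonempty_locHomEquiv n.primeCompl (B ⧸ n) ((G A B).obj ω) a i
  let ψ : (Localization.AtPrime n ⊗[B] (B ⧸ n)) ≃ₗ[Localization.AtPrime n]
      (Localization.AtPrime n ⧸ IsLocalRing.maximalIdeal (Localization.AtPrime n)) :=
    (Algebra.TensorProduct.quotIdealMapEquivTensorQuot
      (Localization.AtPrime n) n).symm.toLinearEquiv ≪≫ₗ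
      Submodule.quotEquivOfEq _ _ (Localization.AtPrime.map_eq_maximalIdeal)
  have h3 : Subsingleton (Dual.inD (Localization.AtPrime n) (Localization.AtPrime n ⊗[B] (B ⧸ n)) ⟶
      ((G B (Localization.AtPrime n)).obj ((G A B).obj ω))⟦i⟧) :=
    (Iso.homCongr ((singleFunctor (ModuleCat.{u} (Localization.AtPrime n)) 0).mapIso
      ψ.toModuleIso) (Iso.refl _)).subsingleton
  have h4 : Subsingleton (LocalizedModule n.primeCompl
      (Dual.inD B (B ⧸ n) ⟶ ((G A B).obj ω)⟦i⟧)) := e.subsingleton
  exact subsingleton_of_localizedModule n _ (fun x hx v => smul_hom_eq_zero n _ x hx v) h4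

end FlatGor
end Groth.Agent.Lib.Helper6
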