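import Groth.Agent.Lib.Helper6.FlatGor7
import Groth.Agent.Lib.Helper6.FlatGor5
import Groth.Agent.Lib.Helper24.SmoothStalkFibres
import Groth.Agent.H46.SmoothDim
import Groth.Agent.S0342

/-! Exact `Ext` degree at maximal ideals of polynomial rings over a local ring lying over the
maximal ideal (helper6). -/

set_option autoImplicit false
set_option linter.unusedSectionVars false
set_option linter.style.haveILetI false
universe u
open CategoryTheory CategoryTheory.Limits DerivedCategory Pretriangulated TensorProduct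
attribute [local instance] HasDerivedCategory.standard

namespace Groth.Agent.Lib.Helper6
namespace FlatGor

open Groth.Agent.Lib.Helper35 Groth.Agent.Lib.Helper35.FlatBC HomBC LocDual InjDimMax

variable {A B : Type u} [CommRing A] [CommRing B] [Algebra A B] [Module.Flat A B]
  [IsNoetherianRing A] [IsNoetherianRing B]

open Groth.Agent.Lib.Helper24 Groth.Agent.Lib.Helper29 in
theorem max_aux_exact (p : Ideal A) [p.IsPrime] (d : ℕ)
    (hFib : LocCoh.IsGorensteinRing (p.Fiber B))
    (q' : Ideal (p.Fiber B)) [q'.IsPrime] (hq'h : q'.height = d)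
    [hmax : (q'.comap (Algebra.TensorProduct.includeRight : B →ₐ[A] p.Fiber B)).IsMaximal]
    (ω : Dual.D A) (hω : Dual.IsDualizing A ω) (a s₀ : ℤ) [ω.IsGE a]
    (hs₀ : ∀ i : ℤ, i ≠ s₀ → Subsingleton (Dual.inD A (A ⧸ p) ⟶ ω⟦i⟧))
    (i : ℤ) (hi : i ≠ s₀ + d) :
    Subsingleton (Dual.inD B
      (B ⧸ q'.comap (Algebra.TensorProduct.includeRight : B →ₐ[A] p.Fiber B)) ⟶
        ((G A B).obj ω)⟦i⟧) := by
  haveI hlies : (q'.comap (Algebra.TensorProduct.includeRight : B →ₐ[A] p.Fiber B)).LiesOver p := by
    infer_instance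
  letI := Localization.AtPrime.algebraOfLiesOver p
    (q'.comap (Algebra.TensorProduct.includeRight : B →ₐ[A] p.Fiber B))
  let e := fiberLocalizationEquiv p q'
  have hmap : (IsLocalRing.maximalIdeal (Localization.AtPrime p)).map
      (algebraMap (Localization.AtPrime p) (Localization.AtPrime
        (q'.comap (Algebra.TensorProduct.includeRight : B →ₐ[A] p.Fiber B)))) =
      p.map (algebraMap A (Localization.AtPrime
        (q'.comap (Algebra.TensorProduct.includeRight : B →ₐ[A] p.Fiber B)))) := by
    rw [← Localization.AtPrime.map_eq_maximalIdeal, Ideal.map_map,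
      ← IsScalarTower.algebraMap_eq]
  have hG' := isGorensteinLocalRing_of_ringEquiv e (hFib.isGorensteinLocalRing_localization q')
  have hG := (isGorensteinLocalRing_quotient_congr hmap).2 hG'
  have hd1 : ringKrullDim (Localization.AtPrime q') = (d : WithBot ℕ∞) := by
    rw [IsLocalization.AtPrime.ringKrullDim_eq_height q' (Localization.AtPrime q'), hq'h]
    rfl
  have hdim : ringKrullDim (Localization.AtPrime
      (q'.comap (Algebra.TensorProduct.includeRight : B →ₐ[A] p.Fiber B)) ⧸
      (IsLocalRing.maximalIdeal (Localization.AtPrime p)).map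
      (algebraMap (Localization.AtPrime p) (Localization.AtPrime
        (q'.comap (Algebra.TensorProduct.includeRight : B →ₐ[A] p.Fiber B))))) =
      (d : WithBot ℕ∞) := by
    rw [ringKrullDim_eq_of_ringEquiv (Ideal.quotEquivOfEq hmap),
      ← ringKrullDim_eq_of_ringEquiv e]
    exact hd1
  exact subsingleton_hom_max_exact p
    (q'.comap (Algebra.TensorProduct.includeRight : B →ₐ[A] p.Fiber B)) ω hω a s₀ hs₀ d hG hdim
    i hi

/-- a prime of the fibre ring lying under a maximal ideal is maximal. -/
theorem isMaximal_of_comap_isMaximal {A B : Type u} [CommRing A] [CommRing B] [Algebra A B]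
    (p : Ideal A) [p.IsPrime] (q' : Ideal (p.Fiber B)) [hq' : q'.IsPrime]
    (hmax : (q'.comap (Algebra.TensorProduct.includeRight : B →ₐ[A] p.Fiber B)).IsMaximal) :
    q'.IsMaximal := by
  rw [← PrimeSpectrum.isMax_iff (x := ⟨q', hq'⟩)]
  intro y hy
  let α := PrimeSpectrum.primesOverOrderIsoFiber A B p
  have h1 : α.symm ⟨q', hq'⟩ ≤ α.symm y := α.symm.monotone hy
  have h2 : ((α.symm ⟨q', hq'⟩ : p.primesOver B) : Ideal B) ≤
      ((α.symm y : p.primesOver B) : Ideal B) := h1
  rw [PrimeSpectrum.coe_primesOverOrderIsoFiber_symm_apply,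
    PrimeSpectrum.coe_primesOverOrderIsoFiber_symm_apply] at h2
  have h3 : (y.asIdeal.comap (Algebra.TensorProduct.includeRight : B →ₐ[A] p.Fiber B)) ≠ ⊤ :=
    (Ideal.comap_isPrime _ y.asIdeal).ne_top
  have h4 := hmax.eq_of_le h3 h2
  have h5 : α.symm ⟨q', hq'⟩ = α.symm y := by
    apply Subtype.ext
    rw [PrimeSpectrum.coe_primesOverOrderIsoFiber_symm_apply,
      PrimeSpectrum.coe_primesOverOrderIsoFiber_symm_apply]
    exact h4
  exact (α.symm.injective h5).ge

end FlatGor
end Groth.Agent.Lib.Helper6
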