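import Groth.Agent.Lib.Helper6.FlatGor8

/-! Exact `Ext` degree at maximal ideals of polynomial rings over a local ring lying over the
maximal ideal, II (helper6). -/

set_option autoImplicit false
set_option linter.unusedSectionVars false
set_option linter.style.haveILetI false
universe u
open CategoryTheory CategoryTheory.Limits DerivedCategory Pretriangulated TensorProduct
attribute [local instance] HasDerivedCategory.standard

namespace Groth.Agent.Lib.Helper6
namespace FlatGor

open Groth.Agent.Lib.Helper35 Groth.Agent.Lib.Helper35.FlatBC HomBC LocDual InjDimMax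

/-- fibres of a smooth algebra with Noetherian target are Gorenstein rings. -/
theorem isGorensteinRing_fiber_of_formallySmooth (A B : Type u) [CommRing A] [CommRing B]
    [Algebra A B] [IsNoetherianRing B] [Algebra.FormallySmooth A B] (p : Ideal A) [p.IsPrime] :
    LocCoh.IsGorensteinRing (p.Fiber B) := by
  haveI hNF : IsNoetherianRing (p.Fiber B) := Lib.Helper29.isNoetherianRing_fiber A B p
  refine { isGorensteinLocalRing_localization := fun q hq => ?_ }
  haveI := Lib.Helper24.isRegularLocalRing_localization_fiber_of_formallySmooth A B p q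
  exact Groth.Agent.S0342.result _

open Groth.Agent.Lib.Helper24 Groth.Agent.Lib.Helper29 in
theorem poly_max_exact (R : Type u) [CommRing R] [IsLocalRing R] [IsNoetherianRing R] (n : ℕ)
    (𝔫 : Ideal (MvPolynomial (Fin n) R)) [h𝔫 : 𝔫.IsMaximal]
    [hl : 𝔫.LiesOver (IsLocalRing.maximalIdeal R)]
    (ω : Dual.D R) (hω : Dual.IsDualizing R ω) (hn : Dual.IsNormalized R ω)
    (i : ℤ) (hi : i ≠ n) :
    Subsingleton (Dual.inD (MvPolynomial (Fin n) R) (MvPolynomial (Fin n) R ⧸ 𝔫) ⟶
      ((G R (MvPolynomial (Fin n) R)).obj ω)⟦i⟧) := by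
  obtain ⟨a, b, hge, hle, hab⟩ := isDualizing_bounds hω
  obtain ⟨q', hq', hq'n⟩ := exists_fiber_prime (IsLocalRing.maximalIdeal R) 𝔫
  subst hq'n
  have hFib := isGorensteinRing_fiber_of_formallySmooth R (MvPolynomial (Fin n) R)
    (IsLocalRing.maximalIdeal R)
  have hq'max : q'.IsMaximal := isMaximal_of_comap_isMaximal (IsLocalRing.maximalIdeal R) q' h𝔫
  let e' : (IsLocalRing.maximalIdeal R).Fiber (MvPolynomial (Fin n) R) ≃+*
      MvPolynomial (Fin n) (IsLocalRing.maximalIdeal R).ResidueField :=
    (MvPolynomial.algebraTensorAlgEquiv R (IsLocalRing.maximalIdeal R).ResidueField).toRingEquiv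
  have hq'h : q'.height = n := by
    have h1 := RingEquiv.height_comap e'.symm q'
    haveI : (q'.comap e'.symm).IsMaximal :=
      Ideal.comap_isMaximal_of_surjective e'.symm e'.symm.surjective
    rw [← h1]
    exact Groth.Agent.H46.SmoothDim.height_maximal_mvPolynomial
      (IsLocalRing.maximalIdeal R).ResidueField n _
  exact max_aux_exact (IsLocalRing.maximalIdeal R) n hFib q' hq'h ω hω a 0
    (fun i hi => hn i hi) i (by simpa using hi)

end FlatGor
end Groth.Agent.Lib.Helper6
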