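import Mathlib
import Groth.Agent.Lib.Helper6.FlatPC4

/-! `R`-perfect complexes over a flat finitely presented `R`-algebra `A` are the bounded complexes of
finitely presented `A`-modules flat over `R` (helper6). -/

set_option autoImplicit false
set_option linter.style.haveILetI false
universe u

open CategoryTheory Limits MonoidalCategory TensorProduct DerivedCategory CochainComplex

namespace Groth.Agent.Lib.Helper6
namespace FlatPC

attribute [local instance] HasDerivedCategory.standard

open MPC RestrPC PCHom Groth.Agent.Lib.Helper35.TA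

section relperf

variable (R A : Type u) [CommRing R] [CommRing A] [Algebra R A]

/-- restriction of scalars commutes with opcycles. -/
noncomputable def opcyclesRestrIso (F : DRing.Cx A) (a : ℤ) :
    (((Φ (algebraMap R A)).mapHomologicalComplex (ComplexShape.up ℤ)).obj F).opcycles a ≅
      (Φ (algebraMap R A)).obj (F.opcycles a) :=
  (F.sc a).mapOpcyclesIso (Φ (algebraMap R A))

variable [Module.Flat R A]

theorem exists_bounded_of_isRelPerfect (K : Dual.D A) (h : Dual2.IsRelPerfect R A K) :
    ∃ (E : DRing.Cx A) (a b : ℤ), DRing.VanishesOutside E a b ∧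
      (∀ i : ℤ, Module.FinitePresentation A (E.X i) ∧
        Module.Flat R ((ModuleCat.restrictScalars (algebraMap R A)).obj (E.X i))) ∧
      Nonempty (DRing.toD E ≅ K) := by
  obtain ⟨⟨F, b', hFb, hF, ⟨e⟩⟩, a, c, hamp⟩ := h
  let ΦF := ((Φ (algebraMap R A)).mapHomologicalComplex (ComplexShape.up ℤ)).obj F
  have hΦb : DRing.VanishesAbove ΦF b' := fun i hi => (Φ (algebraMap R A)).map_isZero (hFb i hi)
  have hFflat : ∀ i : ℤ, Module.Flat R ((Φ (algebraMap R A)).obj (F.X i)) := fun i => by
    have := (hF i).1
    have := (hF i).2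
    exact RelPerfTen.flat_restr_of_flat (F.X i)
  have hamp' : TAmp a c (DRing.toD ΦF) :=
    TAmp.of_iso hamp ((DRing.restrictD (algebraMap R A)).mapIso e.symm ≪≫
      (Φ (algebraMap R A)).mapDerivedCategoryFactors.app F)
  obtain ⟨hGE, hflatop⟩ := flat_opcycles_of_TAmp' ΦF b' hΦb hFflat a c hamp'
  have hFGE : F.IsGE a := by
    rw [CochainComplex.isGE_iff] at hGE ⊢
    intro i hi
    exact (TorAcyc.exactAt_restrict_iff (algebraMap R A) F i).1 (hGE i hi)
  have hfpX : ∀ i : ℤ, Module.FinitePresentation A (F.X i) := fun i => by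
    have := (hF i).1
    have := (hF i).2
    exact Module.finitePresentation_of_projective A _
  have hq : QuasiIso (F.πTruncGE a) := inferInstance
  have hiso : IsIso (Q.map (F.πTruncGE a)) := by
    rw [isIso_Q_map_iff_quasiIso]
    exact hq
  refine ⟨F.truncGE a, a, b', ?_, ?_, ⟨(asIso (Q.map (F.πTruncGE a))).symm ≪≫ e⟩⟩
  · intro i hi
    rcases hi with hi | hi
    · exact (F.truncGE a).isZero_of_isStrictlyGE a i hi
    · exact isZero_truncGE_X_of_vanishesAbove F b' hFb a i hi
  · intro i
    by_cases hia : a < i
    · have := hfpX i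
      refine ⟨Module.FinitePresentation.of_equiv (F.truncGEXIso a i hia).toLinearEquiv.symm, ?_⟩
      exact RelPerfTen.flat_restr_of_iso (algebraMap R A) (F.truncGEXIso a i hia) (hFflat i)
    · by_cases hia' : i < a
      · have hz := (F.truncGE a).isZero_of_isStrictlyGE a i hia'
        have := ModuleCat.subsingleton_of_isZero hz
        exact ⟨Module.finitePresentation_of_projective A _,
          RelPerfTen.flat_restr_of_isZero (algebraMap R A) hz⟩
      · have : i = a := by omega
        subst this
        have := (hF (i - 1)).1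
        have := hfpX i
        have hfp : Module.FinitePresentation A (F.opcycles i) :=
          Groth.Agent.Lib.Helper35.KL.finitePresentation_opcycles F i
        refine ⟨Module.FinitePresentation.of_equiv (F.truncGEXIsoOpcycles i).toLinearEquiv.symm, ?_⟩
        refine RelPerfTen.flat_restr_of_iso (algebraMap R A) (F.truncGEXIsoOpcycles i) ?_
        exact Module.Flat.of_linearEquiv (opcyclesRestrIso R A F i).toLinearEquiv.symm

variable [Algebra.FinitePresentation R A]

theorem isRelPerfect_of_bounded (K : Dual.D A) (E : DRing.Cx A) (a b : ℤ)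
    (hE : DRing.VanishesOutside E a b)
    (hT : ∀ i : ℤ, Module.FinitePresentation A (E.X i) ∧
          Module.Flat R ((ModuleCat.restrictScalars (algebraMap R A)).obj (E.X i)))
    (e : DRing.toD E ≅ K) : Dual2.IsRelPerfect R A K := by
  constructor
  · rw [Resol.isPC'_iff]
    intro m
    refine isPC_of_iso e (isPC_of_termwise E b m (fun i hi => hE i (Or.inr hi)) (fun i => ?_))
    have := (hT i).1
    exact allPC_of_fp_of_flat_restr R A (E.X i) (hT i).2 (m - i)
  · refine ⟨a, b, ((Φ (algebraMap R A)).mapHomologicalComplex (ComplexShape.up ℤ)).obj E, ?_, ?_, ?_⟩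
    · intro i hi
      exact (Φ (algebraMap R A)).map_isZero (hE i hi)
    · intro i
      exact (hT i).2
    · exact ⟨((Φ (algebraMap R A)).mapDerivedCategoryFactors.app E).symm ≪≫
        (DRing.restrictD (algebraMap R A)).mapIso e⟩

end relperf

end FlatPC
end Groth.Agent.Lib.Helper6
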