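import Groth.Agent.Lib.Helper6.GorLocus
import Groth.Agent.Lib.Helper6.LBCPC
import Groth.Agent.Lib.Helper6.FlatPC
import Groth.Agent.Lib.Helper6.HomBC6
import Groth.Agent.Lib.Helper35.LBCComp

/-! Base change of shifted units; Gorenstein-ness of a ring `B` from local triviality of a complex
whose base change to `B` is dualizing (helper6). -/

set_option autoImplicit false
set_option linter.unusedSectionVars false
set_option linter.style.haveILetI false
universe u
open CategoryTheory CategoryTheory.Limits DerivedCategory Pretriangulated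
attribute [local instance] HasDerivedCategory.standard

namespace Groth.Agent.Lib.Helper6
namespace GorFib

open Groth.Agent.Lib.Helper35 Groth.Agent.Lib.Helper35.TA Groth.Agent.Lib.Helper35.FlatBC LocDual

section Unit

variable {A B : Type u} [CommRing A] [CommRing B] (φ : A →+* B) [DRing.HasLBaseChange φ]

/-- the derived base change of `A[0]` is `B[0]`. -/
lemma nonempty_lbc_inD_self :
    Nonempty ((DRing.LBaseChange φ).obj (Dual.inD A A) ≅ Dual.inD B B) := by
  letI : Algebra A B := φ.toAlgebra
  haveI : DRing.HasLBaseChange (algebraMap A B) := ‹DRing.HasLBaseChange φ›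
  exact FlatPC.nonempty_lbc_unit_iso (A := A) (B := B)

/-- the derived base change of `A[m]` is `B[m]`. -/
lemma nonempty_lbc_inD_self_shift (m : ℤ) :
    Nonempty ((DRing.LBaseChange φ).obj ((Dual.inD A A)⟦m⟧) ≅ (Dual.inD B B)⟦m⟧) := by
  letI := LBCPC.lbcCommShift φ
  obtain ⟨e⟩ := nonempty_lbc_inD_self φ
  exact ⟨((DRing.LBaseChange φ).commShiftIso m).app (Dual.inD A A) ≪≫
    (shiftFunctor (Dual.D B) m).mapIso e⟩

end Unit

section GorOfTrivial

variable {A B : Type u} [CommRing A] [CommRing B] (ι : A →+* B) [DRing.HasLBaseChange ι]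
  [hL : ∀ f : A, DRing.HasLBaseChange (algebraMap A (Localization.Away f))]

/-- If the base change of `K` to `B` is dualizing and `K` is locally a shift of the structure
ring, then `B` is Gorenstein. -/
theorem isGorensteinRing_of_locally_trivial (K : Dual.D A)
    (hK : Dual.IsDualizing B ((DRing.LBaseChange ι).obj K))
    (h : ∀ q : PrimeSpectrum A, ∃ (f : A) (_ : f ∉ q.asIdeal) (m : ℤ),
      Nonempty ((DRing.LBaseChange (algebraMap A (Localization.Away f))).obj K ≅
        (Dual.inD (Localization.Away f) (Localization.Away f))⟦m⟧)) :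
    LocCoh.IsGorensteinRing B := by
  haveI : IsNoetherianRing B := hK.isNoetherianRing
  refine { isGorensteinLocalRing_localization := fun Q hQ => ?_ }
  haveI : IsNoetherianRing (Localization.AtPrime Q) :=
    IsLocalization.isNoetherianRing Q.primeCompl _ inferInstance
  obtain ⟨f, hf, m, ⟨e⟩⟩ := h ⟨Q.comap ι, inferInstance⟩
  have hfQ : ι f ∉ Q := hf
  have hu : IsUnit (((algebraMap B (Localization.AtPrime Q)).comp ι) f) :=
    IsLocalization.map_units (Localization.AtPrime Q) (⟨ι f, hfQ⟩ : Q.primeCompl)
  let σ : Localization.Away f →+* Localization.AtPrime Q :=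
    IsLocalization.Away.lift f hu
  have hσ : (algebraMap B (Localization.AtPrime Q)).comp ι =
      σ.comp (algebraMap A (Localization.Away f)) :=
    (IsLocalization.Away.lift_comp f hu).symm
  haveI := TA.hasLBaseChange (algebraMap B (Localization.AtPrime Q))
  haveI := TA.hasLBaseChange ((algebraMap B (Localization.AtPrime Q)).comp ι)
  haveI := TA.hasLBaseChange σ
  obtain ⟨e1⟩ := nonempty_LBC_comp_iso ι (algebraMap B (Localization.AtPrime Q))
    ((algebraMap B (Localization.AtPrime Q)).comp ι) rfl K
  obtain ⟨e2⟩ := nonempty_LBC_comp_iso (algebraMap A (Localization.Away f)) σ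
    ((algebraMap B (Localization.AtPrime Q)).comp ι) hσ K
  obtain ⟨e3⟩ := nonempty_lbc_inD_self_shift σ m
  have e0 : Gat Q ((DRing.LBaseChange ι).obj K) ≅
      (DRing.LBaseChange (algebraMap B (Localization.AtPrime Q))).obj
        ((DRing.LBaseChange ι).obj K) :=
    (HomBC.lbcIsoG (A := B) (B := Localization.AtPrime Q)).symm.app _
  have hd := isDualizing_Gat Q _ hK
  have e4 : Gat Q ((DRing.LBaseChange ι).obj K) ≅
      (Dual.inD (Localization.AtPrime Q) (Localization.AtPrime Q))⟦m⟧ :=
    e0 ≪≫ e1 ≪≫ e2.symm ≪≫ (DRing.LBaseChange σ).mapIso e ≪≫ e3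
  have h1 := HomBC.isDualizing_of_iso e4 hd
  have h2 := DualShift.isDualizing_shift _ h1 (-m)
  have e5 : ((Dual.inD (Localization.AtPrime Q) (Localization.AtPrime Q))⟦m⟧)⟦-m⟧ ≅
      Dual.inD (Localization.AtPrime Q) (Localization.AtPrime Q) :=
    (shiftFunctorCompIsoId (Dual.D (Localization.AtPrime Q)) m (-m) (by omega)).app _
  exact (Groth.Agent.S11179.result _).2 (HomBC.isDualizing_of_iso e5 h2)

end GorOfTrivial

end GorFib
end Groth.Agent.Lib.Helper6
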