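import Groth.Agent.Lib.Helper6.GorFib1
import Groth.Agent.Lib.Helper6.PCHom
import Groth.Agent.Lib.Helper35.FlatGlue
import Groth.Agent.Lib.Helper35.TorDim

/-! A pseudo-coherent complex over a Noetherian local ring whose derived fibre at the closed point
is `κ[m]` is `A[m]` (helper6). -/

set_option autoImplicit false
set_option linter.unusedSectionVars false
set_option linter.style.haveILetI false
universe u
open CategoryTheory CategoryTheory.Limits DerivedCategory Pretriangulated TensorProduct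
attribute [local instance] HasDerivedCategory.standard

namespace Groth.Agent.Lib.Helper6
namespace GorFib

open Groth.Agent.Lib.Helper35 Groth.Agent.Lib.Helper35.TA Groth.Agent.Lib.Helper35.FlatBC LocDual

section FlatModule

variable {A B : Type u} [CommRing A] [CommRing B] [Algebra A B]

/-- the derived base change of a flat module in degree zero. -/
theorem nonempty_lbc_inD_flat [DRing.HasLBaseChange (algebraMap A B)]
    (N : Type u) [AddCommGroup N] [Module A N] [Module.Flat A N] :
    Nonempty ((DRing.LBaseChange (algebraMap A B)).obj (Dual.inD A N) ≅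
      Dual.inD B (TensorProduct A B N)) := by
  let E : DRing.Cx A := (CochainComplex.singleFunctor (ModuleCat.{u} A) 0).obj (ModuleCat.of A N)
  have e0 : Dual.inD A N ≅ DRing.toD E :=
    (DerivedCategory.singleFunctorIsoCompQ (ModuleCat.{u} A) 0).app (ModuleCat.of A N)
  have hv : DRing.VanishesAbove E 0 := by
    intro i hi
    exact HomologicalComplex.isZero_single_obj_X (ComplexShape.up ℤ) 0 (ModuleCat.of A N) i
      (by omega)
  have hflat : ∀ i : ℤ, Module.Flat A (E.X i) := by
    intro i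
    by_cases hi : i = 0
    · subst hi
      exact Module.Flat.of_linearEquiv
        ((HomologicalComplex.singleObjXSelf (ComplexShape.up ℤ) 0
          (ModuleCat.of A N)).toLinearEquiv)
    · have hz : IsZero (E.X i) :=
        HomologicalComplex.isZero_single_obj_X (ComplexShape.up ℤ) 0 (ModuleCat.of A N) i hi
      have : Subsingleton (E.X i) := ModuleCat.subsingleton_of_isZero hz
      infer_instance
  obtain ⟨e1⟩ := nonempty_lbc_iso_of_flat (algebraMap A B) E 0 hv hflat
  let e2 : DRing.toD (((ext A B).mapHomologicalComplex (ComplexShape.up ℤ)).obj E) ≅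
      Dual.inD B (TensorProduct A B N) :=
    DerivedCategory.Q.mapIso
      (((HomologicalComplex.singleMapHomologicalComplex (ext A B) (ComplexShape.up ℤ) 0).app
        (ModuleCat.of A N)) ≪≫
        (CochainComplex.singleFunctor (ModuleCat.{u} B) 0).mapIso (extObjIso B N)) ≪≫
      ((DerivedCategory.singleFunctorIsoCompQ (ModuleCat.{u} B) 0).app
        (ModuleCat.of B (TensorProduct A B N))).symm
  exact ⟨(DRing.LBaseChange (algebraMap A B)).mapIso e0 ≪≫ e1 ≪≫ e2⟩

end FlatModule

section Local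

variable (A : Type u) [CommRing A] [IsNoetherianRing A] [IsLocalRing A]
  [DRing.HasLBaseChange (Ideal.Quotient.mk (IsLocalRing.maximalIdeal A))]

/-- derived Nakayama for invertible objects over a local ring. -/
theorem nonempty_iso_shift_of_residue_iso (K : Dual.D A) (hPC : DRing.IsPseudoCoherent' A K)
    (hfin : ∀ i : ℤ, Module.Finite A (Dual.HD A K i)) (m : ℤ)
    (e : (DRing.LBaseChange (Ideal.Quotient.mk (IsLocalRing.maximalIdeal A))).obj K ≅
      (Dual.inD (A ⧸ IsLocalRing.maximalIdeal A) (A ⧸ IsLocalRing.maximalIdeal A))⟦m⟧) :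
    Nonempty (K ≅ (Dual.inD A A)⟦m⟧) := by
  -- tor amplitude of the fibre
  have h0 : TAmp (0 - m) (0 - m) ((Dual.inD (A ⧸ IsLocalRing.maximalIdeal A)
      (A ⧸ IsLocalRing.maximalIdeal A))⟦m⟧) :=
    (TAmp_zero_of_flat (ModuleCat.of (A ⧸ IsLocalRing.maximalIdeal A)
      (A ⧸ IsLocalRing.maximalIdeal A))).shift m
  have h1 : TAmp (0 - m) (0 - m)
      ((DRing.LBaseChange (Ideal.Quotient.mk (IsLocalRing.maximalIdeal A))).obj K) :=
    h0.of_iso e.symm
  have hI : IsLocalRing.maximalIdeal A ≤ Ideal.jacobson (⊥ : Ideal A) := by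
    rw [IsLocalRing.jacobson_eq_maximalIdeal ⊥ bot_ne_top]
  obtain ⟨-, h2⟩ := TAmp_of_LBaseChange_quotient_le_jacobson A (IsLocalRing.maximalIdeal A) hI
    K hPC (0 - m) (0 - m) h1
  have h3 : TAmp 0 0 (K⟦-m⟧) := (h2.shift (-m)).mono (by omega) (by omega)
  obtain ⟨N, _, _, hNflat, ⟨eN⟩⟩ := exists_flat_inD_iso_of_TAmp_zero (K⟦-m⟧) h3
  -- `N` is finite
  have hNfin : Module.Finite A N := by
    have h4 := hfin (0 + -m)
    let l1 : Dual.HD A (K⟦-m⟧) 0 ≃ₗ[A] Dual.HD A K (0 + -m) :=
      (((homologyFunctor (ModuleCat.{u} A) 0).shiftIso (-m) 0 (0 + -m) (by omega)).app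
        K).toLinearEquiv
    let l2 : Dual.HD A (K⟦-m⟧) 0 ≃ₗ[A] Dual.HD A (Dual.inD A N) 0 :=
      ((homologyFunctor (ModuleCat.{u} A) 0).mapIso eN).toLinearEquiv
    let l3 : Dual.HD A (Dual.inD A N) 0 ≃ₗ[A] N :=
      ((DerivedCategory.singleFunctorCompHomologyFunctorIso (ModuleCat.{u} A) 0).app
        (ModuleCat.of A N)).toLinearEquiv
    exact Module.Finite.equiv (l1.symm.trans (l2.trans l3))
  haveI := hNflat
  haveI := hNfin
  haveI : Module.Free A N := Module.free_of_flat_of_isLocalRing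
  -- `K ≅ N[m]`
  let eK : K ≅ (Dual.inD A N)⟦m⟧ :=
    ((shiftFunctorCompIsoId (Dual.D A) (-m) m (by omega)).app K).symm ≪≫
      (shiftFunctor (Dual.D A) m).mapIso eN
  -- the rank
  letI : Algebra A (A ⧸ IsLocalRing.maximalIdeal A) :=
    (Ideal.Quotient.mk (IsLocalRing.maximalIdeal A)).toAlgebra
  haveI : DRing.HasLBaseChange (algebraMap A (A ⧸ IsLocalRing.maximalIdeal A)) :=
    ‹DRing.HasLBaseChange (Ideal.Quotient.mk (IsLocalRing.maximalIdeal A))›
  letI := LBCPC.lbcCommShift (algebraMap A (A ⧸ IsLocalRing.maximalIdeal A))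
  obtain ⟨eF⟩ := nonempty_lbc_inD_flat (A := A) (B := A ⧸ IsLocalRing.maximalIdeal A) N
  let e6 : (Dual.inD (A ⧸ IsLocalRing.maximalIdeal A)
      (TensorProduct A (A ⧸ IsLocalRing.maximalIdeal A) N))⟦m⟧ ≅
      (Dual.inD (A ⧸ IsLocalRing.maximalIdeal A) (A ⧸ IsLocalRing.maximalIdeal A))⟦m⟧ :=
    (shiftFunctor _ m).mapIso eF.symm ≪≫
      (((DRing.LBaseChange (algebraMap A (A ⧸ IsLocalRing.maximalIdeal A))).commShiftIso m).app
        (Dual.inD A N)).symm ≪≫
      (DRing.LBaseChange (algebraMap A (A ⧸ IsLocalRing.maximalIdeal A))).mapIso eK.symm ≪≫ e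
  let e7 := (shiftFunctor (Dual.D (A ⧸ IsLocalRing.maximalIdeal A)) m).preimageIso e6
  let e8 := (DerivedCategory.singleFunctor (ModuleCat.{u} (A ⧸ IsLocalRing.maximalIdeal A))
    0).preimageIso e7
  have hr : Module.finrank A N = 1 := by
    have h5 := e8.toLinearEquiv.finrank_eq
    rw [Module.finrank_self] at h5
    rw [← h5]
    exact (Module.finrank_baseChange (R := A ⧸ IsLocalRing.maximalIdeal A) (S := A)
      (M' := N)).symm
  obtain ⟨l0⟩ : Nonempty (N ≃ₗ[A] A) :=
    FiniteDimensional.nonempty_linearEquiv_of_finrank_eq (by rw [Module.finrank_self]; exact hr)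
  exact ⟨eK ≪≫ (shiftFunctor (Dual.D A) m).mapIso
    ((DerivedCategory.singleFunctor (ModuleCat.{u} A) 0).mapIso l0.toModuleIso)⟩

end Local

end GorFib
end Groth.Agent.Lib.Helper6
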