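import Groth.Agent.Lib.Helper6.GorFib2

/-! Spreading out: a complex with bounded finite cohomology over a Noetherian ring which is a shift
of the structure ring at a prime `q` is so on a principal open neighbourhood of `q` (helper6). -/

set_option autoImplicit false
set_option linter.unusedSectionVars false
set_option linter.style.haveILetI false
universe u
open CategoryTheory CategoryTheory.Limits DerivedCategory Pretriangulated TensorProduct
attribute [local instance] HasDerivedCategory.standard

namespace Groth.Agent.Lib.Helper6
namespace GorFib

open Groth.Agent.Lib.Helper35 Groth.Agent.Lib.Helper35.TA Groth.Agent.Lib.Helper35.FlatBC LocDual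
open GorLocus

section Modules

variable {A : Type u} [CommRing A] [IsNoetherianRing A]

/-- a finite module vanishing at `q` vanishes on a principal open neighbourhood. -/
lemma exists_dvd_subsingleton (M : Type u) [AddCommGroup M] [Module A M] [Module.Finite A M]
    (q : Ideal A) [q.IsPrime] (h : Subsingleton (LocalizedModule q.primeCompl M)) :
    ∃ r : A, r ∉ q ∧ ∀ t : A, r ∣ t →
      Subsingleton (LocalizedModule (Submonoid.powers t) M) := by
  have h1 : (⟨q, inferInstance⟩ : PrimeSpectrum A) ∉ Module.support A M :=
    Module.notMem_support_iff.2 h
  rw [Module.support_eq_zeroLocus, PrimeSpectrum.mem_zeroLocus] at h1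
  obtain ⟨r, hr, hrq⟩ := Set.not_subset.1 h1
  refine ⟨r, hrq, fun t ht => ?_⟩
  rw [LocalizedModule.subsingleton_iff]
  intro x
  refine ⟨t, Submonoid.mem_powers t, ?_⟩
  obtain ⟨u, rfl⟩ := ht
  have hx : r • x = 0 := Module.mem_annihilator.1 hr x
  rw [mul_comm, mul_smul, hx, smul_zero]

/-- a finite module free of rank one at `q` is so on a principal open neighbourhood. -/
lemma exists_dvd_equiv (M : Type u) [AddCommGroup M] [Module A M] [Module.Finite A M]
    (q : Ideal A) [q.IsPrime]
    (l : LocalizedModule q.primeCompl M ≃ₗ[Localization.AtPrime q] Localization.AtPrime q) :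
    ∃ r : A, r ∉ q ∧ ∀ t : A, r ∣ t →
      Nonempty (LocalizedModule (Submonoid.powers t) M ≃ₗ[Localization (Submonoid.powers t)]
        Localization (Submonoid.powers t)) := by
  obtain ⟨x, s, hxs⟩ : ∃ (x : M) (s : q.primeCompl), LocalizedModule.mk x s = l.symm 1 := by
    induction l.symm 1 using LocalizedModule.induction_on with
    | h x s => exact ⟨x, s, rfl⟩
  let g : A →ₗ[A] M := LinearMap.toSpanSingleton A M x
  let gq := IsLocalizedModule.map q.primeCompl (Algebra.linearMap A (Localization.AtPrime q))
    (LocalizedModule.mkLinearMap q.primeCompl M) g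
  have hu : IsUnit (algebraMap A (Localization.AtPrime q) s) :=
    IsLocalization.map_units (Localization.AtPrime q) s
  have hcomp : (l.restrictScalars A).toLinearMap ∘ₗ gq =
      (algebraMap A (Localization.AtPrime q) s) • LinearMap.id := by
    apply IsLocalizedModule.ext q.primeCompl (Algebra.linearMap A (Localization.AtPrime q))
      (IsLocalizedModule.map_units (Algebra.linearMap A (Localization.AtPrime q)))
    ext
    simp only [LinearMap.coe_comp, LinearEquiv.coe_coe, Function.comp_apply,
      Algebra.linearMap_apply, map_one, LinearMap.smul_apply, LinearMap.id_coe, id_eq]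
    have h1 : gq 1 = LocalizedModule.mk x 1 := by
      have := IsLocalizedModule.map_apply q.primeCompl
        (Algebra.linearMap A (Localization.AtPrime q))
        (LocalizedModule.mkLinearMap q.primeCompl M) g (1 : A)
      simp only [Algebra.linearMap_apply, map_one] at this
      rw [this]
      simp [g, LocalizedModule.mkLinearMap_apply]
    have h2 : LocalizedModule.mk x (1 : q.primeCompl) = (s : A) • LocalizedModule.mk x s := by
      rw [LocalizedModule.smul'_mk]
      exact (LocalizedModule.mk_cancel s x).symm
    change l (gq 1) = _
    rw [h1, h2, hxs, ← algebraMap_smul (Localization.AtPrime q) (s : A), map_smul,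
      LinearEquiv.apply_symm_apply]
  have hbij : Function.Bijective gq := by
    have h1 : Function.Bijective ((l.restrictScalars A).toLinearMap ∘ₗ gq) := by
      rw [hcomp]
      refine ⟨fun y z hyz => ?_, fun y => ⟨(↑hu.unit⁻¹ : Localization.AtPrime q) * y, ?_⟩⟩
      · simp only [LinearMap.smul_apply, LinearMap.id_coe, id_eq, smul_eq_mul] at hyz
        exact (IsUnit.mul_right_inj hu).1 hyz
      · simp only [LinearMap.smul_apply, LinearMap.id_coe, id_eq, smul_eq_mul]
        rw [← mul_assoc, IsUnit.mul_val_inv, one_mul]
    have h2 : Function.Bijective ((l.restrictScalars A).symm ∘ ((l.restrictScalars A) ∘ gq)) :=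
      (l.restrictScalars A).symm.bijective.comp h1
    convert h2 using 1
    ext y
    simp
  haveI : Module.FinitePresentation A M := Module.finitePresentation_of_finite A M
  obtain ⟨r, hr, h⟩ := exists_bijective_map_powers q.primeCompl
    (Algebra.linearMap A (Localization.AtPrime q))
    (LocalizedModule.mkLinearMap q.primeCompl M) g hbij
  refine ⟨r, hr, fun t ht => ?_⟩
  have hb := h t ht
  let e2 := LinearEquiv.ofBijective (LocalizedModule.map (Submonoid.powers t) g) hb
  let e1 : LocalizedModule (Submonoid.powers t) A ≃ₗ[Localization (Submonoid.powers t)]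
      Localization (Submonoid.powers t) :=
    (IsLocalizedModule.iso (Submonoid.powers t)
      (Algebra.linearMap A (Localization (Submonoid.powers t)))).extendScalarsOfIsLocalization
      (Submonoid.powers t) (Localization (Submonoid.powers t))
  exact ⟨e2.symm.trans e1⟩

end Modules

end GorFib
end Groth.Agent.Lib.Helper6
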