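import Groth.Agent.Lib.Helper6.GorFib3

/-! Spreading out, derived category part (helper6). -/

set_option autoImplicit false
set_option linter.unusedSectionVars false
set_option linter.style.haveILetI false
universe u
open CategoryTheory CategoryTheory.Limits DerivedCategory Pretriangulated TensorProduct
attribute [local instance] HasDerivedCategory.standard

namespace Groth.Agent.Lib.Helper6
namespace GorFib

open Groth.Agent.Lib.Helper35 Groth.Agent.Lib.Helper35.TA Groth.Agent.Lib.Helper35.FlatBC LocDual
open GorLocus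

section Spread

variable {A : Type u} [CommRing A] [IsNoetherianRing A]

/-- a complex with bounded finite cohomology which is `A_q[m]` at `q` is `A_f[m]` on a principal
open neighbourhood of `q`. -/
theorem exists_away_iso_shift (K : Dual.D A)
    (hb : ∃ a b : ℤ, ∀ i : ℤ, (i < a ∨ b < i) → Subsingleton (Dual.HD A K i))
    (hfin : ∀ i : ℤ, Module.Finite A (Dual.HD A K i)) (q : Ideal A) [q.IsPrime] (m : ℤ)
    (e : Gat q K ≅ (Dual.inD (Localization.AtPrime q) (Localization.AtPrime q))⟦m⟧) :
    ∃ f : A, f ∉ q ∧ Nonempty ((G A (Localization.Away f)).obj K ≅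
      (Dual.inD (Localization.Away f) (Localization.Away f))⟦m⟧) := by
  obtain ⟨a, b, hab⟩ := hb
  have hloc : ∀ i : ℤ, i + m ≠ 0 →
      Subsingleton (LocalizedModule q.primeCompl (Dual.HD A K i)) := by
    intro i hi
    obtain ⟨l⟩ := nonempty_locHDEquiv K q i
    have hs := HD_single_shift_subsingleton (B := Localization.AtPrime q) m i hi
    have hs2 : Subsingleton (Dual.HD (Localization.AtPrime q) (Gat q K) i) :=
      (((homologyFunctor (ModuleCat.{u} (Localization.AtPrime q))
        i).mapIso e).toLinearEquiv.toEquiv).subsingleton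
    exact l.toEquiv.subsingleton
  obtain ⟨l0⟩ : Nonempty (LocalizedModule q.primeCompl (Dual.HD A K (-m))
      ≃ₗ[Localization.AtPrime q] Localization.AtPrime q) := by
    obtain ⟨l⟩ := nonempty_locHDEquiv K q (-m)
    obtain ⟨l2⟩ := nonempty_HD_single_shift_equiv (B := Localization.AtPrime q) m (-m)
      (by omega)
    exact ⟨l.trans (((homologyFunctor (ModuleCat.{u} (Localization.AtPrime q))
      (-m)).mapIso e).toLinearEquiv.trans l2)⟩
  have hA : ∀ i : ℤ, i + m ≠ 0 → ∃ r : A, r ∉ q ∧ ∀ t : A, r ∣ t →
      Subsingleton (LocalizedModule (Submonoid.powers t) (Dual.HD A K i)) := fun i hi => by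
    haveI := hfin i
    exact exists_dvd_subsingleton _ q (hloc i hi)
  haveI := hfin (-m)
  obtain ⟨r0, hr0, h0⟩ := exists_dvd_equiv (Dual.HD A K (-m)) q l0
  choose! r hr hrt using hA
  let F : Finset ℤ := (Finset.Icc a b).filter (fun i => i + m ≠ 0)
  let f : A := r0 * ∏ i ∈ F, r i
  have hf : f ∉ q := by
    intro hmem
    rcases Ideal.IsPrime.mem_or_mem inferInstance hmem with h | h
    · exact hr0 h
    · obtain ⟨i, hi, hri⟩ := (Ideal.IsPrime.prod_mem_iff (hp := inferInstance)).1 h
      exact hr i (Finset.mem_filter.1 hi).2 hri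
  refine ⟨f, hf, ?_⟩
  have hHD : ∀ i : ℤ, Nonempty (Dual.HD (Localization.Away f)
      ((G A (Localization.Away f)).obj K) i ≃ₗ[Localization.Away f]
      LocalizedModule (Submonoid.powers f) (Dual.HD A K i)) := fun i =>
    ⟨(HomBC.homologyGEquiv (B := Localization.Away f) K i).trans
      (LocalizedModule.equivTensorProduct (Submonoid.powers f) _).symm⟩
  have hvan : ∀ i : ℤ, i + m ≠ 0 → Subsingleton (Dual.HD (Localization.Away f)
      ((G A (Localization.Away f)).obj K) i) := by
    intro i hi
    obtain ⟨l⟩ := hHD i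
    by_cases hmem : i ∈ Finset.Icc a b
    · have := hrt i hi f (Dvd.dvd.mul_left
        (Finset.dvd_prod_of_mem r (Finset.mem_filter.2 ⟨hmem, hi⟩)) r0)
      exact l.toEquiv.subsingleton
    · have : Subsingleton (Dual.HD A K i) := hab i (by
        rw [Finset.mem_Icc] at hmem
        omega)
      exact l.toEquiv.subsingleton
  obtain ⟨l1⟩ := h0 f (Dvd.intro _ rfl)
  obtain ⟨l2⟩ := hHD (-m)
  haveI : ((G A (Localization.Away f)).obj K).IsGE (-m) := by
    rw [DerivedCategory.isGE_iff]
    intro i hi
    have := hvan i (by omega)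
    exact ModuleCat.isZero_of_subsingleton _
  haveI : ((G A (Localization.Away f)).obj K).IsLE (-m) := by
    rw [DerivedCategory.isLE_iff]
    intro i hi
    have := hvan i (by omega)
    exact ModuleCat.isZero_of_subsingleton _
  obtain ⟨e1⟩ := Bidual.nonempty_iso_single ((G A (Localization.Away f)).obj K) (-m)
    (Localization.Away f) (l2.trans l1)
  exact ⟨e1 ≪≫ (((DerivedCategory.singleFunctors (ModuleCat.{u} (Localization.Away f))).shiftIso
    m (-m) 0 (by omega)).app (ModuleCat.of (Localization.Away f) (Localization.Away f))).symm⟩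

end Spread

end GorFib
end Groth.Agent.Lib.Helper6
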