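import Groth.Agent.Lib.Helper6.GorFib4

/-! From a Gorenstein ring `B` with `K ⊗^L_A B` dualizing to local triviality of `K` at a prime `q`
of `A` whose residue field receives `B` (helper6). -/

set_option autoImplicit false
set_option linter.unusedSectionVars false
set_option linter.style.haveILetI false
universe u
open CategoryTheory CategoryTheory.Limits DerivedCategory Pretriangulated TensorProduct
attribute [local instance] HasDerivedCategory.standard

namespace Groth.Agent.Lib.Helper6
namespace GorFib

open Groth.Agent.Lib.Helper35 Groth.Agent.Lib.Helper35.TA Groth.Agent.Lib.Helper35.FlatBC LocDual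
open GorLocus

section Fibre

variable {A B : Type u} [CommRing A] [CommRing B] [IsNoetherianRing A] (ι : A →+* B)
  [DRing.HasLBaseChange ι]

/-- the derived fibre of `K` at `q` is a shift of the residue field, if the base change of `K` to
a Gorenstein ring `B` mapping to the residue field is dualizing. -/
theorem exists_residue_iso (K : Dual.D A)
    (hK : Dual.IsDualizing B ((DRing.LBaseChange ι).obj K)) (hB : LocCoh.IsGorensteinRing B)
    (q : Ideal A) [q.IsPrime]
    (τ : B →+* (Localization.AtPrime q ⧸ IsLocalRing.maximalIdeal (Localization.AtPrime q)))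
    (hτ : τ.comp ι = (Ideal.Quotient.mk (IsLocalRing.maximalIdeal (Localization.AtPrime q))).comp
      (algebraMap A (Localization.AtPrime q)))
    [DRing.HasLBaseChange (Ideal.Quotient.mk (IsLocalRing.maximalIdeal (Localization.AtPrime q)))]
    [DRing.HasLBaseChange (algebraMap A (Localization.AtPrime q))] :
    ∃ m : ℤ, Nonempty ((DRing.LBaseChange
      (Ideal.Quotient.mk (IsLocalRing.maximalIdeal (Localization.AtPrime q)))).obj
        ((DRing.LBaseChange (algebraMap A (Localization.AtPrime q))).obj K) ≅
      (Dual.inD (Localization.AtPrime q ⧸ IsLocalRing.maximalIdeal (Localization.AtPrime q))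
        (Localization.AtPrime q ⧸ IsLocalRing.maximalIdeal (Localization.AtPrime q)))⟦m⟧) := by
  haveI : IsNoetherianRing B := hK.isNoetherianRing
  have hfield : IsField (Localization.AtPrime q ⧸
      IsLocalRing.maximalIdeal (Localization.AtPrime q)) :=
    (Ideal.Quotient.maximal_ideal_iff_isField_quotient _).1 inferInstance
  haveI : (RingHom.ker τ).IsPrime := RingHom.ker_isPrime τ
  have hunit : ∀ y : (RingHom.ker τ).primeCompl, IsUnit (τ y) := by
    intro y
    have hne : τ y ≠ 0 := fun h0 => y.2 ((RingHom.mem_ker).2 h0)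
    obtain ⟨z, hz⟩ := hfield.mul_inv_cancel hne
    exact IsUnit.of_mul_eq_one _ hz
  let χ : Localization.AtPrime (RingHom.ker τ) →+* (Localization.AtPrime q ⧸
      IsLocalRing.maximalIdeal (Localization.AtPrime q)) :=
    IsLocalization.lift (M := (RingHom.ker τ).primeCompl) hunit
  have hχ : χ.comp (algebraMap B (Localization.AtPrime (RingHom.ker τ))) = τ :=
    IsLocalization.lift_comp hunit
  haveI : IsNoetherianRing (Localization.AtPrime (RingHom.ker τ)) :=
    IsLocalization.isNoetherianRing (RingHom.ker τ).primeCompl _ inferInstance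
  have hG := hB.isGorensteinLocalRing_localization (RingHom.ker τ)
  have h1 : Dual.IsDualizing (Localization.AtPrime (RingHom.ker τ))
      (Dual.inD (Localization.AtPrime (RingHom.ker τ)) (Localization.AtPrime (RingHom.ker τ))) :=
    (Groth.Agent.S11179.result _).1 hG
  have h2 := isDualizing_Gat (RingHom.ker τ) _ hK
  obtain ⟨m, ⟨e⟩⟩ := UniqDual.exists_iso_shift _ _ h1 h2
  refine ⟨m, ?_⟩
  haveI := TA.hasLBaseChange τ
  haveI := TA.hasLBaseChange χ
  haveI := TA.hasLBaseChange (algebraMap B (Localization.AtPrime (RingHom.ker τ)))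
  haveI := TA.hasLBaseChange ((Ideal.Quotient.mk
    (IsLocalRing.maximalIdeal (Localization.AtPrime q))).comp
      (algebraMap A (Localization.AtPrime q)))
  obtain ⟨ea⟩ := nonempty_LBC_comp_iso (algebraMap A (Localization.AtPrime q))
    (Ideal.Quotient.mk (IsLocalRing.maximalIdeal (Localization.AtPrime q)))
    ((Ideal.Quotient.mk (IsLocalRing.maximalIdeal (Localization.AtPrime q))).comp
      (algebraMap A (Localization.AtPrime q))) rfl K
  obtain ⟨eb⟩ := nonempty_LBC_comp_iso ι τ
    ((Ideal.Quotient.mk (IsLocalRing.maximalIdeal (Localization.AtPrime q))).comp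
      (algebraMap A (Localization.AtPrime q))) hτ.symm K
  obtain ⟨ec⟩ := nonempty_LBC_comp_iso (algebraMap B (Localization.AtPrime (RingHom.ker τ))) χ τ
    hχ.symm ((DRing.LBaseChange ι).obj K)
  have ed : (DRing.LBaseChange (algebraMap B (Localization.AtPrime (RingHom.ker τ)))).obj
      ((DRing.LBaseChange ι).obj K) ≅ Gat (RingHom.ker τ) ((DRing.LBaseChange ι).obj K) :=
    (HomBC.lbcIsoG (A := B) (B := Localization.AtPrime (RingHom.ker τ))).app _
  obtain ⟨ee⟩ := nonempty_lbc_inD_self_shift χ m
  exact ⟨ea ≪≫ eb.symm ≪≫ ec.symm ≪≫ (DRing.LBaseChange χ).mapIso (ed ≪≫ e) ≪≫ ee⟩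

variable [hL : ∀ f : A, DRing.HasLBaseChange (algebraMap A (Localization.Away f))]

/-- local triviality of `K` at `q`. -/
theorem exists_away_iso_of_gorenstein (K : Dual.D A)
    (hb : ∃ a b : ℤ, ∀ i : ℤ, (i < a ∨ b < i) → Subsingleton (Dual.HD A K i))
    (hfin : ∀ i : ℤ, Module.Finite A (Dual.HD A K i)) (hPC : DRing.IsPseudoCoherent' A K)
    (hK : Dual.IsDualizing B ((DRing.LBaseChange ι).obj K)) (hB : LocCoh.IsGorensteinRing B)
    (q : Ideal A) [q.IsPrime]
    (τ : B →+* (Localization.AtPrime q ⧸ IsLocalRing.maximalIdeal (Localization.AtPrime q)))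
    (hτ : τ.comp ι = (Ideal.Quotient.mk (IsLocalRing.maximalIdeal (Localization.AtPrime q))).comp
      (algebraMap A (Localization.AtPrime q))) :
    ∃ (f : A) (_ : f ∉ q) (m : ℤ),
      Nonempty ((DRing.LBaseChange (algebraMap A (Localization.Away f))).obj K ≅
        (Dual.inD (Localization.Away f) (Localization.Away f))⟦m⟧) := by
  haveI := TA.hasLBaseChange
    (Ideal.Quotient.mk (IsLocalRing.maximalIdeal (Localization.AtPrime q)))
  haveI := TA.hasLBaseChange (algebraMap A (Localization.AtPrime q))
  haveI : IsNoetherianRing (Localization.AtPrime q) :=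
    IsLocalization.isNoetherianRing q.primeCompl _ inferInstance
  obtain ⟨m, ⟨e⟩⟩ := exists_residue_iso ι K hK hB q τ hτ
  have eG : (DRing.LBaseChange (algebraMap A (Localization.AtPrime q))).obj K ≅ Gat q K :=
    (HomBC.lbcIsoG (A := A) (B := Localization.AtPrime q)).app K
  have hPCq := isPseudoCoherent'_LBaseChange (algebraMap A (Localization.AtPrime q)) K hPC
  have hfinq : ∀ i : ℤ, Module.Finite (Localization.AtPrime q)
      (Dual.HD (Localization.AtPrime q)
        ((DRing.LBaseChange (algebraMap A (Localization.AtPrime q))).obj K) i) := by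
    intro i
    haveI := hfin i
    haveI := HomBC.finite_homology_G (B := Localization.AtPrime q) K i
    exact Module.Finite.equiv ((homologyFunctor (ModuleCat.{u} (Localization.AtPrime q))
      i).mapIso eG).toLinearEquiv.symm
  obtain ⟨e1⟩ := nonempty_iso_shift_of_residue_iso (Localization.AtPrime q) _ hPCq hfinq m e
  obtain ⟨f, hf, ⟨e2⟩⟩ := exists_away_iso_shift K hb hfin q m (eG.symm ≪≫ e1)
  exact ⟨f, hf, m, ⟨(HomBC.lbcIsoG (A := A) (B := Localization.Away f)).app K ≪≫ e2⟩⟩

end Fibre

end GorFib
end Groth.Agent.Lib.Helper6
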