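import Groth.Agent.Lib.Helper6.UniqDual
import Groth.Agent.Lib.Helper6.LocDual2
import Groth.Agent.S11179

/-! Openness of the Gorenstein locus of a Noetherian ring with a dualizing complex (helper6). -/

set_option autoImplicit false
set_option linter.unusedSectionVars false
set_option linter.style.haveILetI false
universe u
open CategoryTheory CategoryTheory.Limits DerivedCategory Pretriangulated Opposite
attribute [local instance] HasDerivedCategory.standard

namespace Groth.Agent.Lib.Helper6
namespace GorLocus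

open Groth.Agent.Lib.Helper35 Bidual LocDual

section single

variable {B : Type u} [CommRing B]

/-- cohomology of `B[0][m]`. -/
lemma HD_single_shift_subsingleton (m i : ℤ) (hi : i + m ≠ 0) :
    Subsingleton (Dual.HD B ((Dual.inD B B)⟦m⟧) i) := by
  let e : (homologyFunctor (ModuleCat.{u} B) i).obj ((Dual.inD B B)⟦m⟧) ≅
      (homologyFunctor (ModuleCat.{u} B) (i + m)).obj (Dual.inD B B) :=
    ((homologyFunctor (ModuleCat.{u} B) 0).shiftIso m i (i + m) (add_comm m i)).app (Dual.inD B B)
  have hz : IsZero ((homologyFunctor (ModuleCat.{u} B) (i + m)).obj (Dual.inD B B)) := by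
    rcases lt_or_gt_of_ne hi with h | h
    · exact DerivedCategory.isZero_of_isGE _ 0 _ h
    · exact DerivedCategory.isZero_of_isLE _ 0 _ h
  have := ModuleCat.subsingleton_of_isZero hz
  exact e.toLinearEquiv.toEquiv.subsingleton

lemma nonempty_HD_single_shift_equiv (m i : ℤ) (hi : i + m = 0) :
    Nonempty (Dual.HD B ((Dual.inD B B)⟦m⟧) i ≃ₗ[B] B) := by
  let e : (homologyFunctor (ModuleCat.{u} B) i).obj ((Dual.inD B B)⟦m⟧) ≅
      (homologyFunctor (ModuleCat.{u} B) 0).obj (Dual.inD B B) :=
    ((homologyFunctor (ModuleCat.{u} B) 0).shiftIso m i 0 (by omega)).app (Dual.inD B B)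
  let e2 := (DerivedCategory.singleFunctorCompHomologyFunctorIso (ModuleCat.{u} B) 0).app
    (ModuleCat.of B B)
  exact ⟨e.toLinearEquiv.trans e2.toLinearEquiv⟩

end single

variable (A : Type u) [CommRing A] [IsNoetherianRing A] (ω : Dual.D A)

/-- the candidate open sets. -/
def V (n : ℤ) : Set (PrimeSpectrum A) :=
  {q | (∀ i : ℤ, i ≠ n → q ∉ Module.support A (Dual.HD A ω i)) ∧
    q ∈ Module.freeLocus A (Dual.HD A ω n) ∧ Module.rankAtStalk (Dual.HD A ω n) q = 1}


variable {A} {ω}

theorem exists_mem_V (hω : Dual.IsDualizing A ω) (p : PrimeSpectrum A)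
    (hG : LocCoh.IsGorensteinLocalRing (Localization.AtPrime p.asIdeal)) :
    ∃ n : ℤ, p ∈ V A ω n := by
  haveI hNB : IsNoetherianRing (Localization.AtPrime p.asIdeal) :=
    IsLocalization.isNoetherianRing p.asIdeal.primeCompl _ inferInstance
  have h1 : Dual.IsDualizing (Localization.AtPrime p.asIdeal)
      (Dual.inD (Localization.AtPrime p.asIdeal) (Localization.AtPrime p.asIdeal)) :=
    (Groth.Agent.S11179.result _).1 hG
  have h2 := isDualizing_Gat p.asIdeal ω hω
  obtain ⟨m, ⟨e⟩⟩ := UniqDual.exists_iso_shift _ _ h1 h2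
  have key : Nonempty (LocalizedModule p.asIdeal.primeCompl (Dual.HD A ω (-m))
      ≃ₗ[Localization.AtPrime p.asIdeal] Localization.AtPrime p.asIdeal) := by
    obtain ⟨l⟩ := nonempty_locHDEquiv ω p.asIdeal (-m)
    obtain ⟨l2⟩ := nonempty_HD_single_shift_equiv (B := Localization.AtPrime p.asIdeal) m (-m)
      (by omega)
    exact ⟨l.trans (((homologyFunctor (ModuleCat.{u} (Localization.AtPrime p.asIdeal))
      (-m)).mapIso e).toLinearEquiv.trans l2)⟩
  obtain ⟨l3⟩ := key
  refine ⟨-m, fun i hi => ?_, ?_, ?_⟩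
  · rw [Module.notMem_support_iff]
    obtain ⟨l⟩ := nonempty_locHDEquiv ω p.asIdeal i
    have hs := HD_single_shift_subsingleton (B := Localization.AtPrime p.asIdeal) m i (by omega)
    have hs2 : Subsingleton (Dual.HD (Localization.AtPrime p.asIdeal) (Gat p.asIdeal ω) i) :=
      (((homologyFunctor (ModuleCat.{u} (Localization.AtPrime p.asIdeal))
        i).mapIso e).toLinearEquiv.toEquiv).subsingleton
    exact l.toEquiv.subsingleton
  · rw [Module.mem_freeLocus]
    exact Module.Free.of_equiv l3.symm
  · exact l3.finrank_eq.trans (Module.finrank_self _)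

theorem gorenstein_of_mem_V (hω : Dual.IsDualizing A ω) (n : ℤ) (q : PrimeSpectrum A)
    (hq : q ∈ V A ω n) : LocCoh.IsGorensteinLocalRing (Localization.AtPrime q.asIdeal) := by
  obtain ⟨h1, h2, h3⟩ := hq
  haveI hNB : IsNoetherianRing (Localization.AtPrime q.asIdeal) :=
    IsLocalization.isNoetherianRing q.asIdeal.primeCompl _ inferInstance
  have hY := isDualizing_Gat q.asIdeal ω hω
  have hz : ∀ i : ℤ, i ≠ n → IsZero ((homologyFunctor (ModuleCat.{u}
      (Localization.AtPrime q.asIdeal)) i).obj (Gat q.asIdeal ω)) := by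
    intro i hi
    obtain ⟨l⟩ := nonempty_locHDEquiv ω q.asIdeal i
    have hs := Module.notMem_support_iff.1 (h1 i hi)
    have hs2 : Subsingleton (Dual.HD (Localization.AtPrime q.asIdeal) (Gat q.asIdeal ω) i) :=
      l.symm.toEquiv.subsingleton
    exact ModuleCat.isZero_of_subsingleton _
  haveI : (Gat q.asIdeal ω).IsGE n := by
    rw [DerivedCategory.isGE_iff]
    intro i hi
    exact hz i (by omega)
  haveI : (Gat q.asIdeal ω).IsLE n := by
    rw [DerivedCategory.isLE_iff]
    intro i hi
    exact hz i (by omega)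
  haveI hfree : Module.Free (Localization.AtPrime q.asIdeal)
      (LocalizedModule q.asIdeal.primeCompl (Dual.HD A ω n)) := h2
  haveI : Module.Finite A (Dual.HD A ω n) := hω.finite_cohomology n
  obtain ⟨l0⟩ : Nonempty (LocalizedModule q.asIdeal.primeCompl (Dual.HD A ω n)
      ≃ₗ[Localization.AtPrime q.asIdeal] Localization.AtPrime q.asIdeal) :=
    FiniteDimensional.nonempty_linearEquiv_of_finrank_eq (by rw [Module.finrank_self]; exact h3)
  obtain ⟨l⟩ := nonempty_locHDEquiv ω q.asIdeal n
  obtain ⟨e⟩ := nonempty_iso_single (Gat q.asIdeal ω) n (Localization.AtPrime q.asIdeal)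
    (l.symm.trans l0)
  have h4 := HomBC.isDualizing_of_iso e hY
  have h5 := DualShift.isDualizing_shift _ h4 n
  let e2 : ((DerivedCategory.singleFunctor (ModuleCat.{u} (Localization.AtPrime q.asIdeal)) n).obj
      (ModuleCat.of _ (Localization.AtPrime q.asIdeal)))⟦n⟧ ≅
      Dual.inD (Localization.AtPrime q.asIdeal) (Localization.AtPrime q.asIdeal) :=
    ((DerivedCategory.singleFunctors (ModuleCat.{u} (Localization.AtPrime q.asIdeal))).shiftIso
      n 0 n (add_zero n)).app _
  exact (Groth.Agent.S11179.result _).2 (HomBC.isDualizing_of_iso e2 h5)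


theorem isOpen_V (hω : Dual.IsDualizing A ω) (n : ℤ) : IsOpen (V A ω n) := by
  obtain ⟨a, b, hge, hle, hab⟩ := HomBC.isDualizing_bounds hω
  let F : Finset ℤ := (Finset.Icc a b).filter (· ≠ n)
  let S : Set (PrimeSpectrum A) := ⋃ i ∈ F, Module.support A (Dual.HD A ω i)
  have hS : IsClosed S := by
    refine Set.Finite.isClosed_biUnion F.finite_toSet (fun i _ => ?_)
    haveI := hω.finite_cohomology i
    rw [Module.support_eq_zeroLocus]
    exact PrimeSpectrum.isClosed_zeroLocus _
  haveI := hω.finite_cohomology n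
  haveI : Module.FinitePresentation A (Dual.HD A ω n) := Module.finitePresentation_of_finite A _
  let R1 : Set (PrimeSpectrum A) := {q | q ∈ Module.freeLocus A (Dual.HD A ω n) ∧
    Module.rankAtStalk (Dual.HD A ω n) q = 1}
  have hR1 : IsOpen R1 := by
    have h1 := (Module.isLocallyConstant_rankAtStalk_freeLocus (R := A)
      (M := Dual.HD A ω n)).isOpen_fiber 1
    have h2 := (Module.isOpen_freeLocus (R := A) (M := Dual.HD A ω n)).isOpenMap_subtype_val _ h1
    convert h2 using 1
    ext q
    constructor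
    · rintro ⟨hq1, hq2⟩
      exact ⟨⟨q, hq1⟩, hq2, rfl⟩
    · rintro ⟨⟨q', hq1⟩, hq2, rfl⟩
      exact ⟨hq1, hq2⟩
  have hV : V A ω n = Sᶜ ∩ R1 := by
    ext q
    constructor
    · rintro ⟨h1, h2, h3⟩
      refine ⟨?_, h2, h3⟩
      intro hqS
      simp only [S, Set.mem_iUnion] at hqS
      obtain ⟨i, hiF, hq⟩ := hqS
      exact h1 i (Finset.mem_filter.1 hiF).2 hq
    · rintro ⟨h1, h2, h3⟩
      refine ⟨fun i hi hq => h1 ?_, h2, h3⟩
      have hmem : i ∈ Finset.Icc a b := by
        by_contra hcon
        rw [Finset.mem_Icc, not_and_or, not_le, not_le] at hcon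
        have hz : IsZero ((homologyFunctor (ModuleCat.{u} A) i).obj ω) := by
          rcases hcon with h | h
          · exact DerivedCategory.isZero_of_isGE ω a i h
          · exact DerivedCategory.isZero_of_isLE ω b i h
        have hs : Subsingleton (Dual.HD A ω i) := ModuleCat.subsingleton_of_isZero hz
        have he : Module.support A (Dual.HD A ω i) = ∅ := Module.support_eq_empty_iff.2 hs
        rw [he] at hq
        exact hq
      simp only [S, Set.mem_iUnion]
      exact ⟨i, Finset.mem_filter.2 ⟨hmem, hi⟩, hq⟩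
  rw [hV]
  exact hS.isOpen_compl.inter hR1

/-- **The Gorenstein locus of a Noetherian ring with a dualizing complex is open.** -/
theorem isOpen_gorensteinLocus (hω : Dual.IsDualizing A ω) :
    IsOpen {p : PrimeSpectrum A |
      LocCoh.IsGorensteinLocalRing (Localization.AtPrime p.asIdeal)} := by
  have h : {p : PrimeSpectrum A |
      LocCoh.IsGorensteinLocalRing (Localization.AtPrime p.asIdeal)} = ⋃ n : ℤ, V A ω n := by
    ext p
    simp only [Set.mem_ofPred_eq, Set.mem_iUnion]
    constructor
    · intro hG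
      exact exists_mem_V hω p hG
    · rintro ⟨n, hn⟩
      exact gorenstein_of_mem_V hω n p hn
  rw [h]
  exact isOpen_iUnion (fun n => isOpen_V hω n)

end GorLocus
end Groth.Agent.Lib.Helper6
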