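import Groth.Agent.Lib.Helper35.FlatBC
import Mathlib

/-! Flat base change of Hom groups in the derived category, part 1: the comparison map
`Phi : B ⊗_A Hom_{D(A)}(K, L) → Hom_{D(B)}(G K, G L)` and its naturality (helper6). -/

set_option autoImplicit false
set_option linter.unusedSectionVars false
universe u
open CategoryTheory CategoryTheory.Limits DerivedCategory TensorProduct
attribute [local instance] HasDerivedCategory.standard

namespace Groth.Agent.Lib.Helper6
namespace HomBC

open Groth.Agent.Lib.Helper35 Groth.Agent.Lib.Helper35.FlatBC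

variable (A B : Type u) [CommRing A] [CommRing B] [Algebra A B]

set_option backward.isDefEq.respectTransparency false in
lemma ext_map_smul_id (M : ModuleCat.{u} A) (a : A) :
    (ext A B).map (a • 𝟙 M) = (algebraMap A B a) • 𝟙 _ := by
  ext x
  rw [ModuleCat.ExtendScalars.map_tmul]
  simp only [ModuleCat.hom_smul, ModuleCat.hom_id, LinearMap.smul_apply, LinearMap.id_coe, id_eq]
  rw [ModuleCat.ExtendScalars.smul_tmul]
  have h := (TensorProduct.smul_tmul (R := A) (R' := A)
    (M := ((ModuleCat.restrictScalars (algebraMap A B)).obj (ModuleCat.of B B))) (N := M) a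
      (show ((ModuleCat.restrictScalars (algebraMap A B)).obj (ModuleCat.of B B)) from (1 : B)) x).symm
  rw [ModuleCat.restrictScalars.smul_def] at h
  exact h

variable [Module.Flat A B]

lemma extCx_map_smul_id (E : DRing.Cx A) (a : A) :
    (extCx A B).map (a • 𝟙 E) = (algebraMap A B a) • 𝟙 _ := by
  apply HomologicalComplex.hom_ext
  intro i
  simp only [Functor.mapHomologicalComplex_map_f, HomologicalComplex.smul_f_apply,
    HomologicalComplex.id_f]
  exact ext_map_smul_id A B (E.X i) a

lemma G_map_smul_id (L : DerivedCategory (ModuleCat.{u} A)) (a : A) :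
    (G A B).map (a • 𝟙 L) = (algebraMap A B a) • 𝟙 _ := by
  have e : Q.obj (Q.objPreimage L) ≅ L := Q.objObjPreimageIso L
  have h1 : a • 𝟙 L = e.inv ≫ Q.map (a • 𝟙 (Q.objPreimage L)) ≫ e.hom := by
    rw [Functor.map_smul, CategoryTheory.Functor.map_id, Linear.smul_comp, Linear.comp_smul,
      Category.id_comp, e.inv_hom_id]
  rw [h1, Functor.map_comp, Functor.map_comp]
  have h2 := (ext A B).mapDerivedCategoryFactors_hom_naturality (a • 𝟙 (Q.objPreimage L))
  have h3 : (G A B).map (Q.map (a • 𝟙 (Q.objPreimage L))) =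
      (algebraMap A B a) • 𝟙 _ := by
    rw [← cancel_mono ((ext A B).mapDerivedCategoryFactors.hom.app (Q.objPreimage L))]
    erw [h2]
    rw [extCx_map_smul_id, Functor.map_smul, CategoryTheory.Functor.map_id, Linear.comp_smul,
      Linear.smul_comp]
    erw [Category.comp_id, Category.id_comp]
  rw [h3, Linear.smul_comp, Linear.comp_smul, Category.id_comp, ← Functor.map_comp, e.inv_hom_id,
    CategoryTheory.Functor.map_id]

lemma G_map_smul {K L : DerivedCategory (ModuleCat.{u} A)} (f : K ⟶ L) (a : A) :
    (G A B).map (a • f) = (algebraMap A B a) • (G A B).map f := by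
  have : a • f = f ≫ (a • 𝟙 L) := by rw [Linear.comp_smul, Category.comp_id]
  rw [this, Functor.map_comp, G_map_smul_id, Linear.comp_smul, Category.comp_id]

/-- the comparison map `B ⊗ Hom(K, L) → Hom(G K, G L)`, `b ⊗ f ↦ b • G f`. -/
noncomputable def Phi (K L : DerivedCategory (ModuleCat.{u} A)) :
    B ⊗[A] (K ⟶ L) →+ ((G A B).obj K ⟶ (G A B).obj L) :=
  TensorProduct.liftAddHom
    { toFun := fun b =>
        { toFun := fun f => b • (G A B).map f
          map_zero' := by rw [Functor.map_zero, smul_zero]
          map_add' := fun f g => by rw [Functor.map_add, smul_add] }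
      map_zero' := by ext f; simp
      map_add' := fun b b' => by ext f; simp [add_smul] }
    (fun a b f => by
      simp only [AddMonoidHom.coe_mk, ZeroHom.coe_mk]
      rw [G_map_smul, smul_smul, Algebra.smul_def, mul_comm])

@[simp]
lemma Phi_tmul (K L : DerivedCategory (ModuleCat.{u} A)) (b : B) (f : K ⟶ L) :
    Phi A B K L (b ⊗ₜ f) = b • (G A B).map f := rfl

variable {A B}

lemma Phi_comp_left {K K' L : DerivedCategory (ModuleCat.{u} A)} (g : K' ⟶ K)
    (x : B ⊗[A] (K ⟶ L)) :
    Phi A B K' L (LinearMap.lTensor B (Linear.leftComp A L g) x) =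
      (G A B).map g ≫ Phi A B K L x := by
  induction x using TensorProduct.induction_on with
  | zero => simp
  | tmul b f =>
    rw [LinearMap.lTensor_tmul, Phi_tmul, Phi_tmul, Linear.leftComp_apply, Functor.map_comp,
      Linear.comp_smul]
  | add x y hx hy => rw [map_add, map_add, hx, hy, map_add, Preadditive.comp_add]

lemma Phi_comp_right {K L L' : DerivedCategory (ModuleCat.{u} A)} (h : L ⟶ L')
    (x : B ⊗[A] (K ⟶ L)) :
    Phi A B K L' (LinearMap.lTensor B (Linear.rightComp A K h) x) =
      Phi A B K L x ≫ (G A B).map h := by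
  induction x using TensorProduct.induction_on with
  | zero => simp
  | tmul b f =>
    rw [LinearMap.lTensor_tmul, Phi_tmul, Phi_tmul, Linear.rightComp_apply, Functor.map_comp,
      Linear.smul_comp]
  | add x y hx hy => rw [map_add, map_add, hx, hy, map_add, Preadditive.add_comp]

/-- `Phi` is bijective for isomorphic `K`. -/
lemma bijective_Phi_of_iso_left {K K' : DerivedCategory (ModuleCat.{u} A)} (e : K ≅ K')
    (L : DerivedCategory (ModuleCat.{u} A)) (h : Function.Bijective (Phi A B K L)) :
    Function.Bijective (Phi A B K' L) := by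
  -- Phi K L ∘ lTensor (leftComp e.hom) = (G e.hom ≫ ·) ∘ Phi K' L
  have hc : ∀ x : B ⊗[A] (K' ⟶ L), Phi A B K' L x =
      (G A B).map e.inv ≫ Phi A B K L (LinearMap.lTensor B (Linear.leftComp A L e.hom) x) := by
    intro x
    rw [Phi_comp_left, ← Category.assoc, ← Functor.map_comp, e.inv_hom_id,
      CategoryTheory.Functor.map_id, Category.id_comp]
  have hinv : ∀ x : B ⊗[A] (K ⟶ L),
      LinearMap.lTensor B (Linear.leftComp A L e.hom)
        (LinearMap.lTensor B (Linear.leftComp A L e.inv) x) = x := by
    intro x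
    rw [← LinearMap.comp_apply, ← LinearMap.lTensor_comp]
    have : Linear.leftComp A L e.hom ∘ₗ Linear.leftComp A L e.inv = LinearMap.id := by
      ext f; simp
    rw [this, LinearMap.lTensor_id, LinearMap.id_apply]
  have hinv' : ∀ x : B ⊗[A] (K' ⟶ L),
      LinearMap.lTensor B (Linear.leftComp A L e.inv)
        (LinearMap.lTensor B (Linear.leftComp A L e.hom) x) = x := by
    intro x
    rw [← LinearMap.comp_apply, ← LinearMap.lTensor_comp]
    have : Linear.leftComp A L e.inv ∘ₗ Linear.leftComp A L e.hom = LinearMap.id := by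
      ext f; simp
    rw [this, LinearMap.lTensor_id, LinearMap.id_apply]
  constructor
  · intro x y hxy
    rw [hc x, hc y] at hxy
    have h1 := (cancel_epi ((G A B).map e.inv)).1 hxy
    have h2 := h.1 h1
    rw [← hinv' x, ← hinv' y, h2]
  · intro g
    obtain ⟨z, hz⟩ := h.2 ((G A B).map e.hom ≫ g)
    refine ⟨LinearMap.lTensor B (Linear.leftComp A L e.inv) z, ?_⟩
    rw [hc, hinv, hz, ← Category.assoc, ← Functor.map_comp, e.inv_hom_id,
      CategoryTheory.Functor.map_id, Category.id_comp]

lemma bijective_Phi_of_iso_right (K : DerivedCategory (ModuleCat.{u} A))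
    {L L' : DerivedCategory (ModuleCat.{u} A)} (e : L ≅ L')
    (h : Function.Bijective (Phi A B K L)) :
    Function.Bijective (Phi A B K L') := by
  have hc : ∀ x : B ⊗[A] (K ⟶ L'), Phi A B K L' x =
      Phi A B K L (LinearMap.lTensor B (Linear.rightComp A K e.inv) x) ≫ (G A B).map e.hom := by
    intro x
    rw [Phi_comp_right, Category.assoc, ← Functor.map_comp, e.inv_hom_id,
      CategoryTheory.Functor.map_id, Category.comp_id]
  have hinv : ∀ x : B ⊗[A] (K ⟶ L),
      LinearMap.lTensor B (Linear.rightComp A K e.inv)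
        (LinearMap.lTensor B (Linear.rightComp A K e.hom) x) = x := by
    intro x
    rw [← LinearMap.comp_apply, ← LinearMap.lTensor_comp]
    have : Linear.rightComp A K e.inv ∘ₗ Linear.rightComp A K e.hom = LinearMap.id := by
      ext f; simp
    rw [this, LinearMap.lTensor_id, LinearMap.id_apply]
  have hinv' : ∀ x : B ⊗[A] (K ⟶ L'),
      LinearMap.lTensor B (Linear.rightComp A K e.hom)
        (LinearMap.lTensor B (Linear.rightComp A K e.inv) x) = x := by
    intro x
    rw [← LinearMap.comp_apply, ← LinearMap.lTensor_comp]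
    have : Linear.rightComp A K e.hom ∘ₗ Linear.rightComp A K e.inv = LinearMap.id := by
      ext f; simp
    rw [this, LinearMap.lTensor_id, LinearMap.id_apply]
  constructor
  · intro x y hxy
    rw [hc x, hc y] at hxy
    have h1 := (cancel_mono ((G A B).map e.hom)).1 hxy
    have h2 := h.1 h1
    rw [← hinv' x, ← hinv' y, h2]
  · intro g
    obtain ⟨z, hz⟩ := h.2 (g ≫ (G A B).map e.inv)
    refine ⟨LinearMap.lTensor B (Linear.rightComp A K e.hom) z, ?_⟩
    rw [hc, hinv, hz, Category.assoc, ← Functor.map_comp, e.inv_hom_id,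
      CategoryTheory.Functor.map_id, Category.comp_id]

/-- `Phi` is bijective for retracts. -/
lemma bijective_Phi_of_retract {K K' : DerivedCategory (ModuleCat.{u} A)} (i : K ⟶ K')
    (r : K' ⟶ K) (hir : i ≫ r = 𝟙 K) (L : DerivedCategory (ModuleCat.{u} A))
    (h : Function.Bijective (Phi A B K' L)) :
    Function.Bijective (Phi A B K L) := by
  have hinv : ∀ x : B ⊗[A] (K ⟶ L),
      LinearMap.lTensor B (Linear.leftComp A L i)
        (LinearMap.lTensor B (Linear.leftComp A L r) x) = x := by
    intro x
    rw [← LinearMap.comp_apply, ← LinearMap.lTensor_comp]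
    have : Linear.leftComp A L i ∘ₗ Linear.leftComp A L r = LinearMap.id := by
      ext f
      simp only [LinearMap.coe_comp, Function.comp_apply, Linear.leftComp_apply,
        LinearMap.id_coe, id_eq]
      rw [← Category.assoc, hir, Category.id_comp]
    rw [this, LinearMap.lTensor_id, LinearMap.id_apply]
  constructor
  · intro x y hxy
    have h1 : Phi A B K' L (LinearMap.lTensor B (Linear.leftComp A L r) x) =
        Phi A B K' L (LinearMap.lTensor B (Linear.leftComp A L r) y) := by
      rw [Phi_comp_left, Phi_comp_left, hxy]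
    have h2 := h.1 h1
    rw [← hinv x, ← hinv y, h2]
  · intro g
    obtain ⟨z, hz⟩ := h.2 ((G A B).map r ≫ g)
    refine ⟨LinearMap.lTensor B (Linear.leftComp A L i) z, ?_⟩
    rw [Phi_comp_left, hz, ← Category.assoc, ← Functor.map_comp, hir,
      CategoryTheory.Functor.map_id, Category.id_comp]

end HomBC
end Groth.Agent.Lib.Helper6
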