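import Groth.Agent.Lib.Helper6.HomBC9

/-! Dualizing complexes: local-to-global with uniform amplitude bounds (helper6). -/

set_option autoImplicit false
set_option linter.unusedSectionVars false
set_option linter.overlappingInstances false
universe u v w
open CategoryTheory CategoryTheory.Limits DerivedCategory TensorProduct Pretriangulated
attribute [local instance] HasDerivedCategory.standard

namespace Groth.Agent.Lib.Helper6
namespace HomBC

open Groth.Agent.Lib.Helper35 Groth.Agent.Lib.Helper35.FlatBC

variable {A : Type u} [CommRing A] {J : Type w} (B : J → Type u) [∀ j, CommRing (B j)]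
  [∀ j, Algebra A (B j)] [∀ j, Module.Flat A (B j)]

/-- **Local-to-global for dualizing complexes**, with uniform bounds on the family instead of
a bound on `K`. -/
theorem isDualizing_of_family' [IsNoetherianRing A]
    (hZ : ∀ (M : Type (u + 1)) [AddCommGroup M] [Module A M],
      (∀ j, Subsingleton (B j ⊗[A] M)) → Subsingleton M)
    (K : Dual.D A) (hfin : ∀ i : ℤ, Module.Finite A (Dual.HD A K i))
    (hunif : ∃ a b : ℤ, ∀ (j : J) (M : Type u) [AddCommGroup M] [Module (B j) M] (i : ℤ),
      (i < a ∨ b < i) → Subsingleton (Dual.inD (B j) M ⟶ ((G A (B j)).obj K)⟦i⟧))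
    (h : ∀ j, Dual.IsDualizing (B j) ((G A (B j)).obj K)) : Dual.IsDualizing A K := by
  have hZ' : ∀ (M : Type u) [AddCommGroup M] [Module A M],
      (∀ j, Subsingleton (B j ⊗[A] M)) → Subsingleton M := by
    intro M _ _ hM
    have h1 : Subsingleton (ULift.{u + 1} M) := by
      apply hZ
      intro j
      have := hM j
      exact (TensorProduct.congr (LinearEquiv.refl A (B j))
        (ULift.moduleEquiv (R := A) (M := M))).toEquiv.subsingleton
    exact Equiv.ulift.symm.subsingleton
  obtain ⟨a, b, hab⟩ := hunif
  have hIA : ∀ j, KL.IA a b ((G A (B j)).obj K) := fun j => by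
    have h21 := (KL.IA_tfae ((G A (B j)).obj K) a b).out 1 0
    exact h21.1 (fun (N : ModuleCat.{u} (B j)) i hi => hab j N i hi)
  have hzero : ∀ k : ℤ, (k < a ∨ b < k) →
      IsZero ((homologyFunctor (ModuleCat.{u} A) k).obj K) := by
    intro k hk
    have : Subsingleton (Dual.HD A K k) := by
      apply hZ'
      intro j
      have h1 : IsZero ((homologyFunctor (ModuleCat.{u} (B j)) k).obj ((G A (B j)).obj K)) := by
        rcases hk with hk | hk
        · have := (hIA j).isGE
          exact isZero_of_isGE _ a k hk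
        · have := (hIA j).isLE
          exact isZero_of_isLE _ b k hk
      have h2 : Subsingleton (Dual.HD (B j) ((G A (B j)).obj K) k) :=
        ModuleCat.subsingleton_of_isZero h1
      exact (homologyGEquiv (B := B j) K k).symm.toEquiv.subsingleton
    exact ModuleCat.isZero_of_subsingleton _
  have hle : K.IsLE b := by
    rw [DerivedCategory.isLE_iff]
    exact fun i hi => hzero i (Or.inr hi)
  have hge : K.IsGE a := by
    rw [DerivedCategory.isGE_iff]
    exact fun i hi => hzero i (Or.inl hi)
  have hshift : ∀ i : ℤ, (K⟦i⟧).IsGE (a - i) := fun i =>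
    TStructure.t.isGE_shift K a i (a - i) (by omega)
  refine isDualizing_of_family B hZ K hfin ⟨a, b, ?_⟩ h
  have h3 : ∀ (I : Ideal A) (i : ℤ), (i < a ∨ b < i) →
      Subsingleton ((singleFunctor (ModuleCat.{u} A) 0).obj (ModuleCat.of A (A ⧸ I)) ⟶ K⟦i⟧) := by
    intro I i hi
    apply hZ
    intro j
    have := hshift i
    have h1 := bijective_Phi_of_isPC (B := B j) (Dual.inD A (A ⧸ I)) (K⟦i⟧) (a - i)
      (isPC_inD_of_finite (A ⧸ I) _)
    have h2 : Subsingleton ((G A (B j)).obj (Dual.inD A (A ⧸ I)) ⟶ (G A (B j)).obj (K⟦i⟧)) := by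
      have := hab j (B j ⊗[A] (A ⧸ I)) i hi
      exact (Iso.homCongr (GInDIso (A := A) (B j) (A ⧸ I)) (GShiftIso (B := B j) K i)).subsingleton
    exact h1.1.subsingleton
  have h32 := (KL.IA_tfae K a b).out 2 1
  have h2 := h32.1 h3
  intro M _ _ i hi
  exact h2 (ModuleCat.of A M) i hi

end HomBC
end Groth.Agent.Lib.Helper6
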