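import Groth.Agent.Lib.Helper6.HomBC1

/-! Flat base change of Hom groups, part 2: the five lemma in the first variable (helper6). -/

set_option autoImplicit false
set_option linter.unusedSectionVars false
universe u
open CategoryTheory CategoryTheory.Limits DerivedCategory TensorProduct Pretriangulated
attribute [local instance] HasDerivedCategory.standard

namespace Groth.Agent.Lib.Helper6
namespace HomBC

open Groth.Agent.Lib.Helper35 Groth.Agent.Lib.Helper35.FlatBC

section general

variable {C : Type*} [Category C] [Preadditive C] [HasShift C ℤ] [HasZeroObject C]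
  [∀ n : ℤ, (shiftFunctor C n).Additive] [Pretriangulated C]

lemma exact_leftComp₂ (R : Type*) [Ring R] [Linear R C] (T : Triangle C) (hT : T ∈ distTriang C)
    (L : C) : Function.Exact (Linear.leftComp R L T.mor₂) (Linear.leftComp R L T.mor₁) := by
  intro y
  constructor
  · intro hy
    obtain ⟨g, hg⟩ := Triangle.yoneda_exact₂ T hT y hy
    exact ⟨g, hg.symm⟩
  · rintro ⟨x, rfl⟩
    simp only [Linear.leftComp_apply]
    rw [← Category.assoc, comp_distTriang_mor_zero₁₂ T hT, zero_comp]

lemma exact_leftComp₃ (R : Type*) [Ring R] [Linear R C] (T : Triangle C) (hT : T ∈ distTriang C)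
    (L : C) : Function.Exact (Linear.leftComp R L T.mor₃) (Linear.leftComp R L T.mor₂) := by
  intro y
  constructor
  · intro hy
    obtain ⟨g, hg⟩ := Triangle.yoneda_exact₃ T hT y hy
    exact ⟨g, hg.symm⟩
  · rintro ⟨x, rfl⟩
    simp only [Linear.leftComp_apply]
    rw [← Category.assoc, comp_distTriang_mor_zero₂₃ T hT, zero_comp]

lemma exact_preLeftComp₂ (T : Triangle C) (hT : T ∈ distTriang C)
    (L : C) : Function.Exact (Preadditive.leftComp L T.mor₂) (Preadditive.leftComp L T.mor₁) := by
  intro y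
  constructor
  · intro hy
    obtain ⟨g, hg⟩ := Triangle.yoneda_exact₂ T hT y hy
    exact ⟨g, hg.symm⟩
  · rintro ⟨x, rfl⟩
    change T.mor₁ ≫ T.mor₂ ≫ x = 0
    rw [← Category.assoc, comp_distTriang_mor_zero₁₂ T hT, zero_comp]

end general

variable {A B : Type u} [CommRing A] [CommRing B] [Algebra A B] [Module.Flat A B]

/-- The five lemma: bijectivity of `Phi` at the middle vertex of a distinguished triangle. -/
theorem bijective_Phi_obj₂ (T : Triangle (DerivedCategory (ModuleCat.{u} A)))
    (hT : T ∈ distTriang _) (L : DerivedCategory (ModuleCat.{u} A))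
    (h₁ : Function.Bijective (Phi A B T.obj₁ L))
    (h₃ : Function.Bijective (Phi A B T.obj₃ L))
    (h₁' : Function.Bijective (Phi A B (T.obj₁⟦(1 : ℤ)⟧) L))
    (h₃' : Function.Bijective (Phi A B T.invRotate.obj₁ L)) :
    Function.Bijective (Phi A B T.obj₂ L) := by
  have hTi := inv_rot_of_distTriang T hT
  have hGT := (G A B).map_distinguished T hT
  have hGTi := (G A B).map_distinguished T.invRotate hTi
  -- the five maps on the tensor side
  let f₁ := (LinearMap.lTensor B (Linear.leftComp A L T.mor₃)).toAddMonoidHom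
  let f₂ := (LinearMap.lTensor B (Linear.leftComp A L T.mor₂)).toAddMonoidHom
  let f₃ := (LinearMap.lTensor B (Linear.leftComp A L T.mor₁)).toAddMonoidHom
  let f₄ := (LinearMap.lTensor B (Linear.leftComp A L T.invRotate.mor₁)).toAddMonoidHom
  let g₁ := Preadditive.leftComp ((G A B).obj L) ((G A B).map T.mor₃)
  let g₂ := Preadditive.leftComp ((G A B).obj L) ((G A B).map T.mor₂)
  let g₃ := Preadditive.leftComp ((G A B).obj L) ((G A B).map T.mor₁)
  let g₄ := Preadditive.leftComp ((G A B).obj L) ((G A B).map T.invRotate.mor₁)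
  refine AddMonoidHom.bijective_of_surjective_of_bijective_of_bijective_of_injective
    f₁ f₂ f₃ f₄ g₁ g₂ g₃ g₄ (Phi A B (T.obj₁⟦(1 : ℤ)⟧) L) (Phi A B T.obj₃ L) (Phi A B T.obj₂ L)
    (Phi A B T.obj₁ L) (Phi A B T.invRotate.obj₁ L) ?_ ?_ ?_ ?_ ?_ ?_ ?_ ?_ ?_ ?_
    h₁'.2 h₃ h₁ h₃'.1
  · ext x; exact (Phi_comp_left T.mor₃ x).symm
  · ext x; exact (Phi_comp_left T.mor₂ x).symm
  · ext x; exact (Phi_comp_left T.mor₁ x).symm
  · ext x; exact (Phi_comp_left T.invRotate.mor₁ x).symm
  · exact Module.Flat.lTensor_exact B (exact_leftComp₃ A T hT L)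
  · exact Module.Flat.lTensor_exact B (exact_leftComp₂ A T hT L)
  · exact Module.Flat.lTensor_exact B (exact_leftComp₂ A T.invRotate hTi L)
  · -- exactness at Hom(G obj₃, G L)
    intro y
    constructor
    · intro hy
      obtain ⟨g, hg⟩ := Triangle.yoneda_exact₃ _ hGT y hy
      refine ⟨((G A B).commShiftIso (1 : ℤ)).hom.app T.obj₁ ≫ g, ?_⟩
      rw [hg]
      change (G A B).map T.mor₃ ≫ ((G A B).commShiftIso (1 : ℤ)).hom.app T.obj₁ ≫ g = _
      rw [← Category.assoc]
      rfl
    · rintro ⟨x, rfl⟩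
      change (G A B).map T.mor₂ ≫ (G A B).map T.mor₃ ≫ x = 0
      rw [← Category.assoc, ← Functor.map_comp, comp_distTriang_mor_zero₂₃ T hT,
        Functor.map_zero, zero_comp]
  · exact exact_preLeftComp₂ _ hGT _
  · exact exact_preLeftComp₂ _ hGTi _

end HomBC
end Groth.Agent.Lib.Helper6
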