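import Groth.Agent.Lib.Helper6.HomBC2

/-! Flat base change of Hom groups, part 3: the class of good objects is a saturated
triangulated subcategory (helper6). -/

set_option autoImplicit false
set_option linter.unusedSectionVars false
universe u
open CategoryTheory CategoryTheory.Limits DerivedCategory TensorProduct Pretriangulated
attribute [local instance] HasDerivedCategory.standard

namespace Groth.Agent.Lib.Helper6
namespace HomBC

open Groth.Agent.Lib.Helper35 Groth.Agent.Lib.Helper35.FlatBC

variable (A B : Type u) [CommRing A] [CommRing B] [Algebra A B] [Module.Flat A B]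

/-- `K` is good if `Phi (K⟦n⟧) L` is bijective for all `n` and all `L`. -/
def Good (K : DerivedCategory (ModuleCat.{u} A)) : Prop :=
  ∀ (n : ℤ) (L : DerivedCategory (ModuleCat.{u} A)), Function.Bijective (Phi A B (K⟦n⟧) L)

variable {A B}

lemma Good.of_iso {K K' : DerivedCategory (ModuleCat.{u} A)} (e : K ≅ K') (h : Good A B K) :
    Good A B K' := fun n L =>
  bijective_Phi_of_iso_left ((shiftFunctor _ n).mapIso e) L (h n L)

lemma Good.shift {K : DerivedCategory (ModuleCat.{u} A)} (h : Good A B K) (m : ℤ) :
    Good A B (K⟦m⟧) := fun n L =>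
  bijective_Phi_of_iso_left
    ((shiftFunctorAdd' (DerivedCategory (ModuleCat.{u} A)) m n (m + n) rfl).app K) L (h (m + n) L)

lemma Good.zero_shift {K : DerivedCategory (ModuleCat.{u} A)} (h : Good A B K)
    (L : DerivedCategory (ModuleCat.{u} A)) : Function.Bijective (Phi A B K L) :=
  bijective_Phi_of_iso_left ((shiftFunctorZero (DerivedCategory (ModuleCat.{u} A)) ℤ).app K) L
    (h 0 L)

lemma Good.ext₂ (T : Triangle (DerivedCategory (ModuleCat.{u} A))) (hT : T ∈ distTriang _)
    (h₁ : Good A B T.obj₁) (h₃ : Good A B T.obj₃) : Good A B T.obj₂ := by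
  intro n L
  have hT' := Triangle.shift_distinguished T hT n
  exact bijective_Phi_obj₂ _ hT' L (h₁ n L) (h₃ n L) ((h₁.shift n) 1 L) ((h₃.shift n) (-1) L)

lemma Good.of_retract {K K' : DerivedCategory (ModuleCat.{u} A)} (i : K ⟶ K') (r : K' ⟶ K)
    (hir : i ≫ r = 𝟙 K) (h : Good A B K') : Good A B K := fun n L =>
  bijective_Phi_of_retract (i⟦n⟧') (r⟦n⟧')
    (by rw [← Functor.map_comp, hir, CategoryTheory.Functor.map_id]) L (h n L)

end HomBC
end Groth.Agent.Lib.Helper6
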