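import Groth.Agent.Lib.Helper6.HomBC4
import Groth.Agent.Lib.Helper6.MPC
import Groth.Agent.Lib.Helper6.PerfGen

/-! Flat base change of Hom groups, part 5: perfect and pseudo-coherent first variable
(helper6). -/

set_option autoImplicit false
set_option linter.unusedSectionVars false
universe u
open CategoryTheory CategoryTheory.Limits DerivedCategory TensorProduct Pretriangulated
attribute [local instance] HasDerivedCategory.standard

namespace Groth.Agent.Lib.Helper6
namespace HomBC

open Groth.Agent.Lib.Helper35 Groth.Agent.Lib.Helper35.FlatBC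

variable {A B : Type u} [CommRing A] [CommRing B] [Algebra A B] [Module.Flat A B]

lemma G_map_single_map (b : ℤ) {M N : ModuleCat.{u} A} (f : M ⟶ N) :
    (G A B).map ((singleFunctor (ModuleCat.{u} A) b).map f) =
      ((ext A B).mapDerivedCategorySingleFunctor b).hom.app M ≫
        (singleFunctor (ModuleCat.{u} B) b).map ((ext A B).map f) ≫
        ((ext A B).mapDerivedCategorySingleFunctor b).inv.app N := by
  have h := ((ext A B).mapDerivedCategorySingleFunctor b).hom.naturality f
  rw [← cancel_mono (((ext A B).mapDerivedCategorySingleFunctor b).hom.app N)]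
  simp only [Category.assoc, Iso.inv_hom_id_app, Functor.comp_obj]
  erw [Category.comp_id]
  exact h

lemma bijective_Phi_single (b : ℤ) (N : ModuleCat.{u} A) :
    Function.Bijective (Phi A B ((singleFunctor (ModuleCat.{u} A) b).obj (ModuleCat.of A A))
      ((singleFunctor (ModuleCat.{u} A) b).obj N)) := by
  let P : ModuleCat.{u} A := ModuleCat.of A A
  let sA := singleFunctor (ModuleCat.{u} A) b
  let sB := singleFunctor (ModuleCat.{u} B) b
  let σ := (ext A B).mapDerivedCategorySingleFunctor b
  have hα : Function.Bijective (LinearMap.lTensor B (sA.mapLinearMap A (X := P) (Y := N))) :=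
    lTensor_bijective' _ ((Functor.FullyFaithful.ofFullyFaithful sA).map_bijective P N)
  let β : ((ext A B).obj P ⟶ (ext A B).obj N) → ((G A B).obj (sA.obj P) ⟶ (G A B).obj (sA.obj N)) :=
    fun g => σ.hom.app P ≫ sB.map g ≫ σ.inv.app N
  have hβ : Function.Bijective β := by
    have h1 : Function.Bijective (fun g : (ext A B).obj P ⟶ (ext A B).obj N => sB.map g) :=
      (Functor.FullyFaithful.ofFullyFaithful sB).map_bijective _ _
    have h2 := (Iso.homCongr (σ.app P).symm (σ.app N).symm).bijective
    exact h2.comp h1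
  refine bijective_of_comm' _ β _ _ ?_ hα hβ (phi₀_bijective N)
  intro x
  induction x using TensorProduct.induction_on with
  | zero => simp [β]
  | tmul b' f =>
    rw [LinearMap.lTensor_tmul, Phi_tmul, phi₀_tmul]
    simp only [β]
    rw [Functor.map_smul, Linear.smul_comp, Linear.comp_smul]
    congr 1
    exact G_map_single_map b f
  | add x y hx hy =>
    rw [map_add, map_add, hx, hy, map_add]
    simp only [β]
    rw [Functor.map_add, Preadditive.add_comp, Preadditive.comp_add]

theorem bijective_Phi_single_self (b : ℤ) (L : DerivedCategory (ModuleCat.{u} A)) :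
    Function.Bijective (Phi A B ((singleFunctor (ModuleCat.{u} A) b).obj (ModuleCat.of A A)) L) := by
  let P : ModuleCat.{u} A := ModuleCat.of A A
  have hP : Projective P := (IsProjective.iff_projective (R := A) (P := A)).mp inferInstance
  have hPB : Projective ((ext A B).obj P) := by
    have : Module.Projective B ((ext A B).obj P) := projective_ext_obj B P
    exact (IsProjective.iff_projective (R := B) (P := (ext A B).obj P)).mp this
  let S := (singleFunctor (ModuleCat.{u} A) b).obj P
  have hS : ∀ (X : DerivedCategory (ModuleCat.{u} A)) [X.IsLE (b - 1)] (φ : S ⟶ X), φ = 0 :=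
    fun X _ φ => KL.hom_single_projective_eq_zero X (b - 1) b (by omega) φ
  have hS' : ∀ (Y : DerivedCategory (ModuleCat.{u} B)) [Y.IsLE (b - 1)]
      (φ : (G A B).obj S ⟶ Y), φ = 0 := by
    intro Y _ φ
    let σ := ((ext A B).mapDerivedCategorySingleFunctor b).app P
    have h0 : σ.inv ≫ φ = 0 := KL.hom_single_projective_eq_zero Y (b - 1) b (by omega) _
    rw [← cancel_epi σ.inv, h0, comp_zero]
  have hSle : S.IsLE b := inferInstance
  apply bijective_Phi_of_truncGE S L b hS hS'
  apply bijective_Phi_of_truncLT S _ b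
  have hGE : TStructure.t.IsGE ((TStructure.t.truncLT (b + 1)).obj
      ((TStructure.t.truncGE b).obj L)) b := inferInstance
  have hLE : TStructure.t.IsLE ((TStructure.t.truncLT (b + 1)).obj
      ((TStructure.t.truncGE b).obj L)) b := TStructure.t.isLE_truncLT_obj _ (b + 1) b
  obtain ⟨H, ⟨e⟩⟩ := exists_iso_singleFunctor_obj_of_isGE_of_isLE
    ((TStructure.t.truncLT (b + 1)).obj ((TStructure.t.truncGE b).obj L)) b
  exact bijective_Phi_of_iso_right S e.symm (bijective_Phi_single b H)


/-- `A[0]` is good. -/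
theorem good_unit : Good A B (Dual.inD A A) := by
  intro n L
  have e : ((singleFunctor (ModuleCat.{u} A) 0).obj (ModuleCat.of A A))⟦n⟧ ≅
      (singleFunctor (ModuleCat.{u} A) (-n)).obj (ModuleCat.of A A) :=
    ((DerivedCategory.singleFunctors (ModuleCat.{u} A)).shiftIso n (-n) 0 (by omega)).app
      (ModuleCat.of A A)
  exact bijective_Phi_of_iso_left e.symm L (bijective_Phi_single_self (-n) L)

/-- Perfect objects are good. -/
theorem good_of_isPerfect (K : Dual.D A) (hK : DRing.IsPerfect A K) : Good A B K := by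
  let P : ObjectProperty (Dual.D A) := fun K => Good A B K
  have : P.IsClosedUnderIsomorphisms := ⟨fun e h => Good.of_iso e h⟩
  exact PerfGen.prop_of_isPerfect P good_unit (fun K n h => Good.shift h n)
    (fun T hT h₁ h₃ => Good.ext₂ T hT h₁ h₃)
    (fun X Y _ h => Good.of_retract biprod.inl biprod.fst biprod.inl_fst h) K hK

section general

variable {C : Type*} [Category C] [Preadditive C] [HasShift C ℤ] [HasZeroObject C]
  [∀ n : ℤ, (shiftFunctor C n).Additive] [Pretriangulated C]

lemma precomp_mor₁_bijective (T : Triangle C) (hT : T ∈ distTriang C) (L : C)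
    (h₃ : ∀ φ : T.obj₃ ⟶ L, φ = 0) (h₃' : ∀ φ : T.invRotate.obj₁ ⟶ L, φ = 0) :
    Function.Bijective (fun φ : T.obj₂ ⟶ L => T.mor₁ ≫ φ) := by
  constructor
  · intro φ ψ h
    have h0 : T.mor₁ ≫ (φ - ψ) = 0 := by
      rw [Preadditive.comp_sub]; exact sub_eq_zero.mpr h
    obtain ⟨g, hg⟩ := Triangle.yoneda_exact₂ T hT _ h0
    rw [h₃ g, comp_zero] at hg
    exact sub_eq_zero.mp hg
  · intro ψ
    have hTi := inv_rot_of_distTriang T hT
    obtain ⟨g, hg⟩ := Triangle.yoneda_exact₂ T.invRotate hTi ψ (h₃' _)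
    exact ⟨g, hg.symm⟩

end general

open MPC in
/-- **Flat base change of Hom**: for `K` `(ℓ-1)`-pseudo-coherent and `L ∈ D^{≥ ℓ}`,
`B ⊗ Hom(K, L) → Hom(G K, G L)` is bijective. -/
theorem bijective_Phi_of_isPC (K L : Dual.D A) (ℓ : ℤ) [L.IsGE ℓ]
    (hK : DRing.IsPseudoCoherent A (ℓ - 1) K) : Function.Bijective (Phi A B K L) := by
  obtain ⟨E, a, b, α, hv, hE, hiso, hepi⟩ := hK
  have hperf : DRing.IsPerfect A (DRing.toD E) :=
    ⟨E, a, b, hv, fun i => ⟨(hE i).1, by have := (hE i).2; infer_instance⟩, ⟨Iso.refl _⟩⟩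
  have hgood : Good A B (DRing.toD E) := good_of_isPerfect _ hperf
  obtain ⟨C, g, h, hT⟩ := Pretriangulated.distinguished_cocone_triangle α
  have hC : TStructure.t.IsLE (Triangle.mk α g h).obj₃ (ℓ - 1 - 1) :=
    (cond_iff_isLE _ hT (ℓ - 1)).1 ⟨hiso, hepi⟩
  have hC0 : TStructure.t.IsLE C (ℓ - 1 - 1) := hC
  have hC' : TStructure.t.IsLE ((Triangle.mk α g h).invRotate.obj₁) (ℓ - 1) :=
    TStructure.t.isLE_shift C (ℓ - 1 - 1) (-1) (ℓ - 1) (by omega)
  have hGT := (G A B).map_distinguished _ hT
  have hGC : TStructure.t.IsLE ((G A B).mapTriangle.obj (Triangle.mk α g h)).obj₃ (ℓ - 1 - 1) :=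
    isLE_G C (ℓ - 1 - 1)
  have hGC' : TStructure.t.IsLE
      (((G A B).mapTriangle.obj (Triangle.mk α g h)).invRotate.obj₁) (ℓ - 1) :=
    TStructure.t.isLE_shift _ (ℓ - 1 - 1) (-1) (ℓ - 1) (by omega)
  have hGL : TStructure.t.IsGE ((G A B).obj L) ℓ := isGE_G L ℓ
  have hα : Function.Bijective (Linear.leftComp A L α) :=
    precomp_mor₁_bijective _ hT L
      (fun φ => TStructure.t.zero φ (ℓ - 1 - 1) ℓ (by omega))
      (fun φ => TStructure.t.zero φ (ℓ - 1) ℓ (by omega))
  have hβ : Function.Bijective (fun ψ : (G A B).obj K ⟶ (G A B).obj L =>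
      (G A B).map α ≫ ψ) :=
    precomp_mor₁_bijective _ hGT ((G A B).obj L)
      (fun φ => TStructure.t.zero φ (ℓ - 1 - 1) ℓ (by omega))
      (fun φ => TStructure.t.zero φ (ℓ - 1) ℓ (by omega))
  exact bijective_of_comm _ _ _ _ (fun x => Phi_comp_left α x)
    (lTensor_bijective' _ hα) hβ (hgood.zero_shift L)

end HomBC
end Groth.Agent.Lib.Helper6
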