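import Groth.Agent.Lib.Helper6.HomBC6

/-! Faithfully flat descent of dualizing complexes (helper6). -/

set_option autoImplicit false
set_option linter.unusedSectionVars false
set_option linter.overlappingInstances false
universe u
open CategoryTheory CategoryTheory.Limits DerivedCategory TensorProduct Pretriangulated
attribute [local instance] HasDerivedCategory.standard

namespace Groth.Agent.Lib.Helper6
namespace HomBC

open Groth.Agent.Lib.Helper35 Groth.Agent.Lib.Helper35.FlatBC

variable {A B : Type u} [CommRing A] [CommRing B] [Algebra A B] [Module.Flat A B]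

/-- `G (K⟦i⟧) ≅ (G K)⟦i⟧`. -/
noncomputable def GShiftIso (K : Dual.D A) (i : ℤ) :
    (G A B).obj (K⟦i⟧) ≅ ((G A B).obj K)⟦i⟧ :=
  ((G A B).commShiftIso i).app K

/-- the map `B → End(G K)` factors through `Phi`. -/
lemma Phi_comp_toEnd (K : Dual.D A) (x : B ⊗[A] A) :
    Phi A B K K (LinearMap.lTensor B (LinearMap.toSpanSingleton A (K ⟶ K) (𝟙 K)) x) =
      (TensorProduct.rid A B x) • 𝟙 ((G A B).obj K) := by
  induction x using TensorProduct.induction_on with
  | zero => simp
  | tmul b a =>
    rw [LinearMap.lTensor_tmul, Phi_tmul, LinearMap.toSpanSingleton_apply, G_map_smul,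
      CategoryTheory.Functor.map_id, smul_smul, TensorProduct.rid_tmul, Algebra.smul_def, mul_comm]
  | add x y hx hy => rw [map_add, map_add, hx, hy, map_add, add_smul]

/-- **Faithfully flat descent of dualizing complexes** (for the exact base change functor). -/
theorem isDualizing_of_G [IsNoetherianRing A] [Module.FaithfullyFlat A B] (K : Dual.D A)
    (hG : Dual.IsDualizing B ((G A B).obj K)) : Dual.IsDualizing A K := by
  obtain ⟨a, b, hab⟩ := hG.finite_injective_dimension
  have h21 := (KL.IA_tfae ((G A B).obj K) a b).out 1 0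
  have hIA : KL.IA a b ((G A B).obj K) :=
    h21.1 (fun (N : ModuleCat.{u} B) i hi => hab N i hi)
  have hGle : ((G A B).obj K).IsLE b := hIA.isLE
  have hGge : ((G A B).obj K).IsGE a := hIA.isGE
  have hle : K.IsLE b := isLE_of_G (B := B) K b
  have hge : K.IsGE a := isGE_of_G (B := B) K a
  have hfin : ∀ i : ℤ, Module.Finite A (Dual.HD A K i) := fun i => by
    have := hG.finite_cohomology i
    exact finite_homology_of_G (B := B) K i
  have hpc : ∀ m : ℤ, DRing.IsPseudoCoherent A m K := isPC_of_finite_homology K b hfin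
  have hshift : ∀ i : ℤ, (K⟦i⟧).IsGE (a - i) := fun i =>
    TStructure.t.isGE_shift K a i (a - i) (by omega)
  -- descent of vanishing of Hom into shifts of `K`
  have key : ∀ (X : Dual.D A) (i : ℤ), (∀ m, DRing.IsPseudoCoherent A m X) →
      Subsingleton ((G A B).obj X ⟶ ((G A B).obj K)⟦i⟧) → Subsingleton (X ⟶ K⟦i⟧) := by
    intro X i hX hs
    have := hshift i
    refine subsingleton_hom_of_G (B := B) X (K⟦i⟧) (a - i) (hX _) ?_
    exact (Iso.homCongr (Iso.refl ((G A B).obj X)) (GShiftIso (B := B) K i)).subsingleton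
  refine
    { isNoetherianRing := inferInstance
      finite_injective_dimension := ?_
      finite_cohomology := hfin
      toEnd_bijective := ?_
      ext_self_subsingleton := ?_ }
  · refine ⟨a, b, ?_⟩
    have h3 : ∀ (J : Ideal A) (i : ℤ), (i < a ∨ b < i) →
        Subsingleton ((singleFunctor (ModuleCat.{u} A) 0).obj (ModuleCat.of A (A ⧸ J)) ⟶ K⟦i⟧) := by
      intro J i hi
      refine key (Dual.inD A (A ⧸ J)) i (isPC_inD_of_finite (A ⧸ J)) ?_
      have := hab (B ⊗[A] (A ⧸ J)) i hi
      exact (Iso.homCongr (GInDIso (A := A) B (A ⧸ J)).symm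
        (Iso.refl (((G A B).obj K)⟦i⟧))).symm.subsingleton
    have h32 := (KL.IA_tfae K a b).out 2 1
    have h2 := h32.1 h3
    intro M _ _ i hi
    exact h2 (ModuleCat.of A M) i hi
  · have h1 := bijective_Phi_of_isPC (B := B) K K a (hpc _)
    have h2 : Function.Bijective (fun x : B ⊗[A] A =>
        Phi A B K K (LinearMap.lTensor B (LinearMap.toSpanSingleton A (K ⟶ K) (𝟙 K)) x)) := by
      have h3 : (fun x : B ⊗[A] A =>
          Phi A B K K (LinearMap.lTensor B (LinearMap.toSpanSingleton A (K ⟶ K) (𝟙 K)) x)) =
          (fun c : B => c • 𝟙 ((G A B).obj K)) ∘ (TensorProduct.rid A B) := by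
        funext x
        exact Phi_comp_toEnd K x
      rw [h3]
      exact hG.toEnd_bijective.comp (TensorProduct.rid A B).bijective
    have h4 : Function.Bijective
        (LinearMap.lTensor B (LinearMap.toSpanSingleton A (K ⟶ K) (𝟙 K))) :=
      (Function.Bijective.of_comp_iff' h1 _).1 h2
    have h5 := (Module.FaithfullyFlat.lTensor_bijective_iff_bijective A B _).1 h4
    exact h5
  · intro i hi
    exact key K i hpc (hG.ext_self_subsingleton i hi)

end HomBC
end Groth.Agent.Lib.Helper6
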