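import Groth.Agent.Lib.Helper6.HomBC8

/-! Dualizing complexes: local-to-global along a jointly faithful flat family (helper6). -/

set_option autoImplicit false
set_option linter.unusedSectionVars false
set_option linter.overlappingInstances false
universe u v w
open CategoryTheory CategoryTheory.Limits DerivedCategory TensorProduct Pretriangulated
attribute [local instance] HasDerivedCategory.standard

namespace Groth.Agent.Lib.Helper6
namespace HomBC

open Groth.Agent.Lib.Helper35 Groth.Agent.Lib.Helper35.FlatBC

section linear

variable {A : Type u} [CommRing A] {J : Type w} (B : J → Type u) [∀ j, CommRing (B j)]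
  [∀ j, Algebra A (B j)] [∀ j, Module.Flat A (B j)]

/-- Bijectivity of a linear map can be checked after base change to a jointly faithful flat
family. -/
lemma bijective_of_lTensor_bijective {M : Type*} {N : Type*} [AddCommGroup M] [Module A M]
    [AddCommGroup N] [Module A N] (f : M →ₗ[A] N)
    (hker : (∀ j, Subsingleton (B j ⊗[A] LinearMap.ker f)) → Subsingleton (LinearMap.ker f))
    (hcoker : (∀ j, Subsingleton (B j ⊗[A] (N ⧸ LinearMap.range f))) →
      Subsingleton (N ⧸ LinearMap.range f))
    (h : ∀ j, Function.Bijective (LinearMap.lTensor (B j) f)) : Function.Bijective f := by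
  constructor
  · have h1 : Subsingleton (LinearMap.ker f) := by
      apply hker
      intro j
      have hex := Module.Flat.lTensor_exact (B j) (LinearMap.exact_subtype_ker_map f)
      have hinj := Module.Flat.lTensor_preserves_injective_linearMap (M := B j)
        (LinearMap.ker f).subtype (Submodule.injective_subtype _)
      refine ⟨fun x y => hinj ((h j).1 ?_)⟩
      rw [hex.apply_apply_eq_zero, hex.apply_apply_eq_zero]
    rw [← LinearMap.ker_eq_bot]
    exact Submodule.eq_bot_of_subsingleton
  · have h1 : Subsingleton (N ⧸ LinearMap.range f) := by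
      apply hcoker
      intro j
      have hex := Module.Flat.lTensor_exact (B j) (LinearMap.exact_map_mkQ_range f)
      have hsurj := LinearMap.lTensor_surjective (B j) (Submodule.mkQ_surjective (LinearMap.range f))
      have hz : ∀ y : B j ⊗[A] (N ⧸ LinearMap.range f), y = 0 := by
        intro y
        obtain ⟨x, rfl⟩ := hsurj y
        obtain ⟨z, rfl⟩ := (h j).2 x
        exact hex.apply_apply_eq_zero z
      exact ⟨fun x y => (hz x).trans (hz y).symm⟩
    rw [← LinearMap.range_eq_top]
    exact Submodule.Quotient.subsingleton_iff.1 h1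

end linear

variable {A : Type u} [CommRing A] {J : Type w} (B : J → Type u) [∀ j, CommRing (B j)]
  [∀ j, Algebra A (B j)] [∀ j, Module.Flat A (B j)]

/-- **Local-to-global for dualizing complexes** along a jointly faithful flat family. -/
theorem isDualizing_of_family [IsNoetherianRing A]
    (hZ : ∀ (M : Type (u + 1)) [AddCommGroup M] [Module A M],
      (∀ j, Subsingleton (B j ⊗[A] M)) → Subsingleton M)
    (K : Dual.D A) (hfin : ∀ i : ℤ, Module.Finite A (Dual.HD A K i))
    (hinj : ∃ a b : ℤ, ∀ (M : Type u) [AddCommGroup M] [Module A M] (i : ℤ),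
      (i < a ∨ b < i) → Subsingleton (Dual.inD A M ⟶ K⟦i⟧))
    (h : ∀ j, Dual.IsDualizing (B j) ((G A (B j)).obj K)) : Dual.IsDualizing A K := by
  -- detection at the lower universe
  have hZ' : ∀ (M : Type u) [AddCommGroup M] [Module A M],
      (∀ j, Subsingleton (B j ⊗[A] M)) → Subsingleton M := by
    intro M _ _ hM
    have h1 : Subsingleton (ULift.{u + 1} M) := by
      apply hZ
      intro j
      have := hM j
      exact (TensorProduct.congr (LinearEquiv.refl A (B j))
        (ULift.moduleEquiv (R := A) (M := M))).toEquiv.subsingleton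
    exact Equiv.ulift.symm.subsingleton
  obtain ⟨a, b, hab⟩ := hinj
  have h21 := (KL.IA_tfae K a b).out 1 0
  have hIA : KL.IA a b K := h21.1 (fun (N : ModuleCat.{u} A) i hi => hab N i hi)
  have hle : K.IsLE b := hIA.isLE
  have hge : K.IsGE a := hIA.isGE
  have hpc : ∀ m : ℤ, DRing.IsPseudoCoherent A m K := isPC_of_finite_homology K b hfin
  have hshift : ∀ i : ℤ, (K⟦i⟧).IsGE (a - i) := fun i =>
    TStructure.t.isGE_shift K a i (a - i) (by omega)
  refine
    { isNoetherianRing := inferInstance
      finite_injective_dimension := ⟨a, b, hab⟩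
      finite_cohomology := hfin
      toEnd_bijective := ?_
      ext_self_subsingleton := ?_ }
  · have hb : Function.Bijective (LinearMap.toSpanSingleton A (K ⟶ K) (𝟙 K)) := by
      refine bijective_of_lTensor_bijective B _ (hZ' _) (hZ _) (fun j => ?_)
      have h1 := bijective_Phi_of_isPC (B := B j) K K a (hpc _)
      have h2 : Function.Bijective (fun x : B j ⊗[A] A =>
          Phi A (B j) K K
            (LinearMap.lTensor (B j) (LinearMap.toSpanSingleton A (K ⟶ K) (𝟙 K)) x)) := by
        have h3 : (fun x : B j ⊗[A] A =>
            Phi A (B j) K K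
              (LinearMap.lTensor (B j) (LinearMap.toSpanSingleton A (K ⟶ K) (𝟙 K)) x)) =
            (fun c : B j => c • 𝟙 ((G A (B j)).obj K)) ∘ (TensorProduct.rid A (B j)) := by
          funext x
          exact Phi_comp_toEnd K x
        rw [h3]
        exact (h j).toEnd_bijective.comp (TensorProduct.rid A (B j)).bijective
      exact (Function.Bijective.of_comp_iff' h1 _).1 h2
    exact hb
  · intro i hi
    apply hZ
    intro j
    have := hshift i
    have h1 := bijective_Phi_of_isPC (B := B j) K (K⟦i⟧) (a - i) (hpc _)
    have h2 : Subsingleton ((G A (B j)).obj K ⟶ (G A (B j)).obj (K⟦i⟧)) := by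
      have := (h j).ext_self_subsingleton i hi
      exact (Iso.homCongr (Iso.refl ((G A (B j)).obj K)) (GShiftIso (B := B j) K i)).subsingleton
    exact h1.1.subsingleton

end HomBC
end Groth.Agent.Lib.Helper6
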