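import Groth.Agent.Lib.Helper6.HomBC10
import Groth.Agent.Lib.Helper35.ExtFin

/-! Injective amplitude of bounded coherent complexes can be tested on residue fields of maximal
ideals (helper6). -/

set_option autoImplicit false
set_option linter.unusedSectionVars false
universe u
open CategoryTheory CategoryTheory.Limits DerivedCategory TensorProduct Pretriangulated
attribute [local instance] HasDerivedCategory.standard

namespace Groth.Agent.Lib.Helper6
namespace InjDimMax

open Groth.Agent.Lib.Helper35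

variable {R : Type u} [CommRing R]

section ses

variable (I I' : Ideal R) (x : R) (hI' : ∀ r : R, r ∈ I' ↔ r * x ∈ I)

/-- multiplication by `x` as a map `R/I' → R/I`. -/
noncomputable def mulMap (hI' : ∀ r : R, r ∈ I' ↔ r * x ∈ I) : (R ⧸ I') →ₗ[R] (R ⧸ I) :=
  Submodule.liftQ I' ((Submodule.mkQ I) ∘ₗ (LinearMap.toSpanSingleton R R x)) (by
    intro r hr
    simp only [LinearMap.mem_ker, LinearMap.coe_comp, Function.comp_apply,
      LinearMap.toSpanSingleton_apply, Submodule.mkQ_apply, smul_eq_mul]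
    exact (Submodule.Quotient.mk_eq_zero I).2 ((hI' r).1 hr))

lemma mulMap_mk (r : R) :
    mulMap I I' x hI' (Submodule.Quotient.mk r) = Submodule.Quotient.mk (r * x) :=
  rfl

/-- the projection `R/I → R/(I + (x))`. -/
noncomputable def projMap : (R ⧸ I) →ₗ[R] (R ⧸ (I ⊔ Ideal.span {x})) :=
  Submodule.mapQ I (I ⊔ Ideal.span {x}) LinearMap.id (by
    intro r hr
    exact Submodule.mem_sup_left hr)

lemma projMap_mk (r : R) :
    projMap I x (Submodule.Quotient.mk r) = Submodule.Quotient.mk r := rfl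

lemma mulMap_injective : Function.Injective (mulMap I I' x hI') := by
  intro y z hyz
  obtain ⟨y, rfl⟩ := Submodule.Quotient.mk_surjective _ y
  obtain ⟨z, rfl⟩ := Submodule.Quotient.mk_surjective _ z
  rw [mulMap_mk, mulMap_mk] at hyz
  have h1 : (y - z) * x ∈ I := by
    rw [sub_mul]
    exact (Submodule.Quotient.eq I).1 hyz
  exact (Submodule.Quotient.eq I').2 ((hI' _).2 h1)

lemma projMap_surjective : Function.Surjective (projMap I x) := by
  intro y
  obtain ⟨y, rfl⟩ := Submodule.Quotient.mk_surjective _ y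
  exact ⟨Submodule.Quotient.mk y, rfl⟩

lemma colon_exact : Function.Exact (mulMap I I' x hI') (projMap I x) := by
  intro y
  obtain ⟨y, rfl⟩ := Submodule.Quotient.mk_surjective _ y
  constructor
  · intro hy
    rw [projMap_mk] at hy
    have hy' : y ∈ I ⊔ Ideal.span {x} := (Submodule.Quotient.mk_eq_zero _).1 hy
    obtain ⟨i, hi, z, hz, rfl⟩ := Submodule.mem_sup.1 hy'
    obtain ⟨r, rfl⟩ := Ideal.mem_span_singleton'.1 hz
    refine ⟨Submodule.Quotient.mk r, ?_⟩
    rw [mulMap_mk, Submodule.Quotient.mk_add, (Submodule.Quotient.mk_eq_zero I).2 hi, zero_add]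
  · rintro ⟨z, hz⟩
    obtain ⟨z, rfl⟩ := Submodule.Quotient.mk_surjective _ z
    rw [← hz, mulMap_mk, projMap_mk, Submodule.Quotient.mk_eq_zero]
    exact Submodule.mem_sup_right (Ideal.mem_span_singleton'.2 ⟨z, rfl⟩)

/-- the colon short complex `R/I' → R/I → R/(I + (x))`. -/
noncomputable def colonSC : ShortComplex (ModuleCat.{u} R) :=
  ShortComplex.mk (ModuleCat.ofHom (mulMap I I' x hI')) (ModuleCat.ofHom (projMap I x)) (by
    apply ModuleCat.hom_ext
    apply LinearMap.ext
    intro r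
    exact (colon_exact I I' x hI').apply_apply_eq_zero r)

lemma colonSC_shortExact : (colonSC I I' x hI').ShortExact :=
  ModuleCat.shortComplex_shortExact _ (colon_exact I I' x hI') (mulMap_injective I I' x hI')
    (projMap_surjective I x)

end ses


section derived

variable (L : Dual.D R) (b : ℤ)

/-- the vanishing property for the cyclic module `R/I`. -/
def P (I : Ideal R) : Prop :=
  ∀ i : ℤ, b < i → Subsingleton (Dual.inD R (R ⧸ I) ⟶ L⟦i⟧)

variable {L b}

lemma P_top : P L b (⊤ : Ideal R) := by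
  intro i _
  have h0 : IsZero (ModuleCat.of R (R ⧸ (⊤ : Ideal R))) := by
    have : Subsingleton (R ⧸ (⊤ : Ideal R)) := Submodule.Quotient.subsingleton_iff.2 rfl
    exact ModuleCat.isZero_of_subsingleton _
  have h1 : IsZero (Dual.inD R (R ⧸ (⊤ : Ideal R))) :=
    (singleFunctor (ModuleCat.{u} R) 0).map_isZero h0
  exact ⟨fun f g => h1.eq_of_src f g⟩

/-- middle term of the colon sequence. -/
lemma P_of_colon (I I' : Ideal R) (x : R) (hI' : ∀ r : R, r ∈ I' ↔ r * x ∈ I)
    (h₁ : P L b I') (h₃ : P L b (I ⊔ Ideal.span {x})) : P L b I := by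
  intro i hi
  have hT := (colonSC_shortExact I I' x hI').singleTriangle_distinguished
  have hex := HomBC.exact_leftComp₂ R _ hT (L⟦i⟧)
  have s₁ : Subsingleton ((colonSC_shortExact I I' x hI').singleTriangle.obj₁ ⟶ L⟦i⟧) := h₁ i hi
  have s₃ : Subsingleton ((colonSC_shortExact I I' x hI').singleTriangle.obj₃ ⟶ L⟦i⟧) := h₃ i hi
  refine ⟨fun f g => ?_⟩
  have hz : ∀ φ : (colonSC_shortExact I I' x hI').singleTriangle.obj₂ ⟶ L⟦i⟧, φ = 0 := by
    intro φ
    obtain ⟨ψ, hψ⟩ := (hex φ).1 (s₁.elim _ _)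
    rw [← hψ, s₃.elim ψ 0, map_zero]
  exact (hz f).trans (hz g).symm

/-- multiplication by `x` is surjective on `Hom(R/I', L[i])` if `Hom(R/(I+(x)), L[i+1]) = 0`
(here `I' = (I : x)` and the statement is about the map induced by `R/I' → R/I`). -/
lemma surjective_of_colon (I I' : Ideal R) (x : R) (hI' : ∀ r : R, r ∈ I' ↔ r * x ∈ I) (i : ℤ)
    (h₃ : Subsingleton (Dual.inD R (R ⧸ (I ⊔ Ideal.span {x})) ⟶ L⟦i + 1⟧))
    (φ : Dual.inD R (R ⧸ I') ⟶ L⟦i⟧) :
    ∃ ψ : Dual.inD R (R ⧸ I) ⟶ L⟦i⟧,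
      (singleFunctor (ModuleCat.{u} R) 0).map (ModuleCat.ofHom (mulMap I I' x hI')) ≫ ψ = φ := by
  have hT := (colonSC_shortExact I I' x hI').singleTriangle_distinguished
  have hTi := inv_rot_of_distTriang _ hT
  have hex := HomBC.exact_leftComp₂ R _ hTi (L⟦i⟧)
  have hs : Subsingleton (Dual.inD R (R ⧸ (I ⊔ Ideal.span {x})) ⟶ (L⟦i⟧)⟦(1 : ℤ)⟧) :=
    (Iso.homCongr (Iso.refl _)
      ((shiftFunctorAdd' (Dual.D R) i 1 (i + 1) rfl).app L)).symm.subsingleton
  have hz : ∀ f : (colonSC_shortExact I I' x hI').singleTriangle.invRotate.obj₁ ⟶ L⟦i⟧,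
      f = 0 := fun f =>
    KL.eq_zero_of_subsingleton_hom_shift _ (L⟦i⟧) 1 hs f
  obtain ⟨ψ, hψ⟩ := (hex φ).1 (hz _)
  exact ⟨ψ, hψ⟩

end derived

end InjDimMax
end Groth.Agent.Lib.Helper6
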