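import Groth.Agent.Lib.Helper6.InjDimMax

set_option autoImplicit false
set_option linter.unusedSectionVars false
universe u
open CategoryTheory CategoryTheory.Limits DerivedCategory TensorProduct Pretriangulated
attribute [local instance] HasDerivedCategory.standard

namespace Groth.Agent.Lib.Helper6
namespace InjDimMax

open Groth.Agent.Lib.Helper35

variable {R : Type u} [CommRing R]

lemma ofHom_mulMap_self (p : Ideal R) (g : R) (hI' : ∀ r : R, r ∈ p ↔ r * g ∈ p) :
    ModuleCat.ofHom (mulMap p p g hI') = g • 𝟙 (ModuleCat.of R (R ⧸ p)) := by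
  apply ModuleCat.hom_ext
  apply LinearMap.ext
  intro y
  obtain ⟨y, rfl⟩ := Submodule.Quotient.mk_surjective _ y
  simp only [ModuleCat.hom_ofHom, ModuleCat.hom_smul, ModuleCat.hom_id, LinearMap.smul_apply,
    LinearMap.id_coe, id_eq]
  rw [mulMap_mk, ← Submodule.Quotient.mk_smul, smul_eq_mul, mul_comm]

theorem P_all [IsNoetherianRing R] (L : Dual.D R) (b : ℤ)
    (hfinE : ∀ (I : Ideal R) (i : ℤ), Module.Finite R (Dual.inD R (R ⧸ I) ⟶ L⟦i⟧))
    (hmax : ∀ m : Ideal R, m.IsMaximal → P L b m) : ∀ I : Ideal R, P L b I := by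
  intro I
  induction I using IsNoetherian.induction with
  | hgt I IH =>
  change Ideal R at I
  replace IH : ∀ J : Ideal R, I < J → P L b J := fun J hJ => IH J hJ
  by_cases hp : I.IsPrime
  · by_cases hm : I.IsMaximal
    · exact hmax I hm
    · -- prime, not maximal
      obtain ⟨m, hmmax, hIm⟩ := Ideal.exists_le_maximal I hp.ne_top
      have hlt : I < m := lt_of_le_of_ne hIm (fun h => hm (h ▸ hmmax))
      obtain ⟨f, hfm, hfI⟩ := SetLike.exists_of_lt hlt
      intro i hi
      -- divisibility by elements outside `I`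
      have hdiv : ∀ g : R, g ∉ I → ∀ φ : Dual.inD R (R ⧸ I) ⟶ L⟦i⟧,
          ∃ ψ : Dual.inD R (R ⧸ I) ⟶ L⟦i⟧, g • ψ = φ := by
        intro g hg φ
        have hI' : ∀ r : R, r ∈ I ↔ r * g ∈ I := fun r =>
          ⟨fun hr => I.mul_mem_right g hr, fun hr => (hp.mem_or_mem hr).resolve_right hg⟩
        have hlt' : I < I ⊔ Ideal.span {g} := by
          refine lt_of_le_of_ne le_sup_left (fun h => hg ?_)
          rw [h]
          exact Submodule.mem_sup_right (Ideal.mem_span_singleton_self g)
        obtain ⟨ψ, hψ⟩ := surjective_of_colon I I g hI' i (IH _ hlt' (i + 1) (by omega)) φ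
        refine ⟨ψ, ?_⟩
        rw [← hψ, ofHom_mulMap_self, Functor.map_smul, CategoryTheory.Functor.map_id,
          Linear.smul_comp, Category.id_comp]
      have hfg := hfinE I i
      have hle : (⊤ : Submodule R (Dual.inD R (R ⧸ I) ⟶ L⟦i⟧)) ≤
          Ideal.span {f} • (⊤ : Submodule R (Dual.inD R (R ⧸ I) ⟶ L⟦i⟧)) := by
        intro φ _
        obtain ⟨ψ, rfl⟩ := hdiv f hfI φ
        exact Submodule.smul_mem_smul (Ideal.mem_span_singleton_self f) Submodule.mem_top
      obtain ⟨r, hr1, hr0⟩ := Submodule.exists_sub_one_mem_and_smul_eq_zero_of_fg_of_le_smul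
        (Ideal.span {f}) ⊤ hfg.1 hle
      have hrI : r ∉ I := by
        intro hrI
        have h1 : r - 1 ∈ m := (Ideal.span_singleton_le_iff_mem m).2 hfm hr1
        have h2 : (1 : R) ∈ m := by
          have := m.sub_mem (hIm hrI) h1
          simpa using this
        exact hmmax.ne_top ((Ideal.eq_top_iff_one m).2 h2)
      refine ⟨fun φ ψ => ?_⟩
      have hz : ∀ φ : Dual.inD R (R ⧸ I) ⟶ L⟦i⟧, φ = 0 := by
        intro φ
        obtain ⟨ψ, rfl⟩ := hdiv r hrI φ
        exact hr0 ψ Submodule.mem_top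
      rw [hz φ, hz ψ]
  · -- not prime
    rcases Ideal.not_isPrime_iff.1 hp with h | ⟨x, hx, y, hy, hxy⟩
    · rw [h]; exact P_top
    · let I' : Ideal R := Submodule.comap (LinearMap.toSpanSingleton R R x) I
      have hI' : ∀ r : R, r ∈ I' ↔ r * x ∈ I := fun r => by
        simp only [I', Submodule.mem_comap, LinearMap.toSpanSingleton_apply, smul_eq_mul]
      have hlt1 : I < I' := by
        refine lt_of_le_of_ne (fun r hr => (hI' r).2 (I.mul_mem_right x hr)) (fun h => hy ?_)
        rw [h]
        exact (hI' y).2 (by rwa [mul_comm])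
      have hlt2 : I < I ⊔ Ideal.span {x} := by
        refine lt_of_le_of_ne le_sup_left (fun h => hx ?_)
        rw [h]
        exact Submodule.mem_sup_right (Ideal.mem_span_singleton_self x)
      exact P_of_colon I I' x hI' (IH _ hlt1) (IH _ hlt2)

end InjDimMax
end Groth.Agent.Lib.Helper6
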