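import Groth.Agent.Lib.Helper6.InjDimMax3

/-! Base change of (normalized) dualizing complexes along flat local maps `A → B` with
`𝔪_A B = 𝔪_B` (helper6). -/

set_option autoImplicit false
set_option linter.unusedSectionVars false
set_option linter.overlappingInstances false
universe u
open CategoryTheory CategoryTheory.Limits DerivedCategory TensorProduct Pretriangulated
attribute [local instance] HasDerivedCategory.standard

namespace Groth.Agent.Lib.Helper6
namespace InjDimMax

open Groth.Agent.Lib.Helper35 Groth.Agent.Lib.Helper35.FlatBC HomBC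

variable {A B : Type u} [CommRing A] [CommRing B] [Algebra A B] [Module.Flat A B]

/-- vanishing of `Hom(X, ω[i])` ascends along flat base change for pseudo-coherent `X` and
bounded below `ω`. -/
lemma subsingleton_G_hom_shift (X ω : Dual.D A) (a : ℤ) [ω.IsGE a] (i : ℤ)
    (hX : ∀ m, DRing.IsPseudoCoherent A m X) (hs : Subsingleton (X ⟶ ω⟦i⟧)) :
    Subsingleton ((G A B).obj X ⟶ ((G A B).obj ω)⟦i⟧) := by
  have : (ω⟦i⟧).IsGE (a - i) := TStructure.t.isGE_shift ω a i (a - i) (by omega)
  have h1 := subsingleton_G_hom (B := B) X (ω⟦i⟧) (a - i) (hX _) hs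
  exact (Iso.homCongr (Iso.refl ((G A B).obj X)) (GShiftIso (B := B) ω i)).symm.subsingleton

/-- `B ⊗ A/𝔪_A ≃ B/𝔪_B` when `𝔪_A B = 𝔪_B`. -/
noncomputable def residueEquiv [IsLocalRing A] [IsLocalRing B]
    (hm : (IsLocalRing.maximalIdeal A).map (algebraMap A B) = IsLocalRing.maximalIdeal B) :
    (B ⊗[A] (A ⧸ IsLocalRing.maximalIdeal A)) ≃ₗ[B] (B ⧸ IsLocalRing.maximalIdeal B) :=
  (Algebra.TensorProduct.quotIdealMapEquivTensorQuot B
      (IsLocalRing.maximalIdeal A)).symm.toLinearEquiv ≪≫ₗ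
    Submodule.quotEquivOfEq _ _ hm

theorem isDualizing_G_of_local [IsLocalRing A] [IsLocalRing B] [IsNoetherianRing B]
    (hm : (IsLocalRing.maximalIdeal A).map (algebraMap A B) = IsLocalRing.maximalIdeal B)
    (ω : Dual.D A) (hω : Dual.IsDualizing A ω) : Dual.IsDualizing B ((G A B).obj ω) := by
  refine isDualizing_G_of_max (B := B) ?_ ω hω
  intro n hn
  have hn' : n = IsLocalRing.maximalIdeal B := IsLocalRing.eq_maximalIdeal hn
  subst hn'
  exact ⟨A ⧸ IsLocalRing.maximalIdeal A, inferInstance, inferInstance, inferInstance,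
    ⟨residueEquiv hm⟩⟩

theorem isNormalized_G_of_local [IsLocalRing A] [IsLocalRing B]
    (hm : (IsLocalRing.maximalIdeal A).map (algebraMap A B) = IsLocalRing.maximalIdeal B)
    (ω : Dual.D A) (hω : Dual.IsDualizing A ω) (hn : Dual.IsNormalized A ω) :
    Dual.IsNormalized B ((G A B).obj ω) := by
  have := hω.isNoetherianRing
  obtain ⟨a, b, hge, hle, hab⟩ := isDualizing_bounds hω
  intro i hi
  have h0 : Subsingleton (Dual.inD A (A ⧸ IsLocalRing.maximalIdeal A) ⟶ ω⟦i⟧) := hn i hi
  have h1 := subsingleton_G_hom_shift (B := B) (Dual.inD A (A ⧸ IsLocalRing.maximalIdeal A)) ω a i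
    (isPC_inD_of_finite _) h0
  let ι : (singleFunctor (ModuleCat.{u} B) 0).obj
      (ModuleCat.of B (B ⧸ IsLocalRing.maximalIdeal B)) ≅
      (G A B).obj (Dual.inD A (A ⧸ IsLocalRing.maximalIdeal A)) :=
    (singleFunctor (ModuleCat.{u} B) 0).mapIso (residueEquiv hm).symm.toModuleIso ≪≫
      (GInDIso (A := A) B _).symm
  exact (Iso.homCongr ι (Iso.refl (((G A B).obj ω)⟦i⟧))).subsingleton

end InjDimMax
end Groth.Agent.Lib.Helper6
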