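import Groth.Agent.Lib.Helper6.LTCx
import Mathlib.LinearAlgebra.TensorProduct.Quotient
import Mathlib.Algebra.Category.ModuleCat.Kernels

/-! Top-degree Künneth formula for the tensor product of two bounded above complexes (helper6).

`H^{a+b}(P ⊗ P') ≃ H^a(P) ⊗ H^b(P')` when `P^i = 0` for `i > a` and `P'^j = 0` for `j > b`. -/

set_option autoImplicit false
universe u
open CategoryTheory CategoryTheory.Limits MonoidalCategory

namespace Groth.Agent.Lib.Helper6
namespace KT

open Groth.Agent.Lib.Helper28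

variable {R : Type u} [CommRing R]

/-- if `K.d n (n+1) = 0`, `H^n(K) ≃ K^n / im d^{n-1}`. -/
noncomputable def homologyEquivQuot (K : DRing.Cx R) (n : ℤ) (h : K.d n (n + 1) = 0) :
    K.homology n ≃ₗ[R] (K.X n ⧸ LinearMap.range (K.d (n - 1) n).hom) :=
  ((K.homologyIsoSc' (n - 1) n (n + 1) (by simp) (by simp)) ≪≫
    (ShortComplex.LeftHomologyData.ofIsColimitCokernelCofork (K.sc' (n - 1) n (n + 1)) h
      (ModuleCat.cokernelCocone (K.d (n - 1) n))
      (ModuleCat.cokernelIsColimit (K.d (n - 1) n))).homologyIso).toLinearEquiv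

section top

variable (P P' : DRing.Cx R) {a b : ℤ} (hP : DRing.VanishesAbove P a)
  (hP' : DRing.VanishesAbove P' b)

include hP hP' in
lemma isZero_summand (p q : ℤ) (hpq : p + q = a + b) (hne : p ≠ a) :
    IsZero (P.X p ⊗ P'.X q : ModuleCat.{u} R) := by
  by_cases hp : a < p
  · exact LTCx.isZero_tensorObj_left _ (hP p hp)
  · exact LTCx.isZero_tensorObj_right _ (hP' q (by omega))

/-- the top term of `P ⊗ P'`. -/
noncomputable def topIso : (P.X a ⊗ P'.X b : ModuleCat.{u} R) ≅ (P ⊗ P').X (a + b) where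
  hom := TensCx.ι P P' a b (a + b) rfl
  inv := TensCx.proj P P' a b (a + b) rfl
  hom_inv_id := TensCx.ι_proj_self P P' a b (a + b) rfl
  inv_hom_id := by
    apply TensCx.hom_ext
    intro p q hpq
    by_cases hp : p = a
    · subst hp
      obtain rfl : q = b := by omega
      rw [← Category.assoc, TensCx.ι_proj_self, Category.id_comp, Category.comp_id]
    · exact (isZero_summand P P' hP hP' p q hpq hp).eq_of_src _ _

end top

section bdry

variable (P P' : DRing.Cx R) {a b : ℤ} (hP : DRing.VanishesAbove P a)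
  (hP' : DRing.VanishesAbove P' b)

/-- the submodule of `P^a ⊗ P'^b` generated by the images of the two differentials. -/
noncomputable def bdry (a b : ℤ) : Submodule R ↑(P.X a ⊗ P'.X b : ModuleCat.{u} R) :=
  LinearMap.range (P.d (a - 1) a ▷ P'.X b).hom ⊔ LinearMap.range (P.X a ◁ P'.d (b - 1) b).hom

include hP hP' in
lemma d_top_eq_zero : (P ⊗ P').d (a + b) (a + b + 1) = 0 :=
  (LTCx.vanishesAbove_tensor hP hP' (a + b + 1) (by omega)).eq_of_tgt _ _

include hP' in
lemma ι_d_caseA :
    TensCx.ι P P' (a - 1) b (a + b - 1) (by omega) ≫ (P ⊗ P').d (a + b - 1) (a + b) =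
      (P.d (a - 1) a ▷ P'.X b) ≫ TensCx.ι P P' a b (a + b) rfl := by
  rw [TensCx.ι_d P P' (a - 1) a b (b + 1) (a + b - 1) (a + b) (by omega) (by omega) (by omega) rfl]
  have h0 : P'.d b (b + 1) = 0 := (hP' (b + 1) (by omega)).eq_of_tgt _ _
  rw [h0, MonoidalPreadditive.whiskerLeft_zero, zero_comp, smul_zero, add_zero]

include hP in
lemma ι_d_caseB :
    TensCx.ι P P' a (b - 1) (a + b - 1) (by omega) ≫ (P ⊗ P').d (a + b - 1) (a + b) =
      a.negOnePow • ((P.X a ◁ P'.d (b - 1) b) ≫ TensCx.ι P P' a b (a + b) rfl) := by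
  rw [TensCx.ι_d P P' a (a + 1) (b - 1) b (a + b - 1) (a + b) (by omega) (by omega) rfl (by omega)]
  have h0 : P.d a (a + 1) = 0 := (hP (a + 1) (by omega)).eq_of_tgt _ _
  rw [h0, MonoidalPreadditive.zero_whiskerRight, zero_comp, zero_add]

include hP hP' in
lemma range_d_top :
    LinearMap.range ((P ⊗ P').d (a + b - 1) (a + b)).hom =
      Submodule.map (topIso P P' hP hP').hom.hom (bdry P P' a b) := by
  apply le_antisymm
  · set N' := Submodule.map (topIso P P' hP hP').hom.hom (bdry P P' a b) with hN'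
    have h : (P ⊗ P').d (a + b - 1) (a + b) ≫ ModuleCat.ofHom N'.mkQ = 0 := by
      apply TensCx.hom_ext
      intro p q hpq
      rw [comp_zero, ← Category.assoc]
      by_cases hA : p = a - 1
      · obtain rfl : a - 1 = p := hA.symm
        obtain rfl : b = q := by omega
        rw [ι_d_caseA P P' hP']
        ext y
        change N'.mkQ ((TensCx.ι P P' a b (a + b) rfl).hom ((P.d (a - 1) a ▷ P'.X b).hom y)) = 0
        rw [Submodule.mkQ_apply, Submodule.Quotient.mk_eq_zero]
        exact ⟨_, Submodule.mem_sup_left ⟨y, rfl⟩, rfl⟩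
      · by_cases hB : p = a
        · obtain rfl : a = p := hB.symm
          obtain rfl : b - 1 = q := by omega
          rw [ι_d_caseB P P' hP]
          ext y
          change N'.mkQ ((a.negOnePow • ((P.X a ◁ P'.d (b - 1) b) ≫
            TensCx.ι P P' a b (a + b) rfl)).hom y) = 0
          rw [Submodule.mkQ_apply, Submodule.Quotient.mk_eq_zero]
          have h1 : (TensCx.ι P P' a b (a + b) rfl).hom ((P.X a ◁ P'.d (b - 1) b).hom y) ∈ N' :=
            ⟨_, Submodule.mem_sup_right ⟨y, rfl⟩, rfl⟩
          rcases Int.units_eq_one_or a.negOnePow with hu | hu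
          · rw [hu, one_smul]
            exact h1
          · rw [hu, Units.neg_smul, one_smul]
            exact N'.neg_mem h1
        · have hz : IsZero (P.X p ⊗ P'.X q : ModuleCat.{u} R) := by
            by_cases hp : a < p
            · exact LTCx.isZero_tensorObj_left _ (hP p hp)
            · exact LTCx.isZero_tensorObj_right _ (hP' q (by omega))
          exact hz.eq_of_src _ _
    intro x hx
    obtain ⟨y, rfl⟩ := hx
    have h2 := congrArg (fun f => f.hom y) h
    change N'.mkQ (((P ⊗ P').d (a + b - 1) (a + b)).hom y) = 0 at h2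
    rwa [Submodule.mkQ_apply, Submodule.Quotient.mk_eq_zero] at h2
  · rw [Submodule.map_le_iff_le_comap]
    apply sup_le
    · rintro _ ⟨y, rfl⟩
      refine ⟨(TensCx.ι P P' (a - 1) b (a + b - 1) (by omega)).hom y, ?_⟩
      exact congrArg (fun f => f.hom y) (ι_d_caseA P P' hP')
    · rintro _ ⟨y, rfl⟩
      have h1 := congrArg (fun f => f.hom y) (ι_d_caseB P P' hP (b := b))
      change ((P ⊗ P').d (a + b - 1) (a + b)).hom
        ((TensCx.ι P P' a (b - 1) (a + b - 1) (by omega)).hom y) =
        (a.negOnePow • ((P.X a ◁ P'.d (b - 1) b) ≫ TensCx.ι P P' a b (a + b) rfl)).hom y at h1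
      rcases Int.units_eq_one_or a.negOnePow with hu | hu
      · rw [hu, one_smul] at h1
        exact ⟨_, h1⟩
      · rw [hu, Units.neg_smul, one_smul] at h1
        refine ⟨-(TensCx.ι P P' a (b - 1) (a + b - 1) (by omega)).hom y, ?_⟩
        rw [map_neg, h1]
        change -(-((P.X a ◁ P'.d (b - 1) b) ≫ TensCx.ι P P' a b (a + b) rfl).hom y) = _
        rw [neg_neg]
        rfl

end bdry

section quot

open TensorProduct

variable {X X' Y Y' : Type u} [AddCommGroup X] [Module R X] [AddCommGroup X'] [Module R X']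
  [AddCommGroup Y] [Module R Y] [AddCommGroup Y'] [Module R Y']

lemma range_map_subtype_left (f : X' →ₗ[R] X) :
    LinearMap.range (TensorProduct.map (LinearMap.range f).subtype (LinearMap.id : Y →ₗ[R] Y)) =
      LinearMap.range (LinearMap.rTensor Y f) := by
  have h1 : LinearMap.rTensor Y f =
      TensorProduct.map (LinearMap.range f).subtype (LinearMap.id : Y →ₗ[R] Y) ∘ₗ
        TensorProduct.map f.rangeRestrict (LinearMap.id : Y →ₗ[R] Y) := by
    rw [← TensorProduct.map_comp]
    rfl
  rw [h1, LinearMap.range_comp_of_range_eq_top]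
  exact LinearMap.range_eq_top.2
    (TensorProduct.map_surjective f.surjective_rangeRestrict Function.surjective_id)

lemma range_map_subtype_right (g : Y' →ₗ[R] Y) :
    LinearMap.range (TensorProduct.map (LinearMap.id : X →ₗ[R] X) (LinearMap.range g).subtype) =
      LinearMap.range (LinearMap.lTensor X g) := by
  have h1 : LinearMap.lTensor X g =
      TensorProduct.map (LinearMap.id : X →ₗ[R] X) (LinearMap.range g).subtype ∘ₗ
        TensorProduct.map (LinearMap.id : X →ₗ[R] X) g.rangeRestrict := by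
    rw [← TensorProduct.map_comp]
    rfl
  rw [h1, LinearMap.range_comp_of_range_eq_top]
  exact LinearMap.range_eq_top.2
    (TensorProduct.map_surjective Function.surjective_id g.surjective_rangeRestrict)

/-- right exactness of the tensor product, for two maps. -/
noncomputable def quotTensorQuotEquiv (f : X' →ₗ[R] X) (g : Y' →ₗ[R] Y) :
    ((X ⧸ LinearMap.range f) ⊗[R] (Y ⧸ LinearMap.range g)) ≃ₗ[R]
      ((X ⊗[R] Y) ⧸ (LinearMap.range (LinearMap.rTensor Y f) ⊔
        LinearMap.range (LinearMap.lTensor X g))) :=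
  TensorProduct.quotientTensorQuotientEquiv (LinearMap.range f) (LinearMap.range g) ≪≫ₗ
    Submodule.quotEquivOfEq _ _ (by rw [range_map_subtype_left, range_map_subtype_right])

end quot

section main

open TensorProduct

variable (P P' : DRing.Cx R) {a b : ℤ} (hP : DRing.VanishesAbove P a)
  (hP' : DRing.VanishesAbove P' b)

include hP hP' in
/-- **Top-degree Künneth formula.** -/
theorem nonempty_top_kunneth :
    Nonempty ((P ⊗ P').homology (a + b) ≃ₗ[R] (P.homology a) ⊗[R] (P'.homology b)) := by
  have e1 := homologyEquivQuot (P ⊗ P') (a + b) (d_top_eq_zero P P' hP hP')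
  have e2 : (↑(P.X a ⊗ P'.X b : ModuleCat.{u} R) ⧸ bdry P P' a b) ≃ₗ[R]
      ((P ⊗ P').X (a + b) ⧸ LinearMap.range ((P ⊗ P').d (a + b - 1) (a + b)).hom) :=
    Submodule.Quotient.equiv _ _ (topIso P P' hP hP').toLinearEquiv
      (range_d_top P P' hP hP').symm
  have e3 := quotTensorQuotEquiv (P.d (a - 1) a).hom (P'.d (b - 1) b).hom
  have e4 := homologyEquivQuot P a ((hP (a + 1) (by omega)).eq_of_tgt _ _)
  have e5 := homologyEquivQuot P' b ((hP' (b + 1) (by omega)).eq_of_tgt _ _)
  exact ⟨e1 ≪≫ₗ e2.symm ≪≫ₗ e3.symm ≪≫ₗ (TensorProduct.congr e4 e5).symm⟩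

end main

end KT
end Groth.Agent.Lib.Helper6
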