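import Groth.Agent.Lib.Helper6.KT1
import Groth.Agent.Lib.Helper6.Bidual6
import Groth.Agent.Lib.Helper35.TARes
import Groth.Agent.Lib.Helper35.ConeRep2
import Mathlib.RingTheory.PicardGroup
import Mathlib.RingTheory.SimpleModule.Basic

/-! Top-degree Künneth for `L ⊗^L E` in `D(A)`, and module lemmas over local rings (helper6). -/

set_option autoImplicit false
universe u
open CategoryTheory CategoryTheory.Limits MonoidalCategory DerivedCategory TensorProduct
attribute [local instance] HasDerivedCategory.standard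

namespace Groth.Agent.Lib.Helper6
namespace KT

section modules

variable {R : Type u} [CommRing R] [IsLocalRing R]

/-- a nonzero finite module over a local ring surjects onto the residue field. -/
lemma exists_surjective_to_residueField (M : Type u) [AddCommGroup M] [Module R M]
    [Module.Finite R M] [Nontrivial M] :
    ∃ f : M →ₗ[R] (R ⧸ IsLocalRing.maximalIdeal R), Function.Surjective f := by
  rcases eq_top_or_exists_le_coatom (⊥ : Submodule R M) with h | ⟨m, hm, -⟩
  · exact absurd h bot_ne_top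
  · haveI : IsSimpleModule R (M ⧸ m) := isSimpleModule_iff_isCoatom.2 hm
    obtain ⟨I, hI, ⟨e⟩⟩ := isSimpleModule_iff_quot_maximal.1 (inferInstance : IsSimpleModule R (M ⧸ m))
    obtain rfl : I = IsLocalRing.maximalIdeal R := IsLocalRing.eq_maximalIdeal hI
    exact ⟨e.toLinearMap ∘ₗ m.mkQ, e.surjective.comp (Submodule.mkQ_surjective m)⟩

/-- Nakayama: the tensor product of two nonzero finite modules over a local ring is nonzero. -/
lemma nontrivial_tensorProduct (M N : Type u) [AddCommGroup M] [Module R M]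
    [Module.Finite R M] [Nontrivial M] [AddCommGroup N] [Module R N]
    [Module.Finite R N] [Nontrivial N] : Nontrivial (M ⊗[R] N) := by
  obtain ⟨f, hf⟩ := exists_surjective_to_residueField (R := R) M
  obtain ⟨g, hg⟩ := exists_surjective_to_residueField (R := R) N
  by_contra hne
  rw [not_nontrivial_iff_subsingleton] at hne
  have hs : Function.Surjective (TensorProduct.map f g) := TensorProduct.map_surjective hf hg
  have h1 : ((1 : R ⧸ IsLocalRing.maximalIdeal R) ⊗ₜ[R] (1 : R ⧸ IsLocalRing.maximalIdeal R)) = 0 := by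
    obtain ⟨x, hx⟩ := hs ((1 : R ⧸ IsLocalRing.maximalIdeal R) ⊗ₜ[R] 1)
    rw [← hx, Subsingleton.elim x 0, map_zero]
  have h2 := congrArg (LinearMap.mul' R (R ⧸ IsLocalRing.maximalIdeal R)) h1
  rw [LinearMap.mul'_apply, map_zero, mul_one] at h2
  exact one_ne_zero h2

/-- over a local ring, `M ⊗ N ≃ R` forces `M ≃ R`. -/
lemma nonempty_equiv_self_of_tensor_left (M N : Type u) [AddCommGroup M] [Module R M]
    [AddCommGroup N] [Module R N] (e : M ⊗[R] N ≃ₗ[R] R) : Nonempty (M ≃ₗ[R] R) := by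
  haveI : Module.Invertible R M := Module.Invertible.left e
  exact Module.Invertible.free_iff_linearEquiv.1 inferInstance

lemma nonempty_equiv_self_of_tensor_right (M N : Type u) [AddCommGroup M] [Module R M]
    [AddCommGroup N] [Module R N] (e : M ⊗[R] N ≃ₗ[R] R) : Nonempty (N ≃ₗ[R] R) := by
  haveI : Module.Invertible R N := Module.Invertible.right e
  exact Module.Invertible.free_iff_linearEquiv.1 inferInstance

end modules

section derived

open Groth.Agent.Lib.Helper35

variable (A : Type u) [CommRing A] (E : DRing.Cx A) [DRing.HasLTensorCx A E]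

/-- resolution data computing `L ⊗^L E`. -/
lemma exists_tensor_model (L : Dual.D A) (a b : ℤ) [L.IsLE a] [(DRing.toD E).IsLE b] :
    ∃ (P P' : DRing.Cx A), DRing.VanishesAbove P a ∧ DRing.VanishesAbove P' b ∧
      Nonempty (DRing.toD P ≅ L) ∧ Nonempty (DRing.toD P' ≅ DRing.toD E) ∧
      Nonempty ((DRing.LTensorCx A E).obj L ≅ DRing.toD (P ⊗ P')) := by
  obtain ⟨P, hPa, hPproj, ⟨e⟩⟩ := TA.exists_projective_rep L a
  obtain ⟨P', hPb, hPproj', ⟨e'⟩⟩ := TA.exists_projective_rep (DRing.toD E) b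
  haveI hKP : P.IsKProjective := KL.isKProjective_of_vanishesAbove P a hPa hPproj
  haveI hKP' : P'.IsKProjective := KL.isKProjective_of_vanishesAbove P' b hPb hPproj'
  obtain ⟨w, hw, -⟩ := LTCx.exists_quasiIso_of_iso P' E e'
  haveI := hw
  exact ⟨P, P', hPa, hPb, ⟨e⟩, ⟨e'⟩,
    ⟨(DRing.LTensorCx A E).mapIso e.symm ≪≫ LTCx.ltcIso A E P ≪≫ (LTCx.tensorQIso P w).symm⟩⟩

/-- **Top-degree Künneth** for `L ⊗^L E`. -/
theorem nonempty_hd_top (L : Dual.D A) (a b : ℤ) [L.IsLE a] [(DRing.toD E).IsLE b] :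
    Nonempty (Dual.HD A ((DRing.LTensorCx A E).obj L) (a + b) ≃ₗ[A]
      (Dual.HD A L a) ⊗[A] (Dual.HD A (DRing.toD E) b)) := by
  obtain ⟨P, P', hPa, hPb, ⟨e⟩, ⟨e'⟩, ⟨φ⟩⟩ := exists_tensor_model A E L a b
  obtain ⟨κ⟩ := nonempty_top_kunneth P P' hPa hPb
  let e1 : Dual.HD A ((DRing.LTensorCx A E).obj L) (a + b) ≃ₗ[A] (P ⊗ P').homology (a + b) :=
    ((homologyFunctor (ModuleCat.{u} A) (a + b)).mapIso φ).toLinearEquiv ≪≫ₗ
      Bidual.hdQEquiv (P ⊗ P') (a + b)
  let e2 : Dual.HD A L a ≃ₗ[A] P.homology a :=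
    ((homologyFunctor (ModuleCat.{u} A) a).mapIso e.symm).toLinearEquiv ≪≫ₗ Bidual.hdQEquiv P a
  let e3 : Dual.HD A (DRing.toD E) b ≃ₗ[A] P'.homology b :=
    ((homologyFunctor (ModuleCat.{u} A) b).mapIso e'.symm).toLinearEquiv ≪≫ₗ Bidual.hdQEquiv P' b
  exact ⟨e1 ≪≫ₗ κ ≪≫ₗ (TensorProduct.congr e2 e3).symm⟩

/-- `L ⊗^L E` vanishes above the sum of the bounds. -/
theorem subsingleton_hd_above (L : Dual.D A) (a b : ℤ) [L.IsLE a] [(DRing.toD E).IsLE b]
    (n : ℤ) (hn : a + b < n) :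
    Subsingleton (Dual.HD A ((DRing.LTensorCx A E).obj L) n) := by
  obtain ⟨P, P', hPa, hPb, ⟨e⟩, ⟨e'⟩, ⟨φ⟩⟩ := exists_tensor_model A E L a b
  let e1 : Dual.HD A ((DRing.LTensorCx A E).obj L) n ≃ₗ[A] (P ⊗ P').homology n :=
    ((homologyFunctor (ModuleCat.{u} A) n).mapIso φ).toLinearEquiv ≪≫ₗ
      Bidual.hdQEquiv (P ⊗ P') n
  have hz : IsZero ((P ⊗ P').homology n) := by
    have h1 : IsZero ((P ⊗ P').X n) := LTCx.vanishesAbove_tensor hPa hPb n hn
    exact (HomologicalComplex.exactAt_iff_isZero_homology _ _).1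
      (ShortComplex.exact_of_isZero_X₂ _ h1)
  haveI := ModuleCat.subsingleton_of_isZero hz
  exact e1.toEquiv.subsingleton

end derived

end KT
end Groth.Agent.Lib.Helper6
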