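import Mathlib
import Groth.Prelude.Def_DerCA
import Groth.Agent.S6615

set_option autoImplicit false
universe w v u v' u'
open CategoryTheory CategoryTheory.Limits Opposite ZeroObject

namespace Groth.Agent.Lib.Helper6
namespace ProSys

section Basic
variable {C : Type u} [Category.{v} C]

lemma tr_tr (X : ARSys.PS C) {n m l : ℕ} (h₁ : n ≤ m) (h₂ : m ≤ l) :
    ARSys.tr X h₂ ≫ ARSys.tr X h₁ = ARSys.tr X (h₁.trans h₂) := by
  dsimp only [ARSys.tr]
  rw [← X.map_comp]
  rfl

lemma tr_nat {X Y : ARSys.PS C} (f : X ⟶ Y) {n m : ℕ} (h : n ≤ m) :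
    ARSys.tr X h ≫ f.app (op n) = f.app (op m) ≫ ARSys.tr Y h :=
  f.naturality _

lemma cone_tr {X : ARSys.PS C} {A : C} (c : (Functor.const ℕᵒᵖ).obj A ⟶ X) {n m : ℕ} (h : n ≤ m) :
    c.app (op m) ≫ ARSys.tr X h = c.app (op n) := by
  have := c.naturality (homOfLE h).op
  simpa using this.symm

/-- Essential constancy transports along isomorphisms of systems. -/
lemma isEssConstant_of_iso {X X' : ARSys.PS C} (e : X ≅ X') {A : C}
    {c : (Functor.const ℕᵒᵖ).obj A ⟶ X} (h : DerCA.IsEssConstant X A c) :
    DerCA.IsEssConstant X' A (c ≫ e.hom) := by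
  obtain ⟨i, s, hs, hj⟩ := h
  refine ⟨i, e.inv.app (op i) ≫ s, ?_, ?_⟩
  · simp only [NatTrans.comp_app, Category.assoc, Iso.hom_inv_id_app_assoc]
    exact hs
  · intro j
    obtain ⟨k, hi, hjk, ek⟩ := hj j
    refine ⟨k, hi, hjk, ?_⟩
    have h1 : ARSys.tr X' hjk = e.inv.app (op k) ≫ ARSys.tr X hjk ≫ e.hom.app (op j) := by
      rw [tr_nat e.hom hjk, Iso.inv_hom_id_app_assoc]
    have h2 : ARSys.tr X' hi ≫ e.inv.app (op i) = e.inv.app (op k) ≫ ARSys.tr X hi :=
      tr_nat e.inv hi
    rw [h1, ek, NatTrans.comp_app]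
    simp only [Category.assoc]
    rw [reassoc_of% h2]

lemma exists_essConstant_of_iso {X X' : ARSys.PS C} (e : X ≅ X')
    (h : ∃ (A : C) (c : (Functor.const ℕᵒᵖ).obj A ⟶ X), DerCA.IsEssConstant X A c) :
    ∃ (A : C) (c : (Functor.const ℕᵒᵖ).obj A ⟶ X'), DerCA.IsEssConstant X' A c := by
  obtain ⟨A, c, hc⟩ := h
  exact ⟨A, c ≫ e.hom, isEssConstant_of_iso e hc⟩

/-- Functors preserve essential constancy. -/
lemma exists_essConstant_comp {C' : Type u'} [Category.{v'} C'] (F : C ⥤ C') {X : ARSys.PS C}
    (h : ∃ (A : C) (c : (Functor.const ℕᵒᵖ).obj A ⟶ X), DerCA.IsEssConstant X A c) :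
    ∃ (A : C') (c : (Functor.const ℕᵒᵖ).obj A ⟶ X ⋙ F), DerCA.IsEssConstant (X ⋙ F) A c := by
  obtain ⟨A, c, i, s, hs, hj⟩ := h
  refine ⟨F.obj A, { app := fun n => F.map (c.app n), naturality := ?_ }, i, F.map s, ?_, ?_⟩
  · intro n m φ
    have := c.naturality φ
    dsimp at this ⊢
    rw [Category.id_comp] at this ⊢
    rw [this, F.map_comp]
  · dsimp
    rw [← F.map_comp, hs, F.map_id]
  · intro j
    obtain ⟨k, hi, hjk, ek⟩ := hj j
    refine ⟨k, hi, hjk, ?_⟩
    dsimp [ARSys.tr] at ek ⊢
    rw [ek, F.map_comp, F.map_comp]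

/-- A system of zero objects is essentially constant. -/
lemma exists_essConstant_of_isZero [HasZeroMorphisms C] [HasZeroObject C] (X : ARSys.PS C)
    (h : ∀ n : ℕ, IsZero (X.obj (op n))) :
    ∃ (A : C) (c : (Functor.const ℕᵒᵖ).obj A ⟶ X), DerCA.IsEssConstant X A c := by
  refine ⟨0, 0, 0, 0, (isZero_zero C).eq_of_src _ _, fun j => ⟨j, Nat.zero_le j, le_rfl, ?_⟩⟩
  exact (h j).eq_of_src _ _

/-- A system whose terms lie in the essential image of a fully faithful functor lifts. -/
lemma exists_lift_of_fullyFaithful {C' : Type u'} [Category.{v'} C'] (S : C ⥤ C') [S.Full]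
    [S.Faithful] (X : ARSys.PS C') (h : ∀ n : ℕ, ∃ M : C, Nonempty (X.obj (op n) ≅ S.obj M)) :
    ∃ (M : ARSys.PS C), Nonempty (X ≅ M ⋙ S) := by
  choose M hM using h
  let e : ∀ n, X.obj (op n) ≅ S.obj (M n) := fun n => (hM n).some
  let MF : ℕᵒᵖ ⥤ C :=
    { obj := fun n => M n.unop
      map := fun {n m} φ => S.preimage ((e n.unop).inv ≫ X.map φ ≫ (e m.unop).hom)
      map_id := fun n => by
        apply S.map_injective
        simp
      map_comp := fun {n m l} φ ψ => by
        apply S.map_injective
        simp }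
  exact ⟨MF, ⟨NatIso.ofComponents (fun n => e n.unop) (by
    intro n m φ
    simp [MF])⟩⟩

end Basic

section Derived

variable {A : Type u} [Category.{v} A] [Abelian A] [HasDerivedCategory.{w} A]

open DerivedCategory

/-- `H^i(τ_{<b} K) ⟶ H^i(K)` is an isomorphism for `i < b`. -/
lemma isIso_homology_truncLTι (K : DerivedCategory A) (b i : ℤ) (hi : i < b) :
    IsIso ((homologyFunctor A i).map ((TStructure.t.truncLTι b).app K)) := by
  have hT := TStructure.t.triangleLTGE_distinguished b K
  have hGE : (((TStructure.t).triangleLTGE b).obj K).obj₃.IsGE b := inferInstance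
  have h3 : ∀ j : ℤ, j < b → IsZero ((homologyFunctor A j).obj
      (((TStructure.t).triangleLTGE b).obj K).obj₃) := fun j hj => isZero_of_isGE _ b j hj
  have hepi : Epi ((homologyFunctor A i).map (((TStructure.t).triangleLTGE b).obj K).mor₁) := by
    rw [HomologySequence.epi_homologyMap_mor₁_iff _ hT]
    exact (h3 i hi).eq_of_tgt _ _
  have hmono : Mono ((homologyFunctor A i).map (((TStructure.t).triangleLTGE b).obj K).mor₁) := by
    rw [HomologySequence.mono_homologyMap_mor₁_iff _ hT (i - 1) i (by omega)]
    exact (h3 (i - 1) (by omega)).eq_of_src _ _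
  change Mono ((homologyFunctor A i).map ((TStructure.t.truncLTι b).app K)) at hmono
  change Epi ((homologyFunctor A i).map ((TStructure.t.truncLTι b).app K)) at hepi
  exact isIso_of_mono_of_epi _

/-- `H^i(K) ⟶ H^i(τ_{≥b} K)` is an isomorphism for `b ≤ i`. -/
lemma isIso_homology_truncGEπ (K : DerivedCategory A) (b i : ℤ) (hi : b ≤ i) :
    IsIso ((homologyFunctor A i).map ((TStructure.t.truncGEπ b).app K)) := by
  have hT := TStructure.t.triangleLTGE_distinguished b K
  have hLE : (((TStructure.t).triangleLTGE b).obj K).obj₁.IsLE (b - 1) := inferInstance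
  have h1 : ∀ j : ℤ, b ≤ j → IsZero ((homologyFunctor A j).obj
      (((TStructure.t).triangleLTGE b).obj K).obj₁) := fun j hj => isZero_of_isLE _ (b - 1) j (by omega)
  have hmono : Mono ((homologyFunctor A i).map (((TStructure.t).triangleLTGE b).obj K).mor₂) := by
    rw [HomologySequence.mono_homologyMap_mor₂_iff _ hT]
    exact (h1 i hi).eq_of_src _ _
  have hepi : Epi ((homologyFunctor A i).map (((TStructure.t).triangleLTGE b).obj K).mor₂) := by
    rw [HomologySequence.epi_homologyMap_mor₂_iff _ hT i (i + 1) rfl]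
    exact (h1 (i + 1) (by omega)).eq_of_tgt _ _
  change Mono ((homologyFunctor A i).map ((TStructure.t.truncGEπ b).app K)) at hmono
  change Epi ((homologyFunctor A i).map ((TStructure.t.truncGEπ b).app K)) at hepi
  exact isIso_of_mono_of_epi _

/-- A system concentrated in a single degree `b` is essentially constant as soon as its `H^b` is. -/
lemma exists_essConstant_of_single (X : ARSys.PS (DerivedCategory A)) (b : ℤ)
    (hGE : ∀ n : ℕ, (X.obj (op n)).IsGE b) (hLE : ∀ n : ℕ, (X.obj (op n)).IsLE b)
    (hH : ∃ (B : A) (c : (Functor.const ℕᵒᵖ).obj B ⟶ X ⋙ homologyFunctor A b),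
      DerCA.IsEssConstant (X ⋙ homologyFunctor A b) B c) :
    ∃ (L : DerivedCategory A) (c : (Functor.const ℕᵒᵖ).obj L ⟶ X), DerCA.IsEssConstant X L c := by
  obtain ⟨M, ⟨ε⟩⟩ := exists_lift_of_fullyFaithful (singleFunctor A b) X (fun n => by
    have := hGE n
    have := hLE n
    exact exists_iso_singleFunctor_obj_of_isGE_of_isLE (X.obj (op n)) b)
  have e1 : X ⋙ homologyFunctor A b ≅ M :=
    Functor.isoWhiskerRight ε (homologyFunctor A b) ≪≫ Functor.associator _ _ _ ≪≫
      Functor.isoWhiskerLeft M (singleFunctorCompHomologyFunctorIso A b) ≪≫ M.rightUnitor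
  have hM := exists_essConstant_of_iso e1 hH
  exact exists_essConstant_of_iso ε.symm (exists_essConstant_comp (singleFunctor A b) hM)

/-- Essential constancy by dévissage on the cohomological amplitude. -/
theorem exists_essConstant_of_amplitude (N : ℕ) : ∀ (a b : ℤ) (_ : b < a + N)
    (X : ARSys.PS (DerivedCategory A)) (_ : ∀ n : ℕ, (X.obj (op n)).IsGE a)
    (_ : ∀ n : ℕ, (X.obj (op n)).IsLE b)
    (_ : ∀ i : ℤ, ∃ (B : A) (c : (Functor.const ℕᵒᵖ).obj B ⟶ X ⋙ homologyFunctor A i),
      DerCA.IsEssConstant (X ⋙ homologyFunctor A i) B c),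
    ∃ (L : DerivedCategory A) (c : (Functor.const ℕᵒᵖ).obj L ⟶ X), DerCA.IsEssConstant X L c := by
  induction N with
  | zero =>
    intro a b hab X hGE hLE _
    apply exists_essConstant_of_isZero
    intro n
    have := hGE n
    have := hLE n
    exact TStructure.t.isZero (X.obj (op n)) b a (by simpa using hab)
  | succ N ih =>
    intro a b hab X hGE hLE hH
    let X' : ARSys.PS (DerivedCategory A) := X ⋙ TStructure.t.truncLT b
    let X'' : ARSys.PS (DerivedCategory A) := X ⋙ TStructure.t.truncGE b
    let f : X' ⟶ X := Functor.whiskerLeft X (TStructure.t.truncLTι b) ≫ X.rightUnitor.hom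
    let g : X ⟶ X'' := X.rightUnitor.inv ≫ Functor.whiskerLeft X (TStructure.t.truncGEπ b)
    let h : X'' ⟶ X' ⋙ shiftFunctor (DerivedCategory A) (1 : ℤ) :=
      Functor.whiskerLeft X (TStructure.t.truncGEδLT b) ≫ (Functor.associator _ _ _).inv
    -- X' is essentially constant by induction
    have hX' : ∃ (L : DerivedCategory A) (c : (Functor.const ℕᵒᵖ).obj L ⟶ X'),
        DerCA.IsEssConstant X' L c := by
      apply ih a (b - 1) (by push_cast at hab; omega) X'
      · intro n
        have := hGE n
        dsimp [X']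
        infer_instance
      · intro n
        change ((TStructure.t.truncLT b).obj (X.obj (op n))).IsLE (b - 1)
        infer_instance
      · intro i
        by_cases hi : i < b
        · have hiso : IsIso (Functor.whiskerRight f (homologyFunctor A i)) := by
            apply (config := { allowSynthFailures := true }) NatIso.isIso_of_isIso_app
            intro n
            have := isIso_homology_truncLTι (X.obj n) b i hi
            simpa [f] using this
          exact exists_essConstant_of_iso (asIso (Functor.whiskerRight f (homologyFunctor A i))).symm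
            (hH i)
        · apply exists_essConstant_of_isZero
          intro n
          have : ((TStructure.t.truncLT b).obj (X.obj (op n))).IsLE (b - 1) := inferInstance
          exact isZero_of_isLE ((TStructure.t.truncLT b).obj (X.obj (op n))) (b - 1) i (by omega)
    -- X'' is concentrated in degree b
    have hX'' : ∃ (L : DerivedCategory A) (c : (Functor.const ℕᵒᵖ).obj L ⟶ X''),
        DerCA.IsEssConstant X'' L c := by
      apply exists_essConstant_of_single X'' b
      · intro n
        dsimp [X'']
        infer_instance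
      · intro n
        have := hLE n
        dsimp [X'']
        infer_instance
      · have hiso : IsIso (Functor.whiskerRight g (homologyFunctor A b)) := by
          apply (config := { allowSynthFailures := true }) NatIso.isIso_of_isIso_app
          intro n
          have := isIso_homology_truncGEπ (X.obj n) b b le_rfl
          simpa [g] using this
        exact exists_essConstant_of_iso (asIso (Functor.whiskerRight g (homologyFunctor A b))) (hH b)
    refine Groth.Agent.S6615.result X' X X'' f g h ?_ hX' hX''
    intro n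
    refine Pretriangulated.isomorphic_distinguished _
      (TStructure.t.triangleLTGE_distinguished b (X.obj (op n))) _ ?_
    refine Pretriangulated.Triangle.isoMk _ _ (Iso.refl _) (Iso.refl _) (Iso.refl _) ?_ ?_ ?_
    · dsimp [f]
      rw [Category.comp_id]
      exact (Category.comp_id _).trans (Category.id_comp _).symm
    · dsimp [g]
      rw [Category.id_comp]
      exact (Category.comp_id _).trans (Category.id_comp _).symm
    · dsimp [h]
      rw [Category.comp_id]
      refine ((congrArg (fun z => _ ≫ z) (CategoryTheory.Functor.map_id _ _)).trans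
        (Category.comp_id _)).trans (Category.id_comp _).symm

end Derived

end ProSys
end Groth.Agent.Lib.Helper6
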