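import Mathlib
import Groth.Agent.Lib.Helper6.ProSys

set_option autoImplicit false
universe w v u
open CategoryTheory CategoryTheory.Limits Opposite ZeroObject
open CategoryTheory.Triangulated CategoryTheory.Pretriangulated

namespace Groth.Agent.Lib.Helper6
namespace Split

section Gen
variable {C : Type u} [Category.{v} C] [Preadditive C] [HasShift C ℤ]
  [∀ (n : ℤ), (shiftFunctor C n).Additive]

/-- vanishing of a Hom group can be tested after a shift. -/
lemma hom_eq_zero_of_shift {X Y X' Y' : C} (n : ℤ) (e : X' ≅ X⟦n⟧) (e' : Y' ≅ Y⟦n⟧)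
    (h : ∀ f : X' ⟶ Y', f = 0) (g : X ⟶ Y) : g = 0 := by
  apply (shiftFunctor C n).map_injective
  have h1 := h (e.hom ≫ g⟦n⟧' ≫ e'.inv)
  have h2 : g⟦n⟧' = e.inv ≫ (e.hom ≫ g⟦n⟧' ≫ e'.inv) ≫ e'.hom := by simp
  rw [h2, h1, zero_comp, comp_zero, Functor.map_zero]

end Gen

section Der
variable {A : Type u} [Category.{v} A] [Abelian A] [HasDerivedCategory.{w} A]
open DerivedCategory

/-- An object concentrated in degree `n` is the single complex of its `H^n`. -/
lemma nonempty_iso_single (B : DerivedCategory A) (n : ℤ) [B.IsGE n] [B.IsLE n] :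
    Nonempty (B ≅ (singleFunctor A n).obj ((homologyFunctor A n).obj B)) := by
  obtain ⟨M, ⟨e⟩⟩ := exists_iso_singleFunctor_obj_of_isGE_of_isLE B n
  have e2 : (homologyFunctor A n).obj B ≅ M :=
    (homologyFunctor A n).mapIso e ≪≫ (singleFunctorCompHomologyFunctorIso A n).app M
  exact ⟨e ≪≫ (singleFunctor A n).mapIso e2.symm⟩

/-- Translate vanishing of `Ext^p` (in the `S_0`-form) into vanishing of
`Hom(S_i M, S_j N ⟦1⟧)`. -/
lemma hom_single_eq_zero (M N : A) (i j : ℤ) (p : ℕ) (hp : (p : ℤ) = i - j + 1)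
    (h : ∀ f : (singleFunctor A 0).obj M ⟶ ((singleFunctor A 0).obj N)⟦(p : ℤ)⟧, f = 0)
    (φ : (singleFunctor A i).obj M ⟶ ((singleFunctor A j).obj N)⟦(1 : ℤ)⟧) : φ = 0 := by
  refine hom_eq_zero_of_shift i
    (((singleFunctors A).shiftIso i 0 i (by omega)).symm.app M) ?_ h φ
  have e1 : ((singleFunctor A 0).obj N)⟦(p : ℤ)⟧ ≅ (singleFunctor A (-(p : ℤ))).obj N :=
    ((singleFunctors A).shiftIso (p : ℤ) (-(p : ℤ)) 0 (by omega)).app N
  have e2 : (((singleFunctor A j).obj N)⟦(1 : ℤ)⟧)⟦i⟧ ≅ ((singleFunctor A j).obj N)⟦(1 + i : ℤ)⟧ :=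
    ((shiftFunctorAdd' (DerivedCategory A) (1 : ℤ) i (1 + i) rfl).app _).symm
  have e3 : ((singleFunctor A j).obj N)⟦(1 + i : ℤ)⟧ ≅ (singleFunctor A (-(p : ℤ))).obj N :=
    ((singleFunctors A).shiftIso (1 + i) (-(p : ℤ)) j (by omega)).app N
  exact e1 ≪≫ e3.symm ≪≫ e2.symm

/-- `Hom(S_i M, L⟦1⟧) = 0` when `L` has amplitude `[a, c]` with `c < i`, provided
`Hom(S_i M, S_j (H^j L)⟦1⟧) = 0` for all `j ≤ c`. -/
theorem hom_single_shift_eq_zero (N : ℕ) : ∀ (a c : ℤ) (_ : c < a + N)
    (L : DerivedCategory A) (_ : L.IsGE a) (_ : L.IsLE c) (M : A) (i : ℤ) (_ : c < i)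
    (_ : ∀ j : ℤ, j ≤ c → ∀ φ : (singleFunctor A i).obj M ⟶
      ((singleFunctor A j).obj ((homologyFunctor A j).obj L))⟦(1 : ℤ)⟧, φ = 0)
    (φ : (singleFunctor A i).obj M ⟶ L⟦(1 : ℤ)⟧), φ = 0 := by
  induction N with
  | zero =>
    intro a c hac L hGE hLE M i _ _ φ
    have hz : IsZero L := TStructure.t.isZero L c a (by simpa using hac)
    exact ((shiftFunctor (DerivedCategory A) (1 : ℤ)).map_isZero hz).eq_of_tgt _ _
  | succ N ih =>
    intro a c hac L hGE hLE M i hci hvan φ
    have hT := TStructure.t.triangleLTGE_distinguished c L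
    -- the truncation `τ_{≥ c} L` is `S_c (H^c L)`
    have hE1 : ((TStructure.t.truncGE c).obj L).IsGE c := inferInstance
    have hE2 : ((TStructure.t.truncGE c).obj L).IsLE c := inferInstance
    obtain ⟨ε⟩ := nonempty_iso_single ((TStructure.t.truncGE c).obj L) c
    have := ProSys.isIso_homology_truncGEπ L c c le_rfl
    let ε' : (TStructure.t.truncGE c).obj L ≅
        (singleFunctor A c).obj ((homologyFunctor A c).obj L) :=
      ε ≪≫ (singleFunctor A c).mapIso
        (asIso ((homologyFunctor A c).map ((TStructure.t.truncGEπ c).app L))).symm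
    have h1 : φ ≫ ((TStructure.t.truncGEπ c).app L)⟦(1 : ℤ)⟧' = 0 := by
      have := hvan c le_rfl (φ ≫ ((TStructure.t.truncGEπ c).app L)⟦(1 : ℤ)⟧' ≫ ε'.hom⟦(1 : ℤ)⟧')
      rw [← Category.assoc] at this
      rw [← cancel_mono (ε'.hom⟦(1 : ℤ)⟧'), this, zero_comp]
    -- exactness of the shifted triangle
    have hT2 := rot_of_distTriang _ (rot_of_distTriang _ hT)
    have hex : ∃ g : (singleFunctor A i).obj M ⟶ ((TStructure.t.truncLT c).obj L)⟦(1 : ℤ)⟧,
        φ = g ≫ (-((TStructure.t.truncLTι c).app L)⟦(1 : ℤ)⟧') :=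
      Triangle.coyoneda_exact₃ _ hT2 φ (by
        change φ ≫ (-((TStructure.t.truncGEπ c).app L)⟦(1 : ℤ)⟧') = 0
        rw [Preadditive.comp_neg, neg_eq_zero]
        exact h1)
    obtain ⟨g, hg⟩ := hex
    have hg0 : g = 0 := by
      refine ih a (c - 1) (by push_cast at hac; omega) ((TStructure.t.truncLT c).obj L)
        inferInstance inferInstance M i (by omega) ?_ g
      intro j hj ψ
      have := ProSys.isIso_homology_truncLTι L c j (by omega)
      have h2 := hvan j (by omega) (ψ ≫ ((singleFunctor A j).map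
        ((homologyFunctor A j).map ((TStructure.t.truncLTι c).app L)))⟦(1 : ℤ)⟧')
      rw [← cancel_mono (((singleFunctor A j).map
        ((homologyFunctor A j).map ((TStructure.t.truncLTι c).app L)))⟦(1 : ℤ)⟧'), h2, zero_comp]
    rw [hg, hg0, zero_comp]

/-- The splitting maps: for every `i` there is `s : S_i (H^i K) ⟶ K` inducing an isomorphism
on `H^i`, as soon as the relevant `Ext` groups vanish. -/
theorem exists_section (K : DerivedCategory A) (a : ℤ) [K.IsGE a] (i : ℤ)
    (hvan : ∀ j : ℤ, j < i → ∀ φ : (singleFunctor A i).obj ((homologyFunctor A i).obj K) ⟶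
      ((singleFunctor A j).obj ((homologyFunctor A j).obj K))⟦(1 : ℤ)⟧, φ = 0) :
    ∃ s : (singleFunctor A i).obj ((homologyFunctor A i).obj K) ⟶ K,
      IsIso ((homologyFunctor A i).map s) := by
  let Z := (TStructure.t.truncLT (i + 1)).obj K
  have hZ1 : Z.IsGE a := by dsimp [Z]; infer_instance
  have hZ2 : Z.IsLE i := by dsimp [Z]; infer_instance
  let L := (TStructure.t.truncLT i).obj Z
  let E := (TStructure.t.truncGE i).obj Z
  have hT := TStructure.t.triangleLTGE_distinguished i Z
  have hE1 : E.IsGE i := by dsimp [E]; infer_instance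
  have hE2 : E.IsLE i := by dsimp [E]; infer_instance
  have hL1 : L.IsGE a := by dsimp [L]; infer_instance
  have hL2 : L.IsLE (i - 1) := by dsimp [L]; infer_instance
  obtain ⟨ε⟩ := nonempty_iso_single E i
  have i1 := ProSys.isIso_homology_truncGEπ Z i i le_rfl
  have i2 := ProSys.isIso_homology_truncLTι K (i + 1) i (by omega)
  let ε' : E ≅ (singleFunctor A i).obj ((homologyFunctor A i).obj K) :=
    ε ≪≫ (singleFunctor A i).mapIso
      ((asIso ((homologyFunctor A i).map ((TStructure.t.truncGEπ i).app Z))).symm ≪≫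
        asIso ((homologyFunctor A i).map ((TStructure.t.truncLTι (i + 1)).app K)))
  -- the connecting morphism vanishes
  have hδ : (TStructure.t.truncGEδLT i).app Z = 0 := by
    have h0 : ε'.inv ≫ (TStructure.t.truncGEδLT i).app Z = 0 := by
      refine hom_single_shift_eq_zero (i - 1 - a + 1).toNat a (i - 1) ?_ L hL1 hL2 _ i (by omega)
        ?_ _
      · by_cases h : 0 ≤ i - 1 - a + 1
        · rw [Int.toNat_of_nonneg h]; omega
        · have : (i - 1 - a + 1).toNat = 0 := Int.toNat_eq_zero.2 (by omega)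
          rw [this]; push_cast; omega
      · intro j hj ψ
        have j1 := ProSys.isIso_homology_truncLTι Z i j (by omega)
        have j2 := ProSys.isIso_homology_truncLTι K (i + 1) j (by omega)
        let θ := ((singleFunctor A j).map
          ((homologyFunctor A j).map ((TStructure.t.truncLTι i).app Z) ≫
            (homologyFunctor A j).map ((TStructure.t.truncLTι (i + 1)).app K)))⟦(1 : ℤ)⟧'
        have h2 := hvan j (by omega) (ψ ≫ θ)
        rw [← cancel_mono θ, h2, zero_comp]
    rw [← cancel_epi ε'.inv, h0, comp_zero]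
  have hex : ∃ σ : E ⟶ Z, 𝟙 E = σ ≫ (TStructure.t.truncGEπ i).app Z :=
    Triangle.coyoneda_exact₃ _ hT (𝟙 E) (by
      change 𝟙 E ≫ (TStructure.t.truncGEδLT i).app Z = 0
      rw [hδ, comp_zero])
  obtain ⟨σ, hσ⟩ := hex
  have hσ' : IsIso ((homologyFunctor A i).map σ) := by
    have h3 : (homologyFunctor A i).map σ ≫
        (homologyFunctor A i).map ((TStructure.t.truncGEπ i).app Z) = 𝟙 _ := by
      rw [← Functor.map_comp, ← hσ, CategoryTheory.Functor.map_id]
    have : (homologyFunctor A i).map σ =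
        inv ((homologyFunctor A i).map ((TStructure.t.truncGEπ i).app Z)) := by
      rw [← cancel_mono ((homologyFunctor A i).map ((TStructure.t.truncGEπ i).app Z)), h3,
        IsIso.inv_hom_id]
    rw [this]
    infer_instance
  refine ⟨ε'.inv ≫ σ ≫ (TStructure.t.truncLTι (i + 1)).app K, ?_⟩
  rw [Functor.map_comp, Functor.map_comp]
  infer_instance

end Der

section Biprod
variable {C : Type u} [Category.{v} C] [Preadditive C] {D : Type*} [Category D]
  [Preadditive D] (F : C ⥤ D) [F.Additive] {J : Type} [Fintype J] (f : J → C) [HasBiproduct f]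

lemma id_eq_sum_map : 𝟙 (F.obj (⨁ f)) = ∑ j, F.map (biproduct.π f j ≫ biproduct.ι f j) := by
  rw [← F.map_sum, biproduct.total, F.map_id]

lemma isIso_map_biproduct_ι (i₀ : J) (hz : ∀ j, j ≠ i₀ → IsZero (F.obj (f j))) :
    IsIso (F.map (biproduct.ι f i₀)) := by
  refine ⟨F.map (biproduct.π f i₀), ?_, ?_⟩
  · rw [← F.map_comp, biproduct.ι_π_self, F.map_id]
  · rw [← F.map_comp, id_eq_sum_map F f, Finset.sum_eq_single i₀]
    · intro j _ hj
      rw [F.map_comp, (hz j hj).eq_of_tgt (F.map (biproduct.π f j)) 0, zero_comp]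
    · intro h
      exact absurd (Finset.mem_univ _) h

lemma isZero_map_biproduct (hz : ∀ j, IsZero (F.obj (f j))) : IsZero (F.obj (⨁ f)) := by
  rw [IsZero.iff_id_eq_zero, id_eq_sum_map F f]
  apply Finset.sum_eq_zero
  intro j _
  rw [F.map_comp, (hz j).eq_of_tgt (F.map (biproduct.π f j)) 0, zero_comp]

end Biprod

section Main
variable {A : Type u} [Category.{v} A] [Abelian A] [HasDerivedCategory.{w} A]
open DerivedCategory

theorem nonempty_iso_biproduct (K : DerivedCategory A) (a b : ℤ) [K.IsGE a] [K.IsLE b]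
    (hExt : ∀ (i j : ℤ) (p : ℕ), j < i → 2 ≤ p →
      ∀ f : (singleFunctor A 0).obj ((homologyFunctor A i).obj K) ⟶
        ((singleFunctor A 0).obj ((homologyFunctor A j).obj K))⟦(p : ℤ)⟧, f = 0)
    [HasBiproduct (fun i : Finset.Icc a b =>
      (singleFunctor A (i : ℤ)).obj ((homologyFunctor A (i : ℤ)).obj K))] :
    Nonempty (K ≅ ⨁ (fun i : Finset.Icc a b =>
      (singleFunctor A (i : ℤ)).obj ((homologyFunctor A (i : ℤ)).obj K))) := by
  have hvan : ∀ i j : ℤ, j < i → ∀ φ : (singleFunctor A i).obj ((homologyFunctor A i).obj K) ⟶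
      ((singleFunctor A j).obj ((homologyFunctor A j).obj K))⟦(1 : ℤ)⟧, φ = 0 := by
    intro i j hji φ
    have hp : ((i - j + 1).toNat : ℤ) = i - j + 1 := Int.toNat_of_nonneg (by omega)
    exact hom_single_eq_zero _ _ i j (i - j + 1).toNat hp
      (hExt i j _ hji (by omega)) φ
  choose s hs using fun i : ℤ => exists_section K a i (hvan i)
  let X : Finset.Icc a b → DerivedCategory A := fun i =>
    (singleFunctor A (i : ℤ)).obj ((homologyFunctor A (i : ℤ)).obj K)
  let σ : ⨁ X ⟶ K := biproduct.desc (fun i => s i)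
  have hσ : IsIso σ := by
    rw [DerivedCategory.isIso_iff]
    intro n
    by_cases hn : a ≤ n ∧ n ≤ b
    · let i₀ : Finset.Icc a b := ⟨n, Finset.mem_Icc.2 hn⟩
      have h1 : IsIso ((homologyFunctor A n).map (biproduct.ι X i₀)) := by
        apply isIso_map_biproduct_ι
        intro j hj
        have hjn : (j : ℤ) ≠ n := fun h => hj (Subtype.ext h)
        rcases lt_or_gt_of_ne hjn with h | h
        · exact isZero_of_isLE _ (j : ℤ) n h
        · exact isZero_of_isGE _ (j : ℤ) n h
      have h2 : biproduct.ι X i₀ ≫ σ = s n := biproduct.ι_desc _ _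
      have h3 : IsIso ((homologyFunctor A n).map (biproduct.ι X i₀) ≫
          (homologyFunctor A n).map σ) := by
        rw [← Functor.map_comp, h2]
        exact hs n
      exact IsIso.of_isIso_comp_left ((homologyFunctor A n).map (biproduct.ι X i₀)) _
    · have hK : IsZero ((homologyFunctor A n).obj K) := by
        by_cases h : n < a
        · exact isZero_of_isGE K a n h
        · exact isZero_of_isLE K b n (by omega)
      have hX : IsZero ((homologyFunctor A n).obj (⨁ X)) := by
        apply isZero_map_biproduct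
        intro j
        have hj := Finset.mem_Icc.1 j.2
        have hjn : (j : ℤ) ≠ n := fun h => hn (by omega)
        rcases lt_or_gt_of_ne hjn with h | h
        · exact isZero_of_isLE _ (j : ℤ) n h
        · exact isZero_of_isGE _ (j : ℤ) n h
      exact ⟨⟨0, hX.eq_of_src _ _, hK.eq_of_src _ _⟩⟩
  exact ⟨(asIso σ).symm⟩

end Main

end Split
end Groth.Agent.Lib.Helper6
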