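import Groth.Agent.Lib.Helper6.KT3
import Groth.Agent.Lib.Helper6.Split
import Groth.Agent.Lib.Helper35.TwoTerm
import Groth.Agent.Lib.Helper35.KLHeart

/-! If `L ⊗^L E ≅ A` over a Noetherian local ring (with `L`, `E` bounded above with finite
cohomology), then `L ≅ A[n]` and `E ≅ A[-n]` (helper6). -/

set_option autoImplicit false
universe u
open CategoryTheory CategoryTheory.Limits MonoidalCategory DerivedCategory TensorProduct
  Pretriangulated
attribute [local instance] HasDerivedCategory.standard

namespace Groth.Agent.Lib.Helper6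
namespace KT

open Groth.Agent.Lib.Helper35

variable (A : Type u) [CommRing A]

lemma subsingleton_hd_unit (n : ℤ) (hn : n ≠ 0) : Subsingleton (Dual.HD A (Dual.inD A A) n) := by
  rcases lt_or_gt_of_ne hn with h | h
  · exact ModuleCat.subsingleton_of_isZero (DerivedCategory.isZero_of_isGE (Dual.inD A A) 0 n h)
  · exact ModuleCat.subsingleton_of_isZero (DerivedCategory.isZero_of_isLE (Dual.inD A A) 0 n h)

lemma nonempty_hd_unit_equiv : Nonempty (Dual.HD A (Dual.inD A A) 0 ≃ₗ[A] A) :=
  ⟨((singleFunctorCompHomologyFunctorIso (ModuleCat.{u} A) 0).app (ModuleCat.of A A)).toLinearEquiv⟩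

variable {A}

lemma isLE_of_subsingleton (X : Dual.D A) (b : ℤ)
    (h : ∀ i : ℤ, b < i → Subsingleton (Dual.HD A X i)) : X.IsLE b := by
  rw [DerivedCategory.isLE_iff]
  intro i hi
  have := h i hi
  exact ModuleCat.isZero_of_subsingleton _

lemma isGE_of_subsingleton (X : Dual.D A) (a : ℤ)
    (h : ∀ i : ℤ, i < a → Subsingleton (Dual.HD A X i)) : X.IsGE a := by
  rw [DerivedCategory.isGE_iff]
  intro i hi
  have := h i hi
  exact ModuleCat.isZero_of_subsingleton _

lemma exists_top (X : Dual.D A) (hb : ∃ b : ℤ, ∀ i : ℤ, b < i → Subsingleton (Dual.HD A X i))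
    (hne : ∃ i : ℤ, Nontrivial (Dual.HD A X i)) :
    ∃ a : ℤ, Nontrivial (Dual.HD A X a) ∧ X.IsLE a := by
  classical
  obtain ⟨b, hb⟩ := hb
  obtain ⟨a, ha1, ha2⟩ := Int.exists_greatest_of_bdd
    (P := fun i => Nontrivial (Dual.HD A X i)) ⟨b, fun z hz => by
      by_contra hlt
      push_neg at hlt
      have := hb z hlt
      exact not_subsingleton _ this⟩ hne
  refine ⟨a, ha1, isLE_of_subsingleton X a (fun i hi => ?_)⟩
  by_contra hns
  rw [not_subsingleton_iff_nontrivial] at hns
  have := ha2 i hns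
  omega

section main

variable [IsLocalRing A] [IsNoetherianRing A] (L : Dual.D A) (E : DRing.Cx A)
  [DRing.HasLTensorCx A E]
  (hLfin : ∀ i : ℤ, Module.Finite A (Dual.HD A L i))
  (hEfin : ∀ i : ℤ, Module.Finite A (Dual.HD A (DRing.toD E) i))

include hLfin hEfin in
/-- the key vanishing: if `L ⊗^L E` has cohomology only in degree `0`, the top cohomologies of
`L` and `E` (in degrees `a`, `b` with `a + b = 0`) are free of rank one, then `L` has no
cohomology below `a`. -/
lemma subsingleton_hd_below (a b : ℤ) [L.IsLE a] [(DRing.toD E).IsLE b] (hab : a + b = 0)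
    (hFn : ∀ n : ℤ, n ≠ 0 → Subsingleton (Dual.HD A ((DRing.LTensorCx A E).obj L) n))
    (eM : Dual.HD A L a ≃ₗ[A] A) (hbN : Nontrivial (Dual.HD A (DRing.toD E) b))
    (i : ℤ) (hi : i < a) : Subsingleton (Dual.HD A L i) := by
  let F := DRing.LTensorCx A E
  let L' : Dual.D A := (TStructure.t.truncLT a).obj L
  let L'' : Dual.D A := (TStructure.t.truncGE a).obj L
  let ι' : L' ⟶ L := (TStructure.t.truncLTι a).app L
  have hT := TStructure.t.triangleLTGE_distinguished a L
  haveI hL''1 : L''.IsGE a := by dsimp [L'']; infer_instance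
  haveI hL''2 : L''.IsLE a := by dsimp [L'']; infer_instance
  haveI hL'1 : L'.IsLE (a - 1) := TStructure.t.isLE_truncLT_obj L a (a - 1)
  haveI hL'2 : (L'⟦(1 : ℤ)⟧).IsLE (a - 2) := TStructure.t.isLE_shift _ (a - 1) 1 (a - 2)
  obtain ⟨ε⟩ := Split.nonempty_iso_single L'' a
  haveI := KL.isIso_homology_map_truncGEπ' L a a le_rfl
  let ε' : L'' ≅ (singleFunctor (ModuleCat.{u} A) a).obj (ModuleCat.of A A) :=
    ε ≪≫ (singleFunctor (ModuleCat.{u} A) a).mapIso
      ((asIso ((homologyFunctor (ModuleCat.{u} A) a).map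
        ((TStructure.t.truncGEπ a).app L))).symm ≪≫ eM.toModuleIso)
  haveI : Projective (ModuleCat.of A A) :=
    (IsProjective.iff_projective (R := A) (P := A)).mp inferInstance
  -- the connecting morphism vanishes
  have hδ : ((TStructure.t.triangleLTGE a).obj L).mor₃ = 0 := by
    have h0 : ε'.inv ≫ ((TStructure.t.triangleLTGE a).obj L).mor₃ = 0 :=
      KL.hom_single_projective_eq_zero (P := ModuleCat.of A A) (L'⟦(1 : ℤ)⟧) (a - 2) a
        (by omega) _
    exact (cancel_epi ε'.inv).1 (h0.trans comp_zero.symm)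
  haveI hmono : Mono ι' := (Triangle.mor₃_eq_zero_iff_mono₁ _ hT).1 hδ
  haveI := isSplitMono_of_mono ι'
  have hr : ι' ≫ retraction ι' = 𝟙 L' := IsSplitMono.id ι'
  -- `F L'` has cohomology only in degree `0`
  have hF' : ∀ n : ℤ, n ≠ 0 → Subsingleton (Dual.HD A (F.obj L') n) := by
    intro n hn
    have := hFn n hn
    have hid : (homologyFunctor (ModuleCat.{u} A) n).map (F.map ι') ≫
        (homologyFunctor (ModuleCat.{u} A) n).map (F.map (retraction ι')) = 𝟙 _ := by
      rw [← Functor.map_comp, ← Functor.map_comp, hr, CategoryTheory.Functor.map_id,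
        CategoryTheory.Functor.map_id]
    refine ⟨fun x y => ?_⟩
    have hx := congrArg (fun f => f.hom x) hid
    have hy := congrArg (fun f => f.hom y) hid
    simp only [ModuleCat.hom_comp, LinearMap.comp_apply, ModuleCat.hom_id,
      LinearMap.id_apply] at hx hy
    rw [← hx, ← hy, Subsingleton.elim
      (((homologyFunctor (ModuleCat.{u} A) n).map (F.map ι')).hom x)
      (((homologyFunctor (ModuleCat.{u} A) n).map (F.map ι')).hom y)]
  -- `L'` has no cohomology
  have hL'z : ∀ j : ℤ, Subsingleton (Dual.HD A L' j) := by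
    by_contra hcon
    push_neg at hcon
    obtain ⟨j, hj⟩ := hcon
    obtain ⟨a', ha'N, ha'LE⟩ := exists_top L' ⟨a - 1, fun k hk =>
      ModuleCat.subsingleton_of_isZero (DerivedCategory.isZero_of_isLE L' (a - 1) k hk)⟩ ⟨j, hj⟩
    have ha' : a' ≤ a - 1 := by
      by_contra hlt
      push_neg at hlt
      have : Subsingleton (Dual.HD A L' a') :=
        ModuleCat.subsingleton_of_isZero (DerivedCategory.isZero_of_isLE L' (a - 1) a' hlt)
      exact not_subsingleton _ this
    haveI := ha'LE
    obtain ⟨κ'⟩ := nonempty_hd_top A E L' a' b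
    haveI := KL.isIso_homology_map_truncLTι' L a a' (by omega)
    haveI : Module.Finite A (Dual.HD A L' a') := by
      have := hLfin a'
      exact Module.Finite.equiv
        (asIso ((homologyFunctor (ModuleCat.{u} A) a').map ι')).toLinearEquiv.symm
    haveI := hEfin b
    haveI : Nontrivial ((Dual.HD A L' a') ⊗[A] (Dual.HD A (DRing.toD E) b)) :=
      nontrivial_tensorProduct _ _
    have h1 : Nontrivial (Dual.HD A (F.obj L') (a' + b)) := κ'.toEquiv.nontrivial
    have h2 := hF' (a' + b) (by omega)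
    exact not_subsingleton _ h2
  haveI := KL.isIso_homology_map_truncLTι' L a i hi
  have := hL'z i
  exact (asIso ((homologyFunctor (ModuleCat.{u} A) i).map ι')).toLinearEquiv.symm.toEquiv.subsingleton

end main

end KT
end Groth.Agent.Lib.Helper6
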