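import Groth.Agent.Lib.Helper6.KT4

/-! Final assembly: if `L ⊗^L E ≅ A` over a Noetherian local ring (with `L`, `E` bounded above
with finite cohomology), then `L ≅ A[n]` and `E ≅ A[-n]` (helper6). -/

set_option autoImplicit false
universe u
open CategoryTheory CategoryTheory.Limits MonoidalCategory DerivedCategory TensorProduct
  Pretriangulated
attribute [local instance] HasDerivedCategory.standard

namespace Groth.Agent.Lib.Helper6
namespace KT

open Groth.Agent.Lib.Helper35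

variable {A : Type u} [CommRing A]

theorem shift_of_tensor_iso_unit [IsLocalRing A] [IsNoetherianRing A] (L : Dual.D A)
    (E : DRing.Cx A) [DRing.HasLTensorCx A E]
    (hLfin : ∀ i : ℤ, Module.Finite A (Dual.HD A L i))
    (hLbdd : ∃ b : ℤ, ∀ i : ℤ, b < i → Subsingleton (Dual.HD A L i))
    (hEfin : ∀ i : ℤ, Module.Finite A (Dual.HD A (DRing.toD E) i))
    (hEbdd : ∃ b : ℤ, ∀ i : ℤ, b < i → Subsingleton (Dual.HD A (DRing.toD E) i))
    (h : Nonempty ((DRing.LTensorCx A E).obj L ≅ Dual.inD A A)) :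
    ∃ n : ℤ, Nonempty (L ≅ (Dual.inD A A)⟦n⟧) ∧
      Nonempty (DRing.toD E ≅ (Dual.inD A A)⟦(-n)⟧) := by
  obtain ⟨φ⟩ := h
  let F := DRing.LTensorCx A E
  obtain ⟨u0⟩ := nonempty_hd_unit_equiv A
  let eF0 : Dual.HD A (F.obj L) 0 ≃ₗ[A] A :=
    ((homologyFunctor (ModuleCat.{u} A) 0).mapIso φ).toLinearEquiv ≪≫ₗ u0
  have hFn : ∀ n : ℤ, n ≠ 0 → Subsingleton (Dual.HD A (F.obj L) n) := by
    intro n hn
    haveI := subsingleton_hd_unit A n hn
    exact ((homologyFunctor (ModuleCat.{u} A) n).mapIso φ).toLinearEquiv.toEquiv.subsingleton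
  have hF0nt : Nontrivial (Dual.HD A (F.obj L) 0) := eF0.toEquiv.nontrivial
  obtain ⟨bL, hbL⟩ := hLbdd
  obtain ⟨bE, hbE⟩ := hEbdd
  -- nonvanishing of `L`
  have hLne : ∃ i : ℤ, Nontrivial (Dual.HD A L i) := by
    by_contra hcon
    push_neg at hcon
    haveI : L.IsLE (-bE - 1) := isLE_of_subsingleton L _ (fun i _ => hcon i)
    haveI : (DRing.toD E).IsLE bE := isLE_of_subsingleton _ _ hbE
    have := subsingleton_hd_above A E L (-bE - 1) bE 0 (by omega)
    exact not_subsingleton _ this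
  have hEne : ∃ i : ℤ, Nontrivial (Dual.HD A (DRing.toD E) i) := by
    by_contra hcon
    push_neg at hcon
    haveI : (DRing.toD E).IsLE (-bL - 1) := isLE_of_subsingleton _ _ (fun i _ => hcon i)
    haveI : L.IsLE bL := isLE_of_subsingleton _ _ hbL
    have := subsingleton_hd_above A E L bL (-bL - 1) 0 (by omega)
    exact not_subsingleton _ this
  obtain ⟨a, haN, haLE⟩ := exists_top L ⟨bL, hbL⟩ hLne
  obtain ⟨b, hbN, hbLE⟩ := exists_top (DRing.toD E) ⟨bE, hbE⟩ hEne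
  haveI := haLE
  haveI := hbLE
  obtain ⟨κ⟩ := nonempty_hd_top A E L a b
  haveI := hLfin a
  haveI := hEfin b
  haveI hnt : Nontrivial ((Dual.HD A L a) ⊗[A] (Dual.HD A (DRing.toD E) b)) :=
    nontrivial_tensorProduct _ _
  have hab : a + b = 0 := by
    by_contra hne
    have h1 : Nontrivial (Dual.HD A (F.obj L) (a + b)) := κ.toEquiv.nontrivial
    have h2 := hFn (a + b) hne
    exact not_subsingleton _ h2
  have hMN : Nonempty ((Dual.HD A L a) ⊗[A] (Dual.HD A (DRing.toD E) b) ≃ₗ[A] A) := by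
    rw [hab] at κ
    exact ⟨κ.symm ≪≫ₗ eF0⟩
  obtain ⟨eMN⟩ := hMN
  obtain ⟨eM⟩ := nonempty_equiv_self_of_tensor_left _ _ eMN
  -- `L` is concentrated in degree `a`
  haveI : L.IsGE a := isGE_of_subsingleton L a (fun i hi =>
    subsingleton_hd_below L E hLfin hEfin a b hab hFn eM hbN i hi)
  obtain ⟨ε⟩ := Split.nonempty_iso_single L a
  let eL : L ≅ (Dual.inD A A)⟦(-a)⟧ :=
    ε ≪≫ (singleFunctor (ModuleCat.{u} A) a).mapIso eM.toModuleIso ≪≫
      (((singleFunctors (ModuleCat.{u} A)).shiftIso (-a) a 0 (by omega)).app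
        (ModuleCat.of A A)).symm
  obtain ⟨ψ⟩ := nonempty_LTensorCx_shift_unit A E (-a)
  let eE1 : (DRing.toD E)⟦(-a)⟧ ≅ Dual.inD A A := ψ.symm ≪≫ F.mapIso eL.symm ≪≫ φ
  let eE : DRing.toD E ≅ (Dual.inD A A)⟦(-(-a))⟧ :=
    ((shiftFunctorCompIsoId (Dual.D A) (-a) (-(-a)) (by omega)).app (DRing.toD E)).symm ≪≫
      (CategoryTheory.shiftFunctor (Dual.D A) (-(-a))).mapIso eE1
  exact ⟨-a, ⟨eL⟩, ⟨eE⟩⟩

end KT
end Groth.Agent.Lib.Helper6
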