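import Groth.Agent.Lib.Helper6.LD1
import Groth.Prelude.Def_DRing3

/-! Local duality (helper6), part 2: `Γ_𝔞(Hom•(P, I)) ≅ Hom•(P, Γ_𝔞 I)` for `P` termwise finite and
`I` bounded. -/

set_option autoImplicit false
set_option linter.unusedSectionVars false
universe u
open CategoryTheory CategoryTheory.Limits DerivedCategory Pretriangulated Opposite
  CochainComplex HomComplex
attribute [local instance] HasDerivedCategory.standard

namespace Groth.Agent.Lib.Helper6
namespace LD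

variable {A : Type u} [CommRing A] (𝔞 : Ideal A)

/-- `Γ_𝔞` applied termwise to a complex. -/
noncomputable abbrev Gam (L : DRing.Cx A) : DRing.Cx A :=
  ((DRing.gammaI 𝔞).mapHomologicalComplex (ComplexShape.up ℤ)).obj L

/-- the inclusion `Γ_𝔞 L ⟶ L`. -/
noncomputable abbrev gamι (L : DRing.Cx A) : Gam 𝔞 L ⟶ L :=
  (NatTrans.mapHomologicalComplex (DRing.gammaIι 𝔞) (ComplexShape.up ℤ)).app L

/-- the underlying element of an element of `Γ_𝔞 Y`. -/
def gval (Y : ModuleCat.{u} A) : ((DRing.gammaI 𝔞).obj Y) →ₗ[A] Y :=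
  (DRing.torsionSub 𝔞 Y).subtype

lemma gval_mem (Y : ModuleCat.{u} A) (y : (DRing.gammaI 𝔞).obj Y) :
    ∃ n : ℕ, ∀ a ∈ 𝔞 ^ n, a • gval 𝔞 Y y = 0 :=
  (show DRing.torsionSub 𝔞 Y from y).2

lemma gval_injective (Y : ModuleCat.{u} A) : Function.Injective (gval 𝔞 Y) :=
  Subtype.val_injective

lemma gamι_f_apply (L : DRing.Cx A) (k : ℤ) (x : (Gam 𝔞 L).X k) :
    ((gamι 𝔞 L).f k).hom x = gval 𝔞 (L.X k) x := rfl

/-- a finite module mapping into a torsion module is killed uniformly. -/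
lemma exists_pow_smul_hom_eq_zero (X Y : ModuleCat.{u} A) [Module.Finite A X]
    (f : X ⟶ (DRing.gammaI 𝔞).obj Y) :
    ∃ N : ℕ, ∀ a ∈ 𝔞 ^ N, ∀ x : X, a • gval 𝔞 Y (f.hom x) = 0 := by
  obtain ⟨S, hS⟩ := (Module.Finite.fg_top : (⊤ : Submodule A X).FG)
  choose n hn using fun x : X => gval_mem 𝔞 Y (f.hom x)
  refine ⟨S.sup n, fun a ha x => ?_⟩
  have hx : x ∈ Submodule.span A (S : Set X) := by rw [hS]; trivial
  induction hx using Submodule.span_induction with
  | mem y hy => exact hn y a (Ideal.pow_le_pow_right (Finset.le_sup hy) ha)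
  | zero => simp
  | add y z _ _ hy hz =>
    rw [map_add, map_add, smul_add, hy, hz, add_zero]
  | smul r y _ hy =>
    rw [map_smul, map_smul, smul_comm, hy, smul_zero]

variable (P I : DRing.Cx A)

/-- the comparison map on cochains. -/
noncomputable def gamHomLin (k : ℤ) : Cochain P (Gam 𝔞 I) k →ₗ[A] Cochain P I k :=
  DRing.postcompLin P (gamι 𝔞 I) k

lemma gamHomLin_v (k : ℤ) (z : Cochain P (Gam 𝔞 I) k) (p q : ℤ) (hpq : p + k = q) :
    (gamHomLin 𝔞 P I k z).v p q hpq = z.v p q hpq ≫ (gamι 𝔞 I).f q := by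
  change (z.comp (Cochain.ofHom (gamι 𝔞 I)) (add_zero k)).v p q hpq = _
  rw [Cochain.comp_zero_cochain_v, Cochain.ofHom_v]

lemma gamHomLin_injective (k : ℤ) : Function.Injective (gamHomLin 𝔞 P I k) := by
  intro z w h
  refine Cochain.ext _ _ (fun p q hpq => ?_)
  have h1 := congrArg (fun c : Cochain P I k => c.v p q hpq) h
  simp only [gamHomLin_v] at h1
  apply ModuleCat.hom_ext
  apply LinearMap.ext
  intro x
  have h2 := congrArg (fun f : P.X p ⟶ I.X q => f.hom x) h1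
  exact gval_injective 𝔞 (I.X q) h2

variable {P I}

/-- the image of the comparison map consists of torsion cochains. -/
lemma gamHomLin_mem (hP : ∀ p : ℤ, Module.Finite A (P.X p)) (a b : ℤ)
    (hI : DRing.VanishesOutside I a b) (k : ℤ) (z : Cochain P (Gam 𝔞 I) k) :
    gamHomLin 𝔞 P I k z ∈ DRing.torsionSub 𝔞 (Cochain P I k) := by
  have key : ∀ p : ℤ, ∃ N : ℕ, ∀ r ∈ 𝔞 ^ N, ∀ x : P.X p,
      r • gval 𝔞 (I.X (p + k)) ((z.v p (p + k) rfl).hom x) = 0 :=
    fun p => by
      haveI := hP p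
      exact exists_pow_smul_hom_eq_zero 𝔞 (P.X p) (I.X (p + k)) (z.v p (p + k) rfl)
  choose N hN using key
  refine ⟨(Finset.Icc (a - k) (b - k)).sup N, fun r hr => ?_⟩
  refine Cochain.ext _ _ (fun p q hpq => ?_)
  subst hpq
  rw [Cochain.smul_v, Cochain.zero_v, gamHomLin_v]
  by_cases hp : p ∈ Finset.Icc (a - k) (b - k)
  · apply ModuleCat.hom_ext
    apply LinearMap.ext
    intro x
    exact hN p r (Ideal.pow_le_pow_right (Finset.le_sup hp) hr) x
  · have hz : IsZero (I.X (p + k)) := by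
      rw [Finset.mem_Icc, not_and_or] at hp
      rcases hp with hp | hp
      · exact hI _ (Or.inl (by omega))
      · exact hI _ (Or.inr (by omega))
    exact hz.eq_of_tgt _ _

/-- every torsion cochain is in the image of the comparison map. -/
lemma exists_gamHomLin_eq (k : ℤ) (w : Cochain P I k)
    (hw : w ∈ DRing.torsionSub 𝔞 (Cochain P I k)) :
    ∃ z : Cochain P (Gam 𝔞 I) k, gamHomLin 𝔞 P I k z = w := by
  obtain ⟨N, hN⟩ := hw
  refine ⟨Cochain.mk (fun p q hpq => ModuleCat.ofHom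
    (LinearMap.codRestrict (DRing.torsionSub 𝔞 (I.X q)) (w.v p q hpq).hom (fun x => ?_))), ?_⟩
  · refine ⟨N, fun r hr => ?_⟩
    have h1 := congrArg (fun c : Cochain P I k => (c.v p q hpq).hom x) (hN r hr)
    rw [Cochain.smul_v, Cochain.zero_v] at h1
    exact h1
  · refine Cochain.ext _ _ (fun p q hpq => ?_)
    rw [gamHomLin_v, Cochain.mk_v]
    rfl

variable (P I)

/-- the comparison on each term. -/
noncomputable def gamHomEquiv (hP : ∀ p : ℤ, Module.Finite A (P.X p)) (a b : ℤ)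
    (hI : DRing.VanishesOutside I a b) (k : ℤ) :
    Cochain P (Gam 𝔞 I) k ≃ₗ[A] DRing.torsionSub 𝔞 (Cochain P I k) :=
  LinearEquiv.ofBijective
    (LinearMap.codRestrict (DRing.torsionSub 𝔞 (Cochain P I k)) (gamHomLin 𝔞 P I k)
      (gamHomLin_mem 𝔞 hP a b hI k))
    ⟨fun z w h => gamHomLin_injective 𝔞 P I k (congrArg Subtype.val h),
      fun w => by
        obtain ⟨z, hz⟩ := exists_gamHomLin_eq 𝔞 k w.1 w.2
        exact ⟨z, Subtype.ext hz⟩⟩

/-- `Hom•(P, Γ_𝔞 I) ≅ Γ_𝔞 Hom•(P, I)`. -/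
noncomputable def gamHomIso (hP : ∀ p : ℤ, Module.Finite A (P.X p)) (a b : ℤ)
    (hI : DRing.VanishesOutside I a b) :
    DRing.homCx P (Gam 𝔞 I) ≅ Gam 𝔞 (DRing.homCx P I) :=
  HomologicalComplex.Hom.isoOfComponents
    (fun k => (gamHomEquiv 𝔞 P I hP a b hI k).toModuleIso)
    (by
      intro k k' _
      apply ModuleCat.hom_ext
      apply LinearMap.ext
      intro z
      apply Subtype.ext
      have h := (DRing.homCxMap P (gamι 𝔞 I)).comm k k'
      exact congrArg (fun f => f.hom z) h)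

end LD
end Groth.Agent.Lib.Helper6
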