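import Groth.Agent.Lib.Helper6.LD2
import Groth.Agent.Lib.Helper6.Bidual6
import Groth.Agent.Lib.Helper6.DqTri
import Groth.Agent.Lib.Helper32.GammaNoeth

/-! Local duality (helper6), part 3: K-injectivity of `Γ_𝔞 I`; biduality `M ≅ Q(Hom•(P, I))`. -/

set_option autoImplicit false
set_option linter.unusedSectionVars false
universe u
open CategoryTheory CategoryTheory.Limits DerivedCategory Pretriangulated Opposite
  CochainComplex HomComplex
attribute [local instance] HasDerivedCategory.standard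

namespace Groth.Agent.Lib.Helper6
namespace LD

variable {A : Type u} [CommRing A]

section gam

variable [IsNoetherianRing A] (𝔞 : Ideal A) (I : DRing.Cx A)

lemma gam_vanishesOutside (a b : ℤ) (hv : DRing.VanishesOutside I a b) :
    DRing.VanishesOutside (Gam 𝔞 I) a b := fun i hi =>
  (DRing.gammaI 𝔞).map_isZero (hv i hi)

lemma injective_gam_X (hinj : ∀ k : ℤ, Injective (I.X k)) (k : ℤ) : Injective ((Gam 𝔞 I).X k) := by
  haveI := hinj k
  have h1 : Module.Injective A (I.X k) := Module.injective_module_of_injective_object A (I.X k)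
  have h2 : Module.Baer A (I.X k) := Module.Baer.of_injective h1
  have h3 : Module.Injective A (DRing.torsionSub 𝔞 (I.X k)) :=
    (Groth.Agent.Lib.Helper32.GammaNoeth.baer_torsionSub 𝔞 h2).injective
  exact Module.injective_object_of_injective_module A (DRing.torsionSub 𝔞 (I.X k))

lemma isKInjective_gam (a b : ℤ) (hv : DRing.VanishesOutside I a b)
    (hinj : ∀ k : ℤ, Injective (I.X k)) : (Gam 𝔞 I).IsKInjective := by
  haveI : (Gam 𝔞 I).IsStrictlyGE a := by
    rw [CochainComplex.isStrictlyGE_iff]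
    intro i hi
    exact gam_vanishesOutside 𝔞 I a b hv i (Or.inl hi)
  haveI : ∀ k : ℤ, Injective ((Gam 𝔞 I).X k) := injective_gam_X 𝔞 I hinj
  exact CochainComplex.isKInjective_of_injective _ a

end gam

section bidual

variable [IsNoetherianRing A] (I : DRing.Cx A) (a b : ℤ) (hv : DRing.VanishesOutside I a b)
  (hinj : ∀ k : ℤ, Injective (I.X k)) [I.IsKInjective]
  (hend : Function.Bijective (fun x : A => x • 𝟙 (Q.obj I : Dual.D A)))
  (hext : ∀ j : ℤ, j ≠ 0 → Subsingleton ((Q.obj I : Dual.D A) ⟶ (Q.obj I)⟦j⟧))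
  (M : Type u) [AddCommGroup M] [Module A M] [Module.Finite A M]
  (P : DRing.Cx A)
  (e : (Q.obj P : Dual.D A) ≅ (Bidual.Dq I).obj (op (ModuleCat.of A M)))

/-- `H^j(Hom•(P, I)) ≃ Hom(D(M), Q I[j])`. -/
noncomputable def hdHomCxEquiv (j : ℤ) :
    Dual.HD A (Q.obj (DRing.homCx P I)) j ≃ₗ[A]
      ((Bidual.Dq I).obj (op (ModuleCat.of A M)) ⟶ (Q.obj I : Dual.D A)⟦j⟧) :=
  Bidual.hdQEquiv (DRing.homCx P I) j ≪≫ₗ HomCxH.homologyEquiv P I j ≪≫ₗ
    Linear.homCongr A e (Iso.refl _)

include hv hinj hend hext e in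
/-- **Biduality** in the form `M[0] ≅ Q(Hom•(P, I))` for a resolution `P` of `D(M)`. -/
theorem nonempty_inD_iso_homCx :
    Nonempty (Dual.inD A M ≅ (Q.obj (DRing.homCx P I) : Dual.D A)) := by
  let d := Bidual.wayOutData I a b hv hinj hend hext
  obtain ⟨hvan, hbij⟩ := d.main M
  have hz : ∀ j : ℤ, j ≠ 0 → IsZero ((homologyFunctor (ModuleCat.{u} A) j).obj
      (Q.obj (DRing.homCx P I) : Dual.D A)) := by
    intro j hj
    haveI : Subsingleton ((Bidual.Dq I).obj (op (ModuleCat.of A M)) ⟶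
        (Q.obj I : Dual.D A)⟦j⟧) := hvan j hj
    haveI : Subsingleton (Dual.HD A (Q.obj (DRing.homCx P I)) j) :=
      (hdHomCxEquiv I M P e j).toEquiv.subsingleton
    exact ModuleCat.isZero_of_subsingleton _
  haveI : (Q.obj (DRing.homCx P I) : Dual.D A).IsGE 0 := by
    rw [DerivedCategory.isGE_iff]
    intro i hi
    exact hz i (by omega)
  haveI : (Q.obj (DRing.homCx P I) : Dual.D A).IsLE 0 := by
    rw [DerivedCategory.isLE_iff]
    intro i hi
    exact hz i (by omega)
  let e0 : Dual.HD A (Q.obj (DRing.homCx P I)) 0 ≃ₗ[A] M :=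
    hdHomCxEquiv I M P e 0 ≪≫ₗ
      Linear.homCongr A (Iso.refl _) ((shiftFunctorZero (Dual.D A) ℤ).app (Q.obj I)) ≪≫ₗ
      (LinearEquiv.ofBijective (d.η (ModuleCat.of A M)) hbij).symm
  obtain ⟨θ⟩ := Bidual.nonempty_iso_single (Q.obj (DRing.homCx P I) : Dual.D A) 0 M e0
  exact ⟨θ.symm⟩

end bidual

end LD
end Groth.Agent.Lib.Helper6
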