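import Groth.Agent.Lib.Helper2.Matlis

/-! Local duality (helper6), part 5: `E(k)` is a cogenerator in all universes; annihilators of
Matlis duals. -/

set_option autoImplicit false
set_option linter.unusedSectionVars false
universe u v

namespace Groth.Agent.Lib.Helper6
namespace LD

open InjHull

variable {R : Type u} [CommRing R] [IsLocalRing R] {E : Type u} [AddCommGroup E] [Module R E]
  {f : IsLocalRing.ResidueField R →ₗ[R] E}

/-- `E(k)` is a cogenerator (universe-polymorphic version). -/
lemma exists_hom_apply_ne_zero' (hf : IsInjectiveHull f) {M : Type v} [AddCommGroup M]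
    [Module R M] (x : M) (hx : x ≠ 0) : ∃ φ : M →ₗ[R] E, φ x ≠ 0 := by
  let g : R →ₗ[R] M := LinearMap.toSpanSingleton R M x
  let h : R →ₗ[R] E := f ∘ₗ (Algebra.linearMap R (IsLocalRing.ResidueField R))
  have hle : LinearMap.ker g ≤ LinearMap.ker h := by
    intro r hr
    have hrm : r ∈ IsLocalRing.maximalIdeal R := by
      rw [IsLocalRing.mem_maximalIdeal]
      intro hu
      obtain ⟨u, rfl⟩ := hu
      apply hx
      have : (u : R) • x = 0 := by simpa [g] using hr
      rw [← one_smul R x, ← Units.inv_mul u, mul_smul, this, smul_zero]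
    rw [LinearMap.mem_ker, LinearMap.comp_apply, Algebra.linearMap_apply,
      IsLocalRing.ResidueField.algebraMap_eq, (IsLocalRing.residue_eq_zero_iff r).mpr hrm, map_zero]
  let gbar : (R ⧸ LinearMap.ker g) →ₗ[R] M := (LinearMap.ker g).liftQ g le_rfl
  let hbar : (R ⧸ LinearMap.ker g) →ₗ[R] E := (LinearMap.ker g).liftQ h hle
  have hgbar : Function.Injective gbar := by
    rw [← LinearMap.ker_eq_bot]
    exact Submodule.ker_liftQ_eq_bot _ _ _ le_rfl
  have := hf.isInjective
  obtain ⟨φ, hφ⟩ := Module.Injective.extension_property R E _ _ gbar hgbar hbar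
  refine ⟨φ, ?_⟩
  have h1 : φ x = hbar (Submodule.Quotient.mk 1) := by
    rw [← hφ, LinearMap.comp_apply]
    congr 1
    show x = g 1
    simp [g]
  rw [h1]
  show f (algebraMap R (IsLocalRing.ResidueField R) 1) ≠ 0
  rw [map_one, Ne, map_eq_zero_iff _ hf.injective]
  exact one_ne_zero

/-- the annihilator of the Matlis dual is the annihilator of the module. -/
theorem annihilator_hom_eq (hf : IsInjectiveHull f) (M : Type v) [AddCommGroup M] [Module R M] :
    Module.annihilator R (M →ₗ[R] E) = Module.annihilator R M := by
  ext a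
  rw [Module.mem_annihilator, Module.mem_annihilator]
  constructor
  · intro h x
    by_contra hx
    obtain ⟨φ, hφ⟩ := exists_hom_apply_ne_zero' hf (a • x) hx
    apply hφ
    have := LinearMap.congr_fun (h φ) x
    rw [LinearMap.smul_apply, LinearMap.zero_apply, ← map_smul] at this
    exact this
  · intro h φ
    ext x
    rw [LinearMap.smul_apply, LinearMap.zero_apply, ← map_smul, h x, map_zero]

end LD
end Groth.Agent.Lib.Helper6
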