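import Groth.Agent.Lib.Helper2.MatlisComplete
import Mathlib.RingTheory.AdicCompletion.Functoriality

/-!
# Matlis double dual of a finite module = adic completion (helper6)

For a Noetherian local ring `R` with injective hull `E` of the residue field and a finite
`R`-module `N`: `Hom(Hom(N, E), E) ≃ N^` (the `𝔪`-adic completion), `R`-linearly.
-/

set_option autoImplicit false
universe u v

namespace Groth.Agent.Lib.Helper6
namespace LD
open InjHull Groth.Agent.Lib.Helper2

section
variable {R : Type u} [CommRing R] [IsLocalRing R] [IsNoetherianRing R]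
variable {E : Type u} [AddCommGroup E] [Module R E] {f : IsLocalRing.ResidueField R →ₗ[R] E}

/-- `N/𝔪^n N` has finite length -/
lemma isFiniteLength_quot_pow_smul (N : Type v) [AddCommGroup N] [Module R N] [Module.Finite R N]
    (n : ℕ) :
    IsFiniteLength R (N ⧸ ((IsLocalRing.maximalIdeal R) ^ n • ⊤ : Submodule R N)) := by
  rw [isFiniteLength_iff_isNoetherian_isArtinian]
  haveI := isArtinianRing_quot_maximalIdeal_pow R n
  haveI : Module.Finite (R ⧸ (IsLocalRing.maximalIdeal R) ^ n)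
      (N ⧸ ((IsLocalRing.maximalIdeal R) ^ n • ⊤ : Submodule R N)) :=
    Module.Finite.of_restrictScalars_finite R _ _
  exact ⟨inferInstance, isArtinian_of_surjective_algebraMap
    (R := R ⧸ (IsLocalRing.maximalIdeal R) ^ n) Ideal.Quotient.mk_surjective⟩

/-- every map from a finite module to `E` kills `𝔪^n N` for some `n`. -/
lemma exists_pow_smul_le_ker (hf : IsInjectiveHull f) {N : Type v} [AddCommGroup N] [Module R N]
    [Module.Finite R N] (φ : N →ₗ[R] E) :
    ∃ n : ℕ, ((IsLocalRing.maximalIdeal R) ^ n • ⊤ : Submodule R N) ≤ LinearMap.ker φ := by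
  obtain ⟨r, s, hs⟩ := Module.Finite.exists_fin (R := R) (M := N)
  choose k hk using fun i => exists_mem_mtors hf (φ (s i))
  refine ⟨Finset.univ.sup k, ?_⟩
  have h1 : (⊤ : Submodule R N) ≤ (mtors R E (Finset.univ.sup k)).comap φ := by
    rw [← hs, Submodule.span_le]
    rintro _ ⟨i, rfl⟩
    exact mtors_mono (Finset.le_sup (Finset.mem_univ i)) (hk i)
  rw [Submodule.smul_le]
  intro a ha y _
  rw [LinearMap.mem_ker, map_smul]
  exact mem_mtors_iff.mp (h1 Submodule.mem_top) a ha

/-- the double-dual functor on maps -/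
noncomputable def dd (E : Type u) [AddCommGroup E] [Module R E] {M : Type v} {M' : Type v}
    [AddCommGroup M] [Module R M]
    [AddCommGroup M'] [Module R M'] (g : M →ₗ[R] M') :
    ((M →ₗ[R] E) →ₗ[R] E) →ₗ[R] ((M' →ₗ[R] E) →ₗ[R] E) :=
  LinearMap.lcomp R E (LinearMap.lcomp R E g)

lemma dd_apply {M : Type v} {M' : Type v} [AddCommGroup M] [Module R M]
    [AddCommGroup M'] [Module R M'] (g : M →ₗ[R] M') (Φ : (M →ₗ[R] E) →ₗ[R] E)
    (ψ : M' →ₗ[R] E) : dd E g Φ ψ = Φ (ψ ∘ₗ g) := rfl

lemma dd_applyₗ {M : Type v} {M' : Type v} [AddCommGroup M] [Module R M]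
    [AddCommGroup M'] [Module R M'] (g : M →ₗ[R] M') (x : M) :
    dd E g (LinearMap.applyₗ x) = LinearMap.applyₗ (g x) := rfl

variable (N : Type u) [AddCommGroup N] [Module R N] [Module.Finite R N]

/-- Matlis evaluation iso for `N/𝔪^n N`. -/
noncomputable def evq (hf : IsInjectiveHull f) (n : ℕ) :
    (N ⧸ ((IsLocalRing.maximalIdeal R) ^ n • ⊤ : Submodule R N)) ≃ₗ[R]
      (((N ⧸ ((IsLocalRing.maximalIdeal R) ^ n • ⊤ : Submodule R N)) →ₗ[R] E) →ₗ[R] E) :=
  LinearEquiv.ofBijective LinearMap.applyₗ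
    (bijective_applyₗ hf _ (isFiniteLength_quot_pow_smul N n))

lemma evq_apply (hf : IsInjectiveHull f) (n : ℕ)
    (y : N ⧸ ((IsLocalRing.maximalIdeal R) ^ n • ⊤ : Submodule R N)) :
    evq N hf n y = LinearMap.applyₗ y := rfl

/-- The comparison map `Hom(Hom(N,E),E) → N^`. -/
noncomputable def ddToCompletion (hf : IsInjectiveHull f) :
    ((N →ₗ[R] E) →ₗ[R] E) →ₗ[R] AdicCompletion (IsLocalRing.maximalIdeal R) N :=
  AdicCompletion.lift (IsLocalRing.maximalIdeal R)
    (fun n => (evq N hf n).symm.toLinearMap ∘ₗ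
      dd E (Submodule.mkQ ((IsLocalRing.maximalIdeal R) ^ n • ⊤ : Submodule R N)))
    (by
      intro m n hmn
      apply LinearMap.ext
      intro Φ
      apply (evq N hf m).injective
      simp only [LinearMap.comp_apply, LinearEquiv.coe_coe, LinearEquiv.apply_symm_apply]
      rw [evq_apply, ← dd_applyₗ (E := E), ← evq_apply N hf n, LinearEquiv.apply_symm_apply]
      rfl)

lemma ddToCompletion_val (hf : IsInjectiveHull f) (Φ : (N →ₗ[R] E) →ₗ[R] E) (n : ℕ) :
    evq N hf n ((ddToCompletion N hf Φ).val n) =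
      dd E (Submodule.mkQ ((IsLocalRing.maximalIdeal R) ^ n • ⊤ : Submodule R N)) Φ := by
  change evq N hf n ((evq N hf n).symm _) = _
  rw [LinearEquiv.apply_symm_apply]

lemma ddToCompletion_injective (hf : IsInjectiveHull f) :
    Function.Injective (ddToCompletion N hf) := by
  rw [injective_iff_map_eq_zero]
  intro Φ hΦ
  apply LinearMap.ext
  intro φ
  obtain ⟨n, hn⟩ := exists_pow_smul_le_ker hf φ
  have h1 := ddToCompletion_val N hf Φ n
  rw [hΦ, AdicCompletion.val_zero_apply, map_zero] at h1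
  have h2 := LinearMap.congr_fun h1 (Submodule.liftQ _ φ hn)
  rw [dd_apply, Submodule.liftQ_mkQ] at h2
  rw [← h2]; rfl


/-- for `φ : N → E` killing `𝔪^k N`, `φ` is eventually constant along a Cauchy sequence -/
lemma apply_cauchy_eq (a : AdicCompletion.AdicCauchySequence (IsLocalRing.maximalIdeal R) N)
    (φ : N →ₗ[R] E) {k : ℕ}
    (hk : ((IsLocalRing.maximalIdeal R) ^ k • ⊤ : Submodule R N) ≤ LinearMap.ker φ)
    {n : ℕ} (hkn : k ≤ n) : φ (a n) = φ (a k) := by
  have h1 := AdicCompletion.AdicCauchySequence.mk_eq_mk hkn a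
  rw [Submodule.Quotient.eq] at h1
  have h2 := hk h1
  rw [LinearMap.mem_ker, map_sub, sub_eq_zero] at h2
  exact h2

/-- the functional on `Hom(N,E)` attached to a Cauchy sequence -/
noncomputable def cauchyFun (hf : IsInjectiveHull f)
    (a : AdicCompletion.AdicCauchySequence (IsLocalRing.maximalIdeal R) N) (φ : N →ₗ[R] E) : E :=
  φ (a (exists_pow_smul_le_ker hf φ).choose)

lemma cauchyFun_eq (hf : IsInjectiveHull f)
    (a : AdicCompletion.AdicCauchySequence (IsLocalRing.maximalIdeal R) N) (φ : N →ₗ[R] E) {k : ℕ}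
    (hk : ((IsLocalRing.maximalIdeal R) ^ k • ⊤ : Submodule R N) ≤ LinearMap.ker φ)
    {n : ℕ} (hkn : k ≤ n) : cauchyFun N hf a φ = φ (a n) := by
  unfold cauchyFun
  have hc := (exists_pow_smul_le_ker hf φ).choose_spec
  set c := (exists_pow_smul_le_ker hf φ).choose
  rw [← apply_cauchy_eq N a φ hc (le_max_left c n),
    apply_cauchy_eq N a φ hk (hkn.trans (le_max_right c n)), apply_cauchy_eq N a φ hk hkn]

/-- the linear functional on `Hom(N,E)` attached to a Cauchy sequence -/
noncomputable def cauchyLin (hf : IsInjectiveHull f)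
    (a : AdicCompletion.AdicCauchySequence (IsLocalRing.maximalIdeal R) N) : (N →ₗ[R] E) →ₗ[R] E where
  toFun := cauchyFun N hf a
  map_add' φ ψ := by
    obtain ⟨k1, h1⟩ := exists_pow_smul_le_ker hf φ
    obtain ⟨k2, h2⟩ := exists_pow_smul_le_ker hf ψ
    obtain ⟨k3, h3⟩ := exists_pow_smul_le_ker hf (φ + ψ)
    rw [cauchyFun_eq N hf a φ h1 (le_max_left k1 (max k2 k3)),
      cauchyFun_eq N hf a ψ h2 ((le_max_left k2 k3).trans (le_max_right k1 (max k2 k3))),
      cauchyFun_eq N hf a (φ + ψ) h3 ((le_max_right k2 k3).trans (le_max_right k1 (max k2 k3)))]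
    rfl
  map_smul' c φ := by
    obtain ⟨k1, h1⟩ := exists_pow_smul_le_ker hf φ
    obtain ⟨k2, h2⟩ := exists_pow_smul_le_ker hf (c • φ)
    rw [cauchyFun_eq N hf a φ h1 (le_max_left k1 k2),
      cauchyFun_eq N hf a (c • φ) h2 (le_max_right k1 k2)]
    rfl

lemma cauchyLin_apply (hf : IsInjectiveHull f)
    (a : AdicCompletion.AdicCauchySequence (IsLocalRing.maximalIdeal R) N) (φ : N →ₗ[R] E) :
    cauchyLin N hf a φ = cauchyFun N hf a φ := rfl

lemma ddToCompletion_cauchyLin (hf : IsInjectiveHull f)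
    (a : AdicCompletion.AdicCauchySequence (IsLocalRing.maximalIdeal R) N) :
    ddToCompletion N hf (cauchyLin N hf a) = AdicCompletion.mk (IsLocalRing.maximalIdeal R) N a := by
  apply AdicCompletion.ext
  intro n
  apply (evq N hf n).injective
  rw [ddToCompletion_val]
  apply LinearMap.ext
  intro ψ
  rw [dd_apply, evq_apply]
  rw [cauchyLin_apply, cauchyFun_eq N hf a _ (k := n) (n := n) ?_ le_rfl]
  · rfl
  · intro y hy
    rw [LinearMap.mem_ker, LinearMap.comp_apply, Submodule.mkQ_apply,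
      (Submodule.Quotient.mk_eq_zero _).mpr hy, map_zero]

lemma ddToCompletion_surjective (hf : IsInjectiveHull f) :
    Function.Surjective (ddToCompletion N hf) := by
  intro x
  obtain ⟨a, rfl⟩ := AdicCompletion.mk_surjective (IsLocalRing.maximalIdeal R) N x
  exact ⟨cauchyLin N hf a, ddToCompletion_cauchyLin N hf a⟩

/-- `Hom(Hom(N,E),E) ≃ N^` for finite `N` in the universe of `R`. -/
noncomputable def ddEquivCompletion (hf : IsInjectiveHull f) :
    ((N →ₗ[R] E) →ₗ[R] E) ≃ₗ[R] AdicCompletion (IsLocalRing.maximalIdeal R) N :=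
  LinearEquiv.ofBijective (ddToCompletion N hf)
    ⟨ddToCompletion_injective N hf, ddToCompletion_surjective N hf⟩

end

section
variable {R : Type u} [CommRing R] [IsLocalRing R] [IsNoetherianRing R]
variable {E : Type u} [AddCommGroup E] [Module R E] {f : IsLocalRing.ResidueField R →ₗ[R] E}

/-- Matlis: the completion of a finite module (in any universe) is its double Matlis dual. -/
theorem nonempty_completion_equiv_dd (hf : IsInjectiveHull f) (N : Type v) [AddCommGroup N]
    [Module R N] [Module.Finite R N] :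
    Nonempty (AdicCompletion (IsLocalRing.maximalIdeal R) N ≃ₗ[R] ((N →ₗ[R] E) →ₗ[R] E)) := by
  obtain ⟨r, g, hg⟩ := Module.Finite.exists_fin' R N
  let N' := (Fin r → R) ⧸ LinearMap.ker g
  let e : N' ≃ₗ[R] N := g.quotKerEquivOfSurjective hg
  have e1 : AdicCompletion (IsLocalRing.maximalIdeal R) N ≃ₗ[R]
      AdicCompletion (IsLocalRing.maximalIdeal R) N' :=
    (AdicCompletion.congr (IsLocalRing.maximalIdeal R) e.symm).restrictScalars R
  have e2 : ((N' →ₗ[R] E) →ₗ[R] E) ≃ₗ[R] ((N →ₗ[R] E) →ₗ[R] E) :=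
    LinearEquiv.congrLeft E R (LinearEquiv.congrLeft E R e)
  exact ⟨e1 ≪≫ₗ (ddEquivCompletion N' hf).symm ≪≫ₗ e2⟩

end
end LD
end Groth.Agent.Lib.Helper6
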