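import Mathlib
import Groth.Prelude.Def_DRing2
import Groth.Prelude.Def_DDual2
import Groth.Agent.Lib.Helper6.RestrPC
import Groth.Agent.Lib.Helper6.MPC3

/-! A dévissage for `m`-pseudo-coherence of `T(N)`, `N` a pseudo-coherent module, where
`T : Mod(A) ⥤ D(P)` turns short exact sequences into distinguished triangles (helper6). -/

set_option autoImplicit false
universe u

open CategoryTheory Limits Pretriangulated DerivedCategory ZeroObject

namespace Groth.Agent.Lib.Helper6
namespace PCTens

attribute [local instance] HasDerivedCategory.standard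

open MPC RestrPC

variable {A P : Type u} [CommRing A] [CommRing P]

/-- Hypotheses on a functor `T : Mod(A) ⥤ D(P)`: bounded above values, short exact sequences go to
distinguished triangles. -/
structure Hyp (T : ModuleCat.{u} A ⥤ Dual.D P) (b : ℤ) : Prop where
  isLE : ∀ Z : ModuleCat.{u} A, (T.obj Z).IsLE b
  tri : ∀ S : ShortComplex (ModuleCat.{u} A), S.ShortExact →
    ∃ δ : T.obj S.X₃ ⟶ (T.obj S.X₁)⟦(1 : ℤ)⟧, Triangle.mk (T.map S.f) (T.map S.g) δ ∈ distTriang _
  zero : ∀ Z : ModuleCat.{u} A, IsZero Z → IsZero (T.obj Z)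

variable {T : ModuleCat.{u} A ⥤ Dual.D P} {b : ℤ}

lemma pcT_of_iso {Z Z' : ModuleCat.{u} A} (e : Z ≅ Z') {m : ℤ}
    (h : DRing.IsPseudoCoherent P m (T.obj Z)) : DRing.IsPseudoCoherent P m (T.obj Z') :=
  isPC_of_iso (T.mapIso e) h

lemma pcT_prod (hT : Hyp T b) (M N : ModuleCat.{u} A) (m : ℤ)
    (hM : DRing.IsPseudoCoherent P m (T.obj M)) (hN : DRing.IsPseudoCoherent P m (T.obj N)) :
    DRing.IsPseudoCoherent P m (T.obj (ModuleCat.of A (M × N))) := by
  let S : ShortComplex (ModuleCat.{u} A) :=
    ShortComplex.mk (ModuleCat.ofHom (LinearMap.inl A M N)) (ModuleCat.ofHom (LinearMap.snd A M N))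
      (by ext x; simp)
  have hS : S.ShortExact := by
    refine ModuleCat.shortComplex_shortExact S ?_ LinearMap.inl_injective LinearMap.snd_surjective
    intro x
    constructor
    · intro hx
      have hx' : (x : M × N).2 = 0 := hx
      refine ⟨(x : M × N).1, ?_⟩
      show ((x : M × N).1, (0 : N)) = x
      exact Prod.ext rfl hx'.symm
    · rintro ⟨y, rfl⟩
      rfl
  obtain ⟨δ, hδ⟩ := hT.tri S hS
  exact (isPC_triangle _ hδ m).2.1 hM hN

lemma pcT_pi (hT : Hyp T b) (M : ModuleCat.{u} A) (m : ℤ)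
    (hM : DRing.IsPseudoCoherent P m (T.obj M)) (n : ℕ) :
    DRing.IsPseudoCoherent P m (T.obj (ModuleCat.of A (Fin n → M))) := by
  induction n with
  | zero => exact isPC_of_isZero (hT.zero _ (ModuleCat.isZero_of_subsingleton _)) m
  | succ n ih =>
    exact pcT_of_iso (Fin.consLinearEquiv A (fun _ : Fin (n + 1) => (M : Type u))).toModuleIso
      (pcT_prod hT M _ m hM ih)

lemma pcT_finite_free (hT : Hyp T b) (m : ℤ)
    (h0 : DRing.IsPseudoCoherent P m (T.obj (ModuleCat.of A A)))
    (F : ModuleCat.{u} A) [Module.Finite A F] [Module.Free A F] :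
    DRing.IsPseudoCoherent P m (T.obj F) := by
  let ι := Module.Free.ChooseBasisIndex A F
  let n := Fintype.card ι
  have e : F ≃ₗ[A] (Fin n → A) :=
    ((Module.Free.chooseBasis A F).reindex (Fintype.equivFin ι)).equivFun
  have e' : F ≅ ModuleCat.of A (Fin n → A) := e.toModuleIso
  exact pcT_of_iso e'.symm (pcT_pi hT (ModuleCat.of A A) m h0 n)

theorem pcT_aux (hT : Hyp T b) (m : ℤ)
    (h0 : DRing.IsPseudoCoherent P m (T.obj (ModuleCat.of A A))) (n : ℕ) :
    ∀ (N : ModuleCat.{u} A), AllPC N → ∀ k : ℤ, m ≤ k → b + 1 ≤ k + n →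
      DRing.IsPseudoCoherent P k (T.obj N) := by
  induction n with
  | zero =>
    intro N _ k _ hk
    have := hT.isLE N
    have : (T.obj N).IsLE (k - 1) := TStructure.t.isLE_of_le (T.obj N) b (k - 1) (by omega)
    exact isPC_of_isLE k _
  | succ n ih =>
    intro N hN k hmk hk
    have hfin : Module.Finite A N := finite_of_isPC_zero_single N (hN 0)
    obtain ⟨r, f, hf⟩ := Module.Finite.exists_fin' A N
    let F : ModuleCat.{u} A := ModuleCat.of A (Fin r → A)
    have hF1 : Module.Finite A F := inferInstanceAs (Module.Finite A (Fin r → A))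
    have hF2 : Module.Free A F := inferInstanceAs (Module.Free A (Fin r → A))
    let S : ShortComplex (ModuleCat.{u} A) :=
      ShortComplex.mk (ModuleCat.ofHom (LinearMap.ker f).subtype) (ModuleCat.ofHom f)
        (by ext x; exact x.2)
    have hS : S.ShortExact := by
      refine ModuleCat.shortComplex_shortExact S ?_ (Submodule.injective_subtype _) hf
      intro x
      constructor
      · intro hx
        exact ⟨⟨x, hx⟩, rfl⟩
      · rintro ⟨y, rfl⟩
        exact y.2
    have hFall : AllPC F := fun m' => isPC_of_FF (FF_single F) m'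
    have hK : AllPC S.X₁ := fun m' => by
      have h := (isPC_triangle _ hS.singleTriangle_distinguished (m' - 1)).2.2
      have h' := h (by simpa using hFall (m' - 1 + 1)) (hN (m' - 1))
      simpa using h'
    have h1 : DRing.IsPseudoCoherent P (k + 1) (T.obj S.X₁) :=
      ih S.X₁ hK (k + 1) (by omega) (by push_cast at hk ⊢; omega)
    have h2 : DRing.IsPseudoCoherent P k (T.obj F) :=
      isPC_of_le hmk (pcT_finite_free hT m h0 F)
    obtain ⟨δ, hδ⟩ := hT.tri S hS
    exact (isPC_triangle _ hδ k).1 h1 h2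

/-- The dévissage: if `T(A)` is `m`-pseudo-coherent, so is `T(N)` for any pseudo-coherent `N`. -/
theorem pcT (hT : Hyp T b) (m : ℤ)
    (h0 : DRing.IsPseudoCoherent P m (T.obj (ModuleCat.of A A)))
    (N : ModuleCat.{u} A) (hN : AllPC N) : DRing.IsPseudoCoherent P m (T.obj N) :=
  pcT_aux hT m h0 (b + 1 - m).toNat N hN m le_rfl (by omega)

end PCTens
end Groth.Agent.Lib.Helper6
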