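import Mathlib
import Groth.Prelude.Def_DRing2
import Groth.Prelude.Def_DDual2
import Groth.Agent.Lib.Helper6.PCTens

/-! The functor `Z ↦ (Z ⊗ F)|_P` from `A`-modules to `D(P)` for a bounded above termwise flat complex
`F` of `A`-modules satisfies the dévissage hypotheses (helper6). -/

set_option autoImplicit false
universe u

open CategoryTheory Limits Pretriangulated DerivedCategory ZeroObject MonoidalCategory

namespace Groth.Agent.Lib.Helper6
namespace PCTens

attribute [local instance] HasDerivedCategory.standard

open MPC RestrPC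

variable {A P : Type u} [CommRing A] [CommRing P] (μ : P →+* A)
  (F : CochainComplex (ModuleCat.{u} A) ℤ)

/-- `Z ↦ Z ⊗ F` (termwise). -/
noncomputable def tens : ModuleCat.{u} A ⥤ CochainComplex (ModuleCat.{u} A) ℤ where
  obj Z := ((tensorLeft Z).mapHomologicalComplex (ComplexShape.up ℤ)).obj F
  map f := (NatTrans.mapHomologicalComplex ((tensoringLeft (ModuleCat.{u} A)).map f)
    (ComplexShape.up ℤ)).app F
  map_id Z := by
    ext n
    simp
  map_comp f g := by
    ext n
    simp

@[simp] lemma tens_obj_X (Z : ModuleCat.{u} A) (n : ℤ) : ((tens F).obj Z).X n = Z ⊗ F.X n := rfl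

@[simp] lemma tens_map_f {Z Z' : ModuleCat.{u} A} (f : Z ⟶ Z') (n : ℤ) :
    ((tens F).map f).f n = f ▷ F.X n := rfl

instance : (tens F).PreservesZeroMorphisms where
  map_zero Z Z' := by
    apply HomologicalComplex.hom_ext
    intro n
    simp
    rfl

lemma tens_shortExact (hF : ∀ n : ℤ, Module.Flat A (F.X n))
    (S : ShortComplex (ModuleCat.{u} A)) (hS : S.ShortExact) :
    (S.map (tens F)).ShortExact := by
  apply HomologicalComplex.shortExact_of_degreewise_shortExact
  intro n
  have := hF n
  have hinj : Function.Injective S.f.hom := (ModuleCat.mono_iff_injective _).1 hS.mono_f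
  have hsurj : Function.Surjective S.g.hom := (ModuleCat.epi_iff_surjective _).1 hS.epi_g
  have hex : Function.Exact S.f.hom S.g.hom :=
    (ShortComplex.ShortExact.moduleCat_exact_iff_function_exact _).1 hS.exact
  refine ModuleCat.shortComplex_shortExact _ ?_ ?_ ?_
  · exact rTensor_exact (F.X n) hex hsurj
  · exact Module.Flat.rTensor_preserves_injective_linearMap S.f.hom hinj
  · exact LinearMap.rTensor_surjective (F.X n) hsurj

/-- `Z ↦ (Z ⊗ F)|_P` in `D(P)`. -/
noncomputable def TT : ModuleCat.{u} A ⥤ Dual.D P :=
  tens F ⋙ DerivedCategory.Q ⋙ DRing.restrictD μ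

lemma TT_hyp (b : ℤ) (hb : ∀ n : ℤ, b < n → IsZero (F.X n))
    (hF : ∀ n : ℤ, Module.Flat A (F.X n)) : Hyp (TT μ F) b where
  isLE Z := by
    have hs : ((tens F).obj Z).IsStrictlyLE b := by
      rw [CochainComplex.isStrictlyLE_iff]
      intro n hn
      exact (tensorLeft Z).map_isZero (hb n hn)
    have : (DerivedCategory.Q.obj ((tens F).obj Z)).IsLE b := inferInstance
    exact isLE_rD μ _ b
  tri S hS := by
    have h1 := DerivedCategory.triangleOfSES_distinguished (C := ModuleCat.{u} A)
      (tens_shortExact F hF S hS)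
    have h2 := (DRing.restrictD μ).map_distinguished _ h1
    exact ⟨_, h2⟩
  zero Z hZ := by
    have h0 : IsZero ((tens F).obj Z) := by
      rw [IsZero.iff_id_eq_zero]
      apply HomologicalComplex.hom_ext
      intro n
      apply IsZero.eq_of_src
      have : Subsingleton Z := ModuleCat.subsingleton_of_isZero hZ
      have : Subsingleton (((tens F).obj Z).X n) :=
        inferInstanceAs (Subsingleton (TensorProduct A Z (F.X n)))
      exact ModuleCat.isZero_of_subsingleton _
    exact (DRing.restrictD μ).map_isZero (DerivedCategory.Q.map_isZero h0)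

end PCTens
end Groth.Agent.Lib.Helper6
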