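import Mathlib
import Groth.Prelude.Def_DRing2
import Groth.Prelude.Def_DDual2
import Groth.Agent.Lib.Helper6.PCTens2
import Groth.Agent.Lib.Helper6.PCMap
import Groth.Agent.Lib.Helper6.LBCPC
import Groth.Agent.Lib.Helper35.FlatLBC

/-! Derived base change along `β : A → B` with `B` pseudo-coherent over `A` preserves
`m`-pseudo-coherence over a ring `P` mapping to `A` (helper6). -/

set_option autoImplicit false
universe u

open CategoryTheory Limits Pretriangulated DerivedCategory ZeroObject MonoidalCategory

namespace Groth.Agent.Lib.Helper6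
namespace PCTens

attribute [local instance] HasDerivedCategory.standard

open MPC RestrPC

section iso

variable {A B : Type u} [CommRing A] [CommRing B] (β : A →+* B)

lemma smul_eq (X : ModuleCat.{u} A) (a : A)
    (z : TensorProduct A ((Φ β).obj (ModuleCat.of B B)) X) :
    (a • z : ((Φ β).obj (ModuleCat.of B B) ⊗ X : ModuleCat.{u} A)) =
      (a • (z : (Φ β).obj ((ModuleCat.extendScalars.{u, u, u} β).obj X)) :
        (Φ β).obj ((ModuleCat.extendScalars.{u, u, u} β).obj X)) := by
  induction z using TensorProduct.induction_on with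
  | zero => exact (smul_zero a).trans (smul_zero a).symm
  | tmul x y => rfl
  | add x y hx hy =>
    exact (smul_add a x y).trans ((congrArg₂ (· + ·) hx hy).trans (smul_add a _ _).symm)

/-- `B|_A ⊗_A X` is the restriction of the extension of scalars of `X`. -/
noncomputable def tensRestrEquiv (X : ModuleCat.{u} A) :
    ((Φ β).obj (ModuleCat.of B B) ⊗ X : ModuleCat.{u} A) ≃ₗ[A]
      (Φ β).obj ((ModuleCat.extendScalars.{u, u, u} β).obj X) :=
  { toFun := fun z => z
    invFun := fun z => z
    map_add' := fun _ _ => rfl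
    map_smul' := fun a z => smul_eq β X a z
    left_inv := fun _ => rfl
    right_inv := fun _ => rfl }

noncomputable def tensRestrNatIso :
    tensorLeft ((Φ β).obj (ModuleCat.of B B)) ≅
      ModuleCat.extendScalars.{u, u, u} β ⋙ Φ β :=
  NatIso.ofComponents (fun X => (tensRestrEquiv β X).toModuleIso) (by
    intro X Y f
    ext : 1
    apply TensorProduct.ext'
    intro b x
    rfl)

variable (F : CochainComplex (ModuleCat.{u} A) ℤ)

/-- complex version. -/
noncomputable def tensRestrCxIso :
    (tens F).obj ((Φ β).obj (ModuleCat.of B B)) ≅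
      ((Φ β).mapHomologicalComplex (ComplexShape.up ℤ)).obj
        (((ModuleCat.extendScalars.{u, u, u} β).mapHomologicalComplex (ComplexShape.up ℤ)).obj F) :=
  HomologicalComplex.Hom.isoOfComponents (fun i => (tensRestrNatIso β).app (F.X i))
    (fun i j _ => ((tensRestrNatIso β).hom.naturality (F.d i j)).symm)

/-- `A ⊗ F ≅ F`. -/
noncomputable def tensUnitIso : (tens F).obj (ModuleCat.of A A) ≅ F :=
  HomologicalComplex.Hom.isoOfComponents (fun i => λ_ (F.X i))
    (fun i j _ => (leftUnitor_naturality (F.d i j)).symm)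

end iso

variable {P A B : Type u} [CommRing P] [CommRing A] [CommRing B]

open Groth.Agent.Lib.Helper35.TA in
/-- **Core**: if `L|_P` is `m`-pseudo-coherent and `B` is a pseudo-coherent `A`-module then
`(L ⊗^L_A B)|_P` is `m`-pseudo-coherent. -/
theorem isPC_rD_LBC (μ : P →+* A) (β : A →+* B) [DRing.HasLBaseChange β] (hβ : PCMap β)
    (L : Dual.D A) (m : ℤ) (hL : DRing.IsPseudoCoherent P m ((DRing.restrictD μ).obj L)) :
    DRing.IsPseudoCoherent P m
      ((DRing.restrictD (β.comp μ)).obj ((DRing.LBaseChange β).obj L)) := by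
  obtain ⟨t, ht⟩ := Resol.exists_isLE_of_isPC hL
  have : L.IsLE t := isLE_of_isLE_rD μ L t
  obtain ⟨F, hv, hfree, ⟨e⟩⟩ := LBCPC.exists_free_of_isLE L t
  have hflat : ∀ i, Module.Flat A (F.X i) := fun i => by
    have := hfree i
    infer_instance
  have hT := TT_hyp μ F t hv hflat
  have h0 : DRing.IsPseudoCoherent P m ((TT μ F).obj (ModuleCat.of A A)) :=
    isPC_of_iso ((DRing.restrictD μ).mapIso
      (DerivedCategory.Q.mapIso (tensUnitIso F) ≪≫ e).symm) hL
  have h1 := pcT hT m h0 ((Φ β).obj (ModuleCat.of B B)) hβ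
  obtain ⟨e1⟩ := nonempty_lbc_iso_of_flat β F t hv hflat
  refine isPC_of_iso ?_ h1
  exact (DRing.restrictD μ).mapIso (DerivedCategory.Q.mapIso (tensRestrCxIso β F)) ≪≫
    (DRing.restrictD μ).mapIso ((Φ β).mapDerivedCategoryFactors.app _).symm ≪≫
    rDCompIso μ β _ ≪≫
    (DRing.restrictD (β.comp μ)).mapIso (e1.symm ≪≫ (DRing.LBaseChange β).mapIso e)

end PCTens
end Groth.Agent.Lib.Helper6
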