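import Mathlib
import Groth.Prelude.Def_DRing2
import Groth.Prelude.Def_DDual2
import Groth.Prelude.Def_DerCA
import Groth.Agent.Lib.Helper6.PCTens3
import Groth.Agent.Lib.Helper6.PCMap2
import Groth.Agent.Lib.Helper35.LBCComp
import Groth.Agent.Lib.Helper35.NilTA

/-! Relative pseudo-coherence and derived base change along a relatively pseudo-coherent ring map
(helper6). -/

set_option autoImplicit false
universe u

open CategoryTheory Limits Pretriangulated DerivedCategory ZeroObject MonoidalCategory TensorProduct

namespace Groth.Agent.Lib.Helper6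
namespace PCTens

attribute [local instance] HasDerivedCategory.standard

open MPC RestrPC Groth.Agent.Lib.Helper35.TA Groth.Agent.Lib.Helper35.FlatBC

section FlatStep

attribute [local instance] Algebra.TensorProduct.rightAlgebra

variable (R A R' : Type u) [CommRing R] [CommRing A] [Algebra R A] [CommRing R'] [Algebra R R']
  [Module.Flat R R']

/-- flat base change `R → R'` of the base of an `A`-complex which is `m`-pseudo-coherent over `R`. -/
theorem isPC_flatStep [DRing.HasLBaseChange (algebraMap A (R' ⊗[R] A))] (K : Dual.D A) (m : ℤ)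
    (hK : DRing.IsPseudoCoherent R m ((DRing.restrictD (algebraMap R A)).obj K)) :
    DRing.IsPseudoCoherent R' m ((DRing.restrictD (algebraMap R' (R' ⊗[R] A))).obj
      ((DRing.LBaseChange (algebraMap A (R' ⊗[R] A))).obj K)) := by
  obtain ⟨t, ht⟩ := Resol.exists_isLE_of_isPC hK
  have : K.IsLE t := isLE_of_isLE_rD (algebraMap R A) K t
  obtain ⟨F, hv, hfree, ⟨e⟩⟩ := LBCPC.exists_free_of_isLE K t
  have hflat : ∀ i, Module.Flat A (F.X i) := fun i => by
    have := hfree i
    infer_instance
  obtain ⟨e1⟩ := nonempty_lbc_iso_of_flat (algebraMap A (R' ⊗[R] A)) F t hv hflat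
  have h1 := isPseudoCoherent_G R' m _ hK
  refine isPC_of_iso ?_ h1
  exact (G R R').mapIso ((DRing.restrictD (algebraMap R A)).mapIso e.symm ≪≫
      (ModuleCat.restrictScalars.{u} (algebraMap R A)).mapDerivedCategoryFactors.app F) ≪≫
    GQIso R' _ ≪≫ DerivedCategory.Q.mapIso (bcCxIso R R' F) ≪≫
    ((ModuleCat.restrictScalars.{u} (algebraMap R' (R' ⊗[R] A))).mapDerivedCategoryFactors.app
      _).symm ≪≫
    (DRing.restrictD (algebraMap R' (R' ⊗[R] A))).mapIso
      (e1.symm ≪≫ (DRing.LBaseChange (algebraMap A (R' ⊗[R] A))).mapIso e)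

end FlatStep

end PCTens
end Groth.Agent.Lib.Helper6
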