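import Mathlib
import Groth.Prelude.Def_DRing2
import Groth.Prelude.Def_DDual2
import Groth.Prelude.Def_DerCA
import Groth.Agent.Lib.Helper6.PCTens4

/-! Derived base change along a relatively pseudo-coherent ring map preserves relative
`m`-pseudo-coherence (helper6). -/

set_option autoImplicit false
universe u

open CategoryTheory Limits Pretriangulated DerivedCategory ZeroObject MonoidalCategory TensorProduct

namespace Groth.Agent.Lib.Helper6
namespace PCTens

attribute [local instance] HasDerivedCategory.standard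

open MPC RestrPC Groth.Agent.Lib.Helper35.TA Groth.Agent.Lib.Helper35.FlatBC

section Aux

attribute [local instance] Algebra.TensorProduct.rightAlgebra

variable (P A P' : Type u) [CommRing P] [CommRing A] [Algebra P A] [CommRing P'] [Algebra P P']
  [Module.Flat P P'] {B : Type u} [CommRing B]

theorem isPC_aux (β : P' ⊗[P] A →+* B) (hβ : PCMap β) (χ : A →+* B)
    (hχ : χ = β.comp (algebraMap A (P' ⊗[P] A))) [DRing.HasLBaseChange χ]
    (K : Dual.D A) (m : ℤ)
    (hK : DRing.IsPseudoCoherent P m ((DRing.restrictD (algebraMap P A)).obj K)) :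
    DRing.IsPseudoCoherent P' m ((DRing.restrictD (β.comp (algebraMap P' (P' ⊗[P] A)))).obj
      ((DRing.LBaseChange χ).obj K)) := by
  have := hasLBaseChange (algebraMap A (P' ⊗[P] A))
  have := hasLBaseChange β
  have h1 := isPC_flatStep P A P' K m hK
  have h2 := isPC_rD_LBC (algebraMap P' (P' ⊗[P] A)) β hβ _ m h1
  obtain ⟨e⟩ := nonempty_LBC_comp_iso (algebraMap A (P' ⊗[P] A)) β χ hχ K
  exact isPC_of_iso ((DRing.restrictD (β.comp (algebraMap P' (P' ⊗[P] A)))).mapIso e) h2

end Aux

section Aux2

attribute [local instance] Algebra.TensorProduct.rightAlgebra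

variable (P A : Type u) [CommRing P] [CommRing A] [Algebra P A] (k : ℕ)

/-- `P[y] ⊗_P A ≃ A[y]`. -/
noncomputable def polyTensorEquiv :
    MvPolynomial (Fin k) P ⊗[P] A ≃+* MvPolynomial (Fin k) A :=
  (Algebra.TensorProduct.comm P (MvPolynomial (Fin k) P) A).toRingEquiv.trans
      (MvPolynomial.algebraTensorAlgEquiv P A).toRingEquiv

lemma polyTensorEquiv_left :
    (polyTensorEquiv P A k).toRingHom.comp
      (algebraMap (MvPolynomial (Fin k) P) (MvPolynomial (Fin k) P ⊗[P] A)) =
    MvPolynomial.map (algebraMap P A) := by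
  symm
  apply MvPolynomial.ringHom_ext
  · intro p
    simp [polyTensorEquiv]
  · intro i
    simp [polyTensorEquiv]

lemma polyTensorEquiv_right :
    (polyTensorEquiv P A k).toRingHom.comp
      (algebraMap A (MvPolynomial (Fin k) P ⊗[P] A)) = MvPolynomial.C := by
  refine RingHom.ext fun a => ?_
  show polyTensorEquiv P A k ((1 : MvPolynomial (Fin k) P) ⊗ₜ[P] a) = MvPolynomial.C a
  simp [polyTensorEquiv]
  rw [MvPolynomial.smul_eq_C_mul, mul_one]

variable {B : Type u} [CommRing B]

theorem isPC_aux2 (β : MvPolynomial (Fin k) A →+* B) (hβ : PCMap β) (χ : A →+* B)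
    (hχ : χ = β.comp MvPolynomial.C) [DRing.HasLBaseChange χ]
    (K : Dual.D A) (m : ℤ)
    (hK : DRing.IsPseudoCoherent P m ((DRing.restrictD (algebraMap P A)).obj K)) :
    DRing.IsPseudoCoherent (MvPolynomial (Fin k) P) m
      ((DRing.restrictD (β.comp (MvPolynomial.map (algebraMap P A)))).obj
        ((DRing.LBaseChange χ).obj K)) := by
  have he : PCMap (polyTensorEquiv P A k).toRingHom :=
    pcMap_of_bijective (polyTensorEquiv P A k).toRingHom (polyTensorEquiv P A k).bijective
  have hβ'' : PCMap (β.comp (polyTensorEquiv P A k).toRingHom) := pcMap_comp he hβ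
  have hχ' : χ = (β.comp (polyTensorEquiv P A k).toRingHom).comp
      (algebraMap A (MvPolynomial (Fin k) P ⊗[P] A)) := by
    rw [RingHom.comp_assoc, polyTensorEquiv_right, hχ]
  have h := isPC_aux P A (MvPolynomial (Fin k) P) _ hβ'' χ hχ' K m hK
  rw [RingHom.comp_assoc, polyTensorEquiv_left] at h
  exact h

end Aux2

section Main

variable {R A B : Type u} [CommRing R] [CommRing A] [CommRing B] [Algebra R A] [Algebra A B]
  [Algebra R B] [IsScalarTower R A B]

/-- derived base change along a relatively pseudo-coherent ring map `A → B` preserves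
`m`-pseudo-coherence relative to `R`. -/
theorem relPC_LBC [Algebra.FiniteType R A] [Algebra.FiniteType A B]
    (hB : DerCA.IsRelPseudoCoherentModuleAll A B B)
    [DRing.HasLBaseChange (algebraMap A B)] (K : Dual.D A) (m : ℤ)
    (h : DerCA.IsRelPseudoCoherent R A m K) :
    DerCA.IsRelPseudoCoherent R B m ((DRing.LBaseChange (algebraMap A B)).obj K) := by
  obtain ⟨n, α, hα, hK⟩ := h
  obtain ⟨k, β, hβ⟩ := (Algebra.FiniteType.iff_quotient_mvPolynomial'' (R := A) (S := B)).1
    inferInstance
  have hβpc : PCMap (β : MvPolynomial (Fin k) A →+* B) := pcMap_of_relPC hB β hβ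
  let _ : Algebra (MvPolynomial (Fin n) R) A := (α : MvPolynomial (Fin n) R →+* A).toAlgebra
  have hχ : algebraMap A B = (β : MvPolynomial (Fin k) A →+* B).comp MvPolynomial.C := by
    refine RingHom.ext fun a => ?_
    exact (β.commutes a).symm
  have h1 := isPC_aux2 (MvPolynomial (Fin n) R) A k (β : MvPolynomial (Fin k) A →+* B) hβpc
    (algebraMap A B) hχ K m hK
  let σ : MvPolynomial (Fin (k + n)) R ≃ₐ[R] MvPolynomial (Fin k) (MvPolynomial (Fin n) R) :=
    (MvPolynomial.renameEquiv R finSumFinEquiv.symm).trans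
      (MvPolynomial.sumAlgEquiv R (Fin k) (Fin n))
  let σ' : MvPolynomial (Fin (k + n)) R →+* MvPolynomial (Fin k) (MvPolynomial (Fin n) R) :=
    (σ : _ →+* _)
  have hσ : PCMap σ' := pcMap_of_bijective _ σ.bijective
  let γ : MvPolynomial (Fin (k + n)) R →ₐ[R] B :=
    ((β.restrictScalars R).comp (MvPolynomial.mapAlgHom α)).comp σ.toAlgHom
  have hγ : Function.Surjective γ := by
    refine (hβ.comp ?_).comp σ.surjective
    exact MvPolynomial.map_surjective _ hα
  refine ⟨k + n, γ, hγ, ?_⟩
  have heq : (γ : MvPolynomial (Fin (k + n)) R →+* B) =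
      ((β : MvPolynomial (Fin k) A →+* B).comp
        (MvPolynomial.map (algebraMap (MvPolynomial (Fin n) R) A))).comp σ' := rfl
  show DRing.IsPseudoCoherent _ m
    ((DRing.restrictD (γ : MvPolynomial (Fin (k + n)) R →+* B)).obj _)
  rw [heq]
  exact (isPC_rD_comp_iff _ hσ _ m).1 h1

end Main

end PCTens
end Groth.Agent.Lib.Helper6
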