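import Mathlib
import Groth.Prelude.Def_DRing2
import Groth.Prelude.Def_DDual2
import Groth.Prelude.Def_DerCA
import Groth.Agent.Lib.Helper6.PCTens5
import Groth.Agent.Lib.Helper6.PCHom

/-! Flat version for modules: `B ⊗_A M` is `m`-pseudo-coherent relative to `R` (helper6). -/

set_option autoImplicit false
universe u

open CategoryTheory Limits Pretriangulated DerivedCategory ZeroObject MonoidalCategory TensorProduct

namespace Groth.Agent.Lib.Helper6
namespace PCTens

attribute [local instance] HasDerivedCategory.standard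

open MPC RestrPC Groth.Agent.Lib.Helper35.TA Groth.Agent.Lib.Helper35.FlatBC

/-- for flat `A → B`, derived base change of a bounded above object is the exact base change. -/
theorem nonempty_LBC_iso_G {A B : Type u} [CommRing A] [CommRing B] [Algebra A B] [Module.Flat A B]
    [DRing.HasLBaseChange (algebraMap A B)] (K : Dual.D A) (t : ℤ) [K.IsLE t] :
    Nonempty ((DRing.LBaseChange (algebraMap A B)).obj K ≅ (G A B).obj K) := by
  obtain ⟨F, hv, hfree, ⟨e⟩⟩ := LBCPC.exists_free_of_isLE K t
  have hflat : ∀ i, Module.Flat A (F.X i) := fun i => by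
    have := hfree i
    infer_instance
  obtain ⟨e1⟩ := nonempty_lbc_iso_of_flat (algebraMap A B) F t hv hflat
  exact ⟨(DRing.LBaseChange (algebraMap A B)).mapIso e.symm ≪≫ e1 ≪≫ (GQIso B F).symm ≪≫
    (G A B).mapIso e⟩

variable {R A B : Type u} [CommRing R] [CommRing A] [CommRing B] [Algebra R A] [Algebra A B]
  [Algebra R B] [IsScalarTower R A B]

theorem relPC_tensor [Algebra.FiniteType R A] [Algebra.FiniteType A B] [Module.Flat A B]
    (hB : DerCA.IsRelPseudoCoherentModuleAll A B B) (m : ℤ) (M : Type u) [AddCommGroup M]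
    [Module A M] (h : DerCA.IsRelPseudoCoherentModule R A m M) :
    DerCA.IsRelPseudoCoherentModule R B m (TensorProduct A B M) := by
  have := hasLBaseChange (algebraMap A B)
  have h1 := relPC_LBC (R := R) hB (Dual.inD A M) m h
  have : (Dual.inD A M).IsLE 0 := inferInstance
  obtain ⟨e⟩ := nonempty_LBC_iso_G (B := B) (Dual.inD A M) 0
  exact PCHom.relPC_of_iso (e ≪≫ GInDIso B M) h1

end PCTens
end Groth.Agent.Lib.Helper6
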