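import Mathlib

/-! The short exact sequence `0 → M[x] → M[x] → M → 0` of `R[x]`-modules, functorial in the
`R`-module `M` (helper6). -/

set_option autoImplicit false
universe u

open CategoryTheory Limits Polynomial TensorProduct

namespace Groth.Agent.Lib.Helper6
namespace PolyZero

variable (R : Type u) [CommRing R]

/-- `R → R[x]`. -/
noncomputable abbrev cR : R →+* R[X] := Polynomial.C
/-- `R[x] → R`, `x ↦ 0`. -/
noncomputable abbrev eR : R[X] →+* R := Polynomial.evalRingHom (0 : R)

lemma eR_comp_cR : (eR R).comp (cR R) = RingHom.id R := by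
  ext r
  simp

/-- `R[x]` as an `R`-module. -/
noncomputable abbrev PR : ModuleCat.{u} R :=
  (ModuleCat.restrictScalars (cR R)).obj (ModuleCat.of R[X] R[X])

variable {R}

/-- the underlying polynomial. -/
def toP (p : PR R) : R[X] := p
/-- a polynomial as an element of `PR R`. -/
def ofP (p : R[X]) : PR R := p

lemma toP_add (p q : PR R) : toP (p + q) = toP p + toP q := rfl
lemma toP_smul (r : R) (p : PR R) : toP (r • p) = Polynomial.C r * toP p := rfl
lemma ofP_toP (p : PR R) : ofP (toP p) = p := rfl
lemma toP_ofP (p : R[X]) : toP (ofP p) = p := rfl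
lemma ofP_add (p q : R[X]) : ofP (p + q) = ofP p + ofP q := rfl
lemma ofP_C_mul (r : R) (p : R[X]) : ofP (Polynomial.C r * p) = r • ofP p := rfl

variable (R)

/-- multiplication by `x`. -/
noncomputable def mulX : PR R →ₗ[R] PR R where
  toFun p := ofP (Polynomial.X * toP p)
  map_add' p q := by rw [toP_add, mul_add, ofP_add]
  map_smul' r p := by
    rw [toP_smul, ← ofP_C_mul, RingHom.id_apply]
    congr 1
    ring

/-- division by `x`. -/
noncomputable def dvX : PR R →ₗ[R] PR R where
  toFun p := ofP (Polynomial.divX (toP p))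
  map_add' p q := by rw [toP_add, Polynomial.divX_add, ofP_add]
  map_smul' r p := by
    rw [toP_smul, Polynomial.divX_C_mul, ofP_C_mul, RingHom.id_apply]

/-- the constant coefficient. -/
noncomputable def ev0 : PR R →ₗ[R] R where
  toFun p := (toP p).coeff 0
  map_add' p q := by rw [toP_add, Polynomial.coeff_add]
  map_smul' r p := by
    rw [toP_smul, Polynomial.coeff_C_mul, RingHom.id_apply, smul_eq_mul]

/-- constants. -/
noncomputable def cst : R →ₗ[R] PR R where
  toFun r := ofP (Polynomial.C r)
  map_add' r s := by rw [Polynomial.C_add, ofP_add]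
  map_smul' r s := by
    rw [smul_eq_mul, Polynomial.C_mul, ofP_C_mul, RingHom.id_apply]

lemma divX_X_mul (q : R[X]) : Polynomial.divX (Polynomial.X * q) = q := by
  ext n
  rw [Polynomial.coeff_divX, Polynomial.coeff_X_mul]

lemma dvX_mulX_apply (p : PR R) : (dvX R) ((mulX R) p) = p := by
  have h : (dvX R) ((mulX R) p) = ofP (Polynomial.divX (Polynomial.X * toP p)) := rfl
  rw [h, divX_X_mul]
  rfl

lemma dvX_comp_mulX : (dvX R).comp (mulX R) = LinearMap.id :=
  LinearMap.ext fun p => dvX_mulX_apply R p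

lemma ev0_mulX_apply (p : PR R) : (ev0 R) ((mulX R) p) = 0 := by
  have h : (ev0 R) ((mulX R) p) = (Polynomial.X * toP p).coeff 0 := rfl
  rw [h, mul_comm, Polynomial.coeff_mul_X_zero]

lemma ev0_comp_mulX : (ev0 R).comp (mulX R) = 0 :=
  LinearMap.ext fun p => ev0_mulX_apply R p

lemma decomp_apply (p : PR R) : (mulX R) ((dvX R) p) + (cst R) ((ev0 R) p) = p := by
  have h : (mulX R) ((dvX R) p) + (cst R) ((ev0 R) p) =
      ofP (Polynomial.X * Polynomial.divX (toP p) + Polynomial.C ((toP p).coeff 0)) := rfl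
  rw [h, mul_comm, Polynomial.divX_mul_X_add]
  rfl

lemma decomp : (mulX R).comp (dvX R) + (cst R).comp (ev0 R) = LinearMap.id :=
  LinearMap.ext fun p => decomp_apply R p


section tau

variable (M : ModuleCat.{u} R)

/-- `M` with `x` acting by zero. -/
noncomputable abbrev M0 : ModuleCat.{u} R[X] := (ModuleCat.restrictScalars (eR R)).obj M

/-- the identity `M → M0|_R`. -/
noncomputable def iotaM : M ⟶ (ModuleCat.restrictScalars (cR R)).obj (M0 R M) :=
  ModuleCat.ofHom (Y := (ModuleCat.restrictScalars (cR R)).obj (M0 R M))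
    { toFun := fun m => m
      map_add' := fun _ _ => rfl
      map_smul' := fun r m => by
        change r • m = (Polynomial.eval 0 (Polynomial.C r)) • m
        rw [Polynomial.eval_C] }

/-- `M[x] → M`, `x ↦ 0`. -/
noncomputable def tauM : (ModuleCat.extendScalars (cR R)).obj M ⟶ M0 R M :=
  ((ModuleCat.extendRestrictScalarsAdj (cR R)).homEquiv M (M0 R M)).symm (iotaM R M)

lemma tauM_one_tmul (m : M) : (tauM R M).hom ((1 : R[X]) ⊗ₜ[R] m) = m := by
  have h := ModuleCat.extendRestrictScalarsAdj_homEquiv_apply (f := cR R) (tauM R M) m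
  rw [tauM, Equiv.apply_symm_apply] at h
  exact h.symm

end tau


section tau2

variable (M : ModuleCat.{u} R)

/-- an element of the tensor product as an element of the extension of scalars. -/
def toExt (t : PR R ⊗[R] M) : (ModuleCat.extendScalars (cR R)).obj M := t

lemma toExt_add (a b : PR R ⊗[R] M) : toExt R M (a + b) = toExt R M a + toExt R M b := rfl
lemma toExt_zero : toExt R M 0 = 0 := rfl

lemma tauM_tmul (p : R[X]) (m : M) :
    (tauM R M).hom (toExt R M (ofP p ⊗ₜ[R] m)) = (Polynomial.eval 0 p) • m := by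
  have h1 : toExt R M (ofP p ⊗ₜ[R] m) = p • toExt R M (ofP 1 ⊗ₜ[R] m) := by
    have := ModuleCat.ExtendScalars.smul_tmul (f := cR R) (M := M) p 1 m
    rw [mul_one] at this
    exact this.symm
  rw [h1, map_smul]
  have h2 : (tauM R M).hom (toExt R M (ofP 1 ⊗ₜ[R] m)) = m := tauM_one_tmul R M m
  rw [h2]
  rfl

/-- `tauM` in terms of the constant coefficient. -/
lemma tauM_eq (t : PR R ⊗[R] M) :
    (tauM R M).hom (toExt R M t) = TensorProduct.lid R M (LinearMap.rTensor M (ev0 R) t) := by
  induction t using TensorProduct.induction_on with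
  | zero =>
    rw [toExt_zero, map_zero, map_zero, map_zero]
    rfl
  | tmul p m =>
    rw [LinearMap.rTensor_tmul, TensorProduct.lid_tmul]
    have h := tauM_tmul R M (toP p) m
    rw [← Polynomial.coeff_zero_eq_eval_zero] at h
    exact h
  | add a b ha hb =>
    rw [toExt_add, map_add, map_add, map_add, ha, hb]
    rfl

/-- multiplication by `x` on `M[x]` in terms of `mulX`. -/
lemma X_smul_eq (t : PR R ⊗[R] M) :
    (Polynomial.X : R[X]) • toExt R M t = toExt R M (LinearMap.rTensor M (mulX R) t) := by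
  induction t using TensorProduct.induction_on with
  | zero => rw [toExt_zero, smul_zero, map_zero, toExt_zero]
  | tmul p m =>
    rw [LinearMap.rTensor_tmul]
    rfl
  | add a b ha hb => rw [toExt_add, smul_add, map_add, toExt_add, ha, hb]

end tau2


section ses

variable (M : ModuleCat.{u} R)

/-- multiplication by `x` on `M[x]`. -/
noncomputable def xM : (ModuleCat.extendScalars (cR R)).obj M ⟶ (ModuleCat.extendScalars (cR R)).obj M :=
  (Polynomial.X : R[X]) • 𝟙 _

lemma xM_apply (t : (ModuleCat.extendScalars (cR R)).obj M) :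
    (xM R M).hom t = (Polynomial.X : R[X]) • t := rfl

lemma X_smul_M0 (y : M0 R M) : (Polynomial.X : R[X]) • y = 0 := by
  change (Polynomial.eval 0 (Polynomial.X : R[X])) • (show M from y) = 0
  rw [Polynomial.eval_X, zero_smul]

lemma xM_tauM : xM R M ≫ tauM R M = 0 := by
  refine ModuleCat.hom_ext (LinearMap.ext fun t => ?_)
  change (tauM R M).hom ((xM R M).hom t) = 0
  rw [xM_apply, map_smul, X_smul_M0]

/-- the short complex `M[x] → M[x] → M`. -/
noncomputable def sesM : ShortComplex (ModuleCat.{u} R[X]) :=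
  ShortComplex.mk (xM R M) (tauM R M) (xM_tauM R M)

lemma rTensor_dvX_mulX (t : PR R ⊗[R] M) :
    LinearMap.rTensor M (dvX R) (LinearMap.rTensor M (mulX R) t) = t := by
  rw [← LinearMap.comp_apply, ← LinearMap.rTensor_comp, dvX_comp_mulX, LinearMap.rTensor_id,
    LinearMap.id_apply]

lemma rTensor_decomp (t : PR R ⊗[R] M) :
    LinearMap.rTensor M (mulX R) (LinearMap.rTensor M (dvX R) t) +
      LinearMap.rTensor M (cst R) (LinearMap.rTensor M (ev0 R) t) = t := by
  rw [← LinearMap.comp_apply, ← LinearMap.comp_apply, ← LinearMap.rTensor_comp,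
    ← LinearMap.rTensor_comp, ← LinearMap.add_apply, ← LinearMap.rTensor_add, decomp,
    LinearMap.rTensor_id, LinearMap.id_apply]

lemma sesM_shortExact : (sesM R M).ShortExact := by
  apply ModuleCat.shortComplex_shortExact
  · -- exactness
    intro (y' : (ModuleCat.extendScalars (cR R)).obj M)
    obtain ⟨y, rfl⟩ : ∃ y, toExt R M y = y' := ⟨y', rfl⟩
    constructor
    · intro hy
      have h1 : (tauM R M).hom (toExt R M y) = 0 := hy
      rw [tauM_eq] at h1
      have h2 : LinearMap.rTensor M (ev0 R) y = 0 := by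
        apply (TensorProduct.lid R M).injective
        rw [h1, map_zero]
        rfl
      refine ⟨toExt R M (LinearMap.rTensor M (dvX R) y), ?_⟩
      change (xM R M).hom _ = toExt R M y
      rw [xM_apply, X_smul_eq]
      have h3 := rTensor_decomp R M y
      rw [h2, map_zero, add_zero] at h3
      exact congrArg (toExt R M) h3
    · rintro ⟨t, rfl⟩
      exact congrArg (fun f => f.hom t) (xM_tauM R M)
  · -- injectivity
    intro (a' : (ModuleCat.extendScalars (cR R)).obj M) (b' : (ModuleCat.extendScalars (cR R)).obj M) hab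
    obtain ⟨a, rfl⟩ : ∃ a, toExt R M a = a' := ⟨a', rfl⟩
    obtain ⟨b, rfl⟩ : ∃ b, toExt R M b = b' := ⟨b', rfl⟩
    have h1 : (Polynomial.X : R[X]) • toExt R M a = (Polynomial.X : R[X]) • toExt R M b := hab
    rw [X_smul_eq, X_smul_eq] at h1
    have h2 : LinearMap.rTensor M (mulX R) a = LinearMap.rTensor M (mulX R) b := h1
    have h3 := congrArg (LinearMap.rTensor M (dvX R)) h2
    rw [rTensor_dvX_mulX, rTensor_dvX_mulX] at h3
    exact congrArg (toExt R M) h3
  · -- surjectivity
    intro (m : M)
    exact ⟨toExt R M (ofP 1 ⊗ₜ[R] m), tauM_one_tmul R M m⟩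

end ses


section nat

/-- `tauM` as a natural transformation. -/
noncomputable def tau : ModuleCat.extendScalars.{u, u, u} (cR R) ⟶ ModuleCat.restrictScalars.{u} (eR R) where
  app M := tauM R M
  naturality M M' g := by
    apply ModuleCat.ExtendScalars.hom_ext
    intro m
    have h1 : (ModuleCat.extendScalars (cR R)).map g (toExt R M (ofP 1 ⊗ₜ[R] m)) =
        toExt R M' (ofP 1 ⊗ₜ[R] g.hom m) := rfl
    change (tauM R M').hom ((ModuleCat.extendScalars (cR R)).map g (toExt R M (ofP 1 ⊗ₜ[R] m))) =
      g.hom ((tauM R M).hom (toExt R M (ofP 1 ⊗ₜ[R] m)))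
    rw [h1]
    have h2 : (tauM R M').hom (toExt R M' (ofP 1 ⊗ₜ[R] g.hom m)) = g.hom m :=
      tauM_one_tmul R M' (g.hom m)
    have h3 : (tauM R M).hom (toExt R M (ofP 1 ⊗ₜ[R] m)) = m := tauM_one_tmul R M m
    rw [h2, h3]

end nat


section complexes

variable (E : CochainComplex (ModuleCat.{u} R) ℤ)

/-- `E[x]`. -/
noncomputable abbrev EP : CochainComplex (ModuleCat.{u} R[X]) ℤ :=
  ((ModuleCat.extendScalars.{u, u, u} (cR R)).mapHomologicalComplex (ComplexShape.up ℤ)).obj E

/-- `E` with `x` acting by zero. -/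
noncomputable abbrev E0 : CochainComplex (ModuleCat.{u} R[X]) ℤ :=
  ((ModuleCat.restrictScalars.{u} (eR R)).mapHomologicalComplex (ComplexShape.up ℤ)).obj E

/-- multiplication by `x` on `E[x]`. -/
noncomputable def xE : EP R E ⟶ EP R E := (Polynomial.X : R[X]) • 𝟙 _

/-- `E[x] → E`. -/
noncomputable def tauE : EP R E ⟶ E0 R E :=
  (NatTrans.mapHomologicalComplex (tau R) (ComplexShape.up ℤ)).app E

lemma xE_tauE : xE R E ≫ tauE R E = 0 := by
  ext i : 1
  exact xM_tauM R (E.X i)

/-- the short exact sequence `0 → E[x] → E[x] → E → 0`. -/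
noncomputable def sesE : ShortComplex (CochainComplex (ModuleCat.{u} R[X]) ℤ) :=
  ShortComplex.mk (xE R E) (tauE R E) (xE_tauE R E)

lemma sesE_shortExact : (sesE R E).ShortExact :=
  HomologicalComplex.shortExact_of_degreewise_shortExact _ (fun i => sesM_shortExact R (E.X i))

end complexes

end PolyZero
end Groth.Agent.Lib.Helper6
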