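import Groth.Agent.Lib.Helper6.PolyZero
import Groth.Agent.Lib.Helper6.LBCPC
import Groth.Agent.Lib.Helper26.AdjKProj

set_option autoImplicit false
universe u

open CategoryTheory Limits TensorProduct Pretriangulated DerivedCategory

namespace Groth.Agent.Lib.Helper6
namespace PolyZeroD

attribute [local instance] HasDerivedCategory.standard

open PolyZero Groth.Agent.Lib.Helper32

section nat

variable {A B : Type u} [CommRing A] [CommRing B] (φ : A →+* B) [DRing.HasLBaseChange φ]

lemma lbcCounit_naturality {E E' : DRing.Cx A} (f : E ⟶ E') :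
    (DRing.LBaseChange φ).map (Q.map f) ≫ LBC.lbcCounit φ E' =
      LBC.lbcCounit φ E ≫ Q.map ((LBC.extCx φ).map f) :=
  ((DRing.baseChangeKh φ).totalLeftDerivedCounit DerivedCategory.Qh
    (HomotopyCategory.quasiIso (ModuleCat.{u} A) (ComplexShape.up ℤ))).naturality
      ((HomotopyCategory.quotient _ _).map f)

lemma lbc_map_eq_zero {E E' : DRing.Cx A} [E.IsKProjective] [E'.IsKProjective] (f : E ⟶ E')
    (hf : (LBC.extCx φ).map f = 0) : (DRing.LBaseChange φ).map (Q.map f) = 0 := by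
  have h := lbcCounit_naturality φ f
  rw [hf, Functor.map_zero, Limits.comp_zero] at h
  have := LBC.isIso_lbcCounit φ E'
  rw [← cancel_mono (LBC.lbcCounit φ E'), h, Limits.zero_comp]

end nat

variable (R : Type u) [CommRing R]

/-- `(- ⊗_R R[x]) ⊗_{R[x]} R ≅ id`. -/
noncomputable def compIso :
    ModuleCat.extendScalars.{u, u, u} (cR R) ⋙ ModuleCat.extendScalars.{u, u, u} (eR R) ≅
      𝟭 (ModuleCat.{u} R) :=
  (ModuleCat.extendScalarsComp (cR R) (eR R)).symm ≪≫
    eqToIso (by rw [eR_comp_cR]) ≪≫ ModuleCat.extendScalarsId R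

/-- `E[x] ⊗_{R[x]} R ≅ E`. -/
noncomputable def compIsoCx (E : CochainComplex (ModuleCat.{u} R) ℤ) :
    (LBC.extCx (eR R)).obj (EP R E) ≅ E :=
  HomologicalComplex.Hom.isoOfComponents (fun i => (compIso R).app (E.X i))
    (fun i j _ => ((compIso R).hom.naturality (E.d i j)).symm)

lemma one_tmul_smul_eq_zero {A B : Type u} [CommRing A] [CommRing B] (f : A →+* B)
    (N : Type u) [AddCommGroup N] [Module A N] (a : A) (ha : f a = 0) (n : N) :
    letI : Module A B := Module.compHom B f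
    ((1 : B) ⊗ₜ[A] (a • n) : B ⊗[A] N) = 0 := by
  letI : Module A B := Module.compHom B f
  rw [← TensorProduct.smul_tmul]
  have h : a • (1 : B) = 0 := by
    change f a * 1 = 0
    rw [ha, zero_mul]
  rw [h, TensorProduct.zero_tmul]

lemma ext_map_xM (M : ModuleCat.{u} R) :
    (ModuleCat.extendScalars.{u, u, u} (eR R)).map (xM R M) = 0 := by
  apply ModuleCat.ExtendScalars.hom_ext
  intro t
  exact one_tmul_smul_eq_zero (eR R) ((ModuleCat.extendScalars (cR R)).obj M) Polynomial.X
    (by simp) t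

lemma extCx_map_xE (E : CochainComplex (ModuleCat.{u} R) ℤ) :
    (LBC.extCx (eR R)).map (xE R E) = 0 := by
  ext i : 1
  exact ext_map_xM R (E.X i)

variable [DRing.HasLBaseChange (eR R)]

theorem main (K : Dual.D R) [HasBinaryBiproduct K ((shiftFunctor (Dual.D R) (1 : ℤ)).obj K)] :
    Nonempty ((DRing.LBaseChange (eR R)).obj ((DRing.restrictD (eR R)).obj K) ≅
      K ⊞ (shiftFunctor (Dual.D R) (1 : ℤ)).obj K) := by
  obtain ⟨E, hE, ⟨e⟩⟩ := LBC.exists_kproj_iso K
  haveI := hE
  haveI : (EP R E).IsKProjective :=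
    Groth.Agent.Lib.Helper26.AdjKProj.isKProjective_map
      (ModuleCat.extendRestrictScalarsAdj.{u, u, u} (cR R)) E
  letI := LBCPC.lbcCommShift (eR R)
  haveI := LBCPC.lbc_isTriangulated (eR R)
  let F := DRing.LBaseChange (eR R)
  let T := DerivedCategory.triangleOfSES (sesE_shortExact R E)
  have hT : T ∈ distTriang _ := DerivedCategory.triangleOfSES_distinguished _
  have hT' := F.map_distinguished T hT
  have hrot := rot_of_distTriang _ hT'
  have hzero : (F.mapTriangle.obj T).rotate.mor₃ = 0 := by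
    have h0 : F.map (Q.map (xE R E)) = 0 :=
      lbc_map_eq_zero (eR R) (xE R E) (extCx_map_xE R E)
    have h1 : (F.mapTriangle.obj T).rotate.mor₃ =
        -(shiftFunctor _ (1 : ℤ)).map (F.map (Q.map (xE R E))) := rfl
    rw [h1, h0, Functor.map_zero]
    exact neg_zero
  obtain ⟨e2, -, -⟩ := exists_iso_binaryBiproduct_of_distTriang _ hrot hzero
  let eY : F.obj (Q.obj (EP R E)) ≅ K :=
    LBC.lbcIso (eR R) (EP R E) ≪≫ Q.mapIso (compIsoCx R E) ≪≫ e
  let e0 : (DRing.restrictD (eR R)).obj K ≅ Q.obj (E0 R E) :=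
    (DRing.restrictD (eR R)).mapIso e.symm ≪≫
      (ModuleCat.restrictScalars.{u} (eR R)).mapDerivedCategoryFactors.app E
  exact ⟨F.mapIso e0 ≪≫ e2 ≪≫ biprod.mapIso eY ((shiftFunctor _ (1 : ℤ)).mapIso eY)⟩

end PolyZeroD
end Groth.Agent.Lib.Helper6
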