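import Mathlib
import Groth.Prelude.Def_DerCA
import Groth.Agent.Lib.Helper6.ProSys

set_option autoImplicit false
universe w v u v' u'
open CategoryTheory CategoryTheory.Limits Opposite ZeroObject

namespace Groth.Agent.Lib.Helper6
namespace ProSys

section ProIsoBasic
variable {C : Type u} [Category.{v} C]

lemma isProIso_of_isIso {X Y : ARSys.PS C} (f : X ⟶ Y) [IsIso f] : DerCA.IsProIso f := by
  intro n
  refine ⟨n, le_rfl, (inv f).app (op n), ?_, ?_⟩
  · rw [← NatTrans.comp_app, IsIso.hom_inv_id]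
    simp [ARSys.tr]
  · rw [← NatTrans.comp_app, IsIso.inv_hom_id]
    simp [ARSys.tr]

lemma isProIso_comp {X Y Z : ARSys.PS C} {f : X ⟶ Y} {g : Y ⟶ Z} (hf : DerCA.IsProIso f)
    (hg : DerCA.IsProIso g) : DerCA.IsProIso (f ≫ g) := by
  intro n
  obtain ⟨m₁, h₁, b₁, e₁, e₁'⟩ := hf n
  obtain ⟨m₂, h₂, b₂, e₂, e₂'⟩ := hg m₁
  refine ⟨m₂, h₁.trans h₂, b₂ ≫ b₁, ?_, ?_⟩
  · rw [NatTrans.comp_app, Category.assoc, reassoc_of% e₂, ← reassoc_of% (tr_nat f h₂), e₁, tr_tr]
  · rw [NatTrans.comp_app, Category.assoc, reassoc_of% e₁', tr_nat g h₁, reassoc_of% e₂', tr_tr]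

/-- Functors preserve pro-isomorphisms. -/
lemma isProIso_whiskerRight {C' : Type u'} [Category.{v'} C'] (F : C ⥤ C') {X Y : ARSys.PS C}
    {f : X ⟶ Y} (hf : DerCA.IsProIso f) : DerCA.IsProIso (Functor.whiskerRight f F) := by
  intro n
  obtain ⟨m, h, b, e, e'⟩ := hf n
  refine ⟨m, h, F.map b, ?_, ?_⟩
  · dsimp [ARSys.tr] at e ⊢
    rw [← F.map_comp, e]
  · dsimp [ARSys.tr] at e' ⊢
    rw [← F.map_comp, e']

lemma isProIso_of_isZero [HasZeroMorphisms C] {X Y : ARSys.PS C} (f : X ⟶ Y)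
    (hX : ∀ n : ℕ, IsZero (X.obj (op n))) (hY : ∀ n : ℕ, IsZero (Y.obj (op n))) :
    DerCA.IsProIso f := by
  intro n
  exact ⟨n, le_rfl, 0, (hX n).eq_of_src _ _, (hY n).eq_of_src _ _⟩

end ProIsoBasic

section InjSurj
variable {C : Type u} [Category.{v} C]

/-- "surjectivity on ind-Hom" for a morphism of systems. -/
def Surj {P Q : ARSys.PS C} (φ : P ⟶ Q) : Prop :=
  ∀ (n : ℕ) (W : C) (v : P.obj (op n) ⟶ W), ∃ (k : ℕ) (hk : n ≤ k) (u : Q.obj (op k) ⟶ W),
    φ.app (op k) ≫ u = ARSys.tr P hk ≫ v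

/-- "injectivity on ind-Hom" for a morphism of systems. -/
def Inj [HasZeroMorphisms C] {P Q : ARSys.PS C} (φ : P ⟶ Q) : Prop :=
  ∀ (n : ℕ) (W : C) (u : Q.obj (op n) ⟶ W), φ.app (op n) ≫ u = 0 →
    ∃ (k : ℕ) (hk : n ≤ k), ARSys.tr Q hk ≫ u = 0

lemma surj_of_isProIso {P Q : ARSys.PS C} {φ : P ⟶ Q} (h : DerCA.IsProIso φ) : Surj φ := by
  intro n W v
  obtain ⟨m, hm, b, e, -⟩ := h n
  exact ⟨m, hm, b ≫ v, by rw [reassoc_of% e]⟩

lemma inj_of_isProIso [HasZeroMorphisms C] {P Q : ARSys.PS C} {φ : P ⟶ Q}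
    (h : DerCA.IsProIso φ) : Inj φ := by
  intro n W u hu
  obtain ⟨m, hm, b, -, e'⟩ := h n
  exact ⟨m, hm, by rw [← e', Category.assoc, hu, comp_zero]⟩

lemma isProIso_of_surj_of_inj [Preadditive C] {P Q : ARSys.PS C} {φ : P ⟶ Q}
    (hs : Surj φ) (hi : Inj φ) : DerCA.IsProIso φ := by
  intro n
  obtain ⟨k, hk, u, hu⟩ := hs n _ (𝟙 (P.obj (op n)))
  rw [Category.comp_id] at hu
  obtain ⟨k', hk', hd⟩ := hi k _ (u ≫ φ.app (op n) - ARSys.tr Q hk) (by
    rw [Preadditive.comp_sub, reassoc_of% hu, tr_nat φ hk, sub_self])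
  rw [Preadditive.comp_sub, sub_eq_zero, tr_tr] at hd
  refine ⟨k', hk.trans hk', ARSys.tr Q hk' ≫ u, ?_, ?_⟩
  · rw [← reassoc_of% (tr_nat φ hk'), hu, tr_tr]
  · rw [Category.assoc, hd]

end InjSurj

section Five

open CategoryTheory.Pretriangulated

variable {D : Type u} [Category.{v} D] [Preadditive D] [HasZeroObject D] [HasShift D ℤ]
    [∀ n : ℤ, (shiftFunctor D n).Additive] [Pretriangulated D]

/-- exactness of `Hom(-, W)` at the first vertex of a distinguished triangle. -/
lemma exists_extension (T : Triangle D) (hT : T ∈ distTriang D) {W : D} (u : T.obj₁ ⟶ W)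
    (hu : T.mor₃ ≫ u⟦(1 : ℤ)⟧' = 0) : ∃ ũ : T.obj₂ ⟶ W, u = T.mor₁ ≫ ũ := by
  have hex : ∃ g : (T.obj₂)⟦(1 : ℤ)⟧ ⟶ W⟦(1 : ℤ)⟧, u⟦(1 : ℤ)⟧' = (-T.mor₁⟦(1 : ℤ)⟧') ≫ g :=
    Triangle.yoneda_exact₃ T.rotate (rot_of_distTriang _ hT) (u⟦(1 : ℤ)⟧') hu
  obtain ⟨g, hg⟩ := hex
  refine ⟨-(shiftFunctor D (1 : ℤ)).preimage g, ?_⟩
  apply (shiftFunctor D (1 : ℤ)).map_injective
  rw [hg, Functor.map_comp, Functor.map_neg, Functor.map_preimage]
  simp

variable {X' X X'' Y' Y Y'' : ARSys.PS D}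
  (pX : X' ⟶ X) (qX : X ⟶ X'') (hX : X'' ⟶ X' ⋙ shiftFunctor D (1 : ℤ))
  (pY : Y' ⟶ Y) (qY : Y ⟶ Y'') (hY : Y'' ⟶ Y' ⋙ shiftFunctor D (1 : ℤ))
  (hTX : ∀ n : ℕ, Triangle.mk (pX.app (op n)) (qX.app (op n)) (hX.app (op n)) ∈ distTriang D)
  (hTY : ∀ n : ℕ, Triangle.mk (pY.app (op n)) (qY.app (op n)) (hY.app (op n)) ∈ distTriang D)
  (f' : X' ⟶ Y') (f : X ⟶ Y) (f'' : X'' ⟶ Y'')
  (c1 : pX ≫ f = f' ≫ pY) (c2 : qX ≫ f'' = f ≫ qY)
  (c3 : hX ≫ Functor.whiskerRight f' (shiftFunctor D (1 : ℤ)) = f'' ≫ hY)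

include hTX hTY c1 c2 c3 in
theorem inj_five (hi' : Inj f') (hi'' : Inj f'')
    (hs1 : Surj (Functor.whiskerRight f' (shiftFunctor D (1 : ℤ)))) : Inj f := by
  intro n W u hu
  have h1 : f'.app (op n) ≫ (pY.app (op n) ≫ u) = 0 := by
    rw [← Category.assoc, ← NatTrans.comp_app, ← c1, NatTrans.comp_app, Category.assoc, hu,
      comp_zero]
  obtain ⟨k₁, hk₁, e₁⟩ := hi' n W _ h1
  have h1' : pY.app (op k₁) ≫ (ARSys.tr Y hk₁ ≫ u) = 0 := by
    rw [← reassoc_of% (tr_nat pY hk₁)]
    exact e₁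
  have hw : ∃ w : Y''.obj (op k₁) ⟶ W, ARSys.tr Y hk₁ ≫ u = qY.app (op k₁) ≫ w :=
    Triangle.yoneda_exact₂ _ (hTY k₁) _ h1'
  obtain ⟨w, hw⟩ := hw
  have h2 : qX.app (op k₁) ≫ (f''.app (op k₁) ≫ w) = 0 := by
    rw [← Category.assoc, ← NatTrans.comp_app, c2, NatTrans.comp_app, Category.assoc, ← hw,
      ← reassoc_of% (tr_nat f hk₁), hu, comp_zero]
  have hr : ∃ r : (X'.obj (op k₁))⟦(1 : ℤ)⟧ ⟶ W, f''.app (op k₁) ≫ w = hX.app (op k₁) ≫ r :=
    Triangle.yoneda_exact₃ _ (hTX k₁) _ h2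
  obtain ⟨r, hr⟩ := hr
  obtain ⟨k₂, hk₂, r', er'⟩ := hs1 k₁ W r
  have h3 : f''.app (op k₂) ≫ (ARSys.tr Y'' hk₂ ≫ w - hY.app (op k₂) ≫ r') = 0 := by
    rw [Preadditive.comp_sub, ← reassoc_of% (tr_nat f'' hk₂), hr,
      ← Category.assoc (f''.app _) (hY.app _), ← NatTrans.comp_app, ← c3, NatTrans.comp_app,
      Category.assoc, er', ← Category.assoc (ARSys.tr X'' hk₂), tr_nat hX hk₂, Category.assoc,
      sub_self]
  obtain ⟨k₃, hk₃, e₃⟩ := hi'' k₂ W _ h3
  refine ⟨k₃, hk₁.trans (hk₂.trans hk₃), ?_⟩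
  rw [Preadditive.comp_sub, sub_eq_zero] at e₃
  have hqh : qY.app (op k₃) ≫ hY.app (op k₃) = 0 := comp_distTriang_mor_zero₂₃ _ (hTY k₃)
  calc ARSys.tr Y (hk₁.trans (hk₂.trans hk₃)) ≫ u
      = ARSys.tr Y (hk₂.trans hk₃) ≫ ARSys.tr Y hk₁ ≫ u := by
        rw [reassoc_of% (tr_tr Y hk₁ (hk₂.trans hk₃))]
    _ = ARSys.tr Y (hk₂.trans hk₃) ≫ qY.app (op k₁) ≫ w := by rw [hw]
    _ = qY.app (op k₃) ≫ ARSys.tr Y'' (hk₂.trans hk₃) ≫ w := by
        rw [reassoc_of% (tr_nat qY (hk₂.trans hk₃))]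
    _ = qY.app (op k₃) ≫ ARSys.tr Y'' hk₃ ≫ ARSys.tr Y'' hk₂ ≫ w := by
        rw [reassoc_of% (tr_tr Y'' hk₂ hk₃)]
    _ = qY.app (op k₃) ≫ ARSys.tr Y'' hk₃ ≫ hY.app (op k₂) ≫ r' := by rw [e₃]
    _ = qY.app (op k₃) ≫ hY.app (op k₃) ≫
          ARSys.tr (Y' ⋙ shiftFunctor D (1 : ℤ)) hk₃ ≫ r' := by
        rw [← Category.assoc (ARSys.tr Y'' hk₃), tr_nat hY hk₃, Category.assoc]
    _ = 0 := by rw [reassoc_of% hqh, zero_comp]

include hTX hTY c1 c2 c3 in
theorem surj_five (hs' : Surj f') (hs'' : Surj f'') (hi'' : Inj f'') : Surj f := by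
  intro n W v
  obtain ⟨k₁, hk₁, u', eu'⟩ := hs' n W (pX.app (op n) ≫ v)
  have hhp : hX.app (op k₁) ≫ (pX.app (op k₁))⟦(1 : ℤ)⟧' = 0 :=
    comp_distTriang_mor_zero₃₁ _ (hTX k₁)
  have h2 : f''.app (op k₁) ≫ (hY.app (op k₁) ≫ u'⟦(1 : ℤ)⟧') = 0 := by
    rw [← Category.assoc, ← NatTrans.comp_app, ← c3, NatTrans.comp_app, Category.assoc,
      Functor.whiskerRight_app, ← Functor.map_comp, eu', ← Category.assoc (ARSys.tr X' hk₁),
      tr_nat pX hk₁, Category.assoc, Functor.map_comp, reassoc_of% hhp, zero_comp]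
  obtain ⟨k₂, hk₂, e₂⟩ := hi'' k₁ _ _ h2
  have h2' : hY.app (op k₂) ≫ (ARSys.tr Y' hk₂ ≫ u')⟦(1 : ℤ)⟧' = 0 := by
    rw [← Category.assoc, tr_nat hY hk₂, Category.assoc] at e₂
    rw [Functor.map_comp]
    exact e₂
  have hex : ∃ ũ : Y.obj (op k₂) ⟶ W, ARSys.tr Y' hk₂ ≫ u' = pY.app (op k₂) ≫ ũ :=
    exists_extension _ (hTY k₂) (ARSys.tr Y' hk₂ ≫ u') h2'
  obtain ⟨ũ, hũ⟩ := hex
  have h3 : pX.app (op k₂) ≫ (f.app (op k₂) ≫ ũ - ARSys.tr X (hk₁.trans hk₂) ≫ v) = 0 := by
    rw [Preadditive.comp_sub, ← Category.assoc, ← NatTrans.comp_app, c1, NatTrans.comp_app,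
      Category.assoc, ← hũ, ← reassoc_of% (tr_nat f' hk₂), eu',
      reassoc_of% (tr_tr X' hk₁ hk₂), ← Category.assoc (ARSys.tr X' _), tr_nat pX (hk₁.trans hk₂),
      Category.assoc, sub_self]
  have he : ∃ e : X''.obj (op k₂) ⟶ W,
      f.app (op k₂) ≫ ũ - ARSys.tr X (hk₁.trans hk₂) ≫ v = qX.app (op k₂) ≫ e :=
    Triangle.yoneda_exact₂ _ (hTX k₂) _ h3
  obtain ⟨e, he⟩ := he
  obtain ⟨k₃, hk₃, e', ee'⟩ := hs'' k₂ W e
  refine ⟨k₃, hk₁.trans (hk₂.trans hk₃), ARSys.tr Y hk₃ ≫ ũ - qY.app (op k₃) ≫ e', ?_⟩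
  rw [Preadditive.comp_sub, ← reassoc_of% (tr_nat f hk₃),
    ← Category.assoc (f.app _) (qY.app _), ← NatTrans.comp_app, ← c2, NatTrans.comp_app,
    Category.assoc, ee', ← reassoc_of% (tr_nat qX hk₃), ← he, Preadditive.comp_sub,
    reassoc_of% (tr_tr X (hk₁.trans hk₂) hk₃)]
  abel

include hTX hTY c1 c2 c3 in
theorem isProIso_five (h' : DerCA.IsProIso f') (h'' : DerCA.IsProIso f'') : DerCA.IsProIso f :=
  isProIso_of_surj_of_inj
    (surj_five pX qX hX pY qY hY hTX hTY f' f f'' c1 c2 c3 (surj_of_isProIso h')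
      (surj_of_isProIso h'') (inj_of_isProIso h''))
    (inj_five pX qX hX pY qY hY hTX hTY f' f f'' c1 c2 c3 (inj_of_isProIso h')
      (inj_of_isProIso h'')
      (surj_of_isProIso (isProIso_whiskerRight (shiftFunctor D (1 : ℤ)) h')))

end Five

section Conj
variable {C : Type u} [Category.{v} C]

/-- Pro-isomorphisms are stable under conjugation by isomorphisms of systems. -/
lemma isProIso_of_conj {X Y X' Y' : ARSys.PS C} (eX : X ≅ X') (eY : Y ≅ Y') {f : X ⟶ Y}
    {f' : X' ⟶ Y'} (h : f ≫ eY.hom = eX.hom ≫ f') (hf : DerCA.IsProIso f) :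
    DerCA.IsProIso f' := by
  have e : f' = eX.inv ≫ f ≫ eY.hom := by rw [h, Iso.inv_hom_id_assoc]
  rw [e]
  exact isProIso_comp (isProIso_of_isIso _) (isProIso_comp hf (isProIso_of_isIso _))

end Conj

section DerivedProIso

variable {A : Type u} [Category.{v} A] [Abelian A] [HasDerivedCategory.{w} A]

open DerivedCategory

/-- A morphism of systems concentrated in a single degree `b` is a pro-isomorphism as soon as
it is one on `H^b`. -/
lemma isProIso_of_single {X Y : ARSys.PS (DerivedCategory A)} (f : X ⟶ Y) (b : ℤ)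
    (hXGE : ∀ n : ℕ, (X.obj (op n)).IsGE b) (hXLE : ∀ n : ℕ, (X.obj (op n)).IsLE b)
    (hYGE : ∀ n : ℕ, (Y.obj (op n)).IsGE b) (hYLE : ∀ n : ℕ, (Y.obj (op n)).IsLE b)
    (hH : DerCA.IsProIso (Functor.whiskerRight f (homologyFunctor A b))) :
    DerCA.IsProIso f := by
  obtain ⟨M, ⟨εX⟩⟩ := exists_lift_of_fullyFaithful (singleFunctor A b) X (fun n => by
    have := hXGE n
    have := hXLE n
    exact exists_iso_singleFunctor_obj_of_isGE_of_isLE (X.obj (op n)) b)
  obtain ⟨M', ⟨εY⟩⟩ := exists_lift_of_fullyFaithful (singleFunctor A b) Y (fun n => by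
    have := hYGE n
    have := hYLE n
    exact exists_iso_singleFunctor_obj_of_isGE_of_isLE (Y.obj (op n)) b)
  let g : M ⋙ singleFunctor A b ⟶ M' ⋙ singleFunctor A b := εX.inv ≫ f ≫ εY.hom
  let φ : M ⟶ M' := ((Functor.whiskeringRight ℕᵒᵖ _ _).obj (singleFunctor A b)).preimage g
  have hφ : Functor.whiskerRight φ (singleFunctor A b) = g :=
    ((Functor.whiskeringRight ℕᵒᵖ _ _).obj (singleFunctor A b)).map_preimage g
  have hfg : f ≫ εY.hom = εX.hom ≫ g := by
    simp [g]
  -- H^b(g) is a pro-isomorphism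
  have hg : DerCA.IsProIso (Functor.whiskerRight g (homologyFunctor A b)) :=
    isProIso_of_conj (Functor.isoWhiskerRight εX (homologyFunctor A b))
      (Functor.isoWhiskerRight εY (homologyFunctor A b)) (by
        dsimp
        rw [← Functor.whiskerRight_comp, ← Functor.whiskerRight_comp, hfg]) hH
  let e1 : ∀ (M : ARSys.PS A), (M ⋙ singleFunctor A b) ⋙ homologyFunctor A b ≅ M := fun M =>
    Functor.associator _ _ _ ≪≫
      Functor.isoWhiskerLeft M (singleFunctorCompHomologyFunctorIso A b) ≪≫ M.rightUnitor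
  have hφ' : DerCA.IsProIso φ := by
    refine isProIso_of_conj (e1 M) (e1 M') ?_ hg
    ext n
    rw [← hφ]
    dsimp [e1]
    simp only [Category.id_comp, Category.comp_id]
    exact ((singleFunctorCompHomologyFunctorIso A b).hom.naturality (φ.app n))
  have hg' : DerCA.IsProIso g := by
    rw [← hφ]
    exact isProIso_whiskerRight _ hφ'
  exact isProIso_of_conj εX.symm εY.symm (by
    dsimp
    rw [← cancel_mono εY.hom, Category.assoc, Iso.inv_hom_id, Category.comp_id, Category.assoc,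
      hfg, Iso.inv_hom_id_assoc]) hg'

/-- Dévissage: a morphism of systems of uniformly bounded amplitude which is a pro-isomorphism
on every cohomology object is a pro-isomorphism. -/
theorem isProIso_of_amplitude (N : ℕ) : ∀ (a b : ℤ) (_ : b < a + N)
    (X Y : ARSys.PS (DerivedCategory A)) (f : X ⟶ Y)
    (_ : ∀ n : ℕ, (X.obj (op n)).IsGE a) (_ : ∀ n : ℕ, (X.obj (op n)).IsLE b)
    (_ : ∀ n : ℕ, (Y.obj (op n)).IsGE a) (_ : ∀ n : ℕ, (Y.obj (op n)).IsLE b)
    (_ : ∀ i : ℤ, DerCA.IsProIso (Functor.whiskerRight f (homologyFunctor A i))),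
    DerCA.IsProIso f := by
  induction N with
  | zero =>
    intro a b hab X Y f hXGE hXLE hYGE hYLE _
    apply isProIso_of_isZero
    · intro n
      have := hXGE n
      have := hXLE n
      exact TStructure.t.isZero (X.obj (op n)) b a (by simpa using hab)
    · intro n
      have := hYGE n
      have := hYLE n
      exact TStructure.t.isZero (Y.obj (op n)) b a (by simpa using hab)
  | succ N ih =>
    intro a b hab X Y f hXGE hXLE hYGE hYLE hH
    let P : ARSys.PS (DerivedCategory A) → ARSys.PS (DerivedCategory A) :=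
      fun X => X ⋙ TStructure.t.truncLT b
    let Q : ARSys.PS (DerivedCategory A) → ARSys.PS (DerivedCategory A) :=
      fun X => X ⋙ TStructure.t.truncGE b
    let p : ∀ X : ARSys.PS (DerivedCategory A), P X ⟶ X := fun X =>
      Functor.whiskerLeft X (TStructure.t.truncLTι b) ≫ X.rightUnitor.hom
    let q : ∀ X : ARSys.PS (DerivedCategory A), X ⟶ Q X := fun X =>
      X.rightUnitor.inv ≫ Functor.whiskerLeft X (TStructure.t.truncGEπ b)
    let h : ∀ X : ARSys.PS (DerivedCategory A),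
        Q X ⟶ P X ⋙ shiftFunctor (DerivedCategory A) (1 : ℤ) := fun X =>
      Functor.whiskerLeft X (TStructure.t.truncGEδLT b) ≫ (Functor.associator _ _ _).inv
    let f' : P X ⟶ P Y := Functor.whiskerRight f (TStructure.t.truncLT b)
    let f'' : Q X ⟶ Q Y := Functor.whiskerRight f (TStructure.t.truncGE b)
    have hT : ∀ (X : ARSys.PS (DerivedCategory A)) (n : ℕ),
        Pretriangulated.Triangle.mk ((p X).app (op n)) ((q X).app (op n)) ((h X).app (op n)) ∈
          distTriang (DerivedCategory A) := by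
      intro X n
      refine Pretriangulated.isomorphic_distinguished _
        (TStructure.t.triangleLTGE_distinguished b (X.obj (op n))) _ ?_
      refine Pretriangulated.Triangle.isoMk _ _ (Iso.refl _) (Iso.refl _) (Iso.refl _) ?_ ?_ ?_
      · dsimp [p]
        rw [Category.comp_id]
        exact (Category.comp_id _).trans (Category.id_comp _).symm
      · dsimp [q]
        rw [Category.id_comp]
        exact (Category.comp_id _).trans (Category.id_comp _).symm
      · dsimp [h]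
        rw [Category.comp_id]
        refine ((congrArg (fun z => _ ≫ z) (CategoryTheory.Functor.map_id _ _)).trans
          (Category.comp_id _)).trans (Category.id_comp _).symm
    have c1 : p X ≫ f = f' ≫ p Y := by
      ext n
      dsimp [p, f']
      simp only [Category.comp_id]
      exact ((TStructure.t.truncLTι b).naturality (f.app n)).symm
    have c2 : q X ≫ f'' = f ≫ q Y := by
      ext n
      dsimp [q, f'']
      simp only [Category.id_comp]
      exact ((TStructure.t.truncGEπ b).naturality (f.app n)).symm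
    have c3 : h X ≫ Functor.whiskerRight f' (shiftFunctor (DerivedCategory A) (1 : ℤ)) =
        f'' ≫ h Y := by
      ext n
      dsimp [h, f', f'']
      simp only [Category.comp_id]
      exact ((TStructure.t.truncGEδLT b).naturality (f.app n)).symm
    -- f' is a pro-isomorphism by induction
    have hf' : DerCA.IsProIso f' := by
      apply ih a (b - 1) (by push_cast at hab; omega) (P X) (P Y) f'
      · intro n
        have := hXGE n
        dsimp [P]
        infer_instance
      · intro n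
        change ((TStructure.t.truncLT b).obj (X.obj (op n))).IsLE (b - 1)
        infer_instance
      · intro n
        have := hYGE n
        dsimp [P]
        infer_instance
      · intro n
        change ((TStructure.t.truncLT b).obj (Y.obj (op n))).IsLE (b - 1)
        infer_instance
      · intro i
        by_cases hi : i < b
        · have hiso : ∀ X : ARSys.PS (DerivedCategory A),
              IsIso (Functor.whiskerRight (p X) (homologyFunctor A i)) := by
            intro X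
            apply (config := { allowSynthFailures := true }) NatIso.isIso_of_isIso_app
            intro n
            have := isIso_homology_truncLTι (X.obj n) b i hi
            simpa [p] using this
          have := hiso X
          have := hiso Y
          refine isProIso_of_conj
            (asIso (Functor.whiskerRight (p X) (homologyFunctor A i))).symm
            (asIso (Functor.whiskerRight (p Y) (homologyFunctor A i))).symm ?_ (hH i)
          dsimp
          rw [IsIso.comp_inv_eq, Category.assoc, IsIso.eq_inv_comp,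
            ← Functor.whiskerRight_comp, ← Functor.whiskerRight_comp, c1]
        · apply isProIso_of_isZero
          · intro n
            have : ((TStructure.t.truncLT b).obj (X.obj (op n))).IsLE (b - 1) := inferInstance
            exact isZero_of_isLE ((TStructure.t.truncLT b).obj (X.obj (op n))) (b - 1) i
              (by omega)
          · intro n
            have : ((TStructure.t.truncLT b).obj (Y.obj (op n))).IsLE (b - 1) := inferInstance
            exact isZero_of_isLE ((TStructure.t.truncLT b).obj (Y.obj (op n))) (b - 1) i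
              (by omega)
    -- f'' is concentrated in degree b
    have hf'' : DerCA.IsProIso f'' := by
      apply isProIso_of_single f'' b
      · intro n
        dsimp [Q]
        infer_instance
      · intro n
        have := hXLE n
        dsimp [Q]
        infer_instance
      · intro n
        dsimp [Q]
        infer_instance
      · intro n
        have := hYLE n
        dsimp [Q]
        infer_instance
      · have hiso : ∀ X : ARSys.PS (DerivedCategory A),
            IsIso (Functor.whiskerRight (q X) (homologyFunctor A b)) := by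
          intro X
          apply (config := { allowSynthFailures := true }) NatIso.isIso_of_isIso_app
          intro n
          have := isIso_homology_truncGEπ (X.obj n) b b le_rfl
          simpa [q] using this
        have := hiso X
        have := hiso Y
        refine isProIso_of_conj
          (asIso (Functor.whiskerRight (q X) (homologyFunctor A b)))
          (asIso (Functor.whiskerRight (q Y) (homologyFunctor A b))) ?_ (hH b)
        dsimp
        rw [← Functor.whiskerRight_comp, ← Functor.whiskerRight_comp, c2]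
    exact isProIso_five (p X) (q X) (h X) (p Y) (q Y) (h Y) (hT X) (hT Y) f' f f'' c1 c2 c3
      hf' hf''

end DerivedProIso

end ProSys
end Groth.Agent.Lib.Helper6
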