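import Groth.Agent.Lib.Helper6.DimFun2

/-! Pointwise dualizing complexes, part 2: a codimension function on the spectrum of a Noetherian
ring of finite Krull dimension is bounded above (helper6). -/

set_option autoImplicit false
universe u

namespace Groth.Agent.Lib.Helper6
namespace PtDual

open Order

/-- abstract version: in a poset with ACC, finite heights and finitely many minimal elements, a
function rising by one along covers is bounded by `B + height`. -/
theorem le_add_height {α : Type*} [PartialOrder α] [WellFoundedGT α]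
    (hfin : ∀ q : α, Order.height q < ⊤) (n : α → ℤ)
    (hn : ∀ p q : α, p ⋖ q → n p = n q - 1) (B : ℤ) (hB : ∀ p : α, IsMin p → n p ≤ B) :
    ∀ (k : ℕ) (q : α), Order.height q = k → n q ≤ B + k := by
  intro k
  induction k using Nat.strong_induction_on with
  | _ k ih =>
    intro q hq
    by_cases hmin : IsMin q
    · have := hB q hmin
      omega
    · obtain ⟨p, hp⟩ := exists_covBy_of_wellFoundedGT hmin
      have h1 : n p = n q - 1 := hn p q hp
      have hlt : Order.height p < Order.height q := Order.height_strictMono hp.lt (hfin p)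
      obtain ⟨m, hm⟩ := ENat.ne_top_iff_exists.1 (hfin p).ne
      have hmk : m < k := by
        rw [← hm, hq] at hlt
        exact_mod_cast hlt
      have := ih m hmk p hm.symm
      omega

/-- a codimension function on `Spec A`, `A` Noetherian of finite Krull dimension, is bounded
above. -/
theorem exists_bound {A : Type u} [CommRing A] [IsNoetherianRing A] (hdim : ringKrullDim A < ⊤)
    (n : PrimeSpectrum A → ℤ) (hn : ∀ p q : PrimeSpectrum A, p ⋖ q → n p = n q - 1) :
    ∃ b : ℤ, ∀ q : PrimeSpectrum A, n q ≤ b := by
  haveI := DimFun.wellFoundedGT_primeSpectrum (A := A)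
  -- the finitely many minimal primes
  have hSfin : {x : PrimeSpectrum A | IsMin x}.Finite := PrimeSpectrum.finite_setOfPred_isMin A
  obtain ⟨B, hB⟩ := (hSfin.image n).bddAbove
  have hB' : ∀ p : PrimeSpectrum A, IsMin p → n p ≤ B := fun p hp =>
    hB ⟨p, hp, rfl⟩
  by_cases hne : Nonempty (PrimeSpectrum A)
  · -- the dimension as a natural number
    have hd : ∃ d : ℕ, ringKrullDim A ≤ (d : WithBot ℕ∞) := by
      have h0 : (0 : WithBot ℕ∞) ≤ ringKrullDim A := Order.krullDim_nonneg
      obtain ⟨x, hx⟩ : ∃ x : ℕ∞, ringKrullDim A = (x : WithBot ℕ∞) :=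
        ⟨(ringKrullDim A).unbot (by intro h; rw [h] at h0; exact absurd h0 (by simp)), by simp⟩
      rw [hx] at hdim
      have hx' : x ≠ ⊤ := by
        intro h
        rw [h] at hdim
        exact lt_irrefl _ hdim
      obtain ⟨d, hd⟩ := ENat.ne_top_iff_exists.1 hx'
      exact ⟨d, by rw [hx, ← hd]; exact le_rfl⟩
    obtain ⟨d, hd⟩ := hd
    refine ⟨B + d, fun q => ?_⟩
    obtain ⟨k, hk⟩ := ENat.ne_top_iff_exists.1 (DimFun.height_lt_top q).ne
    have h1 := le_add_height DimFun.height_lt_top n hn B hB' k q hk.symm
    have h2 : ((k : ℕ∞) : WithBot ℕ∞) ≤ (d : WithBot ℕ∞) := by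
      rw [hk]
      exact (Order.height_le_krullDim q).trans hd
    have h3 : k ≤ d := by exact_mod_cast h2
    have h4 : (k : ℤ) ≤ d := by exact_mod_cast h3
    omega
  · exact ⟨0, fun q => (hne ⟨q⟩).elim⟩

end PtDual
end Groth.Agent.Lib.Helper6
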