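import Groth.Agent.Lib.Helper6.PtDual1
import Groth.Agent.Lib.Helper6.PtDual2
import Groth.Agent.Lib.Helper6.HomBC7
import Groth.Agent.Lib.Helper6.InjDimMax8

/-! Pointwise dualizing complexes, part 3: a bounded below complex with finite cohomology over a
Noetherian ring of finite Krull dimension which is dualizing at every prime is dualizing
(helper6). -/

set_option autoImplicit false
set_option linter.unusedSectionVars false
set_option linter.overlappingInstances false
universe u
open CategoryTheory CategoryTheory.Limits DerivedCategory TensorProduct Pretriangulated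
attribute [local instance] HasDerivedCategory.standard

namespace Groth.Agent.Lib.Helper6
namespace PtDual

open Groth.Agent.Lib.Helper35 Groth.Agent.Lib.Helper35.FlatBC HomBC

variable {A : Type u} [CommRing A]

/-- local-global principle for bijectivity, in tensor form. -/
lemma bijective_of_lTensor_atPrime {M N : Type*} [AddCommGroup M] [Module A M]
    [AddCommGroup N] [Module A N] (F : M →ₗ[A] N)
    (h : ∀ (P : Ideal A) [P.IsMaximal],
      Function.Bijective (LinearMap.lTensor (Localization.AtPrime P) F)) :
    Function.Bijective F := by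
  refine bijective_of_isLocalized_maximal
    (fun P _ => Localization.AtPrime P ⊗[A] M)
    (fun P _ => TensorProduct.mk A (Localization.AtPrime P) M 1)
    (fun P _ => Localization.AtPrime P ⊗[A] N)
    (fun P _ => TensorProduct.mk A (Localization.AtPrime P) N 1) F ?_
  intro P hP
  have h1 : IsLocalizedModule.map P.primeCompl (TensorProduct.mk A (Localization.AtPrime P) M 1)
      (TensorProduct.mk A (Localization.AtPrime P) N 1) F =
      LinearMap.lTensor (Localization.AtPrime P) F := by
    apply IsLocalizedModule.linearMap_ext P.primeCompl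
      (TensorProduct.mk A (Localization.AtPrime P) M 1)
      (TensorProduct.mk A (Localization.AtPrime P) N 1)
    apply LinearMap.ext
    intro x
    rw [LinearMap.comp_apply, IsLocalizedModule.map_apply, LinearMap.comp_apply]
    rfl
  rw [h1]
  exact h P

/-- **Pointwise dualizing ⇒ dualizing** in finite Krull dimension (for the exact base change
functors to the local rings). -/
theorem isDualizing_of_pointwise [IsNoetherianRing A] (hdim : ringKrullDim A < ⊤)
    (K : Dual.D A) (a : ℤ) [K.IsGE a]
    (hfin : ∀ i : ℤ, Module.Finite A (Dual.HD A K i))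
    (hG : ∀ p : PrimeSpectrum A, Dual.IsDualizing (Localization.AtPrime p.asIdeal)
      ((G A (Localization.AtPrime p.asIdeal)).obj K)) :
    Dual.IsDualizing A K := by
  obtain ⟨n, hn1, hcov⟩ := exists_codim A K a hG
  obtain ⟨b, hb⟩ := exists_bound hdim n hcov
  have hG' : ∀ (P : Ideal A) [P.IsMaximal], Dual.IsDualizing (Localization.AtPrime P)
      ((G A (Localization.AtPrime P)).obj K) := fun P hP => hG ⟨P, hP.isPrime⟩
  -- local injective amplitude
  have hloc : ∀ (P : Ideal A) [P.IsMaximal] (N : ModuleCat.{u} (Localization.AtPrime P)) (i : ℤ),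
      b < i → Subsingleton ((singleFunctor (ModuleCat.{u} (Localization.AtPrime P)) 0).obj N ⟶
        ((G A (Localization.AtPrime P)).obj K)⟦i⟧) := by
    intro P hP N i hi
    let p : PrimeSpectrum A := ⟨P, hP.isPrime⟩
    obtain ⟨a', hIA⟩ := InjDimMax.IA_of_isDualizing_of_max
      ((G A (Localization.AtPrime P)).obj K) (hG' P) (n p) (by
        intro m hm j hj
        have hm' : m = IsLocalRing.maximalIdeal (Localization.AtPrime P) :=
          IsLocalRing.eq_maximalIdeal hm
        subst hm'
        exact hn1 p j (by omega))
    have h01 := (KL.IA_tfae ((G A (Localization.AtPrime P)).obj K) a' (n p)).out 0 1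
    exact h01.1 hIA N i (Or.inr (lt_of_le_of_lt (hb p) hi))
  have hshift : ∀ i : ℤ, (K⟦i⟧).IsGE (a - i) := fun i =>
    TStructure.t.isGE_shift K a i (a - i) (by omega)
  -- descent of vanishing of Hom into shifts of `K`
  have key : ∀ (X : Dual.D A) (i : ℤ), (∀ m, DRing.IsPseudoCoherent A m X) →
      (∀ (P : Ideal A) [P.IsMaximal], Subsingleton ((G A (Localization.AtPrime P)).obj X ⟶
        ((G A (Localization.AtPrime P)).obj K)⟦i⟧)) → Subsingleton (X ⟶ K⟦i⟧) := by
    intro X i hX hs
    have := hshift i
    refine Module.subsingleton_of_localization_maximal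
      (fun P _ => Localization.AtPrime P ⊗[A] (X ⟶ K⟦i⟧))
      (fun P _ => TensorProduct.mk A (Localization.AtPrime P) (X ⟶ K⟦i⟧) 1) ?_
    intro P hP
    have hbij := bijective_Phi_of_isPC (B := Localization.AtPrime P) X (K⟦i⟧) (a - i) (hX _)
    have h1 := hs P
    have h2 : Subsingleton ((G A (Localization.AtPrime P)).obj X ⟶
        (G A (Localization.AtPrime P)).obj (K⟦i⟧)) :=
      (Iso.homCongr (Iso.refl ((G A (Localization.AtPrime P)).obj X))
        (GShiftIso (B := Localization.AtPrime P) K i)).subsingleton
    exact (Equiv.ofBijective _ hbij).subsingleton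
  -- global injective amplitude
  have h3 : ∀ (J : Ideal A) (i : ℤ), (i < a ∨ b < i) →
      Subsingleton ((singleFunctor (ModuleCat.{u} A) 0).obj (ModuleCat.of A (A ⧸ J)) ⟶ K⟦i⟧) := by
    intro J i hi
    rcases hi with hi | hi
    · have h1 := hshift i
      refine ⟨fun f g => ?_⟩
      have hz : ∀ f : (singleFunctor (ModuleCat.{u} A) 0).obj (ModuleCat.of A (A ⧸ J)) ⟶ K⟦i⟧,
          f = 0 := fun f => TStructure.t.zero f 0 (a - i) (by omega)
      rw [hz f, hz g]
    · refine key (Dual.inD A (A ⧸ J)) i (isPC_inD_of_finite (A ⧸ J)) ?_
      intro P hP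
      have := hloc P (ModuleCat.of _ (Localization.AtPrime P ⊗[A] (A ⧸ J))) i hi
      exact (Iso.homCongr (GInDIso (A := A) (Localization.AtPrime P) (A ⧸ J)).symm
        (Iso.refl (((G A (Localization.AtPrime P)).obj K)⟦i⟧))).symm.subsingleton
  have h31 := (KL.IA_tfae K a b).out 2 0
  have hIA : KL.IA a b K := h31.1 h3
  have hle : K.IsLE b := hIA.isLE
  have hpc : ∀ m : ℤ, DRing.IsPseudoCoherent A m K := isPC_of_finite_homology K b hfin
  refine
    { isNoetherianRing := inferInstance
      finite_injective_dimension := ?_
      finite_cohomology := hfin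
      toEnd_bijective := ?_
      ext_self_subsingleton := ?_ }
  · refine ⟨a, b, ?_⟩
    have h32 := (KL.IA_tfae K a b).out 2 1
    have h2 := h32.1 h3
    intro M _ _ i hi
    exact h2 (ModuleCat.of A M) i hi
  · have hF : Function.Bijective (LinearMap.toSpanSingleton A (K ⟶ K) (𝟙 K)) := by
      refine bijective_of_lTensor_atPrime _ ?_
      intro P hP
      have h1 := bijective_Phi_of_isPC (B := Localization.AtPrime P) K K a (hpc _)
      have h2 : Function.Bijective (fun x : Localization.AtPrime P ⊗[A] A =>
          Phi A (Localization.AtPrime P) K K (LinearMap.lTensor (Localization.AtPrime P)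
            (LinearMap.toSpanSingleton A (K ⟶ K) (𝟙 K)) x)) := by
        have h3 : (fun x : Localization.AtPrime P ⊗[A] A =>
            Phi A (Localization.AtPrime P) K K (LinearMap.lTensor (Localization.AtPrime P)
              (LinearMap.toSpanSingleton A (K ⟶ K) (𝟙 K)) x)) =
            (fun c : Localization.AtPrime P => c • 𝟙 ((G A (Localization.AtPrime P)).obj K)) ∘
              (TensorProduct.rid A (Localization.AtPrime P)) := by
          funext x
          exact Phi_comp_toEnd K x
        rw [h3]
        exact (hG' P).toEnd_bijective.comp (TensorProduct.rid A (Localization.AtPrime P)).bijective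
      exact (Function.Bijective.of_comp_iff' h1 _).1 h2
    have heq : (fun x : A => x • 𝟙 K) = LinearMap.toSpanSingleton A (K ⟶ K) (𝟙 K) := by
      funext x
      rw [LinearMap.toSpanSingleton_apply]
    rw [heq]
    exact hF
  · intro i hi
    exact key K i hpc (fun P hP => (hG' P).ext_self_subsingleton i hi)

end PtDual
end Groth.Agent.Lib.Helper6
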