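import Groth.Agent.Lib.Helper6.RDual1
import Groth.Agent.Lib.Helper6.Bidual3

/-! Right adjoint of restriction and dualizing complexes, part 2: identification of
`restr (Hom_A(B, I))` with `Hom_A(B_A, I)` (helper6). -/

set_option linter.unusedSectionVars false
set_option linter.style.haveILetI false

set_option autoImplicit false
universe u
open CategoryTheory CategoryTheory.Limits DerivedCategory Pretriangulated Opposite
attribute [local instance] HasDerivedCategory.standard

namespace Groth.Agent.Lib.Helper6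
namespace RDual

open Bidual Groth.Agent.Lib.Helper26.AdjKProj Groth.Agent.Lib.Helper6.DerivedAdj

variable {A B : Type u} [CommRing A] [CommRing B] (φ : A →+* B)
  (I : CochainComplex (ModuleCat.{u} A) ℤ)

/-- `B` as an `A`-module. -/
noncomputable abbrev BA : ModuleCat.{u} A := (ModuleCat.restrictScalars.{u} φ).obj (ModuleCat.of B B)

/-- an element of `restr (coext N)` as a linear map. -/
noncomputable def toLin (N : ModuleCat.{u} A)
    (g : (ModuleCat.restrictScalars.{u} φ).obj ((ModuleCat.coextendScalars.{u, u, u} φ).obj N)) :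
    (BA φ) →ₗ[A] N :=
  ModuleCat.CoextendScalars.equiv φ N g

lemma toLin_smul (N : ModuleCat.{u} A) (a : A)
    (g : (ModuleCat.restrictScalars.{u} φ).obj ((ModuleCat.coextendScalars.{u, u, u} φ).obj N)) :
    toLin φ N (a • g) = a • toLin φ N g := by
  apply LinearMap.ext
  intro x
  let y : B := x
  have hx : a • x = (y * φ a : B) := by
    change φ a * y = y * φ a
    exact mul_comm _ _
  change toLin φ N g (y * φ a : B) = a • toLin φ N g x
  rw [← map_smul, hx]

lemma toLin_add (N : ModuleCat.{u} A)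
    (g g' : (ModuleCat.restrictScalars.{u} φ).obj ((ModuleCat.coextendScalars.{u, u, u} φ).obj N)) :
    toLin φ N (g + g') = toLin φ N g + toLin φ N g' := rfl

/-- inverse direction. -/
noncomputable def ofLin (N : ModuleCat.{u} A) (h : (BA φ) →ₗ[A] N) :
    (ModuleCat.restrictScalars.{u} φ).obj ((ModuleCat.coextendScalars.{u, u, u} φ).obj N) :=
  (ModuleCat.CoextendScalars.equiv φ N).symm h

lemma toLin_ofLin (N : ModuleCat.{u} A) (h : (BA φ) →ₗ[A] N) : toLin φ N (ofLin φ N h) = h := rfl

lemma ofLin_toLin (N : ModuleCat.{u} A)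
    (g : (ModuleCat.restrictScalars.{u} φ).obj ((ModuleCat.coextendScalars.{u, u, u} φ).obj N)) :
    ofLin φ N (toLin φ N g) = g := rfl

/-- the componentwise identification `restr (Hom_A(B, N)) ≃ Hom_{ModuleCat A}(B_A, N)`. -/
noncomputable def tauEquiv (N : ModuleCat.{u} A) :
    ((ModuleCat.restrictScalars.{u} φ).obj ((ModuleCat.coextendScalars.{u, u, u} φ).obj N)) ≃ₗ[A]
      (BA φ ⟶ N) where
  toFun g := ModuleCat.ofHom (X := BA φ) (Y := N) (toLin φ N g)
  invFun h := ofLin φ N h.hom
  left_inv g := rfl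
  right_inv h := rfl
  map_add' g g' := rfl
  map_smul' a g := by
    apply ModuleCat.hom_ext
    exact toLin_smul φ N a g

lemma tauEquiv_apply_hom (N : ModuleCat.{u} A)
    (g : (ModuleCat.restrictScalars.{u} φ).obj ((ModuleCat.coextendScalars.{u, u, u} φ).obj N)) :
    (tauEquiv φ N g).hom = toLin φ N g := rfl

/-- `restr (Hom_A(B, I•)) ≅ Hom_A(B_A, I•)` as complexes of `A`-modules. -/
noncomputable def tau :
    ((ModuleCat.restrictScalars.{u} φ).mapHomologicalComplex (ComplexShape.up ℤ)).obj (coextC φ I) ≅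
      (Dc I).obj (op (BA φ)) :=
  HomologicalComplex.Hom.isoOfComponents (fun i => (tauEquiv φ (I.X i)).toModuleIso) (by
    intro i j _
    ext g
    apply ModuleCat.hom_ext
    apply LinearMap.ext
    intro x
    rfl)

/-- an element of `B` as an element of `B_A`. -/
def toBA (b : B) : BA φ := b

lemma toBA_bijective : Function.Bijective (toBA φ) := Function.bijective_id

lemma tau_hom_ev (b : B) :
    (tau φ I).hom ≫ ev I (BA φ) (toBA φ b) =
      ((ModuleCat.restrictScalars.{u} φ).mapHomologicalComplex (ComplexShape.up ℤ)).map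
        (b • 𝟙 (coextC φ I)) ≫ epsC φ I := by
  ext i g
  change toLin φ (I.X i) g b = toLin φ (I.X i) (ofLin φ (I.X i) (b • (toLin φ (I.X i) g))) (1 : B)
  rw [toLin_ofLin, ModuleCat.CoextendScalars.smul_apply', one_mul]

/-- `ρ(Q(coext I)) ≅ Q(Hom_A(B_A, I•))` in `D(A)`. -/
noncomputable def sigma :
    (DRing.restrictD φ).obj (Q.obj (coextC φ I)) ≅ (Dq I).obj (op (BA φ)) :=
  (ModuleCat.restrictScalars.{u} φ).mapDerivedCategoryFactors.app (coextC φ I) ≪≫
    Q.mapIso (tau φ I)

lemma restrict_Q_map_eI {X : CochainComplex (ModuleCat.{u} B) ℤ} (g'' : X ⟶ coextC φ I) :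
    (DRing.restrictD φ).map (Q.map g'') ≫ eI φ I =
      (ModuleCat.restrictScalars.{u} φ).mapDerivedCategoryFactors.hom.app X ≫
        Q.map (adjunctInv (adj0 φ) g'') := by
  have hnat := (ModuleCat.restrictScalars.{u} φ).mapDerivedCategoryFactors.hom.naturality g''
  dsimp only [Functor.comp_map] at hnat
  dsimp only [eI, adjunctInv]
  rw [← Category.assoc, hnat, Category.assoc, ← Functor.map_comp]

lemma restrict_smul_eI (b : B) :
    (DRing.restrictD φ).map (b • 𝟙 (Q.obj (coextC φ I))) ≫ eI φ I =
      (sigma φ I).hom ≫ etaLin I (BA φ) (toBA φ b) := by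
  have h1 : b • 𝟙 (Q.obj (coextC φ I)) = Q.map (b • 𝟙 (coextC φ I)) := by
    rw [Functor.map_smul, CategoryTheory.Functor.map_id]
  rw [h1, restrict_Q_map_eI, etaLin_apply]
  dsimp only [sigma, adjunctInv, Iso.trans_hom, Iso.app_hom, Functor.mapIso_hom]
  rw [Category.assoc, ← Functor.map_comp, tau_hom_ev]

end RDual
end Groth.Agent.Lib.Helper6
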