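import Groth.Agent.Lib.Helper6.RDual1

/-! Relative representability framework for the computation of upper shriek of finite maps
(helper6).  `RelRep ρ P Z K` : on the objects `Y` satisfying `P`, `Hom(Y, Z) ≃ Hom(ρ Y, K)`
naturally. Also: functoriality of `Functor.mapDerivedCategory` (after helper60's `SchDual11`,
copied here to avoid the heavy imports). -/

set_option autoImplicit false
universe w₁ w₂ w₃ v₁ v₂ v₃ u₁ u₂ u₃ u
open CategoryTheory CategoryTheory.Limits

namespace Groth.Agent.Lib.Helper6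
namespace ShF

section DerComp

variable {C₁ : Type u₁} [Category.{v₁} C₁] [Abelian C₁] [HasDerivedCategory.{w₁} C₁]
  {C₂ : Type u₂} [Category.{v₂} C₂] [Abelian C₂] [HasDerivedCategory.{w₂} C₂]
  {C₃ : Type u₃} [Category.{v₃} C₃] [Abelian C₃] [HasDerivedCategory.{w₃} C₃]

/-- isomorphic exact functors induce isomorphic functors on derived categories. -/
noncomputable def mapDerivedCategoryIso {F F' : C₁ ⥤ C₂} [F.Additive] [F'.Additive]
    [PreservesFiniteLimits F] [PreservesFiniteColimits F]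
    [PreservesFiniteLimits F'] [PreservesFiniteColimits F'] (e : F ≅ F') :
    F.mapDerivedCategory ≅ F'.mapDerivedCategory :=
  Localization.liftNatIso DerivedCategory.Q
    (HomologicalComplex.quasiIso C₁ (ComplexShape.up ℤ))
    (F.mapHomologicalComplex (ComplexShape.up ℤ) ⋙ DerivedCategory.Q)
    (F'.mapHomologicalComplex (ComplexShape.up ℤ) ⋙ DerivedCategory.Q) _ _
    (Functor.isoWhiskerRight (NatIso.mapHomologicalComplex e (ComplexShape.up ℤ))
      DerivedCategory.Q)

/-- the functor induced on derived categories by a composition of exact functors. -/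
noncomputable def mapDerivedCategoryComp (F : C₁ ⥤ C₂) (G : C₂ ⥤ C₃) [F.Additive] [G.Additive]
    [PreservesFiniteLimits F] [PreservesFiniteColimits F]
    [PreservesFiniteLimits G] [PreservesFiniteColimits G] :
    (F ⋙ G).mapDerivedCategory ≅ F.mapDerivedCategory ⋙ G.mapDerivedCategory := by
  letI : Localization.Lifting DerivedCategory.Q
      (HomologicalComplex.quasiIso C₁ (ComplexShape.up ℤ))
      ((F.mapHomologicalComplex (ComplexShape.up ℤ) ⋙
        G.mapHomologicalComplex (ComplexShape.up ℤ)) ⋙ DerivedCategory.Q)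
      (F.mapDerivedCategory ⋙ G.mapDerivedCategory) :=
    ⟨(Functor.associator _ _ _).symm ≪≫
      Functor.isoWhiskerRight F.mapDerivedCategoryFactors G.mapDerivedCategory ≪≫
      Functor.associator _ _ _ ≪≫
      Functor.isoWhiskerLeft (F.mapHomologicalComplex (ComplexShape.up ℤ))
        G.mapDerivedCategoryFactors ≪≫
      (Functor.associator _ _ _).symm⟩
  exact Localization.liftNatIso DerivedCategory.Q
    (HomologicalComplex.quasiIso C₁ (ComplexShape.up ℤ))
    ((F ⋙ G).mapHomologicalComplex (ComplexShape.up ℤ) ⋙ DerivedCategory.Q)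
    ((F.mapHomologicalComplex (ComplexShape.up ℤ) ⋙
        G.mapHomologicalComplex (ComplexShape.up ℤ)) ⋙ DerivedCategory.Q) _ _
    (Functor.isoWhiskerRight (Functor.mapHomologicalComplexCompIso (Iso.refl (F ⋙ G))
      (ComplexShape.up ℤ)) DerivedCategory.Q)

end DerComp

section RelRep

variable {B : Type*} {C : Type*} {D : Type*} [Category B] [Category C] [Category D]

/-- On the objects `Y` of `D` satisfying `P`, the object `Z` represents `Y ↦ Hom(ρ Y, K)`. -/
structure RelRep (ρ : D ⥤ C) (P : D → Prop) (Z : D) (K : C) where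
  β : ∀ (Y : D), P Y → ((Y ⟶ Z) ≃ (ρ.obj Y ⟶ K))
  nat : ∀ (Y Y' : D) (hY : P Y) (hY' : P Y') (h : Y' ⟶ Y) (u : Y ⟶ Z),
    β Y' hY' (h ≫ u) = ρ.map h ≫ β Y hY u

namespace RelRep

variable {ρ : D ⥤ C} {P : D → Prop} {Z : D} {K : C}

/-- change the representing object along an isomorphism. -/
def ofIsoLeft {Z' : D} (r : RelRep ρ P Z K) (e : Z ≅ Z') : RelRep ρ P Z' K where
  β Y hY := (Iso.homCongr (Iso.refl Y) e).symm.trans (r.β Y hY)
  nat Y Y' hY hY' h u := by
    simp only [Equiv.trans_apply, Iso.homCongr_symm, Iso.homCongr_apply, Iso.refl_symm,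
      Iso.refl_inv, Category.id_comp, Iso.symm_hom]
    rw [Category.assoc, r.nat Y Y' hY hY']

/-- change the target along an isomorphism. -/
def ofIsoRight {K' : C} (r : RelRep ρ P Z K) (e : K ≅ K') : RelRep ρ P Z K' where
  β Y hY := (r.β Y hY).trans (Iso.homCongr (Iso.refl _) e)
  nat Y Y' hY hY' h u := by
    simp only [Equiv.trans_apply, Iso.homCongr_apply, Iso.refl_inv, Category.id_comp]
    rw [r.nat Y Y' hY hY', Category.assoc]

/-- restrict the class of objects. -/
def mono {P' : D → Prop} (r : RelRep ρ P Z K) (h : ∀ Y, P' Y → P Y) : RelRep ρ P' Z K where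
  β Y hY := r.β Y (h Y hY)
  nat Y Y' hY hY' g u := r.nat Y Y' _ _ g u

/-- change the functor along a natural isomorphism. -/
def ofNatIso {ρ' : D ⥤ C} (r : RelRep ρ P Z K) (e : ρ ≅ ρ') : RelRep ρ' P Z K where
  β Y hY := (r.β Y hY).trans (Iso.homCongr (e.app Y) (Iso.refl K))
  nat Y Y' hY hY' h u := by
    simp only [Equiv.trans_apply, Iso.homCongr_apply, Iso.app_inv, Iso.refl_hom, Category.comp_id]
    rw [r.nat Y Y' hY hY', ← Category.assoc, ← Category.assoc, e.inv.naturality h]

/-- composition. -/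
def comp {ρ₂ : C ⥤ B} {P₂ : C → Prop} {K₂ : B} (r₁ : RelRep ρ P Z K) (r₂ : RelRep ρ₂ P₂ K K₂)
    (h : ∀ Y, P Y → P₂ (ρ.obj Y)) : RelRep (ρ ⋙ ρ₂) P Z K₂ where
  β Y hY := (r₁.β Y hY).trans (r₂.β (ρ.obj Y) (h Y hY))
  nat Y Y' hY hY' g u := by
    simp only [Equiv.trans_apply, Functor.comp_map]
    rw [r₁.nat Y Y' hY hY', r₂.nat _ _ (h Y hY) (h Y' hY')]

/-- from an adjunction. -/
def ofAdj {R : C ⥤ D} (adj : ρ ⊣ R) (K : C) : RelRep ρ (fun _ => True) (R.obj K) K where
  β Y _ := (adj.homEquiv Y K).symm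
  nat Y Y' _ _ h u := by
    rw [Adjunction.homEquiv_naturality_left_symm]

/-- from a universal arrow. -/
noncomputable def ofUniversal (Z : D) (K : C) (e : ρ.obj Z ⟶ K)
    (h : ∀ Y : D, Function.Bijective (fun g : Y ⟶ Z => ρ.map g ≫ e)) :
    RelRep ρ (fun _ => True) Z K where
  β Y _ := Equiv.ofBijective _ (h Y)
  nat Y Y' _ _ g u := by
    simp only [Equiv.ofBijective_apply, Functor.map_comp, Category.assoc]

/-- transfer along a morphism `Z ⟶ Z'` inducing bijections on `Hom(Y, -)` for `Y` in the class. -/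
noncomputable def ofBijective {Z' : D} (r : RelRep ρ P Z K) (δ : Z ⟶ Z')
    (h : ∀ Y : D, P Y → Function.Bijective (fun g : Y ⟶ Z => g ≫ δ)) : RelRep ρ P Z' K where
  β Y hY := (Equiv.ofBijective _ (h Y hY)).symm.trans (r.β Y hY)
  nat Y Y' hY hY' g u := by
    obtain ⟨v, rfl⟩ := (h Y hY).2 u
    have h1 : (Equiv.ofBijective _ (h Y hY)).symm (v ≫ δ) = v :=
      (Equiv.ofBijective _ (h Y hY)).symm_apply_apply v
    have h2 : (Equiv.ofBijective _ (h Y' hY')).symm (g ≫ v ≫ δ) = g ≫ v := by
      rw [← Category.assoc]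
      exact (Equiv.ofBijective _ (h Y' hY')).symm_apply_apply (g ≫ v)
    simp only [Equiv.trans_apply]
    rw [h1, h2, r.nat Y Y' hY hY']

/-- a representing object on all objects is isomorphic to the value of a right adjoint. -/
theorem nonempty_iso_of_adj {R : C ⥤ D} (adj : ρ ⊣ R) (r : RelRep ρ (fun _ => True) Z K) :
    Nonempty (Z ≅ R.obj K) := by
  have hb : ∀ Y : D, Function.Bijective (fun g : Y ⟶ Z => ρ.map g ≫ r.β Z trivial (𝟙 Z)) := by
    intro Y
    have h1 : (fun g : Y ⟶ Z => ρ.map g ≫ r.β Z trivial (𝟙 Z)) = r.β Y trivial := by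
      funext g
      rw [← r.nat Z Y trivial trivial g (𝟙 Z), Category.comp_id]
    rw [h1]
    exact (r.β Y trivial).bijective
  obtain ⟨θ, -⟩ := RDual.exists_iso_of_universal adj K Z _ hb
  exact ⟨θ⟩

end RelRep

end RelRep

end ShF
end Groth.Agent.Lib.Helper6
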