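import Mathlib.RingTheory.HahnSeries.Summable
import Mathlib.RingTheory.HahnSeries.Multiplication
import Mathlib.Algebra.Polynomial.AlgebraMap
import Mathlib.Algebra.Polynomial.Basis
import Mathlib.Algebra.Category.ModuleCat.ChangeOfRings

/-! Laurent tails `N((y⁻¹))` as a module over `T ≅ S[y]`; a monic polynomial acts invertibly
(helper6). -/

set_option autoImplicit false
universe u
open Polynomial

namespace Groth.Agent.Lib.Helper6
namespace ShF

variable {S : Type u} [CommRing S]

/-- the ring map `S[X] → S((z))`, `X ↦ z⁻¹`. -/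
noncomputable def phi : S[X] →+* HahnSeries ℤ S :=
  Polynomial.eval₂RingHom (HahnSeries.C : S →+* HahnSeries ℤ S)
    (HahnSeries.single (-1 : ℤ) (1 : S))

lemma phi_X : phi (X : S[X]) = HahnSeries.single (-1 : ℤ) (1 : S) := by
  simp [phi]

lemma phi_C (s : S) : phi (C s : S[X]) = HahnSeries.single (0 : ℤ) s := by
  simp [phi]

lemma phi_X_pow (k : ℕ) : phi ((X : S[X]) ^ k) = HahnSeries.single (-(k : ℤ)) (1 : S) := by
  rw [map_pow, phi_X, HahnSeries.single_pow]
  simp

lemma phi_eq_sum (f : S[X]) :
    phi f = ∑ i ∈ Finset.range (f.natDegree + 1),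
      HahnSeries.single (-(i : ℤ)) (f.coeff i) := by
  conv_lhs => rw [f.as_sum_range_C_mul_X_pow]
  rw [map_sum]
  refine Finset.sum_congr rfl (fun i _ => ?_)
  rw [map_mul, map_pow, phi_C, phi_X, HahnSeries.single_pow, HahnSeries.single_mul_single]
  simp

lemma phi_mul_pow (f : S[X]) (d : ℕ) :
    phi f * (HahnSeries.single (1 : ℤ) (1 : S)) ^ d =
      ∑ i ∈ Finset.range (f.natDegree + 1),
        HahnSeries.single ((d : ℤ) - (i : ℤ)) (f.coeff i) := by
  rw [phi_eq_sum, Finset.sum_mul]
  refine Finset.sum_congr rfl (fun i _ => ?_)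
  rw [HahnSeries.single_pow, HahnSeries.single_mul_single]
  simp only [one_pow, mul_one, nsmul_eq_mul]
  rw [show (-(i : ℤ) + (d : ℤ)) = (d : ℤ) - (i : ℤ) by ring]

/-- a monic polynomial becomes a unit in the Laurent series in `X⁻¹`. -/
lemma isUnit_phi (f : S[X]) (hf : f.Monic) : IsUnit (phi f) := by
  set d := f.natDegree with hd
  have huv : (HahnSeries.single (-1 : ℤ) (1 : S)) ^ d *
      (HahnSeries.single (1 : ℤ) (1 : S)) ^ d = 1 := by
    rw [← mul_pow, HahnSeries.single_mul_single]
    simp
  have h1 : IsUnit (phi f * (HahnSeries.single (1 : ℤ) (1 : S)) ^ d) := by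
    apply HahnSeries.isUnit_of_orderTop_pos
    refine lt_of_lt_of_le (b := (1 : WithTop ℤ)) (by exact_mod_cast zero_lt_one) ?_
    rw [HahnSeries.le_orderTop_iff_forall]
    intro j hj
    have hj' : j < 1 := by exact_mod_cast hj
    rw [phi_mul_pow, ← hd, Finset.sum_range_succ, hf.coeff_natDegree, sub_self,
      HahnSeries.single_zero_one, add_sub_cancel_right, HahnSeries.coeff_sum]
    refine Finset.sum_eq_zero (fun i hi => ?_)
    rw [Finset.mem_range] at hi
    rw [HahnSeries.coeff_single_of_ne]
    omega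
  have h2 : phi f = (phi f * (HahnSeries.single (1 : ℤ) (1 : S)) ^ d) *
      (HahnSeries.single (-1 : ℤ) (1 : S)) ^ d := by
    rw [mul_assoc, mul_comm ((HahnSeries.single (1 : ℤ) (1 : S)) ^ d), huv, mul_one]
  rw [h2]
  exact h1.mul (IsUnit.of_mul_eq_one _ huv)

variable {T : Type u} [CommRing T] [Algebra S T]

/-- Laurent tails with coefficients in `N`, as a `T`-module (through `e : T ≃ S[X]`). -/
def Lau (_e : T ≃ₐ[S] S[X]) (N : Type u) [AddCommGroup N] [Module S N] : Type u :=
  HahnModule ℤ S N

section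

variable (e : T ≃ₐ[S] S[X]) (N : Type u) [AddCommGroup N] [Module S N]

noncomputable instance : AddCommGroup (Lau e N) :=
  inferInstanceAs (AddCommGroup (HahnModule ℤ S N))

noncomputable instance instModH : Module (HahnSeries ℤ S) (Lau e N) :=
  inferInstanceAs (Module (HahnSeries ℤ S) (HahnModule ℤ S N))

/-- the ring map through which `T` acts. -/
noncomputable def tau : T →+* HahnSeries ℤ S := phi.comp (e : T →+* S[X])

noncomputable instance instModT : Module T (Lau e N) := Module.compHom _ (tau e)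

end

variable {e : T ≃ₐ[S] S[X]} {N : Type u} [AddCommGroup N] [Module S N]

namespace Lau

/-- coefficients -/
noncomputable def coeff (x : Lau e N) (a : ℤ) : N :=
  ((HahnModule.of S).symm (show HahnModule ℤ S N from x)).coeff a

/-- constructor from a Hahn series -/
noncomputable def mk (x : HahnSeries ℤ N) : Lau e N := HahnModule.of S x

@[simp] lemma coeff_mk (x : HahnSeries ℤ N) (a : ℤ) : (mk (e := e) x).coeff a = x.coeff a := rfl

lemma smul_def (t : T) (x : Lau e N) : t • x = (tau e t) • x := rfl

@[ext] lemma ext (x y : Lau e N) (h : ∀ a, x.coeff a = y.coeff a) : x = y :=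
  HahnModule.ext (R := S) (show HahnModule ℤ S N from x) y (funext h)

@[simp] lemma coeff_add (x y : Lau e N) (a : ℤ) : (x + y).coeff a = x.coeff a + y.coeff a := rfl
@[simp] lemma coeff_zero (a : ℤ) : (0 : Lau e N).coeff a = 0 := rfl

lemma coeff_single_smul (b : ℤ) (r : S) (x : Lau e N) (a : ℤ) :
    ((HahnSeries.single b r) • x).coeff (b + a) = r • x.coeff a :=
  HahnModule.coeff_single_smul_vadd (R := S) (x := (show HahnModule ℤ S N from x))

lemma coeff_single_smul' (b : ℤ) (r : S) (x : Lau e N) (a : ℤ) :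
    ((HahnSeries.single b r) • x).coeff a = r • x.coeff (a - b) := by
  have := coeff_single_smul b r x (a - b)
  rwa [add_sub_cancel] at this

end Lau

end ShF
end Groth.Agent.Lib.Helper6
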