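import Groth.Agent.Lib.Helper6.ShF9
import Groth.Agent.Lib.Helper6.HomBC6
import Groth.Prelude.Def_DualSh

/-! Upper shriek of a finite map is the right adjoint of restriction (helper6). -/

set_option autoImplicit false
set_option linter.unusedSectionVars false
universe u
open CategoryTheory CategoryTheory.Limits DerivedCategory Pretriangulated
attribute [local instance] HasDerivedCategory.standard

namespace Groth.Agent.Lib.Helper6
namespace ShF

open Groth.Agent.Lib.Helper35

/-- restriction of scalars along a composite, on derived categories. -/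
noncomputable def restrictDCompIso {R S T : Type u} [CommRing R] [CommRing S] [CommRing T]
    (f : R →+* S) (g : S →+* T) (gf : R →+* T) (h : gf = g.comp f) :
    DRing.restrictD g ⋙ DRing.restrictD f ≅ DRing.restrictD gf :=
  (mapDerivedCategoryComp (ModuleCat.restrictScalars.{u} g)
      (ModuleCat.restrictScalars.{u} f)).symm ≪≫
    mapDerivedCategoryIso (ModuleCat.restrictScalarsComp'.{u} f g gf h).symm

theorem nonempty_shriekVia_iso_rightAdjoint (R A : Type u) [CommRing R] [CommRing A]
    [Algebra R A] (n : ℕ) (ψ : MvPolynomial (Fin n) R →ₐ[R] A)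
    [DRing.HasLBaseChange (algebraMap R (MvPolynomial (Fin n) R))]
    (Rψ : Dual.D (MvPolynomial (Fin n) R) ⥤ Dual.D A) (adj : DRing.restrictD ψ.toRingHom ⊣ Rψ)
    [Module.Finite R A] (R' : Dual.D R ⥤ Dual.D A)
    (adjR : DRing.restrictD (algebraMap R A) ⊣ R') (K : Dual.D R) :
    Nonempty (Dual2.shriekVia n Rψ K ≅ R'.obj K) := by
  classical
  let P := MvPolynomial (Fin n) R
  haveI : Algebra.IsIntegral R A := inferInstance
  have hint : ∀ i : Fin n, IsIntegral R (ψ (MvPolynomial.X i)) :=
    fun i => Algebra.IsIntegral.isIntegral _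
  let f : Fin n → Polynomial R := fun i => (hint i).choose
  have hf : ∀ i, (f i).Monic := fun i => (hint i).choose_spec.1
  have hz : ∀ i, Polynomial.aeval (ψ (MvPolynomial.X i)) (f i) = 0 :=
    fun i => (hint i).choose_spec.2
  have hXbij : Function.Bijective
      (MvPolynomial.aeval (fun i : Fin n => (MvPolynomial.X i : P)) :
        MvPolynomial (Fin n) R →ₐ[R] P) := by
    rw [MvPolynomial.aeval_X_left]
    exact Function.bijective_id
  obtain ⟨r⟩ := mainStmt n R P (fun i => MvPolynomial.X i) hXbij f hf K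
  let Z : Dual.D P := ((FlatBC.G R P).obj K)⟦(n : ℤ)⟧
  let rψ := RelRep.ofAdj adj Z
  let r₁ := rψ.comp r (fun X _ i => by
    have h1 := RestrLin.restrictD_map_smul_id ψ.toRingHom X
      (Polynomial.aeval (MvPolynomial.X i : P) (f i))
    have h2 : ψ.toRingHom (Polynomial.aeval (MvPolynomial.X i : P) (f i)) = 0 := by
      change ψ (Polynomial.aeval (MvPolynomial.X i : P) (f i)) = 0
      rw [← Polynomial.aeval_algHom_apply ψ (MvPolynomial.X i) (f i)]
      exact hz i
    rw [← h1, h2, zero_smul, Functor.map_zero])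
  let r₂ := r₁.ofNatIso (restrictDCompIso (algebraMap R P) ψ.toRingHom (algebraMap R A)
    ψ.comp_algebraMap.symm)
  obtain ⟨θ⟩ := RelRep.nonempty_iso_of_adj adjR r₂
  letI := adj.rightAdjointCommShift ℤ
  let ε : Dual2.shriekVia n Rψ K ≅ Rψ.obj Z :=
    (shiftFunctor (Dual.D A) (n : ℤ)).mapIso (Rψ.mapIso ((HomBC.lbcIsoG R P).app K)) ≪≫
      ((Rψ.commShiftIso (n : ℤ)).app ((FlatBC.G R P).obj K)).symm
  exact ⟨ε ≪≫ θ⟩

end ShF
end Groth.Agent.Lib.Helper6
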