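import Groth.Agent.Lib.Helper6.ShF1

/-! The functor of Laurent tails and the maps `T ⊗_S N → N((y⁻¹)) → Hom_S(T, N)` (helper6). -/

set_option autoImplicit false
universe u
open Polynomial CategoryTheory

namespace Groth.Agent.Lib.Helper6
namespace ShF

variable {S : Type u} [CommRing S] {T : Type u} [CommRing T] [Algebra S T]
  (e : T ≃ₐ[S] S[X])

lemma tau_algebraMap (s : S) : tau e (algebraMap S T s) = HahnSeries.single (0 : ℤ) s := by
  change phi (e (algebraMap S T s)) = _
  rw [e.commutes, Polynomial.algebraMap_apply, Algebra.algebraMap_self, RingHom.id_apply, phi_C]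

lemma tau_symm_X_pow (k : ℕ) :
    tau e (e.symm ((X : S[X]) ^ k)) = HahnSeries.single (-(k : ℤ)) (1 : S) := by
  change phi (e (e.symm _)) = _
  rw [e.apply_symm_apply, phi_X_pow]

variable {e}
variable {N N' N'' : Type u} [AddCommGroup N] [Module S N] [AddCommGroup N'] [Module S N']
  [AddCommGroup N''] [Module S N'']

namespace Lau

lemma coeff_algebraMap_smul (s : S) (x : Lau e N) (a : ℤ) :
    ((algebraMap S T s) • x).coeff a = s • x.coeff a := by
  rw [smul_def, tau_algebraMap, coeff_single_smul', sub_zero]

lemma coeff_X_pow_smul (k : ℕ) (x : Lau e N) (a : ℤ) :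
    ((e.symm ((X : S[X]) ^ k)) • x).coeff a = x.coeff (a + k) := by
  rw [smul_def, tau_symm_X_pow, coeff_single_smul', one_smul, sub_neg_eq_add]

/-- functoriality in the coefficient module, on underlying additive groups. -/
noncomputable def mapFun (g : N →ₗ[S] N') (x : Lau e N) : Lau e N' :=
  mk (((HahnModule.of S).symm (show HahnModule ℤ S N from x)).map g)

@[simp] lemma coeff_mapFun (g : N →ₗ[S] N') (x : Lau e N) (a : ℤ) :
    (mapFun g x).coeff a = g (x.coeff a) := rfl

lemma mapFun_add (g : N →ₗ[S] N') (x y : Lau e N) :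
    mapFun g (x + y) = mapFun g x + mapFun g y := by
  ext a
  simp

lemma mapFun_single_smul (g : N →ₗ[S] N') (b : ℤ) (r : S) (x : Lau e N) :
    mapFun g ((HahnSeries.single b r) • x) = (HahnSeries.single b r) • mapFun g x := by
  ext a
  rw [coeff_mapFun, coeff_single_smul', coeff_single_smul', coeff_mapFun, map_smul]

lemma mapFun_phi_smul (g : N →ₗ[S] N') (p : S[X]) (x : Lau e N) :
    mapFun g ((phi p) • x) = (phi p) • mapFun g x := by
  induction p using Polynomial.induction_on generalizing x with
  | C a => rw [phi_C, mapFun_single_smul]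
  | add p q hp hq => rw [map_add, add_smul, add_smul, mapFun_add, hp, hq]
  | monomial n a h =>
    rw [pow_succ, ← mul_assoc, map_mul, phi_X, mul_smul, mul_smul, h, mapFun_single_smul]

/-- functoriality in the coefficient module. -/
noncomputable def map (g : N →ₗ[S] N') : Lau e N →ₗ[T] Lau e N' where
  toFun := mapFun g
  map_add' := mapFun_add g
  map_smul' t x := by
    change mapFun g ((tau e t) • x) = (tau e t) • mapFun g x
    exact mapFun_phi_smul g _ x

@[simp] lemma coeff_map (g : N →ₗ[S] N') (x : Lau e N) (a : ℤ) :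
    (map g x).coeff a = g (x.coeff a) := rfl

lemma map_id : map (e := e) (LinearMap.id : N →ₗ[S] N) = LinearMap.id := by
  apply LinearMap.ext
  intro x
  ext a
  simp

lemma map_comp (g : N →ₗ[S] N') (g' : N' →ₗ[S] N'') :
    map (e := e) (g' ∘ₗ g) = (map g') ∘ₗ (map g) := by
  apply LinearMap.ext
  intro x
  ext a
  simp

lemma map_add (g g' : N →ₗ[S] N') : map (e := e) (g + g') = map g + map g' := by
  apply LinearMap.ext
  intro x
  ext a
  simp

end Lau

variable (e)

/-- the functor of Laurent tails. -/
noncomputable def lau : ModuleCat.{u} S ⥤ ModuleCat.{u} T where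
  obj N := ModuleCat.of T (Lau e N)
  map g := ModuleCat.ofHom (Lau.map g.hom)
  map_id N := by
    apply ModuleCat.hom_ext
    exact Lau.map_id
  map_comp g g' := by
    apply ModuleCat.hom_ext
    exact Lau.map_comp g.hom g'.hom

instance : (lau e).Additive where
  map_add {N N' g g'} := by
    apply ModuleCat.hom_ext
    exact Lau.map_add g.hom g'.hom

end ShF
end Groth.Agent.Lib.Helper6
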