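import Groth.Agent.Lib.Helper6.ShF2

/-! The natural maps `T ⊗_S N → N((y⁻¹)) → Hom_S(T, N)` (helper6). -/

set_option autoImplicit false
universe u
open Polynomial CategoryTheory

namespace Groth.Agent.Lib.Helper6
namespace ShF

variable {S : Type u} [CommRing S] {T : Type u} [CommRing T] [Algebra S T]
  (e : T ≃ₐ[S] S[X])

/-- `n ↦ n·y⁰`. -/
noncomputable def incl0 (N : ModuleCat.{u} S) :
    N ⟶ (ModuleCat.restrictScalars.{u} (algebraMap S T)).obj ((lau e).obj N) :=
  ModuleCat.ofHom (Y := (ModuleCat.restrictScalars.{u} (algebraMap S T)).obj ((lau e).obj N))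
    { toFun := fun n => (Lau.mk (HahnSeries.single 0 n) : Lau e N)
      map_add' := fun n n' => by
        change (Lau.mk (HahnSeries.single 0 (n + n')) : Lau e N) =
          (Lau.mk (HahnSeries.single 0 n) : Lau e N) + (Lau.mk (HahnSeries.single 0 n') : Lau e N)
        refine Lau.ext (S := S) (e := e) _ _ (fun a => ?_)
        simp only [Lau.coeff_add, Lau.coeff_mk, HahnSeries.coeff_single]
        split_ifs <;> simp
      map_smul' := fun s n => by
        change (Lau.mk (HahnSeries.single 0 (s • n)) : Lau e N) =
          ((algebraMap S T s) • (Lau.mk (HahnSeries.single 0 n) : Lau e N))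
        refine Lau.ext (S := S) (e := e) _ _ (fun a => ?_)
        change (Lau.mk (HahnSeries.single 0 (s • n)) : Lau e N).coeff a =
          ((algebraMap S T s) • (Lau.mk (HahnSeries.single 0 n) : Lau e N)).coeff a
        rw [Lau.coeff_algebraMap_smul]
        simp only [Lau.coeff_mk, HahnSeries.coeff_single]
        split_ifs <;> simp }

lemma incl0_apply (N : ModuleCat.{u} S) (n : N) :
    (incl0 e N).hom n = (Lau.mk (HahnSeries.single 0 n) : Lau e N) := rfl

/-- the residue `x ↦ coefficient of y⁻¹`. -/
noncomputable def res0 (N : ModuleCat.{u} S) :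
    (ModuleCat.restrictScalars.{u} (algebraMap S T)).obj ((lau e).obj N) ⟶ N :=
  ModuleCat.ofHom (X := (ModuleCat.restrictScalars.{u} (algebraMap S T)).obj ((lau e).obj N))
    { toFun := fun x => (show Lau e N from x).coeff 1
      map_add' := fun x y => rfl
      map_smul' := fun s x => by
        change ((algebraMap S T s) • (show Lau e N from x)).coeff 1 = s • (show Lau e N from x).coeff 1
        rw [Lau.coeff_algebraMap_smul] }

lemma res0_apply (N : ModuleCat.{u} S) (x : Lau e N) :
    (res0 e N).hom x = x.coeff 1 := rfl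

/-- `T ⊗_S N ⟶ N((y⁻¹))`. -/
noncomputable def iotaApp (N : ModuleCat.{u} S) :
    (ModuleCat.extendScalars.{u, u, u} (algebraMap S T)).obj N ⟶ (lau e).obj N :=
  ((ModuleCat.extendRestrictScalarsAdj.{u, u, u} (algebraMap S T)).homEquiv N
    ((lau e).obj N)).symm (incl0 e N)

/-- `N((y⁻¹)) ⟶ Hom_S(T, N)`. -/
noncomputable def piApp (N : ModuleCat.{u} S) :
    (lau e).obj N ⟶ (ModuleCat.coextendScalars.{u, u, u} (algebraMap S T)).obj N :=
  (ModuleCat.restrictCoextendScalarsAdj.{u, u, u} (algebraMap S T)).homEquiv
    ((lau e).obj N) N (res0 e N)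

/-- the natural transformation `ι`. -/
noncomputable def iota : ModuleCat.extendScalars.{u, u, u} (algebraMap S T) ⟶ lau e where
  app N := iotaApp e N
  naturality N N' g := by
    dsimp only [iotaApp]
    rw [← Adjunction.homEquiv_naturality_left_symm, ← Adjunction.homEquiv_naturality_right_symm]
    congr 1
    apply ModuleCat.hom_ext
    apply LinearMap.ext
    intro n
    change (Lau.mk (HahnSeries.single 0 (g.hom n)) : Lau e N') =
      (Lau.map g.hom (Lau.mk (HahnSeries.single 0 n) : Lau e N))
    refine Lau.ext (S := S) (e := e) _ _ (fun a => ?_)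
    change (Lau.mk (HahnSeries.single 0 (g.hom n)) : Lau e N').coeff a =
      (Lau.map g.hom (Lau.mk (HahnSeries.single 0 n) : Lau e N)).coeff a
    rw [Lau.coeff_map]
    simp only [Lau.coeff_mk, HahnSeries.coeff_single]
    split_ifs <;> simp

/-- the natural transformation `π`. -/
noncomputable def pi : lau e ⟶ ModuleCat.coextendScalars.{u, u, u} (algebraMap S T) where
  app N := piApp e N
  naturality N N' g := by
    dsimp only [piApp]
    rw [← Adjunction.homEquiv_naturality_left, ← Adjunction.homEquiv_naturality_right]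
    congr 1

end ShF
end Groth.Agent.Lib.Helper6
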