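import Groth.Agent.Lib.Helper6.ShF3
import Groth.Agent.Lib.Helper35.FlatBC

/-! Exactness of `0 → T ⊗_S N → N((y⁻¹)) → Hom_S(T, N) → 0` (helper6). -/

set_option autoImplicit false
universe u
open Polynomial CategoryTheory TensorProduct ChangeOfRings

namespace Groth.Agent.Lib.Helper6
namespace ShF

open Groth.Agent.Lib.Helper35

variable {S : Type u} [CommRing S] {T : Type u} [CommRing T] [Algebra S T]
  (e : T ≃ₐ[S] S[X])

/-- the powers of the variable `y = e⁻¹(X)`. -/
noncomputable def yp (k : ℕ) : T := e.symm ((X : S[X]) ^ k)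

/-- the basis `1, y, y², …` of `T` over `S`, on the restriction-of-scalars model of `T`. -/
noncomputable def bT : Module.Basis ℕ S (FlatBC.B' S T) :=
  ((Polynomial.basisMonomials S).map e.symm.toLinearEquiv).map (FlatBC.e₁ S T).symm

lemma bT_apply (k : ℕ) : (bT e k : FlatBC.B' S T) = (yp e k : T) := by
  simp only [bT, Module.Basis.map_apply, Polynomial.coe_basisMonomials,
    Polynomial.monomial_one_right_eq_X_pow]
  rfl

variable (N : ModuleCat.{u} S)

/-- the coordinates of an element of `T ⊗_S N`. -/
noncomputable def Theta : TensorProduct S (FlatBC.B' S T) N ≃ₗ[S] (ℕ →₀ N) :=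
  TensorProduct.equivFinsuppOfBasisLeft (bT e)

set_option backward.isDefEq.respectTransparency false in
lemma iotaApp_one_tmul (n : N) :
    (iotaApp e N).hom ((1 : T) ⊗ₜ[S,(algebraMap S T)] n) = (incl0 e N).hom n := by
  have h := ModuleCat.extendRestrictScalarsAdj_homEquiv_apply (f := algebraMap S T)
    (iotaApp e N) n
  rw [← h]
  dsimp only [iotaApp]
  rw [Equiv.apply_symm_apply]

set_option backward.isDefEq.respectTransparency false in
lemma iotaApp_tmul (t : T) (n : N) :
    (iotaApp e N).hom (t ⊗ₜ[S,(algebraMap S T)] n) =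
      t • (show Lau e N from (incl0 e N).hom n) := by
  have h1 : (t ⊗ₜ[S,(algebraMap S T)] n :
      (ModuleCat.extendScalars.{u, u, u} (algebraMap S T)).obj N) =
      t • ((1 : T) ⊗ₜ[S,(algebraMap S T)] n :
        (ModuleCat.extendScalars.{u, u, u} (algebraMap S T)).obj N) := by
    rw [ModuleCat.ExtendScalars.smul_tmul, mul_one]
  rw [h1, map_smul, iotaApp_one_tmul]

lemma coeff_incl0 (n : N) (a : ℤ) :
    (show Lau e N from (incl0 e N).hom n).coeff a = if a = 0 then n else 0 := by
  rw [incl0_apply, Lau.coeff_mk, HahnSeries.coeff_single]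
  by_cases h : a = 0 <;> simp [h]

/-- the two linear maps compared in the computation of the coefficients of `ι`. -/
noncomputable def L1 (n : N) (a : ℤ) : FlatBC.B' S T →ₗ[S] N where
  toFun t := ((show T from t) • (show Lau e N from (incl0 e N).hom n)).coeff a
  map_add' t t' := by
    change (((show T from t) + (show T from t')) • (show Lau e N from (incl0 e N).hom n)).coeff a = _
    rw [add_smul, Lau.coeff_add]
  map_smul' s t := by
    change (((algebraMap S T s) * (show T from t)) •
      (show Lau e N from (incl0 e N).hom n)).coeff a = _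
    rw [mul_smul, Lau.coeff_algebraMap_smul]
    rfl

lemma coeff_smul_incl0 (t : T) (n : N) (a : ℤ) :
    (t • (show Lau e N from (incl0 e N).hom n)).coeff a =
      if a ≤ 0 then ((bT e).repr (show FlatBC.B' S T from t) (-a).toNat) • n else 0 := by
  have h : L1 e N n a = if a ≤ 0 then
      (LinearMap.toSpanSingleton S N n) ∘ₗ ((bT e).coord (-a).toNat) else 0 := by
    refine (bT e).ext (fun j => ?_)
    have h1 : L1 e N n a (bT e j) = if a + (j : ℤ) = 0 then n else 0 := by
      change ((show T from (bT e j)) • (show Lau e N from (incl0 e N).hom n)).coeff a = _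
      rw [bT_apply]
      change ((e.symm ((X : S[X]) ^ j)) • (show Lau e N from (incl0 e N).hom n)).coeff a = _
      rw [Lau.coeff_X_pow_smul, coeff_incl0]
    rw [h1]
    by_cases ha : a ≤ 0
    · rw [if_pos ha, LinearMap.comp_apply, Module.Basis.coord_apply, Module.Basis.repr_self,
        LinearMap.toSpanSingleton_apply, Finsupp.single_apply]
      by_cases hj : j = (-a).toNat
      · rw [if_pos hj, one_smul, if_pos (by omega)]
      · rw [if_neg hj, zero_smul, if_neg (by omega)]
    · rw [if_neg ha, LinearMap.zero_apply, if_neg (by omega)]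
  have h2 := congrArg (fun L => L (show FlatBC.B' S T from t)) h
  change (t • (show Lau e N from (incl0 e N).hom n)).coeff a = _ at h2
  rw [h2]
  by_cases ha : a ≤ 0
  · rw [if_pos ha, if_pos ha]
    rfl
  · rw [if_neg ha, if_neg ha]
    rfl

set_option backward.isDefEq.respectTransparency false in
/-- the coefficients of `ι z`. -/
lemma coeff_iotaApp (z : (ModuleCat.extendScalars.{u, u, u} (algebraMap S T)).obj N) (a : ℤ) :
    (show Lau e N from (iotaApp e N).hom z).coeff a =
      if a ≤ 0 then Theta e N z (-a).toNat else 0 := by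
  induction z using TensorProduct.induction_on with
  | zero =>
    rw [map_zero, map_zero]
    simp
  | tmul t n =>
    rw [iotaApp_tmul, coeff_smul_incl0]
    by_cases ha : a ≤ 0
    · rw [if_pos ha, if_pos ha]
      exact (TensorProduct.equivFinsuppOfBasisLeft_apply_tmul_apply (bT e) _ n _).symm
    · rw [if_neg ha, if_neg ha]
  | add z z' hz hz' =>
    rw [map_add, map_add]
    change ((show Lau e N from (iotaApp e N).hom z) +
      (show Lau e N from (iotaApp e N).hom z')).coeff a = _
    rw [Lau.coeff_add, hz, hz']
    by_cases ha : a ≤ 0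
    · simp only [if_pos ha, Finsupp.add_apply]
    · simp only [if_neg ha, add_zero]

end ShF
end Groth.Agent.Lib.Helper6
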