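import Groth.Agent.Lib.Helper6.ShF4
import Mathlib.Data.Int.Interval

/-! Exactness of `0 → T ⊗_S N → N((y⁻¹)) → Hom_S(T, N) → 0`, continued (helper6). -/

set_option autoImplicit false
universe u
open Polynomial CategoryTheory TensorProduct ChangeOfRings

namespace Groth.Agent.Lib.Helper6
namespace ShF

open Groth.Agent.Lib.Helper35

variable {S : Type u} [CommRing S] {T : Type u} [CommRing T] [Algebra S T]
  (e : T ≃ₐ[S] S[X]) (N : ModuleCat.{u} S)

set_option backward.isDefEq.respectTransparency false in
lemma piApp_apply (x : Lau e N) (t : T) :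
    ((piApp e N).hom x) t = (t • x).coeff 1 := by
  have h : piApp e N =
      ModuleCat.RestrictionCoextensionAdj.HomEquiv.fromRestriction (algebraMap S T) (res0 e N) := by
    dsimp only [piApp, ModuleCat.restrictCoextendScalarsAdj]
    rw [Adjunction.mk'_homEquiv]
    rfl
  rw [h]
  rfl

set_option backward.isDefEq.respectTransparency false in
lemma eq_zero_of_iotaApp_eq_zero (z : (ModuleCat.extendScalars.{u, u, u} (algebraMap S T)).obj N)
    (hz : (iotaApp e N).hom z = 0) : z = 0 := by
  have h0 : Theta e N z = 0 := by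
    ext k
    have h := coeff_iotaApp e N z (-(k : ℤ))
    rw [hz, if_pos (by omega)] at h
    simp only [neg_neg, Int.toNat_natCast] at h
    rw [Finsupp.zero_apply, ← h]
    rfl
  exact (Theta e N).map_eq_zero_iff.1 h0

lemma injective_iotaApp : Function.Injective (iotaApp e N).hom := by
  rw [injective_iff_map_eq_zero]
  exact eq_zero_of_iotaApp_eq_zero e N

set_option backward.isDefEq.respectTransparency false in
lemma iotaApp_comp_piApp : iotaApp e N ≫ piApp e N = 0 := by
  apply ModuleCat.hom_ext
  apply LinearMap.ext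
  intro z
  change (piApp e N).hom ((iotaApp e N).hom z) = 0
  apply LinearMap.ext
  intro t
  have h1 : ((piApp e N).hom ((iotaApp e N).hom z)) t =
      ((show T from t) • (show Lau e N from (iotaApp e N).hom z)).coeff 1 :=
    piApp_apply e N _ _
  have h2 : ((show T from t) • (show Lau e N from (iotaApp e N).hom z)) =
      (show Lau e N from (iotaApp e N).hom ((show T from t) • z)) := by
    rw [map_smul]
  refine h1.trans ?_
  rw [h2, coeff_iotaApp, if_neg (by omega)]
  rfl

lemma coeff_eq_zero_of_piApp_eq_zero (x : Lau e N) (hx : (piApp e N).hom x = 0) (k : ℕ) :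
    x.coeff (1 + k) = 0 := by
  have h1 := piApp_apply e N x (yp e k)
  rw [hx] at h1
  change (0 : N) = ((e.symm ((X : S[X]) ^ k)) • x).coeff 1 at h1
  rw [Lau.coeff_X_pow_smul] at h1
  exact h1.symm

set_option backward.isDefEq.respectTransparency false in
lemma exists_iotaApp_eq (x : Lau e N) (hx : (piApp e N).hom x = 0) :
    ∃ z : (ModuleCat.extendScalars.{u, u, u} (algebraMap S T)).obj N,
      (iotaApp e N).hom z = x := by
  classical
  let ξ : HahnSeries ℤ N := (HahnModule.of S).symm (show HahnModule ℤ S N from x)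
  have hξ : ∀ a : ℤ, x.coeff a = ξ.coeff a := fun a => rfl
  let v : ℕ →₀ N := Finsupp.onFinset (Finset.range ((-ξ.order).toNat + 1))
    (fun k => x.coeff (-(k : ℤ))) (by
      intro k hk
      rw [Finset.mem_range]
      by_contra hlt
      apply hk
      rw [hξ]
      apply HahnSeries.coeff_eq_zero_of_lt_order
      omega)
  let z : (ModuleCat.extendScalars.{u, u, u} (algebraMap S T)).obj N := (Theta e N).symm v
  refine ⟨z, ?_⟩
  refine Lau.ext (S := S) (e := e) _ _ (fun a => ?_)
  rw [coeff_iotaApp]
  have hz : Theta e N z = v := (Theta e N).apply_symm_apply v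
  by_cases ha : a ≤ 0
  · rw [if_pos ha, hz]
    change x.coeff (-(((-a).toNat : ℕ) : ℤ)) = x.coeff a
    congr 1
    omega
  · rw [if_neg ha]
    have := coeff_eq_zero_of_piApp_eq_zero e N x hx (a - 1).toNat
    rw [show (1 : ℤ) + ((a - 1).toNat : ℤ) = a by omega] at this
    exact this.symm

set_option backward.isDefEq.respectTransparency false in
lemma surjective_piApp : Function.Surjective (piApp e N).hom := by
  intro g
  let gl : FlatBC.B' S T →ₗ[S] N := g
  let ξ : HahnSeries ℤ N := HahnSeries.mk
    (fun a => if 1 ≤ a then gl (show FlatBC.B' S T from (yp e (a - 1).toNat : T)) else 0)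
    (BddBelow.isWF ⟨1, fun a ha => by
      by_contra hlt
      apply ha
      change (if 1 ≤ a then gl (show FlatBC.B' S T from (yp e (a - 1).toNat : T)) else 0) = 0
      rw [if_neg hlt]⟩).isPWO
  refine ⟨(Lau.mk ξ : Lau e N), ?_⟩
  apply LinearMap.ext
  intro t
  have h : ∀ k : ℕ, ((piApp e N).hom (Lau.mk ξ : Lau e N)) (bT e k) = gl (bT e k) := by
    intro k
    rw [bT_apply]
    have h1 := piApp_apply e N (Lau.mk ξ : Lau e N) (yp e k)
    rw [h1]
    change ((e.symm ((X : S[X]) ^ k)) • (Lau.mk ξ : Lau e N)).coeff 1 = _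
    rw [Lau.coeff_X_pow_smul, Lau.coeff_mk]
    change (if 1 ≤ (1 : ℤ) + k then gl (show FlatBC.B' S T from (yp e ((1 : ℤ) + k - 1).toNat : T))
      else 0) = _
    rw [if_pos (by omega)]
    have hk : ((1 : ℤ) + (k : ℤ) - 1).toNat = k := by omega
    rw [hk]
  have h' := (bT e).ext (f₁ := ((piApp e N).hom (Lau.mk ξ : Lau e N) : FlatBC.B' S T →ₗ[S] N))
    (f₂ := gl) h
  exact congrArg (fun L => L t) h'

end ShF
end Groth.Agent.Lib.Helper6
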