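import Groth.Agent.Lib.Helper6.ShF5
import Groth.Agent.Lib.Helper6.ShF0
import Groth.Agent.Lib.Helper35.RHomBij

/-! One-variable step: for `T ≅ S[y]` and `f` monic, `(M ⊗_S T)[1]` represents
`Y ↦ Hom_{D(S)}(res Y, M)` on the objects `Y` of `D(T)` killed by `f(y)` (helper6). -/

set_option autoImplicit false
set_option linter.unusedSectionVars false
universe u
open Polynomial CategoryTheory CategoryTheory.Limits DerivedCategory Pretriangulated
attribute [local instance] HasDerivedCategory.standard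

namespace Groth.Agent.Lib.Helper6
namespace ShF

open Groth.Agent.Lib.Helper35

section tri

variable {C : Type*} [Category C] [Preadditive C] [HasZeroObject C] [HasShift C ℤ]
  [∀ n : ℤ, (shiftFunctor C n).Additive] [Pretriangulated C]

lemma bijective_postcomp_mor₃ (T : Triangle C) (hT : T ∈ distTriang C) (Y : C)
    (h0 : ∀ u : Y ⟶ T.obj₂, u = 0) (h1 : ∀ u : Y ⟶ T.obj₂⟦(1 : ℤ)⟧, u = 0) :
    Function.Bijective (fun u : Y ⟶ T.obj₃ => u ≫ T.mor₃) := by
  constructor
  · intro u u' huu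
    have h : (u - u') ≫ T.mor₃ = 0 := by
      rw [Preadditive.sub_comp]
      exact sub_eq_zero.2 huu
    obtain ⟨g, hg⟩ := Triangle.coyoneda_exact₃ T hT (u - u') h
    rw [h0 g, Limits.zero_comp] at hg
    exact sub_eq_zero.1 hg
  · intro v
    obtain ⟨u, hu⟩ := Triangle.coyoneda_exact₁ T hT v (h1 _)
    exact ⟨u, hu.symm⟩

end tri

variable {S : Type u} [CommRing S] {T : Type u} [CommRing T] [Algebra S T]
  (e : T ≃ₐ[S] S[X])

/-- Laurent tails of a complex. -/
noncomputable abbrev lauCx : DRing.Cx S ⥤ DRing.Cx T :=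
  (lau e).mapHomologicalComplex (ComplexShape.up ℤ)

/-- the short complex `0 → T ⊗ J → J((y⁻¹)) → Hom_S(T, J) → 0` of complexes. -/
noncomputable def sesCx (J : DRing.Cx S) : ShortComplex (DRing.Cx T) :=
  ShortComplex.mk ((NatTrans.mapHomologicalComplex (iota e) (ComplexShape.up ℤ)).app J)
    ((NatTrans.mapHomologicalComplex (pi e) (ComplexShape.up ℤ)).app J) (by
      ext i : 1
      exact iotaApp_comp_piApp e (J.X i))

lemma sesCx_shortExact (J : DRing.Cx S) : (sesCx e J).ShortExact := by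
  apply HomologicalComplex.shortExact_of_degreewise_shortExact
  intro i
  refine ShortComplex.ShortExact.mk' ?_ ?_ ?_
  · rw [ShortComplex.moduleCat_exact_iff]
    intro x hx
    exact exists_iotaApp_eq e (J.X i) x hx
  · rw [ModuleCat.mono_iff_injective]
    exact injective_iotaApp e (J.X i)
  · rw [ModuleCat.epi_iff_surjective]
    exact surjective_piApp e (J.X i)

section unit

variable (f : S[X]) (hf : f.Monic)

include hf in
lemma isIso_smul_lau (N : ModuleCat.{u} S) : IsIso ((e.symm f) • 𝟙 ((lau e).obj N)) := by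
  rw [ConcreteCategory.isIso_iff_bijective]
  obtain ⟨w, hw⟩ := isUnit_phi f hf
  have htau : tau e (e.symm f) = (w : HahnSeries ℤ S) := by
    change phi (e (e.symm f)) = _
    rw [e.apply_symm_apply, hw]
  have h1 : ∀ x : Lau e N, ((e.symm f) • 𝟙 ((lau e).obj N) : _ ⟶ _) x =
      (show Lau e N from (w : HahnSeries ℤ S) • x) := by
    intro x
    change (e.symm f) • x = _
    rw [Lau.smul_def, htau]
  let F : Lau e N → Lau e N := fun x => (w : HahnSeries ℤ S) • x
  let G : Lau e N → Lau e N := fun x => ((w⁻¹ : (HahnSeries ℤ S)ˣ) : HahnSeries ℤ S) • x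
  have hF : Function.Bijective F := by
    rw [Function.bijective_iff_has_inverse]
    refine ⟨G, fun x => ?_, fun x => ?_⟩
    · change ((w⁻¹ : (HahnSeries ℤ S)ˣ) : HahnSeries ℤ S) • ((w : HahnSeries ℤ S) • x) = x
      rw [← mul_smul, Units.inv_mul, one_smul]
    · change (w : HahnSeries ℤ S) • (((w⁻¹ : (HahnSeries ℤ S)ˣ) : HahnSeries ℤ S) • x) = x
      rw [← mul_smul, Units.mul_inv, one_smul]
  have h2 : (⇑(ConcreteCategory.hom ((e.symm f) • 𝟙 ((lau e).obj N))) : Lau e N → Lau e N) = F :=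
    funext h1
  exact h2 ▸ hF

include hf in
lemma isIso_smul_lauCx (J : DRing.Cx S) : IsIso ((e.symm f) • 𝟙 ((lauCx e).obj J)) := by
  have : ∀ i : ℤ, IsIso (((e.symm f) • 𝟙 ((lauCx e).obj J) : _ ⟶ _).f i) := by
    intro i
    have := isIso_smul_lau e f hf (J.X i)
    exact this
  exact HomologicalComplex.Hom.isIso_of_components _

include hf in
lemma isIso_smul_Q_lauCx (J : DRing.Cx S) :
    IsIso ((e.symm f) • 𝟙 (Q.obj ((lauCx e).obj J) : Dual.D T)) := by
  have := isIso_smul_lauCx e f hf J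
  have h : (e.symm f) • 𝟙 (Q.obj ((lauCx e).obj J) : Dual.D T) =
      Q.map ((e.symm f) • 𝟙 ((lauCx e).obj J)) := by
    rw [Functor.map_smul, CategoryTheory.Functor.map_id]
  rw [h]
  infer_instance

omit [Algebra S T] in
lemma eq_zero_of_killed (t : T) (W Y : Dual.D T) (hW : IsIso (t • 𝟙 W)) (hY : t • 𝟙 Y = 0)
    (u : Y ⟶ W) : u = 0 := by
  have h2 : u ≫ (t • 𝟙 W) = 0 := by
    rw [Linear.comp_smul, Category.comp_id]
    have : t • u = (t • 𝟙 Y) ≫ u := by
      rw [Linear.smul_comp, Category.id_comp]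
    rw [this, hY, Limits.zero_comp]
  exact (cancel_mono (t • 𝟙 W)).1 (h2.trans Limits.zero_comp.symm)

include hf in
lemma isIso_smul_Q_lauCx_shift (J : DRing.Cx S) (i : ℤ) :
    IsIso ((e.symm f) • 𝟙 ((Q.obj ((lauCx e).obj J) : Dual.D T)⟦i⟧)) := by
  have := isIso_smul_Q_lauCx e f hf J
  have h : (e.symm f) • 𝟙 ((Q.obj ((lauCx e).obj J) : Dual.D T)⟦i⟧) =
      ((e.symm f) • 𝟙 (Q.obj ((lauCx e).obj J) : Dual.D T))⟦i⟧' := by
    rw [Functor.map_smul, CategoryTheory.Functor.map_id]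
  rw [h]
  infer_instance

end unit

/-- **One-variable step.** -/
theorem nonempty_relRep_step [Module.Flat S T] (f : S[X]) (hf : f.Monic) (M : Dual.D S) :
    Nonempty (RelRep (DRing.restrictD (algebraMap S T)) (fun Y => (e.symm f) • 𝟙 Y = 0)
      (((FlatBC.G S T).obj M)⟦(1 : ℤ)⟧) M) := by
  obtain ⟨J, hJ, ⟨α⟩⟩ := RHomBij.exists_kInj_rep M
  haveI := hJ
  let r₁ := RelRep.ofUniversal (ρ := DRing.restrictD (algebraMap S T))
    (Q.obj (RDual.coextC (algebraMap S T) J)) (Q.obj J) (RDual.eI (algebraMap S T) J)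
    (RDual.bijective_Phi (algebraMap S T) J)
  have hT := triangleOfSES_distinguished (sesCx_shortExact e J)
  let r₂ := (r₁.mono (P' := fun Y => (e.symm f) • 𝟙 Y = 0) (fun _ _ => trivial)).ofBijective
    (triangleOfSESδ (sesCx_shortExact e J)) (fun Y hY =>
      bijective_postcomp_mor₃ _ hT Y
        (fun u => eq_zero_of_killed (e.symm f) _ Y (isIso_smul_Q_lauCx e f hf J) hY u)
        (fun u => eq_zero_of_killed (e.symm f) _ Y (isIso_smul_Q_lauCx_shift e f hf J 1) hY u))
  let ε : (Q.obj ((FlatBC.extCx S T).obj J) : Dual.D T) ≅ (FlatBC.G S T).obj M :=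
    (FlatBC.GQIso T J).symm ≪≫ (FlatBC.G S T).mapIso α.symm
  exact ⟨(r₂.ofIsoLeft ((shiftFunctor (Dual.D T) (1 : ℤ)).mapIso ε)).ofIsoRight α.symm⟩

end ShF
end Groth.Agent.Lib.Helper6
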