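import Groth.Agent.Lib.Helper6.ShF6

/-! Base case: if `S → T` is bijective then `G M` represents `Y ↦ Hom(res Y, M)` (helper6). -/

set_option autoImplicit false
set_option linter.unusedSectionVars false
universe u
open Polynomial CategoryTheory CategoryTheory.Limits DerivedCategory Pretriangulated
attribute [local instance] HasDerivedCategory.standard

namespace Groth.Agent.Lib.Helper6
namespace ShF

open Groth.Agent.Lib.Helper35

variable {S : Type u} [CommRing S] {T : Type u} [CommRing T] [Algebra S T]

/-- for a bijective ring map, coextension and extension of scalars agree. -/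
noncomputable def coextIsoExt (h : Function.Bijective (algebraMap S T)) :
    ModuleCat.coextendScalars.{u, u, u} (algebraMap S T) ≅
      ModuleCat.extendScalars.{u, u, u} (algebraMap S T) :=
  let E := ModuleCat.restrictScalarsEquivalenceOfRingEquiv.{u}
    (RingEquiv.ofBijective (algebraMap S T) h)
  (Adjunction.rightAdjointUniq (ModuleCat.restrictCoextendScalarsAdj.{u, u, u} (algebraMap S T))
      (show ModuleCat.restrictScalars.{u} (algebraMap S T) ⊣ E.inverse from E.toAdjunction)) ≪≫
    (Adjunction.leftAdjointUniq (ModuleCat.extendRestrictScalarsAdj.{u, u, u} (algebraMap S T))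
      (show E.inverse ⊣ ModuleCat.restrictScalars.{u} (algebraMap S T) from
        E.symm.toAdjunction)).symm

theorem nonempty_relRep_base [Module.Flat S T] (h : Function.Bijective (algebraMap S T))
    (M : Dual.D S) :
    Nonempty (RelRep (DRing.restrictD (algebraMap S T)) (fun _ => True)
      ((FlatBC.G S T).obj M) M) := by
  obtain ⟨J, hJ, ⟨α⟩⟩ := RHomBij.exists_kInj_rep M
  haveI := hJ
  let r₁ := RelRep.ofUniversal (ρ := DRing.restrictD (algebraMap S T))
    (Q.obj (RDual.coextC (algebraMap S T) J)) (Q.obj J) (RDual.eI (algebraMap S T) J)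
    (RDual.bijective_Phi (algebraMap S T) J)
  let κ : RDual.coextC (algebraMap S T) J ≅ (FlatBC.extCx S T).obj J :=
    (NatIso.mapHomologicalComplex (coextIsoExt h) (ComplexShape.up ℤ)).app J
  let ε : (Q.obj (RDual.coextC (algebraMap S T) J) : Dual.D T) ≅ (FlatBC.G S T).obj M :=
    Q.mapIso κ ≪≫ (FlatBC.GQIso T J).symm ≪≫ (FlatBC.G S T).mapIso α.symm
  exact ⟨(r₁.ofIsoLeft ε).ofIsoRight α.symm⟩

end ShF
end Groth.Agent.Lib.Helper6
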