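import Groth.Agent.Lib.Helper6.ShF7
import Groth.Agent.Lib.Helper6.RestrLin

/-! Tower induction over the variables of a polynomial ring (helper6). -/

set_option autoImplicit false
set_option linter.unusedSectionVars false
universe u
open CategoryTheory CategoryTheory.Limits DerivedCategory Pretriangulated
attribute [local instance] HasDerivedCategory.standard

namespace Groth.Agent.Lib.Helper6
namespace ShF

open Groth.Agent.Lib.Helper35

/-- the statement proved by induction on the number of variables. -/
def MainStmt (n : ℕ) : Prop :=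
  ∀ (R T : Type u) [CommRing R] [CommRing T] [Algebra R T] [Module.Flat R T] (x : Fin n → T)
    (_ : Function.Bijective (MvPolynomial.aeval x : MvPolynomial (Fin n) R →ₐ[R] T))
    (f : Fin n → Polynomial R) (_ : ∀ i, (f i).Monic) (K : Dual.D R),
    Nonempty (RelRep (DRing.restrictD (algebraMap R T))
      (fun Y => ∀ i, (Polynomial.aeval (x i) (f i)) • 𝟙 Y = 0)
      (((FlatBC.G R T).obj K)⟦(n : ℤ)⟧) K)

theorem mainStmt_zero : MainStmt.{u} 0 := by
  intro R T _ _ _ _ x hx f hf K
  have hb : Function.Bijective (algebraMap R T) := by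
    have h1 : (algebraMap R T : R → T) =
        (MvPolynomial.aeval x : MvPolynomial (Fin 0) R →ₐ[R] T) ∘
          (MvPolynomial.C : R → MvPolynomial (Fin 0) R) := by
      funext r
      simp
    rw [h1]
    refine hx.comp ⟨MvPolynomial.C_injective _ _, fun p => ⟨MvPolynomial.coeff 0 p, ?_⟩⟩
    exact (MvPolynomial.eq_C_of_isEmpty p).symm
  obtain ⟨r⟩ := nonempty_relRep_base hb K
  exact ⟨(r.mono (fun _ _ => trivial)).ofIsoLeft
    ((shiftFunctorZero' (Dual.D T) ((0 : ℕ) : ℤ) (by simp)).app _).symm⟩

section tower

variable (R T : Type u) [CommRing R] [CommRing T] [Algebra R T] (n : ℕ) (x : Fin (n + 1) → T)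
  (hx : Function.Bijective (MvPolynomial.aeval x : MvPolynomial (Fin (n + 1)) R →ₐ[R] T))

/-- the `R`-algebra isomorphism `T ≅ (R[x₁..xₙ])[X]`. -/
noncomputable def e0 : T ≃ₐ[R] Polynomial (MvPolynomial (Fin n) R) :=
  (AlgEquiv.ofBijective (MvPolynomial.aeval x) hx).symm.trans (MvPolynomial.finSuccEquiv R n)

lemma e0_x (i : Fin (n + 1)) :
    e0 R T n x hx (x i) = MvPolynomial.finSuccEquiv R n (MvPolynomial.X i) := by
  have h : (AlgEquiv.ofBijective (MvPolynomial.aeval x) hx).symm (x i) = MvPolynomial.X i := by
    rw [AlgEquiv.symm_apply_eq]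
    simp
  simp only [e0, AlgEquiv.trans_apply, h]

lemma e0_x_zero : e0 R T n x hx (x 0) = Polynomial.X := by
  rw [e0_x, MvPolynomial.finSuccEquiv_X_zero]

lemma e0_aeval (s : MvPolynomial (Fin n) R) :
    e0 R T n x hx (MvPolynomial.aeval (fun i : Fin n => x i.succ) s) = Polynomial.C s := by
  have h : ((e0 R T n x hx).toAlgHom.comp (MvPolynomial.aeval (fun i : Fin n => x i.succ))) =
      (IsScalarTower.toAlgHom R (MvPolynomial (Fin n) R) (Polynomial (MvPolynomial (Fin n) R))) := by
    apply MvPolynomial.algHom_ext
    intro i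
    simp only [AlgHom.comp_apply, MvPolynomial.aeval_X, IsScalarTower.coe_toAlgHom',
      Polynomial.algebraMap_apply, Algebra.algebraMap_self, RingHom.id_apply]
    exact (e0_x R T n x hx i.succ).trans MvPolynomial.finSuccEquiv_X_succ
  exact congrArg (fun φ => φ s) h

end tower

section functors

variable (R S T : Type u) [CommRing R] [CommRing S] [CommRing T] [Algebra R S] [Algebra S T]
  [Algebra R T] [IsScalarTower R S T]

/-- restriction of scalars in a tower, on derived categories. -/
noncomputable def restrictDTowerIso :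
    DRing.restrictD (algebraMap S T) ⋙ DRing.restrictD (algebraMap R S) ≅
      DRing.restrictD (algebraMap R T) :=
  (mapDerivedCategoryComp (ModuleCat.restrictScalars.{u} (algebraMap S T))
      (ModuleCat.restrictScalars.{u} (algebraMap R S))).symm ≪≫
    mapDerivedCategoryIso (ModuleCat.restrictScalarsComp'.{u} (algebraMap R S) (algebraMap S T)
      (algebraMap R T) (IsScalarTower.algebraMap_eq R S T)).symm

variable [Module.Flat R S] [Module.Flat S T] [Module.Flat R T]

/-- extension of scalars in a tower, on derived categories. -/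
noncomputable def GTowerIso :
    FlatBC.G R S ⋙ FlatBC.G S T ≅ FlatBC.G R T :=
  (mapDerivedCategoryComp (FlatBC.ext R S) (FlatBC.ext S T)).symm ≪≫
    mapDerivedCategoryIso ((eqToIso (by rw [IsScalarTower.algebraMap_eq R S T]) :
      ModuleCat.extendScalars.{u, u, u} (algebraMap R T) ≅
        ModuleCat.extendScalars.{u, u, u} ((algebraMap S T).comp (algebraMap R S))) ≪≫
      ModuleCat.extendScalarsComp.{u} (algebraMap R S) (algebraMap S T)).symm

end functors

end ShF
end Groth.Agent.Lib.Helper6
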