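import Groth.Agent.Lib.Helper6.ShF8

/-! Tower induction: the inductive step and the main representability theorem (helper6). -/

set_option autoImplicit false
set_option linter.unusedSectionVars false
universe u
open CategoryTheory CategoryTheory.Limits DerivedCategory Pretriangulated
attribute [local instance] HasDerivedCategory.standard

namespace Groth.Agent.Lib.Helper6
namespace ShF

open Groth.Agent.Lib.Helper35

theorem mainStmt_succ (n : ℕ) (IH : MainStmt.{u} n) : MainStmt.{u} (n + 1) := by
  intro R T _ _ _ _ x hx f hf K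
  let S := MvPolynomial (Fin n) R
  let g : S →ₐ[R] T := MvPolynomial.aeval (fun i : Fin n => x i.succ)
  letI : Algebra S T := g.toRingHom.toAlgebra
  haveI : IsScalarTower R S T := IsScalarTower.of_algebraMap_eq (fun r => (g.commutes r).symm)
  let e : T ≃ₐ[S] Polynomial S :=
    AlgEquiv.ofRingEquiv (f := (e0 R T n x hx).toRingEquiv) (fun s => e0_aeval R T n x hx s)
  have heX : e.symm Polynomial.X = x 0 := by
    rw [AlgEquiv.symm_apply_eq]
    exact (e0_x_zero R T n x hx).symm
  haveI : Module.Flat S T := Module.Flat.of_linearEquiv e.toLinearEquiv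
  -- the induction hypothesis
  have hXbij : Function.Bijective
      (MvPolynomial.aeval (fun i : Fin n => (MvPolynomial.X i : S)) : MvPolynomial (Fin n) R →ₐ[R] S) := by
    rw [MvPolynomial.aeval_X_left]
    exact Function.bijective_id
  obtain ⟨rIH⟩ := IH R S (fun i => MvPolynomial.X i) hXbij (fun i => f i.succ)
    (fun i => hf i.succ) K
  -- the one-variable step
  let M : Dual.D S := ((FlatBC.G R S).obj K)⟦(n : ℤ)⟧
  obtain ⟨rSV⟩ := nonempty_relRep_step e ((f 0).map (algebraMap R S)) ((hf 0).map _) M
  have hkey : e.symm ((f 0).map (algebraMap R S)) = Polynomial.aeval (x 0) (f 0) := by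
    have h1 : (e.symm : Polynomial S →ₐ[S] T) = Polynomial.aeval (e.symm Polynomial.X) := by
      apply Polynomial.algHom_ext
      rw [Polynomial.aeval_X]
      rfl
    have h2 : e.symm ((f 0).map (algebraMap R S)) =
        (e.symm : Polynomial S →ₐ[S] T) ((f 0).map (algebraMap R S)) := rfl
    rw [h2, h1, heX, Polynomial.aeval_map_algebraMap]
  have hg : ∀ (i : Fin n) (p : Polynomial R),
      algebraMap S T (Polynomial.aeval (MvPolynomial.X i : S) p) =
        Polynomial.aeval (x i.succ) p := by
    intro i p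
    change g (Polynomial.aeval (MvPolynomial.X i : S) p) = _
    rw [← Polynomial.aeval_algHom_apply g (MvPolynomial.X i) p]
    congr 2
    exact MvPolynomial.aeval_X _ i
  let r₁ := (rSV.mono (P' := fun Y : Dual.D T =>
      ∀ i, (Polynomial.aeval (x i) (f i)) • 𝟙 Y = 0) (fun Y hY => by
        change e.symm ((f 0).map (algebraMap R S)) • 𝟙 Y = 0
        rw [hkey]
        exact hY 0)).comp rIH (fun Y hY i => by
          have h1 := RestrLin.restrictD_map_smul_id (algebraMap S T) Y
            (Polynomial.aeval (MvPolynomial.X i : S) (f i.succ))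
          rw [← h1, hg, hY i.succ, Functor.map_zero])
  let r₂ := r₁.ofNatIso (restrictDTowerIso R S T)
  let ε : ((FlatBC.G S T).obj M)⟦(1 : ℤ)⟧ ≅ ((FlatBC.G R T).obj K)⟦((n + 1 : ℕ) : ℤ)⟧ :=
    (shiftFunctor (Dual.D T) (1 : ℤ)).mapIso
      (((FlatBC.G S T).commShiftIso (n : ℤ)).app ((FlatBC.G R S).obj K) ≪≫
        (shiftFunctor (Dual.D T) (n : ℤ)).mapIso ((GTowerIso R S T).app K)) ≪≫
    ((shiftFunctorAdd' (Dual.D T) (n : ℤ) 1 ((n + 1 : ℕ) : ℤ) (by push_cast; ring)).app
      ((FlatBC.G R T).obj K)).symm
  exact ⟨r₂.ofIsoLeft ε⟩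

theorem mainStmt (n : ℕ) : MainStmt.{u} n := by
  induction n with
  | zero => exact mainStmt_zero
  | succ n ih => exact mainStmt_succ n ih

end ShF
end Groth.Agent.Lib.Helper6
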