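import Groth.Agent.Lib.Helper90.DTen.Rel.Final
import Groth.Agent.Lib.Helper35.PolyFTD
import Groth.Agent.Lib.Helper35.FTD

/-! The right adjoint of restriction along `φ : R → A`, `A` perfect over `R`, for an arbitrary
right adjoint `Rφ` (helper6; after helper90's `DTen/Rel`): `Rφ (Q P) ≅ Q (ext P ⊗ W)` for `P`
K-projective and `W` a K-projective model of `Rφ (unit)`.  Also: for a flat ring map of finite
type `R → A`, `R` Noetherian, `A` is perfect over the polynomial ring of any presentation
(helper35's `PolyFTD`). -/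

set_option autoImplicit false
set_option linter.style.haveILetI false
set_option linter.unusedSectionVars false
universe u
open CategoryTheory CategoryTheory.Limits MonoidalCategory
attribute [local instance] HasDerivedCategory.standard

namespace Groth.Agent.Lib.Helper6
namespace ShP

open _root_.DTen Groth.Agent.Lib.Helper90.DTen.Rel Groth.Agent.Lib.Helper90.DTen.BC

section Theta

variable {R A : Type u} [CommRing R] [CommRing A] {φ : R →+* A}
  {Rφ : Dual.D R ⥤ Dual.D A} (adj : DRing.restrictD φ ⊣ Rφ)

/-- the universal property of the counit of an adjunction. -/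
lemma bijective_counit (K : Dual.D R) (M : Dual.D A) :
    Function.Bijective (fun x : M ⟶ Rφ.obj K =>
      (DRing.restrictD φ).map x ≫ adj.counit.app K) := by
  have h := (adj.homEquiv M K).symm.bijective
  convert h using 1
  funext x
  exact (adj.homEquiv_counit M K x).symm

variable (D : RelData φ (Rφ.obj (unit R)) (adj.counit.app (unit R)))
  (P : DRing.Cx R) [P.IsKProjective]

/-- The comparison `Q (ext P ⊗ W) ⟶ Rφ (Q P)`. -/
noncomputable def thetaHom :
    DerivedCategory.Q.obj (zObj D P) ⟶ Rφ.obj (DerivedCategory.Q.obj P) :=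
  adj.homEquiv _ _ (cP D P)

instance isIso_thetaHom : IsIso (thetaHom adj D P) := by
  apply isIso_of_bijective_ext φ
  intro T _
  have h1 := bijective_theta D P T
  have h2 := (adj.homEquiv (DerivedCategory.Q.obj ((extCx φ).obj T))
    (DerivedCategory.Q.obj P)).bijective
  have h3 := h2.comp h1
  convert h3 using 1
  funext x
  dsimp only [Function.comp, thetaHom]
  rw [Adjunction.homEquiv_naturality_left]

include adj in
/-- the data exist when `A` is perfect over `R`. -/
theorem nonempty_relData (hA : DRing.IsPerfect R ((DRing.restrictD φ).obj (unit A))) :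
    Nonempty (RelData φ (Rφ.obj (unit R)) (adj.counit.app (unit R))) := by
  obtain ⟨E, a, b, hE, hfp, ⟨e⟩⟩ := hA
  exact exists_relData φ E a b hE hfp (e ≪≫ (resFactors φ).app (𝟙_ (DRing.Cx A))) _ _
    (bijective_counit adj (unit R))

include adj in
/-- `A` perfect over `R`: there is a K-projective model `W` of `Rφ (unit R)` with
`Rφ (Q P) ≅ Q (ext P ⊗ W)` for all K-projective `P`. -/
theorem exists_model (hA : DRing.IsPerfect R ((DRing.restrictD φ).obj (unit A))) :
    ∃ (W : DRing.Cx A), W.IsKProjective ∧
      Nonempty (DerivedCategory.Q.obj W ≅ Rφ.obj (unit R)) ∧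
      ∀ (P : DRing.Cx R) [P.IsKProjective],
        Nonempty (Rφ.obj (DerivedCategory.Q.obj P) ≅
          DerivedCategory.Q.obj ((extCx φ).obj P ⊗ W)) := by
  obtain ⟨D⟩ := nonempty_relData adj hA
  exact ⟨D.W, D.hW, ⟨D.eW⟩, fun P _ => ⟨(asIso (thetaHom adj D P)).symm⟩⟩

end Theta

section Perf

variable (R A : Type u) [CommRing R] [CommRing A] [IsNoetherianRing R] [Algebra R A]
  [Module.Flat R A] (n : ℕ) (ψ : MvPolynomial (Fin n) R →ₐ[R] A)

/-- a flat algebra of finite type over a Noetherian ring is perfect over the polynomial ring of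
a presentation. -/
theorem isPerfect_restrict_unit (hψ : Function.Surjective ψ) :
    DRing.IsPerfect (MvPolynomial (Fin n) R) ((DRing.restrictD ψ.toRingHom).obj (unit A)) := by
  letI : Algebra (MvPolynomial (Fin n) R) A := ψ.toRingHom.toAlgebra
  haveI : Module.Finite (MvPolynomial (Fin n) R) A :=
    Module.Finite.of_surjective (Algebra.linearMap (MvPolynomial (Fin n) R) A) hψ
  have hpc : DRing.IsPseudoCoherentModule' (MvPolynomial (Fin n) R) A :=
    Groth.Agent.Lib.Helper35.KL.isPseudoCoherent'_single_of_finite_of_isNoetherianRing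
      (ModuleCat.of (MvPolynomial (Fin n) R) A)
  have hfd : DRing.HasFiniteTorDim R A := Groth.Agent.Lib.Helper35.FTD.of_flat A
  have h := Groth.Agent.Lib.Helper35.PolyFTD.isPerfectModule_of_isPerfectHom R A n ψ hpc hfd
  obtain ⟨E, a, b, hE, hfp, ⟨e⟩⟩ := h
  refine ⟨E, a, b, hE, hfp, ⟨e ≪≫ ?_⟩⟩
  exact (DerivedCategory.singleFunctorIsoCompQ (ModuleCat.{u} (MvPolynomial (Fin n) R)) 0).app
      (ModuleCat.of (MvPolynomial (Fin n) R) A) ≪≫
    DerivedCategory.Q.mapIso (resUnitIso (MvPolynomial (Fin n) R) A) ≪≫
    ((resFactors (algebraMap (MvPolynomial (Fin n) R) A)).app (𝟙_ (DRing.Cx A))).symm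

end Perf

end ShP
end Groth.Agent.Lib.Helper6
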