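import Groth.Agent.Lib.Helper6.ShP9
import Groth.Agent.Lib.Helper90.DTen.Rel.Pairing

/-! Biduality, derived form: for `E` a bounded complex of finite projective modules with dual
`F = Hom•(E, 𝟙)`, equivariant bijections `Hom(Q (T ⊗ F), Q 𝟙) ≃ Hom(Q T, Q E)` for `T`
K-projective (helper6). -/

set_option autoImplicit false
set_option linter.style.haveILetI false
set_option linter.unusedSectionVars false
universe u
open CategoryTheory CategoryTheory.Limits MonoidalCategory CochainComplex HomComplex
open scoped TensorProduct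
attribute [local instance] HasDerivedCategory.standard

namespace Groth.Agent.Lib.Helper6
namespace ShP

open _root_.DTen Groth.Agent.Lib.Helper90.DTen Groth.Agent.Lib.Helper26.TensorHomCx
  Groth.Agent.Lib.Helper28 Groth.Agent.Lib.Helper90.DTen.Rel Groth.Agent.Lib.Helper26.KProjQ

section Iso

variable {A : Type u} [CommRing A] (E : DRing.Cx A)

theorem isIso_bd (hE : DRing.TermwiseFiniteProjective E) : IsIso (bd E) := by
  haveI : ∀ p, IsIso ((bd E).f p) := fun p => by
    haveI := (hE p).1
    haveI := (hE p).2
    exact (ConcreteCategory.isIso_iff_bijective _).2 (bijective_bd_f E p)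
  exact HomologicalComplex.Hom.isIso_of_components (bd E)

theorem isKProjective_dualCx (a b : ℤ) (hv : DRing.VanishesOutside E a b)
    (hE : DRing.TermwiseFiniteProjective E) : (dualCx E).IsKProjective :=
  Groth.Agent.Lib.Helper32.LBC.isKProjective_of_vanishesAbove (dualCx E) (-a)
    (fun i hi => vanishesOutside_dual E a b hv i (Or.inr hi))
    (fun i => (termwiseFiniteProjective_dual E hE i).2)

end Iso

section SEq

/-- an equivariant bijection. -/
structure SEq (P : Type*) (M N : Type*) [SMul P M] [SMul P N] where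
  e : M ≃ N
  smul : ∀ (p : P) (m : M), e (p • m) = p • e m

namespace SEq

variable {P : Type*} {M N O : Type*} [SMul P M] [SMul P N] [SMul P O]

def trans (f : SEq P M N) (g : SEq P N O) : SEq P M O where
  e := f.e.trans g.e
  smul p m := by
    rw [Equiv.trans_apply, f.smul, g.smul, Equiv.trans_apply]

def symm (f : SEq P M N) : SEq P N M where
  e := f.e.symm
  smul p n := by
    apply f.e.injective
    rw [Equiv.apply_symm_apply, f.smul, Equiv.apply_symm_apply]

end SEq

/-- conjugation by isomorphisms in a linear category. -/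
def SEq.homCongr (P : Type*) [Semiring P] {C : Type*} [Category C] [Preadditive C] [Linear P C]
    {X X' Y Y' : C} (e₁ : X ≅ X') (e₂ : Y ≅ Y') : SEq P (X ⟶ Y) (X' ⟶ Y') where
  e := Iso.homCongr e₁ e₂
  smul p f := by
    simp only [Iso.homCongr_apply, Linear.comp_smul, Linear.smul_comp]

end SEq

section Chain

variable {P : Type u} [CommRing P]

lemma uncurryHom_smul {K L Z : DRing.Cx P} (p : P) (g : K ⟶ DRing.homCx L Z) :
    uncurryHom (p • g) = p • uncurryHom g := by
  apply ofHom_injective
  rw [ofHom_uncurryHom]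
  have h1 : Cochain.ofHom (p • g) = p • Cochain.ofHom g := by
    ext q
    simp
  have h2 : Cochain.ofHom (p • uncurryHom g) = p • Cochain.ofHom (uncurryHom g) := by
    ext q
    simp
  rw [h1, uncurry_smul, h2, ofHom_uncurryHom]

/-- `uncurryD` as an equivariant bijection. -/
noncomputable def uncurrySEq (T L X : DRing.Cx P) [T.IsKProjective] [L.IsKProjective] :
    SEq P (DerivedCategory.Q.obj T ⟶ DerivedCategory.Q.obj (DRing.homCx L X))
      (DerivedCategory.Q.obj (T ⊗ L) ⟶ DerivedCategory.Q.obj X) where
  e := Equiv.ofBijective _ (bijective_uncurryD T L X)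
  smul p z := by
    obtain ⟨g, rfl⟩ := Q_map_surjective T _ z
    change uncurryD T L X (p • DerivedCategory.Q.map g) = p • uncurryD T L X (DerivedCategory.Q.map g)
    rw [← Functor.map_smul, uncurryD_Q_map, uncurryD_Q_map, uncurryHom_smul, Functor.map_smul]

variable (E : DRing.Cx P) (a b : ℤ) (hv : DRing.VanishesOutside E a b)
  (hE : DRing.TermwiseFiniteProjective E)

include hv hE in
/-- biduality: `Hom(Q (T ⊗ E^∨), Q 𝟙) ≃ Hom(Q T, Q E)`. -/
theorem nonempty_chainT (T : DRing.Cx P) [T.IsKProjective] :
    Nonempty (SEq P (DerivedCategory.Q.obj (T ⊗ dualCx E) ⟶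
        DerivedCategory.Q.obj (𝟙_ (DRing.Cx P)))
      (DerivedCategory.Q.obj T ⟶ DerivedCategory.Q.obj E)) := by
  haveI := isKProjective_dualCx E a b hv hE
  haveI := isIso_bd E hE
  exact ⟨(uncurrySEq T (dualCx E) (𝟙_ (DRing.Cx P))).symm.trans
    (SEq.homCongr P (Iso.refl _) (DerivedCategory.Q.mapIso (asIso (bd E)).symm))⟩

end Chain

end ShP
end Groth.Agent.Lib.Helper6
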