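import Groth.Agent.Lib.Helper6.ShP10
import Groth.Agent.Lib.Helper6.RDual3
import Groth.Agent.Lib.Helper6.RestrLin
import Groth.Agent.Lib.Helper6.DualShift
import Groth.Agent.Lib.Helper6.KT3
import Groth.Agent.Lib.Helper6.FlatPC
import Groth.Agent.Lib.Helper90.Shriek.ExistsRAdj
import Groth.Agent.S11185

/-! For `φ : R → A` surjective with `A` perfect over `R` and `Rφ` right adjoint to restriction:
`A → End(Rφ(unit))` is bijective and `Rφ(unit)` has no self-maps of nonzero degree (helper6). -/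

set_option autoImplicit false
set_option linter.style.haveILetI false
set_option linter.unusedSectionVars false
universe u
open CategoryTheory CategoryTheory.Limits MonoidalCategory DerivedCategory
attribute [local instance] HasDerivedCategory.standard

namespace Groth.Agent.Lib.Helper6
namespace ShP

open _root_.DTen Groth.Agent.Lib.Helper90.DTen.Rel Groth.Agent.Lib.Helper90.DTen.BC

section ShiftHom

variable {C : Type*} [Category C] [Preadditive C] [HasShift C ℤ]
  [∀ n : ℤ, (shiftFunctor C n).Additive]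

/-- `Hom(X[-i], Y) ≃ Hom(X, Y[i])`. -/
noncomputable def homShiftEquiv (X Y : C) (i : ℤ) : (X⟦-i⟧ ⟶ Y) ≃ (X ⟶ Y⟦i⟧) :=
  (Equiv.ofBijective (fun f : X⟦-i⟧ ⟶ Y => (shiftFunctor C i).map f)
    ⟨fun _ _ h => (shiftFunctor C i).map_injective h,
      fun g => (shiftFunctor C i).map_surjective g⟩).trans
    (Iso.homCongr ((shiftFunctorCompIsoId C (-i) i (by omega)).app X) (Iso.refl _))

end ShiftHom

section Data

variable {R A : Type u} [CommRing R] [CommRing A] {φ : R →+* A}
  {Rφ : Dual.D R ⥤ Dual.D A} (adj : DRing.restrictD φ ⊣ Rφ)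

include adj in
/-- `A` perfect over `R`: a bounded complex of finite projectives `E ≃ A` whose dual computes
the restriction of `Rφ (unit)`. -/
theorem exists_dual_data (hA : DRing.IsPerfect R ((DRing.restrictD φ).obj (unit A))) :
    ∃ (E : DRing.Cx R) (a b : ℤ), DRing.VanishesOutside E a b ∧
      DRing.TermwiseFiniteProjective E ∧
      Nonempty (Q.obj E ≅ (DRing.restrictD φ).obj (unit A)) ∧
      Nonempty (Q.obj (dualCx E) ≅ (DRing.restrictD φ).obj (Rφ.obj (unit R))) := by
  obtain ⟨D⟩ := nonempty_relData adj hA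
  refine ⟨D.E, D.a, D.b, D.hE, D.hfp, ⟨?_⟩, ⟨?_⟩⟩
  · exact asIso (Q.map D.q) ≪≫ ((resFactors φ).app (𝟙_ (DRing.Cx A))).symm
  · haveI : QuasiIso (cmap D) := quasiIso_cmap D
    exact (asIso (Q.map (cmap D))).symm ≪≫
      asIso (Q.map D.k) ≪≫ ((resFactors φ).app D.W).symm ≪≫
      (DRing.restrictD φ).mapIso D.eW

end Data

section Vanish

variable {R A : Type u} [CommRing R] [CommRing A] (φ : R →+* A)
  {Rφ : Dual.D R ⥤ Dual.D A} (adj : DRing.restrictD φ ⊣ Rφ)

/-- the restriction of the unit is a module in degree zero. -/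
noncomputable def resUnitSingleIso :
    (DRing.restrictD φ).obj (unit A) ≅
      (singleFunctor (ModuleCat.{u} R) 0).obj
        ((ModuleCat.restrictScalars.{u} φ).obj (ModuleCat.of A A)) :=
  (DRing.restrictD φ).mapIso (KT.unitIso A).symm ≪≫
    ((ModuleCat.restrictScalars.{u} φ).mapDerivedCategorySingleFunctor 0).app (ModuleCat.of A A)

lemma subsingleton_unit_hom (i : ℤ) (hi : i ≠ 0) :
    Subsingleton (unit R ⟶ ((DRing.restrictD φ).obj (unit A))⟦i⟧) := by
  haveI : Projective (ModuleCat.of R R) :=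
    (IsProjective.iff_projective (R := R) (P := R)).1 inferInstance
  have h : Subsingleton ((singleFunctor (ModuleCat.{u} R) 0).obj (ModuleCat.of R R) ⟶
      ((singleFunctor (ModuleCat.{u} R) 0).obj
        ((ModuleCat.restrictScalars.{u} φ).obj (ModuleCat.of A A)))⟦i⟧) := by
    rcases lt_or_gt_of_ne hi with h1 | h1
    · exact Groth.Agent.S11185.subsingleton_hom_neg R _ _ i h1
    · exact Groth.Agent.S11185.subsingleton_hom_pos_of_projective R _ _ i h1
  exact (Iso.homCongr (KT.unitIso R).symm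
    ((shiftFunctor (Dual.D R) i).mapIso (resUnitSingleIso φ))).subsingleton

include adj in
/-- no self-maps of nonzero degree. -/
theorem subsingleton_hom_shift (hA : DRing.IsPerfect R ((DRing.restrictD φ).obj (unit A)))
    (i : ℤ) (hi : i ≠ 0) :
    Subsingleton (Rφ.obj (unit R) ⟶ (Rφ.obj (unit R))⟦i⟧) := by
  obtain ⟨E, a, b, hv, hE, ⟨eE⟩, ⟨eF⟩⟩ := exists_dual_data adj hA
  let s1 := RDual.homEquivShift φ adj (Rφ.obj (unit R)) (unit R) i
  let s2 := (homShiftEquiv ((DRing.restrictD φ).obj (Rφ.obj (unit R))) (unit R) i).symm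
  let T : DRing.Cx R := (𝟙_ (DRing.Cx R))⟦-i⟧
  let eL : Q.obj (T ⊗ dualCx E) ≅ ((DRing.restrictD φ).obj (Rφ.obj (unit R)))⟦-i⟧ :=
    Q.mapIso (KT.shiftTensorIso R (dualCx E) (𝟙_ (DRing.Cx R)) (-i) ≪≫
      (shiftFunctor (DRing.Cx R) (-i)).mapIso (λ_ (dualCx E))) ≪≫
    (Q.commShiftIso (-i)).app (dualCx E) ≪≫ (shiftFunctor (Dual.D R) (-i)).mapIso eF
  let s3 := Iso.homCongr eL.symm (Iso.refl (unit R))
  obtain ⟨c⟩ := nonempty_chainT E a b hv hE T
  let eT : Q.obj T ≅ (unit R)⟦-i⟧ := (Q.commShiftIso (-i)).app (𝟙_ (DRing.Cx R))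
  let s5 := Iso.homCongr eT eE
  let s6 := homShiftEquiv (unit R) ((DRing.restrictD φ).obj (unit A)) i
  haveI := subsingleton_unit_hom φ i hi
  exact (s1.trans (s2.trans (s3.trans (c.e.trans (s5.trans s6))))).subsingleton

end Vanish

section Alg

variable {A : Type u} [CommRing A] {C : Type*} [Category C] [Preadditive C] [Linear A C]

/-- an equivariant bijection `End(X) ≃ A` forces `a ↦ a • 𝟙` to be bijective. -/
lemma bijective_smul_id_of_equivariant (X : C) (θ : (X ⟶ X) ≃ A)
    (h : ∀ (a : A) (x : X ⟶ X), θ (a • x) = a * θ x) :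
    Function.Bijective (fun a : A => a • 𝟙 X) := by
  let g : X ⟶ X := θ.symm 1
  have hg : θ g = 1 := θ.apply_symm_apply 1
  have hx : ∀ x : X ⟶ X, x = θ x • g := by
    intro x
    apply θ.injective
    rw [h, hg, mul_one]
  let a₀ := θ (𝟙 X)
  let b := θ (g ≫ g)
  have h1 : g = (a₀ * b) • g := by
    calc g = g ≫ 𝟙 X := (Category.comp_id g).symm
      _ = g ≫ (a₀ • g) := by rw [← hx (𝟙 X)]
      _ = a₀ • (g ≫ g) := Linear.comp_smul _ _ _ g a₀ g
      _ = a₀ • (b • g) := by rw [← hx (g ≫ g)]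
      _ = (a₀ * b) • g := by rw [smul_smul]
  have h2 : a₀ * b = 1 := by
    have := congrArg θ h1
    rw [h, hg, mul_one] at this
    exact this.symm
  have h3 : ∀ a : A, θ (a • 𝟙 X) = a * a₀ := fun a => h a (𝟙 X)
  constructor
  · intro a a' haa
    have := congrArg θ haa
    simp only [h3] at this
    calc a = a * (a₀ * b) := by rw [h2, mul_one]
      _ = (a * a₀) * b := by ring
      _ = (a' * a₀) * b := by rw [this]
      _ = a' * (a₀ * b) := by ring
      _ = a' := by rw [h2, mul_one]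
  · intro x
    refine ⟨θ x * b, ?_⟩
    apply θ.injective
    dsimp only
    rw [h3]
    calc θ x * b * a₀ = θ x * (a₀ * b) := by ring
      _ = θ x := by rw [h2, mul_one]

end Alg

section ToEnd

variable {R A : Type u} [CommRing R] [CommRing A] (φ : R →+* A)
  {Rφ : Dual.D R ⥤ Dual.D A} (adj : DRing.restrictD φ ⊣ Rφ)

/-- `End(unit A) ≃ A`, equivariantly. -/
lemma exists_unitEnd_equiv :
    ∃ θ : (unit A ⟶ unit A) ≃ A, ∀ (a : A) (x : unit A ⟶ unit A), θ (a • x) = a * θ x := by
  have hb : Function.Bijective (fun a : A => a • 𝟙 (unit A)) := by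
    have h0 := Groth.Agent.S11185.toEnd_bijective A
    have h1 : (fun a : A => a • 𝟙 (unit A)) =
        (Iso.homCongr (KT.unitIso A) (KT.unitIso A)) ∘
          (fun a : A => a • 𝟙 ((singleFunctor (ModuleCat.{u} A) 0).obj (ModuleCat.of A A))) := by
      funext a
      simp only [Function.comp_apply, Iso.homCongr_apply, Linear.smul_comp, Linear.comp_smul,
        Category.id_comp, Iso.inv_hom_id]
    rw [h1]
    exact (Iso.homCongr (KT.unitIso A) (KT.unitIso A)).bijective.comp h0
  refine ⟨(Equiv.ofBijective _ hb).symm, fun a x => ?_⟩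
  obtain ⟨c, rfl⟩ := hb.2 x
  have e1 : (Equiv.ofBijective _ hb).symm (c • 𝟙 (unit A)) = c :=
    (Equiv.ofBijective _ hb).symm_apply_apply c
  have e2 : (Equiv.ofBijective _ hb).symm ((a * c) • 𝟙 (unit A)) = a * c :=
    (Equiv.ofBijective _ hb).symm_apply_apply (a * c)
  dsimp only
  rw [smul_smul, e2, e1]

end ToEnd

end ShP
end Groth.Agent.Lib.Helper6
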