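import Groth.Agent.Lib.Helper6.ShP11
import Groth.Agent.Lib.Helper6.LBCPC

/-! For `φ : R → A` surjective with `A` perfect over `R`: `A ≃ End(Rφ(unit))` (helper6). -/

set_option autoImplicit false
set_option linter.style.haveILetI false
set_option linter.unusedSectionVars false
universe u
open CategoryTheory CategoryTheory.Limits MonoidalCategory DerivedCategory
attribute [local instance] HasDerivedCategory.standard

namespace Groth.Agent.Lib.Helper6
namespace ShP

open _root_.DTen Groth.Agent.Lib.Helper90.DTen.Rel Groth.Agent.Lib.Helper90.DTen.BC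

section EndOmega

variable {R A : Type u} [CommRing R] [CommRing A] (φ : R →+* A)
  {Rφ : Dual.D R ⥤ Dual.D A} (adj : DRing.restrictD φ ⊣ Rφ)

/-- the derived base change of the unit is the unit. -/
lemma nonempty_lbc_unit [DRing.HasLBaseChange φ] :
    Nonempty ((DRing.LBaseChange φ).obj (unit R) ≅ unit A) := by
  letI : Algebra R A := φ.toAlgebra
  haveI : DRing.HasLBaseChange (algebraMap R A) := ‹DRing.HasLBaseChange φ›
  obtain ⟨e⟩ := FlatPC.nonempty_lbc_unit_iso (A := R) (B := A)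
  exact ⟨(DRing.LBaseChange φ).mapIso (KT.unitIso R).symm ≪≫ e ≪≫ KT.unitIso A⟩

/-- semilinearity of the base change adjunction. -/
lemma lbc_homEquiv_smul [DRing.HasLBaseChange φ] (X : Dual.D R) (Y : Dual.D A) (r : R)
    (g : (DRing.LBaseChange φ).obj X ⟶ Y) :
    (LBCPC.lbcAdj φ).homEquiv X Y (φ r • g) = r • (LBCPC.lbcAdj φ).homEquiv X Y g := by
  rw [Adjunction.homEquiv_unit, Adjunction.homEquiv_unit, RestrLin.restrictD_map_smul,
    Linear.comp_smul]

include adj in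
/-- `End(Rφ(unit)) ≃ A`, semilinearly. -/
theorem exists_endOmega_equiv (hA : DRing.IsPerfect R ((DRing.restrictD φ).obj (unit A))) :
    ∃ θ : (Rφ.obj (unit R) ⟶ Rφ.obj (unit R)) ≃ A,
      ∀ (r : R) (x : Rφ.obj (unit R) ⟶ Rφ.obj (unit R)), θ (φ r • x) = φ r * θ x := by
  haveI := Groth.Agent.Lib.Helper90.Shriek.hasLBaseChange φ
  obtain ⟨E, a, b, hv, hE, ⟨eE⟩, ⟨eF⟩⟩ := exists_dual_data adj hA
  obtain ⟨eU⟩ := nonempty_lbc_unit φ
  obtain ⟨θ, hθ⟩ := exists_unitEnd_equiv (A := A)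
  let s1 := (adj.homEquiv (Rφ.obj (unit R)) (unit R)).symm
  have h1 : ∀ (r : R) (x : Rφ.obj (unit R) ⟶ Rφ.obj (unit R)), s1 (φ r • x) = r • s1 x :=
    fun r x => RestrLin.homEquiv_symm_smul adj _ _ r x
  let eL : Q.obj (𝟙_ (DRing.Cx R) ⊗ dualCx E) ≅ (DRing.restrictD φ).obj (Rφ.obj (unit R)) :=
    Q.mapIso (λ_ (dualCx E)) ≪≫ eF
  let s2 : SEq R ((DRing.restrictD φ).obj (Rφ.obj (unit R)) ⟶ unit R)
      (Q.obj (𝟙_ (DRing.Cx R) ⊗ dualCx E) ⟶ Q.obj (𝟙_ (DRing.Cx R))) :=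
    SEq.homCongr R eL.symm (Iso.refl (unit R))
  haveI : (𝟙_ (DRing.Cx R)).IsKProjective := KT.isKProjective_unit R
  obtain ⟨c⟩ := nonempty_chainT E a b hv hE (𝟙_ (DRing.Cx R))
  let s4 : SEq R (Q.obj (𝟙_ (DRing.Cx R)) ⟶ Q.obj E)
      (unit R ⟶ (DRing.restrictD φ).obj (unit A)) :=
    SEq.homCongr R (Iso.refl (unit R)) eE
  let s5 := ((LBCPC.lbcAdj φ).homEquiv (unit R) (unit A)).symm
  have h5 : ∀ (r : R) (x : unit R ⟶ (DRing.restrictD φ).obj (unit A)),
      s5 (r • x) = φ r • s5 x := by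
    intro r x
    apply ((LBCPC.lbcAdj φ).homEquiv (unit R) (unit A)).injective
    rw [lbc_homEquiv_smul]
    simp only [s5, Equiv.apply_symm_apply]
  let s6 : SEq A ((DRing.LBaseChange φ).obj (unit R) ⟶ unit A) (unit A ⟶ unit A) :=
    SEq.homCongr A eU (Iso.refl (unit A))
  let s24 := s2.trans (c.trans s4)
  refine ⟨s1.trans (s24.e.trans (s5.trans (s6.e.trans θ))), fun r x => ?_⟩
  simp only [Equiv.trans_apply]
  rw [h1, s24.smul, h5, s6.smul, hθ]

include adj in
/-- `A → End(Rφ(unit))` is bijective for `φ` surjective and perfect. -/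
theorem bijective_smul_id_omega (hφ : Function.Surjective φ)
    (hA : DRing.IsPerfect R ((DRing.restrictD φ).obj (unit A))) :
    Function.Bijective (fun a : A => a • 𝟙 (Rφ.obj (unit R))) := by
  obtain ⟨θ, hθ⟩ := exists_endOmega_equiv φ adj hA
  refine bijective_smul_id_of_equivariant _ θ (fun a x => ?_)
  obtain ⟨r, rfl⟩ := hφ a
  exact hθ r x

end EndOmega

end ShP
end Groth.Agent.Lib.Helper6
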