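import Groth.Agent.S1807
import Groth.Agent.Lib.Helper90.Shriek.ExistsRAdj
import Groth.Agent.Lib.Helper90.Shriek.ResD
import Groth.Agent.Lib.Helper6.LBCPC
import Mathlib.Algebra.Category.Ring.Epi
import Mathlib.AlgebraicGeometry.Morphisms.Flat

/-! Upper shriek of an open immersion of affine Noetherian schemes is derived base change
(helper6), from the base change theorem for flat maps (S1807, helper90). -/

set_option autoImplicit false
set_option linter.style.haveILetI false
set_option linter.unusedSectionVars false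
universe u
open CategoryTheory CategoryTheory.Limits DerivedCategory
open scoped TensorProduct
attribute [local instance] HasDerivedCategory.standard

namespace Groth.Agent.Lib.Helper6
namespace ShP

open Groth.Agent.Lib.Helper90.Shriek

section Equiv

variable {B C : Type u} [CommRing B] [CommRing C]

/-- a right adjoint of restriction along a ring isomorphism is restriction along the inverse. -/
noncomputable def rightAdjIso (ε : B ≃+* C) (G : Dual.D B ⥤ Dual.D C)
    (adj : DRing.restrictD ε.toRingHom ⊣ G) : G ≅ DRing.restrictD ε.symm.toRingHom :=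
  adj.rightAdjointUniq (resDEquiv ε).toAdjunction

/-- a left adjoint of restriction along a ring isomorphism is restriction along the inverse. -/
noncomputable def leftAdjIso (ε : B ≃+* C) (L : Dual.D B ⥤ Dual.D C)
    (adj : L ⊣ DRing.restrictD ε.toRingHom) : L ≅ DRing.restrictD ε.symm.toRingHom :=
  adj.leftAdjointUniq (resDEquiv ε).symm.toAdjunction

end Equiv

section Bij

variable {S T P : Type u} [CommRing S] [CommRing T] [CommRing P]

/-- cancelling isomorphisms of rings. -/
theorem nonempty_iso_of_ringEquiv (ει : S ≃+* T) (εα : S ≃+* P) (εψ : P ≃+* T)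
    (hcomp : ∀ x, εψ (εα x) = ει x)
    (ι : S →+* T) (α : S →+* P) (ψ : P →+* T) (hι : ι = ει.toRingHom) (hα : α = εα.toRingHom)
    (hψ : ψ = εψ.toRingHom) [DRing.HasLBaseChange ι] [DRing.HasLBaseChange α]
    (Rψ : Dual.D P ⥤ Dual.D T) (adj : DRing.restrictD ψ ⊣ Rψ) (X K : Dual.D S)
    (e : (DRing.LBaseChange ι).obj X ≅ Rψ.obj ((DRing.LBaseChange α).obj K)) :
    Nonempty (X ≅ K) := by
  subst hι hα hψ
  let e1 := (leftAdjIso ει _ (LBCPC.lbcAdj ει.toRingHom)).app X
  let e2 := (rightAdjIso εψ Rψ adj).app ((DRing.LBaseChange εα.toRingHom).obj K)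
  let e3 := (DRing.restrictD εψ.symm.toRingHom).mapIso
    ((leftAdjIso εα _ (LBCPC.lbcAdj εα.toRingHom)).app K)
  -- `res ι⁻¹ X ≅ res ψ⁻¹ (res α⁻¹ K)`
  let e4 : (DRing.restrictD ει.symm.toRingHom).obj X ≅
      (DRing.restrictD εψ.symm.toRingHom).obj ((DRing.restrictD εα.symm.toRingHom).obj K) :=
    e1.symm ≪≫ e ≪≫ e2 ≪≫ e3
  let e5 := (DRing.restrictD ει.toRingHom).mapIso e4
  let l1 : (DRing.restrictD ει.toRingHom).obj ((DRing.restrictD ει.symm.toRingHom).obj X) ≅ X :=
    (resDComp ει.toRingHom ει.symm.toRingHom (RingHom.id S)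
      (by ext x; exact (ει.symm_apply_apply x).symm) ≪≫ resDId _ rfl).app X
  let r1 : (DRing.restrictD εψ.symm.toRingHom).obj ((DRing.restrictD εα.symm.toRingHom).obj K) ≅
      (DRing.restrictD (εα.symm.toRingHom.comp εψ.symm.toRingHom)).obj K :=
    (resDComp εψ.symm.toRingHom εα.symm.toRingHom _ rfl).app K
  let r2 : (DRing.restrictD ει.toRingHom).obj
      ((DRing.restrictD (εα.symm.toRingHom.comp εψ.symm.toRingHom)).obj K) ≅ K :=
    (resDComp ει.toRingHom (εα.symm.toRingHom.comp εψ.symm.toRingHom) (RingHom.id S)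
      (by
        ext x
        change x = εα.symm (εψ.symm (ει x))
        rw [← hcomp x, RingEquiv.symm_apply_apply, RingEquiv.symm_apply_apply]) ≪≫
      resDId _ rfl).app K
  exact ⟨l1.symm ≪≫ e5 ≪≫ (DRing.restrictD ει.toRingHom).mapIso r1 ≪≫ r2⟩

end Bij

section OpenImm

open AlgebraicGeometry

variable (R R' : Type u) [CommRing R] [CommRing R'] [Algebra R R']

/-- an open immersion of affine schemes is flat. -/
theorem flat_of_isOpenImmersion
    (hopen : IsOpenImmersion (Spec.map (CommRingCat.ofHom (algebraMap R R')))) :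
    Module.Flat R R' := by
  haveI := hopen
  have h : Flat (Spec.map (CommRingCat.ofHom (algebraMap R R'))) := inferInstance
  rw [Flat.SpecMap_iff] at h
  exact (RingHom.flat_algebraMap_iff).1 h

/-- an open immersion of affine schemes is an epimorphism of rings. -/
theorem isEpi_of_isOpenImmersion
    (hopen : IsOpenImmersion (Spec.map (CommRingCat.ofHom (algebraMap R R')))) :
    Algebra.IsEpi R R' := by
  haveI := hopen
  have h : Mono (Spec.map (CommRingCat.ofHom (algebraMap R R'))) := inferInstance
  have h1 : Mono (CommRingCat.ofHom (algebraMap R R')).op :=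
    Scheme.Spec.mono_of_mono_map h
  have h2 : Epi (CommRingCat.ofHom (algebraMap R R')) :=
    @unop_epi_of_mono _ _ _ _ (CommRingCat.ofHom (algebraMap R R')).op h1
  exact CommRingCat.epi_iff_epi.1 h2

end OpenImm

end ShP
end Groth.Agent.Lib.Helper6
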