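import Groth.Agent.Lib.Helper6.ShP1

/-! The dual `Hom•(E, 𝟙)` of a bounded complex of finite projective modules is a bounded
complex of finite projective modules; consequently, for `A` perfect over `R`, the restriction
to `R` of `Rφ (unit)` is perfect (helper6). -/

set_option autoImplicit false
set_option linter.style.haveILetI false
set_option linter.unusedSectionVars false
universe u
open CategoryTheory CategoryTheory.Limits MonoidalCategory CochainComplex HomComplex
attribute [local instance] HasDerivedCategory.standard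

namespace Groth.Agent.Lib.Helper6
namespace ShP

open _root_.DTen Groth.Agent.Lib.Helper90.DTen.Rel Groth.Agent.Lib.Helper90.DTen.BC

section Pi

variable {A : Type u} [CommRing A] {ι : Type*} (M : ι → Type u) [∀ i, AddCommGroup (M i)]
  [∀ i, Module A (M i)]

/-- a product of modules all but one of which are trivial. -/
noncomputable def piEquivOfSubsingleton (i₀ : ι) (h : ∀ i, i ≠ i₀ → Subsingleton (M i)) :
    (∀ i, M i) ≃ₗ[A] M i₀ := by
  classical
  refine LinearEquiv.ofBijective (LinearMap.proj i₀) ⟨?_, ?_⟩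
  · intro f g hfg
    funext i
    by_cases hi : i = i₀
    · subst hi
      exact hfg
    · haveI := h i hi
      exact Subsingleton.elim _ _
  · intro x
    exact ⟨Pi.single i₀ x, by simp⟩

end Pi

section Dual

variable {A : Type u} [CommRing A] (E : DRing.Cx A)

lemma isZero_unit_X (q : ℤ) (hq : q ≠ 0) : IsZero ((𝟙_ (DRing.Cx A)).X q) :=
  HomologicalComplex.isZero_single_obj_X (ComplexShape.up ℤ) 0 _ q hq

/-- the terms of the dual complex. -/
noncomputable def dualXEquiv (k : ℤ) :
    Cochain E (𝟙_ (DRing.Cx A)) k ≃ₗ[A] (E.X (-k) →ₗ[A] A) := by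
  let T₀ : Triplet k := ⟨-k, 0, by omega⟩
  have h : ∀ T : Triplet k, T ≠ T₀ →
      Subsingleton (E.X T.p ⟶ (𝟙_ (DRing.Cx A)).X T.q) := by
    intro T hT
    have hq : T.q ≠ 0 := by
      intro hq
      apply hT
      obtain ⟨p, q, hpq⟩ := T
      simp only at hq
      subst hq
      have : p = -k := by omega
      subst this
      rfl
    exact ⟨fun f g => (isZero_unit_X T.q hq).eq_of_tgt f g⟩
  let e1 : Cochain E (𝟙_ (DRing.Cx A)) k ≃ₗ[A] (E.X (-k) ⟶ (𝟙_ (DRing.Cx A)).X 0) :=
    piEquivOfSubsingleton (A := A)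
      (fun T : Triplet k => (E.X T.p ⟶ (𝟙_ (DRing.Cx A)).X T.q)) T₀ h
  let e2 : (E.X (-k) ⟶ (𝟙_ (DRing.Cx A)).X 0) ≃ₗ[A] (E.X (-k) →ₗ[A] (𝟙_ (DRing.Cx A)).X 0) :=
    ModuleCat.homLinearEquiv (S := A)
  let e3 : ((𝟙_ (DRing.Cx A)).X 0) ≃ₗ[A] A :=
    (HomologicalComplex.singleObjXSelf (ComplexShape.up ℤ) 0 (ModuleCat.of A A)).toLinearEquiv
  exact e1.trans (e2.trans (LinearEquiv.congrRight e3))

lemma termwiseFiniteProjective_dual (hE : DRing.TermwiseFiniteProjective E) :
    DRing.TermwiseFiniteProjective (DRing.homCx E (𝟙_ (DRing.Cx A))) := by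
  intro k
  haveI := (hE (-k)).1
  haveI := (hE (-k)).2
  have e := dualXEquiv E k
  constructor
  · exact Module.Finite.equiv (R := A) (M := Module.Dual A (E.X (-k))) e.symm
  · exact Module.Projective.of_equiv (R := A) (M := Module.Dual A (E.X (-k))) e.symm

lemma vanishesOutside_dual (a b : ℤ) (hE : DRing.VanishesOutside E a b) :
    DRing.VanishesOutside (DRing.homCx E (𝟙_ (DRing.Cx A))) (-b) (-a) := by
  intro k hk
  have hz : IsZero (E.X (-k)) := hE (-k) (by omega)
  haveI : Subsingleton (E.X (-k)) := ModuleCat.subsingleton_of_isZero hz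
  have hs : Subsingleton (Cochain E (𝟙_ (DRing.Cx A)) k) :=
    (dualXEquiv E k).toEquiv.subsingleton
  exact @ModuleCat.isZero_of_subsingleton A _
    (ModuleCat.of A (Cochain E (𝟙_ (DRing.Cx A)) k)) hs

end Dual

section Model

variable {R A : Type u} [CommRing R] [CommRing A] {φ : R →+* A}
  {Rφ : Dual.D R ⥤ Dual.D A} (adj : DRing.restrictD φ ⊣ Rφ)

include adj in
/-- `A` perfect over `R`: the restriction to `R` of `Rφ (unit R)` is perfect. -/
theorem exists_perfect_restrict (hA : DRing.IsPerfect R ((DRing.restrictD φ).obj (unit A))) :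
    ∃ (F : DRing.Cx R) (a b : ℤ), DRing.VanishesOutside F a b ∧
      DRing.TermwiseFiniteProjective F ∧
      Nonempty (DRing.toD F ≅ (DRing.restrictD φ).obj (Rφ.obj (unit R))) := by
  obtain ⟨D⟩ := nonempty_relData adj hA
  refine ⟨DRing.homCx D.E (𝟙_ (DRing.Cx R)), -D.b, -D.a, vanishesOutside_dual D.E D.a D.b D.hE,
    termwiseFiniteProjective_dual D.E D.hfp, ⟨?_⟩⟩
  haveI : QuasiIso (cmap D) := quasiIso_cmap D
  exact (asIso (DerivedCategory.Q.map (cmap D))).symm ≪≫
    asIso (DerivedCategory.Q.map D.k) ≪≫ ((resFactors φ).app D.W).symm ≪≫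
    (DRing.restrictD φ).mapIso D.eW

end Model

end ShP
end Groth.Agent.Lib.Helper6
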