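import Groth.Agent.Lib.Helper6.ShP6
import Groth.Agent.Lib.Helper6.ShP3
import Groth.Agent.S1784
import Groth.Agent.S1799

/-! `RHom_{A ⊗_R A}(A, ω ⊗^L_A (A ⊗_R A)) ≅ A` for `ω = φ^!(R)`, `R → A` flat of finite type
between Noetherian rings (helper6). -/

set_option autoImplicit false
set_option linter.style.haveILetI false
set_option linter.unusedSectionVars false
universe u
open CategoryTheory CategoryTheory.Limits DerivedCategory
open scoped TensorProduct
attribute [local instance] HasDerivedCategory.standard

namespace Groth.Agent.Lib.Helper6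
namespace ShP

open Groth.Agent.Lib.Helper90.Shriek

section Swap

variable (R A : Type u) [CommRing R] [CommRing A] [Algebra R A]

/-- the swap of `A ⊗[R] A`. -/
noncomputable def swapE : (A ⊗[R] A) ≃+* (A ⊗[R] A) :=
  (Algebra.TensorProduct.comm R A A).toRingEquiv

lemma swapE_comp_includeRight :
    (Algebra.TensorProduct.includeLeftRingHom : A →+* A ⊗[R] A) =
      (swapE R A).toRingHom.comp
        (Algebra.TensorProduct.includeRight : A →ₐ[R] A ⊗[R] A).toRingHom := by
  refine RingHom.ext (fun a => ?_)
  change a ⊗ₜ[R] (1 : A) = Algebra.TensorProduct.comm R A A ((1 : A) ⊗ₜ[R] a)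
  rw [Algebra.TensorProduct.comm_tmul]

lemma lmul'_comp_swapE :
    (Algebra.TensorProduct.lmul' R (S := A)).toRingHom =
      (Algebra.TensorProduct.lmul' R (S := A)).toRingHom.comp (swapE R A).toRingHom := by
  refine RingHom.ext (fun x => ?_)
  change Algebra.TensorProduct.lmul' R (S := A) x =
    Algebra.TensorProduct.lmul' R (S := A) (Algebra.TensorProduct.comm R A A x)
  induction x using TensorProduct.induction_on with
  | zero => simp
  | tmul a b =>
    rw [Algebra.TensorProduct.comm_tmul, Algebra.TensorProduct.lmul'_apply_tmul,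
      Algebra.TensorProduct.lmul'_apply_tmul, mul_comm]
  | add x y hx hy => rw [map_add, map_add, map_add, hx, hy]

variable [DRing.HasLBaseChange (Algebra.TensorProduct.includeLeftRingHom : A →+* A ⊗[R] A)]
  [DRing.HasLBaseChange (Algebra.TensorProduct.includeRight : A →ₐ[R] A ⊗[R] A).toRingHom]

/-- base change along the left coprojection is base change along the right coprojection
followed by the swap. -/
noncomputable def lbcSwapIso :
    DRing.LBaseChange (Algebra.TensorProduct.includeLeftRingHom : A →+* A ⊗[R] A) ≅
      DRing.LBaseChange (Algebra.TensorProduct.includeRight : A →ₐ[R] A ⊗[R] A).toRingHom ⋙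
        DRing.restrictD (swapE R A).symm.toRingHom :=
  (LBCPC.lbcAdj _).leftAdjointUniq
    (((LBCPC.lbcAdj _).comp (resDEquiv (swapE R A)).symm.toAdjunction).ofNatIsoRight
      (resDComp (Algebra.TensorProduct.includeRight : A →ₐ[R] A ⊗[R] A).toRingHom
        (swapE R A).toRingHom _ (swapE_comp_includeRight R A)))

/-- a right adjoint of restriction along the multiplication absorbs the swap. -/
noncomputable def RmuSwapIso (Rμ : Dual.D (A ⊗[R] A) ⥤ Dual.D A)
    (adjμ : DRing.restrictD (Algebra.TensorProduct.lmul' R (S := A)).toRingHom ⊣ Rμ) :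
    DRing.restrictD (swapE R A).symm.toRingHom ⋙ Rμ ≅ Rμ :=
  ((adjμ.comp (resDEquiv (swapE R A)).toAdjunction).ofNatIsoLeft
    (resDComp (swapE R A).toRingHom (Algebra.TensorProduct.lmul' R (S := A)).toRingHom _
      (lmul'_comp_swapE R A))).rightAdjointUniq adjμ

end Swap

end ShP
end Groth.Agent.Lib.Helper6
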