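import Groth.Agent.Lib.Helper6.ShP7

/-! `RHom_{A ⊗_R A}(A, ω ⊗^L_A (A ⊗_R A)) ≅ A`, the chain of isomorphisms (helper6). -/

set_option autoImplicit false
set_option linter.style.haveILetI false
set_option linter.unusedSectionVars false
universe u
open CategoryTheory CategoryTheory.Limits DerivedCategory
open scoped TensorProduct
attribute [local instance] HasDerivedCategory.standard

namespace Groth.Agent.Lib.Helper6
namespace ShP

open Groth.Agent.Lib.Helper90.Shriek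

section Zero

variable (A : Type u) [CommRing A] [IsNoetherianRing A]

/-- the upper shriek of the identity (presented with no variables) is the identity. -/
theorem nonempty_shriek_id_iso (θ : MvPolynomial (Fin 0) A →ₐ[A] A) (hθ : Function.Surjective θ)
    [DRing.HasLBaseChange (algebraMap A (MvPolynomial (Fin 0) A))]
    (Rθ : Dual.D (MvPolynomial (Fin 0) A) ⥤ Dual.D A) (adjθ : DRing.restrictD θ.toRingHom ⊣ Rθ)
    (K : Dual.D A) : Nonempty (Dual2.shriekVia 0 Rθ K ≅ K) := by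
  have adjR : DRing.restrictD (algebraMap A A) ⊣ 𝟭 (Dual.D A) :=
    Adjunction.id.ofNatIsoLeft (resDId (algebraMap A A) rfl).symm
  exact Groth.Agent.S1784.result A A 0 θ hθ Rθ adjθ (𝟭 (Dual.D A)) adjR K

lemma subsingleton_HD_unit (i : ℤ) (hi : i < 0) : Subsingleton (Dual.HD A (Dual.inD A A) i) := by
  have hz : IsZero ((homologyFunctor (ModuleCat.{u} A) i).obj (Dual.inD A A)) :=
    DerivedCategory.isZero_of_isGE (Dual.inD A A) 0 i hi
  exact ModuleCat.subsingleton_of_isZero hz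

end Zero

section Main

variable (R A : Type u) [CommRing R] [CommRing A] [IsNoetherianRing R] [IsNoetherianRing A]
  [Algebra R A] [Module.Flat R A] (n : ℕ) (ψ : MvPolynomial (Fin n) R →ₐ[R] A)
  (hψ : Function.Surjective ψ) [DRing.HasLBaseChange (algebraMap R (MvPolynomial (Fin n) R))]
  (Rψ : Dual.D (MvPolynomial (Fin n) R) ⥤ Dual.D A) (adj : DRing.restrictD ψ.toRingHom ⊣ Rψ)

include hψ adj in
/-- the version with the right coprojection. -/
theorem nonempty_Rmu_includeRight_iso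
    [DRing.HasLBaseChange (Algebra.TensorProduct.includeRight : A →ₐ[R] A ⊗[R] A).toRingHom]
    (Rμ : Dual.D (A ⊗[R] A) ⥤ Dual.D A)
    (adjμ : DRing.restrictD (Algebra.TensorProduct.lmul' R (S := A)).toRingHom ⊣ Rμ) :
    Nonempty (Rμ.obj ((DRing.LBaseChange
      (Algebra.TensorProduct.includeRight : A →ₐ[R] A ⊗[R] A).toRingHom).obj
        (Dual2.shriekVia n Rψ (Dual.inD R R))) ≅ Dual.inD A A) := by
  -- the presentation of `A ⊗ A` over `A`
  let ψ' := psiBC R A A n ψ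
  have hψ' : Function.Surjective ψ' := psiBC_surjective R A A n ψ hψ
  haveI : IsNoetherianRing (A ⊗[R] A) :=
    isNoetherianRing_of_surjective (MvPolynomial (Fin n) A) (A ⊗[R] A) ψ'.toRingHom hψ'
  haveI := hasLBaseChange (algebraMap A (MvPolynomial (Fin n) A))
  haveI := hasLBaseChange (algebraMap R A)
  obtain ⟨Rψ', ⟨adj'⟩⟩ := exists_rightAdjoint_restrictD ψ'.toRingHom
  -- base change
  obtain ⟨e1⟩ := Groth.Agent.S1807.result R A A n ψ hψ Rψ adj n ψ' hψ' Rψ' adj' (Dual.inD R R)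
  obtain ⟨eU⟩ := FlatPC.nonempty_lbc_unit_iso (A := R) (B := A)
  let e2 : Dual2.shriekVia n Rψ' ((DRing.LBaseChange (algebraMap R A)).obj (Dual.inD R R)) ≅
      Dual2.shriekVia n Rψ' (Dual.inD A A) :=
    (shiftFunctor (Dual.D (A ⊗[R] A)) (n : ℤ)).mapIso (Rψ'.mapIso
      ((DRing.LBaseChange (algebraMap A (MvPolynomial (Fin n) A))).mapIso eU))
  -- the multiplication map
  letI : Algebra (A ⊗[R] A) A := (Algebra.TensorProduct.lmul' R (S := A)).toRingHom.toAlgebra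
  have hμ : Function.Surjective (algebraMap (A ⊗[R] A) A) := fun a =>
    ⟨a ⊗ₜ[R] 1, by
      change Algebra.TensorProduct.lmul' R (S := A) (a ⊗ₜ[R] (1 : A)) = a
      rw [Algebra.TensorProduct.lmul'_apply_tmul, mul_one]⟩
  haveI : Module.Finite (A ⊗[R] A) A :=
    Module.Finite.of_surjective (Algebra.linearMap (A ⊗[R] A) A) hμ
  haveI : IsScalarTower A (A ⊗[R] A) A := IsScalarTower.of_algebraMap_eq (fun a => by
    change a = Algebra.TensorProduct.lmul' R (S := A) (a ⊗ₜ[R] (1 : A))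
    rw [Algebra.TensorProduct.lmul'_apply_tmul, mul_one])
  let χ : MvPolynomial (Fin 0) (A ⊗[R] A) →ₐ[A ⊗[R] A] A :=
    MvPolynomial.aeval (fun i : Fin 0 => i.elim0)
  have hχ : Function.Surjective χ := fun a => by
    obtain ⟨b, hb⟩ := hμ a
    exact ⟨MvPolynomial.C b, by rw [← hb]; exact MvPolynomial.aeval_C _ b⟩
  haveI := hasLBaseChange (algebraMap (A ⊗[R] A) (MvPolynomial (Fin 0) (A ⊗[R] A)))
  obtain ⟨Rχ, ⟨adjχ⟩⟩ := exists_rightAdjoint_restrictD χ.toRingHom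
  have adjμ' : DRing.restrictD (algebraMap (A ⊗[R] A) A) ⊣ Rμ := adjμ
  obtain ⟨e3⟩ := Groth.Agent.S1784.result (A ⊗[R] A) A 0 χ hχ Rχ adjχ Rμ adjμ'
    (Dual2.shriekVia n Rψ' (Dual.inD A A))
  -- composition
  let θ : MvPolynomial (Fin 0) A →ₐ[A] A := MvPolynomial.aeval (fun i : Fin 0 => i.elim0)
  have hθ : Function.Surjective θ := fun a =>
    ⟨MvPolynomial.C a, MvPolynomial.aeval_C _ a⟩
  haveI := hasLBaseChange (algebraMap A (MvPolynomial (Fin 0) A))
  obtain ⟨Rθ, ⟨adjθ⟩⟩ := exists_rightAdjoint_restrictD θ.toRingHom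
  obtain ⟨e4⟩ := Groth.Agent.S1799.result A (A ⊗[R] A) A n ψ' hψ' Rψ' adj' 0 χ hχ Rχ adjχ 0 θ hθ
    Rθ adjθ (Dual.inD A A) 0 (subsingleton_HD_unit A)
  obtain ⟨e5⟩ := nonempty_shriek_id_iso A θ hθ Rθ adjθ (Dual.inD A A)
  exact ⟨Rμ.mapIso (e1 ≪≫ e2) ≪≫ e3.symm ≪≫ e4.symm ≪≫ e5⟩

include hψ adj in
/-- `RHom_{A ⊗_R A}(A, ω ⊗^L_A (A ⊗_R A)) ≅ A`. -/
theorem nonempty_Rmu_iso
    [DRing.HasLBaseChange (Algebra.TensorProduct.includeLeftRingHom : A →+* A ⊗[R] A)]
    (Rμ : Dual.D (A ⊗[R] A) ⥤ Dual.D A)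
    (adjμ : DRing.restrictD (Algebra.TensorProduct.lmul' R (S := A)).toRingHom ⊣ Rμ) :
    Nonempty (Rμ.obj ((DRing.LBaseChange
      (Algebra.TensorProduct.includeLeftRingHom : A →+* A ⊗[R] A)).obj
        (Dual2.shriekVia n Rψ (Dual.inD R R))) ≅ Dual.inD A A) := by
  haveI : DRing.HasLBaseChange
      (Algebra.TensorProduct.includeRight : A →ₐ[R] A ⊗[R] A).toRingHom := hasLBaseChange _
  obtain ⟨e⟩ := nonempty_Rmu_includeRight_iso R A n ψ hψ Rψ adj Rμ adjμ
  exact ⟨Rμ.mapIso ((lbcSwapIso R A).app _) ≪≫ (RmuSwapIso R A Rμ adjμ).app _ ≪≫ e⟩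

end Main

end ShP
end Groth.Agent.Lib.Helper6
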