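import Groth.Agent.Lib.Helper6.ShP5
import Groth.Agent.Lib.Helper90.DTen.CanonIso

/-! Biduality for bounded complexes of finite projective modules: the canonical map
`E ⟶ Hom•(Hom•(E, 𝟙), 𝟙)` is an isomorphism (helper6). -/

set_option autoImplicit false
set_option linter.style.haveILetI false
set_option linter.unusedSectionVars false
universe u
open CategoryTheory CategoryTheory.Limits MonoidalCategory CochainComplex HomComplex
open scoped TensorProduct
attribute [local instance] HasDerivedCategory.standard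

namespace Groth.Agent.Lib.Helper6
namespace ShP

open _root_.DTen Groth.Agent.Lib.Helper90.DTen Groth.Agent.Lib.Helper26.TensorHomCx
  Groth.Agent.Lib.Helper28

variable {A : Type u} [CommRing A] (E : DRing.Cx A)

/-- the dual complex. -/
noncomputable abbrev dualCx : DRing.Cx A := DRing.homCx E (𝟙_ (DRing.Cx A))

/-- the biduality map. -/
noncomputable def bd : E ⟶ dualCx (dualCx E) :=
  curryHom ((braidCx E (dualCx E)).hom ≫ evCx E (𝟙_ (DRing.Cx A)))

lemma bd_f_apply_v_apply (p q n : ℤ) (hq : q + p = n) (x : E.X p) (w : (dualCx E).X q) :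
    ((toCochain (((bd E).f p).hom x)).v q n hq).hom w =
      ((p * q).negOnePow : ℤˣ) • ((toCochain w).v p n (by omega)).hom x := by
  have h1 : (bd E).f p = (Cochain.ofHom (bd E)).v p p (add_zero p) := by
    rw [Cochain.ofHom_v]
  rw [h1, bd, ofHom_curryHom]
  change ((show Cochain (dualCx E) (𝟙_ (DRing.Cx A)) p from
    ((curry (Cochain.ofHom ((braidCx E (dualCx E)).hom ≫ evCx E (𝟙_ (DRing.Cx A))))).v p p
      (add_zero p)).hom x).v q n hq).hom w = _
  rw [curry_v_apply, curryLin_apply_v_apply _ p p (add_zero p) x q n hq n (by omega) w]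
  rw [Cochain.ofHom_v, HomologicalComplex.comp_f]
  have h2 := ι_braidCx_hom E (dualCx E) p q n (by omega)
  have h3 : TensCx.ι E (dualCx E) p q n (by omega) ≫ (braidCx E (dualCx E)).hom.f n ≫
      (evCx E (𝟙_ (DRing.Cx A))).f n =
      (p * q).negOnePow • ((β_ (E.X p) ((dualCx E).X q)).hom ≫
        TensCx.ι (dualCx E) E q p n hq ≫ (evCx E (𝟙_ (DRing.Cx A))).f n) := by
    rw [← Category.assoc]
    erw [h2]
    rw [Linear.units_smul_comp, Category.assoc]
  rw [h3]
  have h4 : ((β_ (E.X p) ((dualCx E).X q)).hom ≫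
        TensCx.ι (dualCx E) E q p n hq ≫ (evCx E (𝟙_ (DRing.Cx A))).f n).hom (x ⊗ₜ[A] w) =
      ((toCochain w).v p n (by omega)).hom x := by
    rw [ModuleCat.hom_comp, LinearMap.comp_apply]
    erw [ModuleCat.MonoidalCategory.braiding_hom_apply]
    exact ι_evCx_apply E (𝟙_ (DRing.Cx A)) q p n hq w x
  rw [← h4]
  rfl

/-- the degree zero term of the unit complex. -/
noncomputable def unitEquiv : ((𝟙_ (DRing.Cx A)).X 0) ≃ₗ[A] A :=
  (HomologicalComplex.singleObjXSelf (ComplexShape.up ℤ) 0 (ModuleCat.of A A)).toLinearEquiv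

/-- the terms of the dual complex (with a flexible index). -/
noncomputable def dualXEquiv' (k j : ℤ) (h : j + k = 0) :
    Cochain E (𝟙_ (DRing.Cx A)) k ≃ₗ[A] (E.X j →ₗ[A] A) := by
  let T₀ : Triplet k := ⟨j, 0, h⟩
  have hs : ∀ T : Triplet k, T ≠ T₀ →
      Subsingleton (E.X T.p ⟶ (𝟙_ (DRing.Cx A)).X T.q) := by
    intro T hT
    have hq : T.q ≠ 0 := by
      intro hq
      apply hT
      obtain ⟨p, q, hpq⟩ := T
      simp only at hq
      subst hq
      have : p = j := by omega
      subst this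
      rfl
    exact ⟨fun f g => (isZero_unit_X T.q hq).eq_of_tgt f g⟩
  let e1 : Cochain E (𝟙_ (DRing.Cx A)) k ≃ₗ[A] (E.X j ⟶ (𝟙_ (DRing.Cx A)).X 0) :=
    piEquivOfSubsingleton (A := A)
      (fun T : Triplet k => (E.X T.p ⟶ (𝟙_ (DRing.Cx A)).X T.q)) T₀ hs
  let e2 : (E.X j ⟶ (𝟙_ (DRing.Cx A)).X 0) ≃ₗ[A] (E.X j →ₗ[A] (𝟙_ (DRing.Cx A)).X 0) :=
    ModuleCat.homLinearEquiv (S := A)
  exact e1.trans (e2.trans (LinearEquiv.congrRight (unitEquiv (A := A))))

lemma dualXEquiv'_apply (k j : ℤ) (h : j + k = 0) (z : Cochain E (𝟙_ (DRing.Cx A)) k)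
    (y : E.X j) : dualXEquiv' E k j h z y = unitEquiv ((z.v j 0 h).hom y) := rfl

lemma bijective_bd_f (p : ℤ) [Module.Finite A (E.X p)] [Module.Projective A (E.X p)] :
    Function.Bijective ((bd E).f p).hom := by
  let eF := dualXEquiv' (dualCx E) p (-p) (by omega)
  let eE : (dualCx E).X (-p) ≃ₗ[A] (E.X p →ₗ[A] A) := dualXEquiv' E (-p) p (by omega)
  let u : ℤˣ := (p * -p).negOnePow
  have key : ∀ x : E.X p, eF (toCochain (((bd E).f p).hom x)) =
      u • ((Module.Dual.eval A (E.X p) x) ∘ₗ eE.toLinearMap) := by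
    intro x
    apply LinearMap.ext
    intro w
    rw [dualXEquiv'_apply, bd_f_apply_v_apply E p (-p) 0 (by omega) x w]
    change unitEquiv (A := A) (u • _) = u • unitEquiv (A := A) _
    rw [Units.smul_def, Units.smul_def, map_zsmul]
    rfl
  have h1 : Function.Bijective (Module.Dual.eval A (E.X p)) := Module.bijective_dual_eval A _
  have h2 : Function.Bijective (fun φ : Module.Dual A (Module.Dual A (E.X p)) =>
      (φ ∘ₗ eE.toLinearMap : (dualCx E).X (-p) →ₗ[A] A)) := by
    constructor
    · intro φ φ' h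
      apply LinearMap.ext
      intro y
      obtain ⟨w, rfl⟩ := eE.surjective y
      exact LinearMap.congr_fun h w
    · intro g
      refine ⟨g ∘ₗ eE.symm.toLinearMap, ?_⟩
      apply LinearMap.ext
      intro w
      simp
  have h3 : Function.Bijective (fun g : (dualCx E).X (-p) →ₗ[A] A => u • g) :=
    MulAction.bijective u
  have h4 := h3.comp (h2.comp h1)
  have hb : Function.Bijective (fun x : E.X p => eF (toCochain (((bd E).f p).hom x))) := by
    have : (fun x : E.X p => eF (toCochain (((bd E).f p).hom x))) =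
        ((fun g : (dualCx E).X (-p) →ₗ[A] A => u • g) ∘
          (fun φ : Module.Dual A (Module.Dual A (E.X p)) =>
            (φ ∘ₗ eE.toLinearMap : (dualCx E).X (-p) →ₗ[A] A)) ∘
          (Module.Dual.eval A (E.X p))) := by
      funext x
      exact key x
    rw [this]
    exact h4
  have hF : Function.Bijective eF := eF.bijective
  exact (Function.Bijective.of_comp_iff' hF _).1 hb

end ShP
end Groth.Agent.Lib.Helper6
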