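import Groth.Agent.H46.SmoothFibreDim
import Groth.Agent.Lib.Helper55.LocalDim
import Groth.Prelude.Def_FlatCA

/-! Fibres of a smooth ring map of relative dimension `n`: height plus transcendence degree of the
residue field equals `n` (helper6). -/

set_option autoImplicit false
set_option linter.unusedSectionVars false
set_option linter.style.haveILetI false
universe u
open CategoryTheory AlgebraicGeometry TensorProduct

namespace Groth.Agent.Lib.Helper6
namespace SmoothFib

variable (A B : Type u) [CommRing A] [CommRing B] [Algebra A B]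

theorem locally_of_smoothRelDim (n : ℕ) (hs : FlatCA.SmoothRelDim n A B) :
    RingHom.Locally (RingHom.IsStandardSmoothOfRelativeDimension n) (algebraMap A B) := by
  have := (HasRingHomProperty.Spec_iff (P := @SmoothOfRelativeDimension n)).mp hs
  simpa using this

theorem smoothRelDim_of_locally (n : ℕ)
    (h : RingHom.Locally (RingHom.IsStandardSmoothOfRelativeDimension n) (algebraMap A B)) :
    FlatCA.SmoothRelDim n A B := by
  apply (HasRingHomProperty.Spec_iff (P := @SmoothOfRelativeDimension n)).mpr
  simpa using h

theorem smoothRelDim_fiber (n : ℕ) (hs : FlatCA.SmoothRelDim n A B) (p : Ideal A) [p.IsPrime] :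
    FlatCA.SmoothRelDim n p.ResidueField (p.Fiber B) := by
  apply smoothRelDim_of_locally
  have h1 := locally_of_smoothRelDim A B n hs
  exact (RingHom.locally_isStableUnderBaseChange
    RingHom.isStandardSmoothOfRelativeDimension_respectsIso
    (RingHom.isStandardSmoothOfRelativeDimension_isStableUnderBaseChange n)).tensorProduct
      p.ResidueField h1

theorem finiteType_of_smoothRelDim (n : ℕ) (hs : FlatCA.SmoothRelDim n A B) :
    Algebra.FiniteType A B := by
  have h1 : Smooth (Spec.map (CommRingCat.ofHom (algebraMap A B))) :=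
    SmoothOfRelativeDimension.smooth n _
  have h2 : LocallyOfFinitePresentation (Spec.map (CommRingCat.ofHom (algebraMap A B))) :=
    inferInstance
  have h3 := (HasRingHomProperty.Spec_iff (P := @LocallyOfFinitePresentation)).mp h2
  have h4 : (algebraMap A B).FinitePresentation := by simpa using h3
  have h5 : Algebra.FinitePresentation A B := RingHom.finitePresentation_algebraMap.mp h4
  infer_instance

theorem height_add_trdeg (n : ℕ) (hs : FlatCA.SmoothRelDim n A B) (p : Ideal A) [p.IsPrime]
    (q' : Ideal (p.Fiber B)) [hq' : q'.IsPrime] :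
    ∃ s : ℕ, @Algebra.trdeg p.ResidueField q'.ResidueField _ _
      (IsLocalRing.ResidueField.algebra (Localization.AtPrime q')) = s ∧
      q'.height + (s : ℕ∞) = n := by
  have hF := smoothRelDim_fiber A B n hs p
  haveI : Algebra.FiniteType p.ResidueField (p.Fiber B) :=
    finiteType_of_smoothRelDim _ _ n hF
  haveI : SmoothOfRelativeDimension n
      (Spec.map (CommRingCat.ofHom (algebraMap p.ResidueField (p.Fiber B)))) := hF
  have h1 := Groth.Agent.H46.SmoothFibreDim.localDim_eq_of_smoothOfRelativeDimension n
    p.ResidueField (Spec.map (CommRingCat.ofHom (algebraMap p.ResidueField (p.Fiber B))))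
    (⟨q', hq'⟩ : PrimeSpectrum (p.Fiber B))
  have h2 := Groth.Agent.Lib.Helper55.localDim_primeSpectrum_eq p.ResidueField (p.Fiber B)
    (⟨q', hq'⟩ : PrimeSpectrum (p.Fiber B))
  obtain ⟨s, hs1, hs2⟩ :=
    Groth.Agent.Lib.Helper55.exists_ringKrullDim_quotient_eq_and_trdeg_residueField_eq
      p.ResidueField (p.Fiber B) q'
  refine ⟨s, hs2, ?_⟩
  have h3 : (n : WithBot ℕ∞) = (s : WithBot ℕ∞) + (q'.height : WithBot ℕ∞) := by
    rw [← h1]
    erw [h2]
    rw [hs1]
  have h4 : ((n : ℕ∞) : WithBot ℕ∞) = ((q'.height + (s : ℕ∞) : ℕ∞) : WithBot ℕ∞) := by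
    rw [WithBot.coe_add, add_comm]
    exact h3
  exact (WithBot.coe_injective h4).symm

theorem trdeg_fiber_eq (p : Ideal A) [p.IsPrime] (q : Ideal B) [q.IsPrime] [hq : q.LiesOver p]
    (q' : Ideal (p.Fiber B)) [q'.IsPrime]
    (hq' : q'.comap (Algebra.TensorProduct.includeRight : B →ₐ[A] p.Fiber B) = q) :
    @Algebra.trdeg p.ResidueField q.ResidueField _ _
      (Ideal.ResidueField.mapₐ p q (Algebra.ofId A B) hq.over).toRingHom.toAlgebra =
    @Algebra.trdeg p.ResidueField q'.ResidueField _ _
      (IsLocalRing.ResidueField.algebra (Localization.AtPrime q')) := by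
  letI alg1 : Algebra p.ResidueField q.ResidueField :=
    (Ideal.ResidueField.mapₐ p q (Algebra.ofId A B) hq.over).toRingHom.toAlgebra
  letI alg2 : Algebra p.ResidueField q'.ResidueField :=
    IsLocalRing.ResidueField.algebra (Localization.AtPrime q')
  let f : B →+* p.Fiber B := (Algebra.TensorProduct.includeRight : B →ₐ[A] p.Fiber B).toRingHom
  have hf : q = q'.comap f := hq'.symm
  have hS : f.SurjectiveOnStalks :=
    RingHom.SurjectiveOnStalks.baseChange' (Ideal.surjectiveOnStalks_residueField p)
  have hbij := hS.residueFieldMap_bijective q q' hf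
  have hcomm : (Ideal.ResidueField.map q q' f hf).comp
      (@algebraMap p.ResidueField q.ResidueField _ _ alg1) =
      @algebraMap p.ResidueField q'.ResidueField _ _ alg2 := by
    apply Ideal.ResidueField.ringHom_ext
    ext a
    change Ideal.ResidueField.map q q' f hf
      (Ideal.ResidueField.map p q (algebraMap A B) hq.over (algebraMap A p.ResidueField a)) =
      algebraMap (p.Fiber B) q'.ResidueField
        (algebraMap p.ResidueField (p.Fiber B) (algebraMap A p.ResidueField a))
    rw [Ideal.ResidueField.map_algebraMap, Ideal.ResidueField.map_algebraMap]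
    congr 1
    change (1 : p.ResidueField) ⊗ₜ[A] (algebraMap A B a) =
      (algebraMap A p.ResidueField a) ⊗ₜ[A] (1 : B)
    rw [Algebra.algebraMap_eq_smul_one, Algebra.algebraMap_eq_smul_one, TensorProduct.smul_tmul]
  let g : @AlgHom p.ResidueField q.ResidueField q'.ResidueField _ _ _ alg1 alg2 :=
    { Ideal.ResidueField.map q q' f hf with
      commutes' := fun r => congrArg (fun h : p.ResidueField →+* q'.ResidueField => h r) hcomm }
  exact (AlgEquiv.ofBijective g hbij).trdeg_eq

end SmoothFib
end Groth.Agent.Lib.Helper6
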