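import Groth.Agent.Lib.Helper6.FlatGor13
import Groth.Agent.Lib.Helper6.SmoothFib
import Groth.Agent.Lib.Helper6.HomBC6

/-! The codimension function of `ω ⊗ B` for a smooth map `A → B` of relative dimension `n`
(helper6). -/

set_option autoImplicit false
set_option linter.unusedSectionVars false
set_option linter.style.haveILetI false
universe u
open CategoryTheory CategoryTheory.Limits DerivedCategory Pretriangulated TensorProduct
  AlgebraicGeometry
attribute [local instance] HasDerivedCategory.standard

namespace Groth.Agent.Lib.Helper6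
namespace SmoothCodim

open Groth.Agent.Lib.Helper35 Groth.Agent.Lib.Helper35.FlatBC HomBC LocDual FlatGor
open Groth.Agent.Lib.Helper24 Groth.Agent.Lib.Helper29

theorem smooth_of_smoothRelDim (A B : Type u) [CommRing A] [CommRing B] [Algebra A B] (n : ℕ)
    (hs : FlatCA.SmoothRelDim n A B) : Algebra.Smooth A B := by
  have h1 : Smooth (Spec.map (CommRingCat.ofHom (algebraMap A B))) :=
    SmoothOfRelativeDimension.smooth n _
  have h3 := (HasRingHomProperty.Spec_iff (P := @Smooth)).mp h1
  have h4 : (algebraMap A B).Smooth := by simpa using h3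
  exact RingHom.smooth_algebraMap.mp h4

set_option maxHeartbeats 1600000 in
theorem main (A B : Type u) [CommRing A] [CommRing B] [Algebra A B] [IsNoetherianRing A] (n : ℕ)
    (hs : FlatCA.SmoothRelDim n A B) (ω : Dual.D A) (hω : Dual.IsDualizing A ω) (p : Ideal A)
    [p.IsPrime] (q : Ideal B) [q.IsPrime] [hq : q.LiesOver p]
    [DRing.HasLBaseChange (algebraMap A (Localization.AtPrime p))]
    [DRing.HasLBaseChange (algebraMap A (Localization.AtPrime q))] (d : ℤ)
    (hd : Nontrivial (Dual.inD (Localization.AtPrime p) p.ResidueField ⟶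
      ((DRing.LBaseChange (algebraMap A (Localization.AtPrime p))).obj ω)⟦d⟧)) (t : ℕ)
    (ht : @Algebra.trdeg p.ResidueField q.ResidueField _ _
      (Ideal.ResidueField.mapₐ p q (Algebra.ofId A B) hq.over).toRingHom.toAlgebra =
        (t : Cardinal.{u})) :
    Nontrivial (Dual.inD (Localization.AtPrime q) q.ResidueField ⟶
      ((DRing.LBaseChange (algebraMap A (Localization.AtPrime q))).obj ω)⟦(d - (t : ℤ) + (n : ℤ))⟧) := by
  haveI hft : Algebra.FiniteType A B := SmoothFib.finiteType_of_smoothRelDim A B n hs
  haveI hNB : IsNoetherianRing B := Algebra.FiniteType.isNoetherianRing A B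
  haveI hsm : Algebra.Smooth A B := smooth_of_smoothRelDim A B n hs
  haveI hfl : Module.Flat A B := inferInstance
  haveI hfs : Algebra.FormallySmooth A B := inferInstance
  obtain ⟨q', hq'prime, hq'⟩ := exists_fiber_prime p q
  haveI := hq'prime
  -- the dimension of the fibre local ring
  obtain ⟨s, hs1, hs2⟩ := SmoothFib.height_add_trdeg A B n hs p q'
  have ht' := SmoothFib.trdeg_fiber_eq A B p q q' hq'
  have hst : s = t := by
    have h1 : ((s : ℕ) : Cardinal.{u}) = (t : Cardinal.{u}) := by
      rw [← hs1, ← ht', ht]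
    exact_mod_cast h1
  subst hst
  have hle : s ≤ n := by
    have : ((s : ℕ) : ℕ∞) ≤ (n : ℕ∞) := by
      rw [← hs2]
      exact le_add_self
    exact_mod_cast this
  have hq'h : q'.height = ((n - s : ℕ) : ℕ∞) := by
    have h1 : ((n : ℕ) : ℕ∞) = ((n - s : ℕ) : ℕ∞) + (s : ℕ∞) := by
      exact_mod_cast (Nat.sub_add_cancel hle).symm
    rw [h1] at hs2
    exact (ENat.add_left_injective_of_ne_top (ENat.coe_ne_top s)) hs2
  subst hq'
  haveI hflq : Module.Flat A (Localization.AtPrime
      (q'.comap (Algebra.TensorProduct.includeRight : B →ₐ[A] p.Fiber B))) :=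
    Module.Flat.trans A B _
  letI := Localization.AtPrime.algebraOfLiesOver p
    (q'.comap (Algebra.TensorProduct.includeRight : B →ₐ[A] p.Fiber B))
  let e := fiberLocalizationEquiv p q'
  have hmap : (IsLocalRing.maximalIdeal (Localization.AtPrime p)).map
      (algebraMap (Localization.AtPrime p) (Localization.AtPrime
        (q'.comap (Algebra.TensorProduct.includeRight : B →ₐ[A] p.Fiber B)))) =
      p.map (algebraMap A (Localization.AtPrime
        (q'.comap (Algebra.TensorProduct.includeRight : B →ₐ[A] p.Fiber B)))) := by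
    rw [← Localization.AtPrime.map_eq_maximalIdeal, Ideal.map_map,
      ← IsScalarTower.algebraMap_eq]
  haveI hreg := isRegularLocalRing_localization_fiber_of_formallySmooth A B p q'
  have hGq' : LocCoh.IsGorensteinLocalRing (Localization.AtPrime q') := Groth.Agent.S0342.result _
  have hG' := isGorensteinLocalRing_of_ringEquiv e hGq'
  have hG := (isGorensteinLocalRing_quotient_congr hmap).2 hG'
  have hd1 : ringKrullDim (Localization.AtPrime q') = ((n - s : ℕ) : WithBot ℕ∞) := by
    rw [IsLocalization.AtPrime.ringKrullDim_eq_height q' (Localization.AtPrime q'), hq'h]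
    rfl
  have hdim : ringKrullDim (Localization.AtPrime
      (q'.comap (Algebra.TensorProduct.includeRight : B →ₐ[A] p.Fiber B)) ⧸
      (IsLocalRing.maximalIdeal (Localization.AtPrime p)).map
      (algebraMap (Localization.AtPrime p) (Localization.AtPrime
        (q'.comap (Algebra.TensorProduct.includeRight : B →ₐ[A] p.Fiber B))))) =
      ((n - s : ℕ) : WithBot ℕ∞) := by
    rw [ringKrullDim_eq_of_ringEquiv (Ideal.quotEquivOfEq hmap),
      ← ringKrullDim_eq_of_ringEquiv e]
    exact hd1
  -- the derived part
  have hs₀ : Nontrivial (Dual.inD (Localization.AtPrime p) (Localization.AtPrime p ⧸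
      IsLocalRing.maximalIdeal (Localization.AtPrime p)) ⟶ (Gat p ω)⟦d⟧) := by
    haveI hd' : Nontrivial (Dual.inD (Localization.AtPrime p) (Localization.AtPrime p ⧸
      IsLocalRing.maximalIdeal (Localization.AtPrime p)) ⟶
      ((DRing.LBaseChange (algebraMap A (Localization.AtPrime p))).obj ω)⟦d⟧) := hd
    exact (Iso.homCongr (Iso.refl _) ((shiftFunctor (Dual.D (Localization.AtPrime p)) d).mapIso
      ((lbcIsoG A (Localization.AtPrime p)).app ω))).symm.nontrivial
  have key := nontrivial_hom_prime p
    (q'.comap (Algebra.TensorProduct.includeRight : B →ₐ[A] p.Fiber B)) ω hω d hs₀ (n - s) hG hdim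
  have hidx : d + ((n - s : ℕ) : ℤ) = d - (s : ℤ) + (n : ℤ) := by
    rw [Nat.cast_sub hle]
    ring
  rw [hidx] at key
  haveI := key
  have fin : Nontrivial (Dual.inD (Localization.AtPrime
      (q'.comap (Algebra.TensorProduct.includeRight : B →ₐ[A] p.Fiber B)))
      (Localization.AtPrime (q'.comap (Algebra.TensorProduct.includeRight : B →ₐ[A] p.Fiber B)) ⧸
      IsLocalRing.maximalIdeal (Localization.AtPrime
        (q'.comap (Algebra.TensorProduct.includeRight : B →ₐ[A] p.Fiber B)))) ⟶
      ((DRing.LBaseChange (algebraMap A (Localization.AtPrime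
        (q'.comap (Algebra.TensorProduct.includeRight : B →ₐ[A] p.Fiber B))))).obj ω)⟦d - (s : ℤ) + n⟧) :=
    (Iso.homCongr (Iso.refl _) ((shiftFunctor (Dual.D (Localization.AtPrime
      (q'.comap (Algebra.TensorProduct.includeRight : B →ₐ[A] p.Fiber B)))) (d - (s : ℤ) + n)).mapIso
      ((lbcIsoG A (Localization.AtPrime
        (q'.comap (Algebra.TensorProduct.includeRight : B →ₐ[A] p.Fiber B)))).app ω))).nontrivial
  exact fin

end SmoothCodim
end Groth.Agent.Lib.Helper6
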