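import Mathlib

/-!
# Jordan–Hölder for subobject lattices of abelian categories (helper6)

* `SubJH.instIsModularLattice`: `Subobject X` is a modular lattice in an abelian category.
* `SubJH.second_iso`: `(x ⊔ y) / x ≅ y / (x ⊓ y)`.
* `SubJH.simple_quot_iff_covBy`: `b / a` is simple iff `a ⋖ b`.
* `SubJH.wellFoundedLT_of_covBy_chain`, `SubJH.wellFoundedGT_of_covBy_chain`: a bounded modular
  lattice with a finite maximal chain satisfies both chain conditions.
-/

set_option autoImplicit false
set_option linter.unusedSectionVars false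
universe v u
open CategoryTheory CategoryTheory.Limits

namespace Groth.Agent.Lib.Helper6
namespace SubJH

section Lattice

variable {α : Type*} [Lattice α] [IsModularLattice α]

lemma wellFoundedLT_Iic_of_covBy {K L : α} (hKL : K ⋖ L) [WellFoundedLT (Set.Iic K)] :
    WellFoundedLT (Set.Iic L) := by
  have hfin : Finite (Set.Icc K L) := by
    rw [hKL.Icc_eq]
    exact Set.Finite.to_subtype (Set.toFinite {K, L})
  let f : Set.Iic L → Set.Iic K × Set.Icc K L := fun x =>
    (⟨x.1 ⊓ K, inf_le_right⟩, ⟨x.1 ⊔ K, le_sup_right, sup_le x.2 hKL.le⟩)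
  have hf : StrictMono f := by
    intro x y hxy
    have := strictMono_inf_prod_sup (z := K) (show x.1 < y.1 from hxy)
    exact this
  exact hf.wellFoundedLT

variable [BoundedOrder α]

theorem wellFoundedLT_of_covBy_chain (n : ℕ) (F : Fin (n + 1) → α) (h0 : F 0 = ⊥)
    (hn : F (Fin.last n) = ⊤) (hc : ∀ i : Fin n, F i.castSucc ⋖ F i.succ) :
    WellFoundedLT α := by
  have key : ∀ i : Fin (n + 1), WellFoundedLT (Set.Iic (F i)) := by
    intro i
    induction i using Fin.induction with
    | zero =>
      rw [h0]
      have : Subsingleton (Set.Iic (⊥ : α)) :=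
        ⟨fun x y => Subtype.ext ((le_bot_iff.mp x.2).trans (le_bot_iff.mp y.2).symm)⟩
      infer_instance
    | succ i ih => exact wellFoundedLT_Iic_of_covBy (hc i)
  have := key (Fin.last n)
  rw [hn] at this
  exact StrictMono.wellFoundedLT (f := fun x : α => (⟨x, le_top⟩ : Set.Iic (⊤ : α)))
    (fun _ _ h => h)

theorem wellFoundedGT_of_covBy_chain (n : ℕ) (F : Fin (n + 1) → α) (h0 : F 0 = ⊥)
    (hn : F (Fin.last n) = ⊤) (hc : ∀ i : Fin n, F i.castSucc ⋖ F i.succ) :
    WellFoundedGT α := by
  rw [← wellFoundedLT_dual_iff]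
  refine wellFoundedLT_of_covBy_chain (α := αᵒᵈ) n (fun i => OrderDual.toDual (F (Fin.rev i)))
    ?_ ?_ ?_
  · simp only [Fin.rev_zero]; rw [hn]; rfl
  · simp only [Fin.rev_last]; rw [h0]; rfl
  · intro i
    rw [Fin.rev_castSucc, Fin.rev_succ, toDual_covBy_toDual_iff]
    exact hc _

end Lattice

section Abelian

variable {C : Type u} [Category.{v} C] [Abelian C] {X : C}

/-- A morphism factors through a subobject iff it is killed by the cokernel of the subobject. -/
lemma factors_iff_comp_cokernel {T : C} (S : Subobject X) (f : T ⟶ X) :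
    S.Factors f ↔ f ≫ cokernel.π S.arrow = 0 := by
  constructor
  · intro h
    rw [← Subobject.factorThru_arrow S f h, Category.assoc, cokernel.condition, comp_zero]
  · intro h
    rw [← Abelian.monoLift_comp S.arrow f h]
    exact Subobject.factors_comp_arrow _

lemma factors_of_epi_comp {T T' : C} (S : Subobject X) (p : T' ⟶ T) [Epi p] (f : T ⟶ X)
    (h : S.Factors (p ≫ f)) : S.Factors f := by
  rw [factors_iff_comp_cokernel] at h ⊢
  rw [Category.assoc] at h
  exact (cancel_epi p).mp (by rw [h, comp_zero])

lemma le_iff_factors (a b : Subobject X) : a ≤ b ↔ b.Factors a.arrow := by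
  constructor
  · intro h
    rw [← Subobject.ofLE_arrow h]
    exact Subobject.factors_comp_arrow _
  · intro h
    exact Subobject.le_of_comm (b.factorThru a.arrow h) (Subobject.factorThru_arrow _ _ _)

/-- A map out of `a ⊔ b` vanishing on `a` and on `b` is zero. -/
lemma eq_zero_of_sup {Z : C} (a b : Subobject X) (g : ((a ⊔ b : Subobject X) : C) ⟶ Z)
    (ha : Subobject.ofLE a (a ⊔ b) le_sup_left ≫ g = 0)
    (hb : Subobject.ofLE b (a ⊔ b) le_sup_right ≫ g = 0) : g = 0 := by
  let K : Subobject X := Subobject.mk (kernel.ι g ≫ (a ⊔ b).arrow)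
  have haK : a ≤ K := by
    refine Subobject.le_mk_of_comm (kernel.lift g _ ha) ?_
    rw [kernel.lift_ι_assoc, Subobject.ofLE_arrow]
  have hbK : b ≤ K := by
    refine Subobject.le_mk_of_comm (kernel.lift g _ hb) ?_
    rw [kernel.lift_ι_assoc, Subobject.ofLE_arrow]
  have hK : a ⊔ b ≤ K := sup_le haK hbK
  have h1 : Subobject.ofLEMk (a ⊔ b) (kernel.ι g ≫ (a ⊔ b).arrow) hK ≫ kernel.ι g = 𝟙 _ := by
    rw [← cancel_mono (a ⊔ b).arrow, Category.assoc, Subobject.ofLEMk_comp, Category.id_comp]
  calc g = 𝟙 _ ≫ g := (Category.id_comp g).symm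
    _ = 0 := by rw [← h1, Category.assoc, kernel.condition, comp_zero]

instance epi_desc_sup (a b : Subobject X) :
    Epi (biprod.desc (Subobject.ofLE a (a ⊔ b) le_sup_left)
      (Subobject.ofLE b (a ⊔ b) le_sup_right)) := by
  apply Preadditive.epi_of_cancel_zero
  intro R g hg
  apply eq_zero_of_sup
  · have := congrArg (fun t => biprod.inl ≫ t) hg
    simpa using this
  · have := congrArg (fun t => biprod.inr ≫ t) hg
    simpa using this

/-- Generalized elements of `a ⊔ b` are, up to refinement, sums. -/
lemma exists_refinement_of_sup_factors {T : C} (a b : Subobject X) (f : T ⟶ X)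
    (h : (a ⊔ b).Factors f) :
    ∃ (T' : C) (p : T' ⟶ T) (_ : Epi p) (u : T' ⟶ (a : C)) (w : T' ⟶ (b : C)),
      p ≫ f = u ≫ a.arrow + w ≫ b.arrow := by
  obtain ⟨T', p, hp, x, hx⟩ := (epi_iff_surjective_up_to_refinements _).mp (epi_desc_sup a b)
    ((a ⊔ b).factorThru f h)
  refine ⟨T', p, hp, x ≫ biprod.fst, x ≫ biprod.snd, ?_⟩
  have h2 : x = (x ≫ biprod.fst) ≫ biprod.inl + (x ≫ biprod.snd) ≫ biprod.inr := by
    rw [Category.assoc, Category.assoc, ← Preadditive.comp_add, biprod.total, Category.comp_id]
  have h3 := congrArg (fun t => t ≫ (a ⊔ b).arrow) hx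
  simp only [Category.assoc, Subobject.factorThru_arrow] at h3
  rw [h3]
  conv_lhs => rw [h2]
  simp only [Preadditive.add_comp, Category.assoc, biprod.inl_desc_assoc, biprod.inr_desc_assoc,
    Subobject.ofLE_arrow]

instance : IsModularLattice (Subobject X) where
  sup_inf_le_assoc_of_le := by
    intro x y z hxz
    rw [le_iff_factors]
    set W := (x ⊔ y) ⊓ z
    have hW1 : (x ⊔ y).Factors W.arrow := (le_iff_factors _ _).mp inf_le_left
    have hW2 : z.Factors W.arrow := (le_iff_factors _ _).mp inf_le_right
    obtain ⟨T', p, hp, u, w, huw⟩ := exists_refinement_of_sup_factors x y W.arrow hW1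
    apply factors_of_epi_comp _ p
    rw [huw]
    apply Subobject.factors_add
    · exact Subobject.factors_of_le _ le_sup_left (Subobject.factors_comp_arrow _)
    · apply Subobject.factors_of_le _ le_sup_right
      rw [Subobject.inf_factors]
      refine ⟨Subobject.factors_comp_arrow _, ?_⟩
      apply Subobject.factors_right_of_factors_add (u ≫ x.arrow)
      · rw [← huw]
        exact Subobject.factors_of_factors_right _ hW2
      · exact Subobject.factors_of_le _ hxz (Subobject.factors_comp_arrow _)

/-- The subquotient `b / a` for `a ≤ b`. -/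
noncomputable abbrev quot (a b : Subobject X) (h : a ≤ b) : C := cokernel (Subobject.ofLE a b h)

lemma quot_congr {a b a' b' : Subobject X} (h : a ≤ b) (h' : a' ≤ b') (ha : a = a') (hb : b = b') :
    Nonempty (quot a b h ≅ quot a' b' h') := by
  subst ha hb
  exact ⟨Iso.refl _⟩

/-- The second isomorphism theorem: `(x ⊔ y) / x ≅ y / (x ⊓ y)`. -/
lemma second_iso (x y : Subobject X) :
    Nonempty (quot x (x ⊔ y) le_sup_left ≅ quot (x ⊓ y) y inf_le_right) := by
  let i := Subobject.ofLE x (x ⊔ y) le_sup_left
  let j := Subobject.ofLE y (x ⊔ y) le_sup_right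
  let k := Subobject.ofLE (x ⊓ y) y inf_le_right
  let φ : (y : C) ⟶ quot x (x ⊔ y) le_sup_left := j ≫ cokernel.π i
  -- `φ` is epi
  have hφ : Epi φ := by
    apply Preadditive.epi_of_cancel_zero
    intro R g hg
    have h1 : cokernel.π i ≫ g = 0 := by
      apply eq_zero_of_sup
      · rw [cokernel.condition_assoc, zero_comp]
      · rw [← Category.assoc]; exact hg
    exact (cancel_epi (cokernel.π i)).mp (by rw [h1, comp_zero])
  -- `k` is a kernel of `φ`
  have hk : k ≫ φ = 0 := by
    have : k ≫ j = Subobject.ofLE (x ⊓ y) x inf_le_left ≫ i := by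
      rw [Subobject.ofLE_comp_ofLE, Subobject.ofLE_comp_ofLE]
    rw [← Category.assoc, this, Category.assoc, cokernel.condition, comp_zero]
  have hker : IsLimit (KernelFork.ofι k hk) := by
    refine KernelFork.IsLimit.ofι' k hk (fun {T} t ht => ?_)
    -- `t ≫ j` factors through `x`
    have h1 : (t ≫ j) ≫ cokernel.π i = 0 := by rw [Category.assoc]; exact ht
    let s : T ⟶ (x : C) := Abelian.monoLift i (t ≫ j) h1
    have hs : s ≫ i = t ≫ j := Abelian.monoLift_comp i (t ≫ j) h1
    have hs' : s ≫ x.arrow = t ≫ y.arrow := by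
      have := congrArg (fun m => m ≫ (x ⊔ y).arrow) hs
      simpa [i, j, Category.assoc, Subobject.ofLE_arrow] using this
    have hfac : (x ⊓ y).Factors (t ≫ y.arrow) := by
      rw [Subobject.inf_factors]
      exact ⟨hs' ▸ Subobject.factors_comp_arrow _, Subobject.factors_comp_arrow _⟩
    refine ⟨(x ⊓ y).factorThru _ hfac, ?_⟩
    rw [← cancel_mono y.arrow, Category.assoc, Subobject.ofLE_arrow, Subobject.factorThru_arrow]
  have hcoker : IsColimit (CokernelCofork.ofπ φ hk) :=
    Abelian.epiIsCokernelOfKernel (KernelFork.ofι k hk) hker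
  exact ⟨(IsColimit.coconePointUniqueUpToIso hcoker (colimit.isColimit _))⟩

/-- `b / a` is simple iff `b` covers `a`. -/
lemma simple_quot_iff_covBy (a b : Subobject X) (h : a ≤ b) : Simple (quot a b h) ↔ a ⋖ b := by
  let i := Subobject.ofLE a b h
  let π := cokernel.π i
  have hai : a.arrow = i ≫ b.arrow := (Subobject.ofLE_arrow h).symm
  constructor
  · intro hS
    have hne : a ≠ b := by
      rintro rfl
      have : IsIso i := by
        have : i = 𝟙 _ := by
          rw [← cancel_mono a.arrow]; simp [i]
        rw [this]; infer_instance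
      exact Simple.not_isZero _ (isZero_cokernel_of_epi i)
    refine ⟨lt_of_le_of_ne h hne, ?_⟩
    intro c hac hcb
    let j := Subobject.ofLE c b hcb.le
    let g : (c : C) ⟶ quot a b h := j ≫ π
    by_cases hg : g = 0
    · -- then `c ≤ a`
      have : c ≤ a := by
        refine Subobject.le_of_comm (Abelian.monoLift i j hg) ?_
        rw [hai, ← Category.assoc, Abelian.monoLift_comp, Subobject.ofLE_arrow]
      exact absurd (le_antisymm this hac.le) hac.ne'
    · -- then `g` is epi, hence `c = b`
      have : Epi g := epi_of_nonzero_to_simple hg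
      let π' := cokernel.π j
      have h1 : i ≫ π' = 0 := by
        have : i = Subobject.ofLE a c hac.le ≫ j := by
          rw [Subobject.ofLE_comp_ofLE]
        rw [this, Category.assoc, cokernel.condition, comp_zero]
      let d := cokernel.desc i π' h1
      have h2 : g ≫ d = 0 := by
        simp only [g, π, d, Category.assoc, cokernel.π_desc]
        exact cokernel.condition j
      have h3 : d = 0 := (cancel_epi g).mp (by rw [h2, comp_zero])
      have h4 : π' = 0 := by
        have : π ≫ d = π' := cokernel.π_desc _ _ _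
        rw [← this, h3, comp_zero]
      have : Epi j := Preadditive.epi_of_cokernel_zero h4
      have : IsIso j := isIso_of_mono_of_epi j
      have : b ≤ c := by
        refine Subobject.le_of_comm (inv j) ?_
        rw [IsIso.inv_comp_eq, Subobject.ofLE_arrow]
      exact absurd (le_antisymm this hcb.le) hcb.ne'
  · intro hcov
    constructor
    intro S m _
    constructor
    · intro hiso hm
      -- `quot` would be zero
      have h0 : 𝟙 (quot a b h) = 0 := by
        have e1 : inv m ≫ m = inv m ≫ 0 := congrArg (fun t => inv m ≫ t) hm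
        rw [IsIso.inv_hom_id, comp_zero] at e1
        exact e1
      have hπ : π = 0 := by
        calc π = π ≫ 𝟙 _ := (Category.comp_id _).symm
          _ = 0 := by rw [h0, comp_zero]
      have : Epi i := Preadditive.epi_of_cokernel_zero hπ
      have : IsIso i := isIso_of_mono_of_epi i
      have : b ≤ a := by
        refine Subobject.le_of_comm (inv i) ?_
        rw [IsIso.inv_comp_eq, Subobject.ofLE_arrow]
      exact hcov.lt.not_ge this
    · intro hm
      let P := pullback m π
      let fst : P ⟶ S := pullback.fst m π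
      let snd : P ⟶ (b : C) := pullback.snd m π
      have : Mono snd := inferInstance
      have : Epi fst := Abelian.epi_pullback_of_epi_g m π
      have hsq : fst ≫ m = snd ≫ π := pullback.condition
      let c : Subobject X := Subobject.mk (snd ≫ b.arrow)
      have hcb : c ≤ b := Subobject.mk_le_of_comm snd rfl
      have hac : a ≤ c := by
        refine Subobject.le_mk_of_comm (pullback.lift (0 : (a : C) ⟶ S) i ?_) ?_
        · rw [zero_comp, cokernel.condition]
        · rw [pullback.lift_snd_assoc, Subobject.ofLE_arrow]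
      rcases hcov.eq_or_eq hac hcb with hc | hc
      · -- `c = a`: then `fst = 0`, so `S = 0`, contradiction
        exfalso
        have hca : c ≤ a := hc.le
        let s : P ⟶ (a : C) := (Subobject.underlyingIso (snd ≫ b.arrow)).inv ≫
          Subobject.ofLE c a hca
        have hs : s ≫ i = snd := by
          rw [← cancel_mono b.arrow, Category.assoc, Subobject.ofLE_arrow]
          simp only [s, Category.assoc, Subobject.ofLE_arrow]
          exact Subobject.underlyingIso_arrow _
        have h1 : fst ≫ m = 0 := by
          rw [hsq, ← hs, Category.assoc, cokernel.condition, comp_zero]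
        have h2 : fst = 0 := (cancel_mono m).mp (by rw [h1, zero_comp])
        have h3 : m = 0 := (cancel_epi fst).mp (by rw [h2, zero_comp, comp_zero])
        exact hm h3
      · -- `c = b`: then `m` is epi
        have hbc : b ≤ c := hc.ge
        let t : (b : C) ⟶ P := Subobject.ofLEMk b (snd ≫ b.arrow) hbc
        have ht : t ≫ snd = 𝟙 _ := by
          rw [← cancel_mono b.arrow, Category.assoc, Subobject.ofLEMk_comp, Category.id_comp]
        have h1 : (t ≫ fst) ≫ m = π := by
          rw [Category.assoc, hsq, ← Category.assoc, ht, Category.id_comp]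
        have : Epi ((t ≫ fst) ≫ m) := by rw [h1]; infer_instance
        have : Epi m := epi_of_epi (t ≫ fst) m
        exact isIso_of_mono_of_epi m

end Abelian

end SubJH
end Groth.Agent.Lib.Helper6
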