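import Groth.Agent.Lib.Helper6.RelPerfTen
import Groth.Agent.Lib.Helper35.DCRes

/-! Tor amplitude along a flat ring map `R → S` for which `R`-flat `S`-modules are `S`-flat
(helper6). -/

set_option autoImplicit false
universe u

open CategoryTheory CategoryTheory.Limits DerivedCategory

namespace Groth.Agent.Lib.Helper6
namespace TAAscent

attribute [local instance] HasDerivedCategory.standard

open RelPerfTen Groth.Agent.Lib.Helper35.TA

variable {R S : Type u} [CommRing R] [CommRing S] [Algebra R S]

/-- restriction of scalars along a flat map preserves tor amplitude. -/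
theorem TAmp_restrict [Module.Flat R S] (X : Dual.D S) (a b : ℤ) (h : TAmp a b X) :
    TAmp a b ((DRing.restrictD (algebraMap R S)).obj X) := by
  obtain ⟨E, hE, hflat, ⟨e⟩⟩ := h
  refine ⟨(DRing.restrictCx (algebraMap R S)).obj E,
    fun i hi => (Φ (algebraMap R S)).map_isZero (hE i hi), fun i => ?_, ⟨?_⟩⟩
  · have := hflat i
    exact flat_restr_of_flat (E.X i)
  · exact ((Φ (algebraMap R S)).mapDerivedCategoryFactors.app E).symm ≪≫
      (DRing.restrictD (algebraMap R S)).mapIso e

lemma isZero_of_isZero_restr (Y : ModuleCat.{u} S) (h : IsZero ((Φ (algebraMap R S)).obj Y)) :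
    IsZero Y := by
  have : Subsingleton ((Φ (algebraMap R S)).obj Y) := ModuleCat.subsingleton_of_isZero h
  have : Subsingleton Y := this
  exact ModuleCat.isZero_of_subsingleton Y

lemma isLE_of_restrict (X : Dual.D S) (b : ℤ)
    (h : ((DRing.restrictD (algebraMap R S)).obj X).IsLE b) : X.IsLE b := by
  rw [DerivedCategory.isLE_iff]
  intro i hi
  obtain ⟨e⟩ := Groth.Agent.Lib.Helper35.DC.nonempty_homology_restrict_iso (algebraMap R S) X i
  have h1 : IsZero ((homologyFunctor (ModuleCat.{u} R) i).obj
      ((DRing.restrictD (algebraMap R S)).obj X)) :=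
    ((DRing.restrictD (algebraMap R S)).obj X).isZero_of_isLE b i hi
  exact isZero_of_isZero_restr _ (h1.of_iso e.symm)

/-- ascent of tor amplitude. -/
theorem TAmp_ascent [Module.Flat R S]
    (hasc : ∀ N : ModuleCat.{u} S, Module.Flat R ((Φ (algebraMap R S)).obj N) → Module.Flat S N)
    (X : Dual.D S) (a b : ℤ) (h : TAmp a b ((DRing.restrictD (algebraMap R S)).obj X)) :
    TAmp a b X := by
  have hLE : X.IsLE b := isLE_of_restrict X b h.isLE
  obtain ⟨P, hPb, hPproj, ⟨e⟩⟩ := exists_projective_rep X b
  let PR : DRing.Cx R := (DRing.restrictCx (algebraMap R S)).obj P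
  have iso0 : DRing.toD PR ≅ (DRing.restrictD (algebraMap R S)).obj X :=
    ((Φ (algebraMap R S)).mapDerivedCategoryFactors.app P).symm ≪≫
      (DRing.restrictD (algebraMap R S)).mapIso e
  have hT : TAmp a b (DRing.toD PR) := TAmp.of_iso h iso0.symm
  have hPRb : DRing.VanishesAbove PR b := fun i hi =>
    (Φ (algebraMap R S)).map_isZero (hPb i hi)
  have hPflatS : ∀ i, Module.Flat S (P.X i) := fun i => by
    have := hPproj i
    infer_instance
  have hPflat : ∀ i, Module.Flat R ((Φ (algebraMap R S)).obj (P.X i)) := fun i => by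
    have := hPflatS i
    exact flat_restr_of_flat (P.X i)
  obtain ⟨hGE, hflat⟩ := flat_opcycles_of_TAmp' PR b hPRb hPflat a b hT
  have hPGE : P.IsGE a := by
    rw [CochainComplex.isGE_iff]
    intro i hi
    have h1 : PR.ExactAt i := PR.exactAt_of_isGE a i hi
    have h2 : ((P.sc i).map (Φ (algebraMap R S))).Exact := h1
    exact (ShortComplex.exact_map_iff_of_faithful (P.sc i) (Φ (algebraMap R S))).1 h2
  let Z : DRing.Cx S := P.truncGE a
  have hπ : QuasiIso (P.πTruncGE a) := (CochainComplex.quasiIso_πTruncGE_iff P a).2 hPGE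
  have hZb : DRing.VanishesAbove Z b := isZero_truncGE_X_of_vanishesAbove P b hPb a
  have hZa : ∀ i, i < a → IsZero (Z.X i) := fun i hi =>
    (P.truncGE a).isZero_of_isStrictlyGE a i hi
  have hop : Module.Flat S (P.opcycles a) := by
    apply hasc
    have hflat' : Module.Flat R ↑(((P.sc a).map (Φ (algebraMap R S))).opcycles) := hflat
    exact Module.Flat.of_linearEquiv
      ((P.sc a).mapOpcyclesIso (Φ (algebraMap R S))).toLinearEquiv.symm
  have hZf : ∀ i, Module.Flat S (Z.X i) := fun i =>
    flat_truncGE_X P a i (fun _ => hPflatS i) (fun _ => hop)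
  have hiso : IsIso (Q.map (P.πTruncGE a)) := by
    rw [isIso_Q_map_iff_quasiIso]
    exact hπ
  refine ⟨Z, fun i hi => ?_, hZf, ⟨(asIso (Q.map (P.πTruncGE a))).symm ≪≫ e⟩⟩
  rcases hi with hi | hi
  · exact hZa i hi
  · exact hZb i hi

end TAAscent
end Groth.Agent.Lib.Helper6
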