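import Mathlib
import Groth.Agent.Lib.Helper6.ProSys

set_option autoImplicit false
universe w v u
open CategoryTheory CategoryTheory.Limits Opposite ZeroObject
open CategoryTheory.Triangulated CategoryTheory.Pretriangulated

namespace Groth.Agent.Lib.Helper6
namespace TStr

variable {C : Type u} [Category.{v} C] [Preadditive C] [HasZeroObject C] [HasShift C ℤ]
  [∀ (n : ℤ), (shiftFunctor C n).Additive] [Pretriangulated C]
  (t : TStructure C)

/-- If `T'` is distinguished with `T'.obj₃ ∈ D^{≥ q}` and `X ∈ D^{≤ q}`, then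
`Hom(X, T'.obj₁) → Hom(X, T'.obj₂)` is injective. -/
lemma eq_zero_of_comp_mor₁ (T' : Triangle C) (hT' : T' ∈ distTriang C) (q : ℤ)
    [t.IsGE T'.obj₃ q] {X : C} [t.IsLE X q] (h : X ⟶ T'.obj₁) (hh : h ≫ T'.mor₁ = 0) : h = 0 := by
  have hex : ∃ g : X ⟶ (T'.obj₃)⟦(-1 : ℤ)⟧, h = g ≫ T'.invRotate.mor₁ :=
    Triangle.coyoneda_exact₂ T'.invRotate (inv_rot_of_distTriang _ hT') h hh
  obtain ⟨g, hg⟩ := hex
  have : t.IsGE ((T'.obj₃)⟦(-1 : ℤ)⟧) (q + 1) := t.isGE_shift _ q (-1) (q + 1)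
  rw [hg, t.zero g q (q + 1)]
  exact zero_comp

/-- If `T` is distinguished with `T.obj₁ ∈ D^{≤ q - 1}` and `Y ∈ D^{≥ q}`... dual statement:
`Hom(T.obj₃, Y) → Hom(T.obj₂, Y)` is injective when `T.obj₁⟦1⟧ ∈ D^{≤ q - 2}`, `Y ∈ D^{≥ q-1}`. -/
lemma eq_zero_of_mor₂_comp (T : Triangle C) (hT : T ∈ distTriang C) (q : ℤ)
    [t.IsLE T.obj₁ q] {Y : C} [t.IsGE Y q] (h : T.obj₃ ⟶ Y) (hh : T.mor₂ ≫ h = 0) : h = 0 := by
  have hex : ∃ g : (T.obj₁)⟦(1 : ℤ)⟧ ⟶ Y, h = T.mor₃ ≫ g :=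
    Triangle.yoneda_exact₃ T hT h hh
  obtain ⟨g, hg⟩ := hex
  have : t.IsLE ((T.obj₁)⟦(1 : ℤ)⟧) (q - 1) := t.isLE_shift _ q 1 (q - 1)
  rw [hg, t.zero g (q - 1) q]
  exact comp_zero

theorem existsUnique_factor (q : ℤ) (T T' : Triangle C) (hT : T ∈ distTriang C)
    (hT' : T' ∈ distTriang C)
    [t.IsLE T.obj₁ (q - 1)] [t.IsLE T.obj₂ q] [t.IsGE T'.obj₁ (q - 1)] [t.IsGE T'.obj₃ q]
    (F : T.obj₂ ⟶ T'.obj₂) (h₁ : T.mor₁ ≫ F = 0) (h₂ : F ≫ T'.mor₂ = 0) :
    ∃! L : T.obj₃ ⟶ T'.obj₁, F = T.mor₂ ≫ L ≫ T'.mor₁ := by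
  have hex : ∃ g : T.obj₂ ⟶ T'.obj₁, F = g ≫ T'.mor₁ := Triangle.coyoneda_exact₂ T' hT' F h₂
  obtain ⟨g, hg⟩ := hex
  have : t.IsLE T.obj₁ q := t.isLE_of_le _ (q - 1) q
  have h3 : T.mor₁ ≫ g = 0 := by
    apply eq_zero_of_comp_mor₁ t T' hT' q
    rw [Category.assoc, ← hg, h₁]
  have hex' : ∃ L : T.obj₃ ⟶ T'.obj₁, g = T.mor₂ ≫ L := Triangle.yoneda_exact₂ T hT g h3
  obtain ⟨L, hL⟩ := hex'
  refine ⟨L, by rw [hg, hL, Category.assoc], ?_⟩
  intro L' hL'
  rw [← sub_eq_zero]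
  apply eq_zero_of_mor₂_comp t T hT (q - 1)
  apply eq_zero_of_comp_mor₁ t T' hT' q
  rw [Preadditive.comp_sub, Preadditive.sub_comp, Category.assoc, Category.assoc, ← hL',
    ← Category.assoc, ← hL, ← hg, sub_self]

section Der
variable {A : Type u} [Category.{v} A] [Abelian A] [HasDerivedCategory.{w} A]
open DerivedCategory

/-- On objects concentrated in a single degree `n`, the functor `H^n` is faithful. -/
lemma eq_zero_of_homology_map_eq_zero {B B' : DerivedCategory A} (n : ℤ) [B.IsGE n] [B.IsLE n]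
    [B'.IsGE n] [B'.IsLE n] (g : B ⟶ B') (h : (homologyFunctor A n).map g = 0) : g = 0 := by
  obtain ⟨M, ⟨e⟩⟩ := exists_iso_singleFunctor_obj_of_isGE_of_isLE B n
  obtain ⟨M', ⟨e'⟩⟩ := exists_iso_singleFunctor_obj_of_isGE_of_isLE B' n
  obtain ⟨φ, hφ⟩ := (singleFunctor A n).map_surjective (e.inv ≫ g ≫ e'.hom)
  have h1 : (homologyFunctor A n).map ((singleFunctor A n).map φ) = 0 := by
    rw [hφ, Functor.map_comp, Functor.map_comp, h, zero_comp, comp_zero]
  have h2 := (singleFunctorCompHomologyFunctorIso A n).hom.naturality φ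
  dsimp at h2
  rw [h1, zero_comp] at h2
  have h3 : φ = 0 := by
    rw [← cancel_epi ((singleFunctorCompHomologyFunctorIso A n).hom.app M), ← h2, comp_zero]
  rw [h3, Functor.map_zero] at hφ
  have : g = e.hom ≫ (e.inv ≫ g ≫ e'.hom) ≫ e'.inv := by simp
  rw [this, ← hφ, zero_comp, comp_zero]

/-- If `H^n(f) = 0` then `τ_{[n,n]}(f) = 0`. -/
lemma truncGELT_map_eq_zero {K K' : DerivedCategory A} (f : K ⟶ K') (n m : ℤ) (hnm : n + 1 = m)
    (h : (homologyFunctor A n).map f = 0) : (TStructure.t.truncGELT n m).map f = 0 := by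
  subst hnm
  have : ((TStructure.t.truncGELT n (n + 1)).obj K).IsLE n := by
    dsimp; infer_instance
  have : ((TStructure.t.truncGELT n (n + 1)).obj K').IsLE n := by
    dsimp; infer_instance
  have : ((TStructure.t.truncGELT n (n + 1)).obj K).IsGE n := by
    dsimp; infer_instance
  have : ((TStructure.t.truncGELT n (n + 1)).obj K').IsGE n := by
    dsimp; infer_instance
  apply eq_zero_of_homology_map_eq_zero n
  have := ProSys.isIso_homology_truncLTι K' (n + 1) n (by omega)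
  have := ProSys.isIso_homology_truncGEπ ((TStructure.t.truncLT (n + 1)).obj K) n n le_rfl
  have h1 : (homologyFunctor A n).map ((TStructure.t.truncLT (n + 1)).map f) = 0 := by
    rw [← cancel_mono ((homologyFunctor A n).map ((TStructure.t.truncLTι (n + 1)).app K')),
      zero_comp, ← Functor.map_comp]
    have := (TStructure.t.truncLTι (n + 1)).naturality f
    dsimp at this
    rw [this, Functor.map_comp, h, comp_zero]
  rw [← cancel_epi ((homologyFunctor A n).map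
    ((TStructure.t.truncGEπ n).app ((TStructure.t.truncLT (n + 1)).obj K))), comp_zero,
    ← Functor.map_comp]
  have := (TStructure.t.truncGEπ n).naturality ((TStructure.t.truncLT (n + 1)).map f)
  dsimp at this ⊢
  rw [← this, Functor.map_comp, h1, zero_comp]

end Der

end TStr
end Groth.Agent.Lib.Helper6
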