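import Mathlib
import Groth.Agent.Lib.Helper71.FlatKer

set_option autoImplicit false
universe u

open TensorProduct

namespace Groth.Agent.Lib.Helper6
namespace WEtFlat

/-- ring version: a `B`-algebra flat over `A` is flat over `B` when `A → B` is weakly étale. -/
lemma flat_of_weaklyEtale_ring (A B D : Type u) [CommRing A] [CommRing B] [CommRing D]
    [Algebra A B] [Algebra A D] [Algebra B D] [IsScalarTower A B D] [Algebra.WeaklyEtale A B]
    [Module.Flat A D] : Module.Flat B D := by
  have h1 : (Algebra.TensorProduct.mapOfCompatibleSMul B A B B D).Flat :=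
    RingHom.Flat.mapOfCompatibleSMul B D (Algebra.WeaklyEtale.flat_lmul' A B)
  have h2 : (algebraMap B (B ⊗[A] D)).Flat := RingHom.flat_algebraMap_iff.2 inferInstance
  have h3 : ((Algebra.TensorProduct.lid B D : B ⊗[B] D ≃ₐ[B] D) : B ⊗[B] D →+* D).Flat :=
    .of_bijective (AlgEquiv.bijective _)
  have h4 := (h2.comp h1).comp h3
  rw [← RingHom.flat_algebraMap_iff]
  convert h4 using 1
  ext b
  simp [Algebra.algebraMap_eq_smul_one]

/-- module version. -/
lemma flat_of_weaklyEtale (A B N : Type u) [CommRing A] [CommRing B] [Algebra A B]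
    [Algebra.WeaklyEtale A B] [AddCommGroup N] [Module A N] [Module B N] [IsScalarTower A B N]
    [Module.Flat A N] : Module.Flat B N := by
  letI : Module Bᵐᵒᵖ N := Module.compHom N ((RingHom.id B).fromOpposite (fun x y => mul_comm x y))
  haveI : IsCentralScalar B N := ⟨fun b n => rfl⟩
  haveI : Module.Flat A (TrivSqZeroExt B N) := by
    have : Module.Flat A (B × N) := Groth.Agent.Lib.Helper71.flat_prod
    exact this
  have h := flat_of_weaklyEtale_ring A B (TrivSqZeroExt B N)
  exact Module.Flat.of_retract (TrivSqZeroExt.inrHom B N) (TrivSqZeroExt.sndHom B N) (by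
    ext n
    simp)

end WEtFlat
end Groth.Agent.Lib.Helper6
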