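import Groth.Agent.Lib.Helper6.WEtFlat
import Groth.Agent.Lib.Helper35.TorRestr

set_option autoImplicit false
universe u

open CategoryTheory CategoryTheory.Limits TensorProduct

namespace Groth.Agent.Lib.Helper6
namespace WEtTD

open Groth.Agent.Lib.Helper35.TA

variable (A B : Type u) [CommRing A] [CommRing B] [Algebra A B]

lemma flat_restrict_of_flat [Module.Flat A B] (F : ModuleCat.{u} B) [Module.Flat B F] :
    Module.Flat A ((ModuleCat.restrictScalars (algebraMap A B)).obj F) := by
  let T : Type u := ((ModuleCat.restrictScalars (algebraMap A B)).obj F)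
  let _ : Module B T := (inferInstance : Module B F)
  have hflat : Module.Flat B T := (inferInstance : Module.Flat B F)
  have : IsScalarTower A B T := ⟨fun a b x => by
    change (a • b) • (show F from x) = (algebraMap A B a) • (b • (show F from x))
    rw [Algebra.smul_def, mul_smul]⟩
  exact Module.Flat.trans A B T

lemma flat_of_flat_restrict [Algebra.WeaklyEtale A B] (N : ModuleCat.{u} B)
    (h : Module.Flat A ((ModuleCat.restrictScalars (algebraMap A B)).obj N)) :
    Module.Flat B N := by
  let T : Type u := ((ModuleCat.restrictScalars (algebraMap A B)).obj N)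
  let _ : Module B T := (inferInstance : Module B N)
  have : IsScalarTower A B T := ⟨fun a b x => by
    change (a • b) • (show N from x) = (algebraMap A B a) • (b • (show N from x))
    rw [Algebra.smul_def, mul_smul]⟩
  have hT : Module.Flat A T := h
  have := WEtFlat.flat_of_weaklyEtale A B T
  exact this

theorem TD_of_weaklyEtale [Algebra.WeaklyEtale A B] (d : ℕ) :
    ∀ N : ModuleCat.{u} B, TD d ((ModuleCat.restrictScalars (algebraMap A B)).obj N) → TD d N := by
  induction d with
  | zero =>
    intro N h
    have hflatA : Module.Flat A ((ModuleCat.restrictScalars (algebraMap A B)).obj N) :=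
      flat_of_TD_zero _ h
    have : Module.Flat B N := flat_of_flat_restrict A B N hflatA
    exact TD_zero_of_flat N
  | succ d ih =>
    intro N h
    have hS := freeCoverSC_shortExact N
    have hS' : ((freeCoverSC N).map (ModuleCat.restrictScalars (algebraMap A B))).ShortExact :=
      hS.map_of_exact _
    have : Module.Flat A ((freeCoverSC N).map (ModuleCat.restrictScalars (algebraMap A B))).X₂ :=
      flat_restrict_of_flat A B (freeCoverSC N).X₂
    have h1 : TD d ((freeCoverSC N).map (ModuleCat.restrictScalars (algebraMap A B))).X₁ :=
      (TD_succ_iff _ hS' d).1 h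
    have h2 : TD d (freeCoverSC N).X₁ := ih _ h1
    exact (TD_succ_iff _ hS d).2 h2

end WEtTD
end Groth.Agent.Lib.Helper6
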